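import Mathlib
import Groth.Prelude.Def_ProCons
import Groth.Agent.Lib.Lead.Spectral
import Groth.Agent.Lib.Helper11.SpecSp
import Groth.Agent.Lib.Helper18.ConsTop
import Groth.Agent.S3439

/-!
# Helper26: pro- and ind-constructible sets via the constructible topology

Part A: spectral spaces.  Part B: spaces with a basis of spectral opens (schemes).
-/

set_option autoImplicit false
universe u v

namespace Groth.Agent.Lib.Helper26.ProConsTop

open Topology TopologicalSpace Set

section Spectral

variable {Y : Type u} [TopologicalSpace Y]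

/-- Constructible sets of a compact space are clopen in the constructible topology. -/
lemma isOpen_cons_of_isConstructible [CompactSpace Y] {s : Set Y} (hs : IsConstructible s) :
    IsOpen[constructibleTopology Y] s :=
  (Groth.Agent.S3439.isOpen_constructibleTopology_of_isConstructible hs).1

lemma isClosed_cons_of_isConstructible [CompactSpace Y] {s : Set Y} (hs : IsConstructible s) :
    IsClosed[constructibleTopology Y] s :=
  @IsClosed.mk Y (constructibleTopology Y) _
    (Groth.Agent.S3439.isOpen_constructibleTopology_of_isConstructible hs).2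

/-- In a spectral space, a subset which is clopen for the constructible topology is constructible. -/
lemma isConstructible_of_isClopen_cons [SpectralSpace Y] {s : Set Y}
    (ho : IsOpen[constructibleTopology Y] s) (hc : IsClosed[constructibleTopology Y] s) :
    IsConstructible s := by
  refine Groth.Agent.Lib.Helper18.isConstructible_of_isClopen_pre_subset (V := univ) isOpen_univ
    isCompact_univ (subset_univ _) ⟨?_, ?_⟩
  · rw [WithConstructibleTopology.isClosed_iff]
    exact hc
  · rw [WithConstructibleTopology.isOpen_iff]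
    exact ho

/-- Basic open sets of the constructible topology are constructible. -/
lemma exists_isConstructible_nhd_of_isOpen_cons [QuasiSeparatedSpace Y] {E : Set Y}
    (hE : IsOpen[constructibleTopology Y] E) {y : Y} (hy : y ∈ E) :
    ∃ B : Set Y, IsConstructible B ∧ y ∈ B ∧ B ⊆ E := by
  have hbasis := isTopologicalBasis_of_subbasis (t := constructibleTopology Y)
    (s := constructibleTopologySubbasis Y) rfl
  obtain ⟨B, ⟨f, ⟨hf, hfs⟩, rfl⟩, hxB, hBs⟩ :=
    IsTopologicalBasis.exists_subset_of_mem_open (t := constructibleTopology Y) hbasis hy hE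
  exact ⟨_, IsConstructible.sInter hf fun t ht =>
    Groth.Agent.Lib.Helper18.isConstructible_of_mem_subbasis (hfs ht), hxB, hBs⟩

/-- A subset open for the constructible topology is a union of constructible sets. -/
lemma exists_family_of_isOpen_cons [QuasiSeparatedSpace Y] {E : Set Y}
    (hE : IsOpen[constructibleTopology Y] E) :
    ∃ S : Set (Set Y), (∀ T ∈ S, IsConstructible T) ∧ E = ⋃₀ S := by
  refine ⟨{T | IsConstructible T ∧ T ⊆ E}, fun T hT => hT.1, ?_⟩
  apply subset_antisymm
  · intro y hy
    obtain ⟨B, hB, hyB, hBE⟩ := exists_isConstructible_nhd_of_isOpen_cons hE hy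
    exact ⟨B, ⟨hB, hBE⟩, hyB⟩
  · rintro y ⟨T, ⟨-, hTE⟩, hyT⟩
    exact hTE hyT

/-- A subset closed for the constructible topology is an intersection of constructible sets. -/
lemma exists_family_of_isClosed_cons [QuasiSeparatedSpace Y] {E : Set Y}
    (hE : IsClosed[constructibleTopology Y] E) :
    ∃ S : Set (Set Y), (∀ T ∈ S, IsConstructible T) ∧ E = ⋂₀ S := by
  refine ⟨{T | IsConstructible T ∧ E ⊆ T}, fun T hT => hT.1, ?_⟩
  apply subset_antisymm
  · intro y hy T hT
    exact hT.2 hy
  · intro y hy
    by_contra hyE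
    have hEc : IsOpen[constructibleTopology Y] Eᶜ :=
      (@isOpen_compl_iff Y E (constructibleTopology Y)).mpr hE
    obtain ⟨B, hB, hyB, hBE⟩ := exists_isConstructible_nhd_of_isOpen_cons hEc hyE
    have : y ∈ Bᶜ := hy Bᶜ ⟨hB.compl, fun e he heB => hBE heB he⟩
    exact this hyB

lemma isOpen_cons_sUnion [CompactSpace Y] {S : Set (Set Y)} (hS : ∀ T ∈ S, IsConstructible T) :
    IsOpen[constructibleTopology Y] (⋃₀ S) :=
  @isOpen_sUnion Y (constructibleTopology Y) S fun T hT => isOpen_cons_of_isConstructible (hS T hT)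

lemma isClosed_cons_sInter [CompactSpace Y] {S : Set (Set Y)} (hS : ∀ T ∈ S, IsConstructible T) :
    IsClosed[constructibleTopology Y] (⋂₀ S) :=
  @isClosed_sInter Y (constructibleTopology Y) S fun T hT =>
    isClosed_cons_of_isConstructible (hS T hT)

/-- In a spectral space, a point all of whose generizations lie in a constructibly open set `E`
is an interior point of `E`. -/
lemma mem_interior_of_isOpen_cons [SpectralSpace Y] {E : Set Y}
    (hE : IsOpen[constructibleTopology Y] E) {y : Y} (h : ∀ y' : Y, y' ⤳ y → y' ∈ E) :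
    y ∈ interior E := by
  let ι := {W : Set Y // IsOpen W ∧ IsCompact W ∧ y ∈ W}
  have hcl : ∀ W : ι, IsClosed[constructibleTopology Y] (W.1 ∩ Eᶜ) := fun W =>
    @IsClosed.inter Y W.1 Eᶜ (constructibleTopology Y)
      (Groth.Agent.Lib.Lead.isClosed_constructibleTopology_of_isOpen_isCompact W.2.1 W.2.2.1)
      ((@isClosed_compl_iff Y (constructibleTopology Y) E).mpr hE)
  have hempty : (⋂ W : ι, W.1 ∩ Eᶜ) = ∅ := by
    rw [Set.eq_empty_iff_forall_notMem]
    intro p hp
    rw [Set.mem_iInter] at hp
    have hpE : p ∉ E := (hp ⟨univ, isOpen_univ, isCompact_univ, mem_univ y⟩).2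
    exact hpE (h p (Groth.Agent.Lib.Lead.specializes_of_forall_isCompact_isOpen
      fun W hWo hWc hyW => (hp ⟨W, hWo, hWc, hyW⟩).1))
  obtain ⟨u, hu⟩ :=
    Groth.Agent.Lib.Helper11.SpecSp.exists_finset_iInter_eq_empty_of_isClosed_cons _ hcl hempty
  have hopen : IsOpen (⋂ W ∈ u, (W : ι).1) := isOpen_biInter_finset fun W _ => W.2.1
  have hymem : y ∈ ⋂ W ∈ u, (W : ι).1 := Set.mem_iInter₂.mpr fun W _ => W.2.2.2
  refine mem_interior.mpr ⟨_, ?_, hopen, hymem⟩
  intro p hp
  by_contra hpE
  have : p ∈ ⋂ W ∈ u, (W : ι).1 ∩ Eᶜ :=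
    Set.mem_iInter₂.mpr fun W hW => ⟨Set.mem_iInter₂.mp hp W hW, hpE⟩
  rw [hu] at this
  exact this

end Spectral

section OpenEmbedding

variable {X : Type u} [TopologicalSpace X]

/-- transport along the homeomorphism onto the range of an open embedding -/
lemma symm_toHomeomorph_apply {Y : Type v} [TopologicalSpace Y] {j : Y → X} (hj : IsOpenEmbedding j)
    (y : Y) : hj.isEmbedding.toHomeomorph.symm ⟨j y, y, rfl⟩ = y := by
  apply hj.isEmbedding.toHomeomorph.injective
  rw [Homeomorph.apply_symm_apply]
  rfl

/-- If locally (on spectral opens, given as open embeddings) `E` is constructibly closed, it is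
pro-constructible. -/
lemma isProConstructible_of_isOpenEmbedding {E : Set X}
    (h : ∀ x : X, ∃ (Y : Type u) (_ : TopologicalSpace Y) (j : Y → X), IsOpenEmbedding j ∧
      x ∈ range j ∧ CompactSpace Y ∧ QuasiSeparatedSpace Y ∧
      IsClosed[constructibleTopology Y] (j ⁻¹' E)) :
    ProCons.IsProConstructible E := by
  intro x
  obtain ⟨Y, _, j, hj, hx, _, _, hcl⟩ := h x
  obtain ⟨S, hS, hES⟩ := exists_family_of_isClosed_cons hcl
  let e : Y ≃ₜ ↥(range j) := hj.isEmbedding.toHomeomorph
  refine ⟨range j, hj.isOpen_range, hx, (fun T => e.symm ⁻¹' T) '' S, ?_, ?_⟩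
  · rintro _ ⟨T, hT, rfl⟩
    exact ((hS T hT).preimage_of_isOpenEmbedding e.symm.isOpenEmbedding).isLocallyConstructible
  · ext ⟨_, y, rfl⟩
    simp only [mem_preimage, sInter_image, mem_iInter]
    have he : e.symm ⟨j y, y, rfl⟩ = y := symm_toHomeomorph_apply hj y
    rw [he]
    constructor
    · intro hy T hT
      have : y ∈ j ⁻¹' E := hy
      rw [hES] at this
      exact this T hT
    · intro hy
      have : y ∈ j ⁻¹' E := by
        rw [hES]
        exact fun T hT => hy T hT
      exact this

/-- If locally (on spectral opens, given as open embeddings) `E` is constructibly open, it is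
ind-constructible. -/
lemma isIndConstructible_of_isOpenEmbedding {E : Set X}
    (h : ∀ x : X, ∃ (Y : Type u) (_ : TopologicalSpace Y) (j : Y → X), IsOpenEmbedding j ∧
      x ∈ range j ∧ CompactSpace Y ∧ QuasiSeparatedSpace Y ∧
      IsOpen[constructibleTopology Y] (j ⁻¹' E)) :
    ProCons.IsIndConstructible E := by
  intro x
  obtain ⟨Y, _, j, hj, hx, _, _, hcl⟩ := h x
  obtain ⟨S, hS, hES⟩ := exists_family_of_isOpen_cons hcl
  let e : Y ≃ₜ ↥(range j) := hj.isEmbedding.toHomeomorph
  refine ⟨range j, hj.isOpen_range, hx, (fun T => e.symm ⁻¹' T) '' S, ?_, ?_⟩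
  · rintro _ ⟨T, hT, rfl⟩
    exact ((hS T hT).preimage_of_isOpenEmbedding e.symm.isOpenEmbedding).isLocallyConstructible
  · ext ⟨_, y, rfl⟩
    simp only [mem_preimage, sUnion_image, mem_iUnion]
    have he : e.symm ⟨j y, y, rfl⟩ = y := symm_toHomeomorph_apply hj y
    rw [he]
    constructor
    · intro hy
      have : y ∈ j ⁻¹' E := hy
      rw [hES] at this
      obtain ⟨T, hT, hyT⟩ := this
      exact ⟨T, hT, hyT⟩
    · rintro ⟨T, hT, hyT⟩
      have : y ∈ j ⁻¹' E := by
        rw [hES]
        exact ⟨T, hT, hyT⟩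
      exact this

end OpenEmbedding

section Scheme

open AlgebraicGeometry CategoryTheory

variable {X : Scheme.{u}}

instance spectralSpace_of_isAffine (Y : Scheme.{u}) [IsAffine Y] : SpectralSpace Y where

lemma exists_isAffineOpen_mem_le (X : Scheme.{u}) (x : X) (O : X.Opens) (hx : x ∈ O) :
    ∃ U : X.Opens, IsAffineOpen U ∧ x ∈ U ∧ U ≤ O := by
  obtain ⟨U, hU, hxU, hUO⟩ := (Opens.isBasis_iff_nbhd.mp X.isBasis_affineOpens) hx
  exact ⟨U, hU, hxU, hUO⟩

/-- pro-constructible subsets of a scheme are those whose trace on every affine open is closed for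
the constructible topology. -/
lemma isProConstructible_iff {E : Set X} :
    ProCons.IsProConstructible E ↔ ∀ U : X.Opens, IsAffineOpen U →
      IsClosed[constructibleTopology (U : Scheme.{u})] (U.ι.base ⁻¹' E) := by
  constructor
  · intro hE U hU
    haveI : IsAffine (U : Scheme.{u}) := hU
    exact Groth.Agent.S3439.isClosed_preimage_of_isProConstructible U.ι.isOpenEmbedding hE
  · intro h
    apply isProConstructible_of_isOpenEmbedding
    intro x
    obtain ⟨U, hU, hxU, -⟩ := exists_isAffineOpen_mem_le X x ⊤ trivial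
    haveI : IsAffine (U : Scheme.{u}) := hU
    refine ⟨(U : Scheme.{u}), inferInstance, U.ι.base, U.ι.isOpenEmbedding, ?_, inferInstance,
      inferInstance, h U hU⟩
    rw [Scheme.Opens.range_ι]
    exact hxU

lemma isIndConstructible_iff {E : Set X} :
    ProCons.IsIndConstructible E ↔ ∀ U : X.Opens, IsAffineOpen U →
      IsOpen[constructibleTopology (U : Scheme.{u})] (U.ι.base ⁻¹' E) := by
  constructor
  · intro hE U hU
    haveI : IsAffine (U : Scheme.{u}) := hU
    exact Groth.Agent.S3439.isOpen_preimage_of_isIndConstructible U.ι.isOpenEmbedding hE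
  · intro h
    apply isIndConstructible_of_isOpenEmbedding
    intro x
    obtain ⟨U, hU, hxU, -⟩ := exists_isAffineOpen_mem_le X x ⊤ trivial
    haveI : IsAffine (U : Scheme.{u}) := hU
    refine ⟨(U : Scheme.{u}), inferInstance, U.ι.base, U.ι.isOpenEmbedding, ?_, inferInstance,
      inferInstance, h U hU⟩
    rw [Scheme.Opens.range_ι]
    exact hxU

end Scheme

end Groth.Agent.Lib.Helper26.ProConsTop
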