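import Mathlib
import Groth.Agent.Lib.Helper26.ProConsTop

/-!
# Helper26: pro- and ind-constructible subsets of schemes: preimages, complements, closures
-/

set_option autoImplicit false
universe u

namespace Groth.Agent.Lib.Helper26.ProConsSch

open Topology TopologicalSpace Set AlgebraicGeometry CategoryTheory
  Groth.Agent.Lib.Helper26.ProConsTop

lemma resLE_apply {X Y : Scheme.{u}} (f : X ⟶ Y) {V : Y.Opens} {U : X.Opens} (e : U ≤ f ⁻¹ᵁ V)
    (p : (U : Scheme.{u})) : V.ι.base ((f.resLE V U e).base p) = f.base (U.ι.base p) := by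
  have := congrArg (fun g => g.base p) (Scheme.Hom.resLE_comp_ι f e)
  simpa only [Scheme.Hom.comp_base, TopCat.hom_comp, ContinuousMap.comp_apply] using this

/-- local criterion: it suffices to find, around every point, one affine open on which the trace
is constructibly closed -/
lemma isProConstructible_of_forall_exists {X : Scheme.{u}} {E : Set X}
    (h : ∀ x : X, ∃ U : X.Opens, IsAffineOpen U ∧ x ∈ U ∧
      IsClosed[constructibleTopology (U : Scheme.{u})] (U.ι.base ⁻¹' E)) :
    ProCons.IsProConstructible E := by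
  apply isProConstructible_of_isOpenEmbedding
  intro x
  obtain ⟨U, hU, hxU, hcl⟩ := h x
  haveI : IsAffine (U : Scheme.{u}) := hU
  refine ⟨(U : Scheme.{u}), inferInstance, U.ι.base, U.ι.isOpenEmbedding, ?_, inferInstance,
    inferInstance, hcl⟩
  rw [Scheme.Opens.range_ι]
  exact hxU

lemma isIndConstructible_of_forall_exists {X : Scheme.{u}} {E : Set X}
    (h : ∀ x : X, ∃ U : X.Opens, IsAffineOpen U ∧ x ∈ U ∧
      IsOpen[constructibleTopology (U : Scheme.{u})] (U.ι.base ⁻¹' E)) :
    ProCons.IsIndConstructible E := by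
  apply isIndConstructible_of_isOpenEmbedding
  intro x
  obtain ⟨U, hU, hxU, hcl⟩ := h x
  haveI : IsAffine (U : Scheme.{u}) := hU
  refine ⟨(U : Scheme.{u}), inferInstance, U.ι.base, U.ι.isOpenEmbedding, ?_, inferInstance,
    inferInstance, hcl⟩
  rw [Scheme.Opens.range_ι]
  exact hxU

/-- The preimage of a pro-constructible set under any morphism of schemes is pro-constructible. -/
theorem isProConstructible_preimage {X Y : Scheme.{u}} (f : X ⟶ Y) {T : Set Y}
    (hT : ProCons.IsProConstructible T) : ProCons.IsProConstructible (f.base ⁻¹' T) := by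
  apply isProConstructible_of_forall_exists
  intro x
  obtain ⟨V, hV, hfxV, -⟩ := exists_isAffineOpen_mem_le Y (f.base x) ⊤ trivial
  obtain ⟨U, hU, hxU, hUV⟩ := exists_isAffineOpen_mem_le X x (f ⁻¹ᵁ V) hfxV
  haveI : IsAffine (V : Scheme.{u}) := hV
  haveI : IsAffine (U : Scheme.{u}) := hU
  refine ⟨U, hU, hxU, ?_⟩
  have heq : U.ι.base ⁻¹' (f.base ⁻¹' T) = (f.resLE V U hUV).base ⁻¹' (V.ι.base ⁻¹' T) := by
    ext p
    simp only [mem_preimage]
    rw [resLE_apply]
  rw [heq]
  exact @IsClosed.preimage _ _ (constructibleTopology (U : Scheme.{u}))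
    (constructibleTopology (V : Scheme.{u})) _
    (Groth.Agent.Lib.Helper11.SpecSp.continuous_cons_of_isSpectralMap
      (f.resLE V U hUV).isSpectralMap) _ (isProConstructible_iff.mp hT V hV)

/-- The preimage of an ind-constructible set under any morphism of schemes is ind-constructible. -/
theorem isIndConstructible_preimage {X Y : Scheme.{u}} (f : X ⟶ Y) {T : Set Y}
    (hT : ProCons.IsIndConstructible T) : ProCons.IsIndConstructible (f.base ⁻¹' T) := by
  apply isIndConstructible_of_forall_exists
  intro x
  obtain ⟨V, hV, hfxV, -⟩ := exists_isAffineOpen_mem_le Y (f.base x) ⊤ trivial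
  obtain ⟨U, hU, hxU, hUV⟩ := exists_isAffineOpen_mem_le X x (f ⁻¹ᵁ V) hfxV
  haveI : IsAffine (V : Scheme.{u}) := hV
  haveI : IsAffine (U : Scheme.{u}) := hU
  refine ⟨U, hU, hxU, ?_⟩
  have heq : U.ι.base ⁻¹' (f.base ⁻¹' T) = (f.resLE V U hUV).base ⁻¹' (V.ι.base ⁻¹' T) := by
    ext p
    simp only [mem_preimage]
    rw [resLE_apply]
  rw [heq]
  exact @IsOpen.preimage _ _ (constructibleTopology (U : Scheme.{u}))
    (constructibleTopology (V : Scheme.{u})) _
    (Groth.Agent.Lib.Helper11.SpecSp.continuous_cons_of_isSpectralMap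
      (f.resLE V U hUV).isSpectralMap) _ (isIndConstructible_iff.mp hT V hV)

theorem isProConstructible_compl {X : Scheme.{u}} {E : Set X} (hE : ProCons.IsIndConstructible E) :
    ProCons.IsProConstructible Eᶜ := by
  rw [isProConstructible_iff]
  intro U hU
  rw [preimage_compl]
  exact (@isClosed_compl_iff _ (constructibleTopology (U : Scheme.{u})) _).mpr
    (isIndConstructible_iff.mp hE U hU)

theorem isIndConstructible_compl {X : Scheme.{u}} {E : Set X} (hE : ProCons.IsProConstructible E) :
    ProCons.IsIndConstructible Eᶜ := by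
  rw [isIndConstructible_iff]
  intro U hU
  rw [preimage_compl]
  exact (@isOpen_compl_iff _ _ (constructibleTopology (U : Scheme.{u}))).mpr
    (isProConstructible_iff.mp hE U hU)

theorem isProConstructible_compl_iff {X : Scheme.{u}} {E : Set X} :
    ProCons.IsProConstructible Eᶜ ↔ ProCons.IsIndConstructible E :=
  ⟨fun h => by simpa using isIndConstructible_compl h, isProConstructible_compl⟩

theorem isIndConstructible_compl_iff {X : Scheme.{u}} {E : Set X} :
    ProCons.IsIndConstructible Eᶜ ↔ ProCons.IsProConstructible E :=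
  ⟨fun h => by simpa using isProConstructible_compl h, isIndConstructible_compl⟩

/-- Every point of the closure of a pro-constructible subset of a scheme is a specialization of a
point of the subset. -/
theorem exists_specializes_of_mem_closure {X : Scheme.{u}} {Z : Set X}
    (hZ : ProCons.IsProConstructible Z) {x : X} (hx : x ∈ closure Z) : ∃ z ∈ Z, z ⤳ x := by
  obtain ⟨U, hU, hxU, -⟩ := exists_isAffineOpen_mem_le X x ⊤ trivial
  haveI : IsAffine (U : Scheme.{u}) := hU
  have h1 := isProConstructible_iff.mp hZ U hU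
  have h2 : (⟨x, hxU⟩ : (U : Scheme.{u})) ∈ closure (U.ι.base ⁻¹' Z) := by
    rw [← U.ι.isOpenEmbedding.isOpenMap.preimage_closure_eq_closure_preimage
      U.ι.base.hom.continuous]
    exact hx
  obtain ⟨e, he, hex⟩ := Groth.Agent.Lib.Helper11.SpecSp.exists_specializes_of_mem_closure h1 h2
  exact ⟨U.ι.base e, he, hex.map U.ι.base.hom.continuous⟩

end Groth.Agent.Lib.Helper26.ProConsSch
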