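import Groth.Agent.Lib.Helper26.RegularCompletion
import Mathlib

/-!
# Power series rings over a field and complete regular local rings.
-/

set_option autoImplicit false
universe u

namespace Groth.Agent.Lib.Helper26.PowerSeriesRLR

open IsLocalRing

variable (k : Type u) [Field k] (d : ℕ)

theorem idealOfVars_isMaximal : (MvPolynomial.idealOfVars (Fin d) k).IsMaximal := by
  have : MvPolynomial.idealOfVars (Fin d) k =
      RingHom.ker (MvPolynomial.constantCoeff : MvPolynomial (Fin d) k →+* k) := by
    ext p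
    rw [RingHom.mem_ker, ← pow_one (MvPolynomial.idealOfVars (Fin d) k),
      MvPolynomial.mem_pow_idealOfVars_iff']
    constructor
    · intro h
      exact h 0 (by simp)
    · intro h x hx
      have hx0 : x = 0 := by
        have : Finsupp.degree x = 0 := by omega
        exact (Finsupp.degree_eq_zero_iff x).mp this
      subst hx0
      exact h
  rw [this]
  refine RingHom.ker_isMaximal_of_surjective _ (fun r => ⟨MvPolynomial.C r, ?_⟩)
  simp

theorem span_X_isMaximal :
    (Ideal.span (Set.range (MvPowerSeries.X : Fin d → MvPowerSeries (Fin d) k))).IsMaximal := by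
  have hmap : Ideal.map (MvPowerSeries.toAdicCompletionAlgEquiv (Fin d) k).toRingEquiv
      (Ideal.span (Set.range MvPowerSeries.X)) =
      (MvPolynomial.idealOfVars (Fin d) k).map (algebraMap _ _) := by
    simp_rw [Ideal.map_span, ← Set.range_comp]
    congr 2; ext1
    simp [AdicCompletion.algebraMap_apply, ← MvPolynomial.coe_X,
      MvPowerSeries.toAdicCompletion_coe]
  haveI := idealOfVars_isMaximal k d
  have hmax := AdicCompletion.isMaximal_map_of_le (MvPolynomial.idealOfVars (Fin d) k)
    (MvPolynomial.idealOfVars (Fin d) k) le_rfl (MvPolynomial.idealOfVars_fg _ _)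
  rw [← hmap] at hmax
  set e := (MvPowerSeries.toAdicCompletionAlgEquiv (Fin d) k).toRingEquiv with he
  exact (Ideal.isMaximal_map_iff_of_bijective e e.bijective).mp hmax

theorem maximalIdeal_mvPowerSeries :
    maximalIdeal (MvPowerSeries (Fin d) k) =
      Ideal.span (Set.range (MvPowerSeries.X : Fin d → MvPowerSeries (Fin d) k)) :=
  (IsLocalRing.eq_maximalIdeal (span_X_isMaximal k d)).symm

theorem ringKrullDim_mvPowerSeries_le : ringKrullDim (MvPowerSeries (Fin d) k) ≤ d := by
  refine (ringKrullDim_le_spanFinrank_maximalIdeal _).trans ?_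
  rw [maximalIdeal_mvPowerSeries]
  have h1 := Submodule.spanFinrank_span_le_ncard_of_finite (R := MvPowerSeries (Fin d) k)
    (Set.finite_range (MvPowerSeries.X : Fin d → MvPowerSeries (Fin d) k))
  have h2 : (Set.range (MvPowerSeries.X : Fin d → MvPowerSeries (Fin d) k)).ncard ≤ d := by
    have := Set.ncard_image_le (f := (MvPowerSeries.X : Fin d → MvPowerSeries (Fin d) k))
      (s := Set.univ) Set.finite_univ
    rw [Set.image_univ] at this
    simpa using this
  exact_mod_cast h1.trans h2

/-- A surjection from `k[[X_1,…,X_d]]` onto a ring of dimension at least `d` is injective. -/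
theorem injective_of_surjective_of_le_ringKrullDim {R : Type u} [CommRing R]
    (ψ : MvPowerSeries (Fin d) k →+* R) (hs : Function.Surjective ψ)
    (hd : (d : WithBot ℕ∞) ≤ ringKrullDim R) : Function.Injective ψ := by
  rw [injective_iff_map_eq_zero]
  intro f hf
  by_contra hne
  have hnzd : f ∈ nonZeroDivisors (MvPowerSeries (Fin d) k) := mem_nonZeroDivisors_of_ne_zero hne
  have h1 := ringKrullDim_quotient_succ_le_of_nonZeroDivisor hnzd
  have hker : Ideal.span {f} ≤ RingHom.ker ψ := by
    rw [Ideal.span_le, Set.singleton_subset_iff]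
    exact hf
  have h2 : ringKrullDim R ≤ ringKrullDim (MvPowerSeries (Fin d) k ⧸ Ideal.span {f}) :=
    ringKrullDim_le_of_surjective (Ideal.Quotient.lift (Ideal.span {f}) ψ (fun a ha => hker ha))
      (Ideal.Quotient.lift_surjective_of_surjective _ _ hs)
  have h3 := ringKrullDim_mvPowerSeries_le k d
  have h4 : (d : WithBot ℕ∞) + 1 ≤ d :=
    (add_le_add_left (hd.trans h2) 1).trans (h1.trans h3)
  have h5 : ((d + 1 : ℕ) : WithBot ℕ∞) ≤ (d : ℕ) := by exact_mod_cast h4
  have h6 : d + 1 ≤ d := by exact_mod_cast h5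
  omega

variable {k d}

/-- A `k`-algebra map `k[[X]] → R` to a Noetherian local ring with residue field `k` whose values
on the variables span the cotangent space is surjective. -/
theorem surjective_of_span_cotangent {R : Type u} [CommRing R] [IsLocalRing R] [IsNoetherianRing R]
    [Algebra k R] (hR : Function.Surjective ((IsLocalRing.residue R).comp (algebraMap k R)))
    (ψ : MvPowerSeries (Fin d) k →ₐ[k] R) (hψ : ∀ i, ψ (MvPowerSeries.X i) ∈ maximalIdeal R)
    (hsp : Submodule.span (ResidueField R) (Set.range fun i : Fin d =>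
      (maximalIdeal R).toCotangent ⟨ψ (MvPowerSeries.X i), hψ i⟩) = ⊤) :
    Function.Surjective ψ := by
  have hmap : (Ideal.span (Set.range (MvPowerSeries.X : Fin d → MvPowerSeries (Fin d) k))).map
      ψ.toRingHom = maximalIdeal R := by
    rw [Ideal.map_span, ← Set.range_comp]
    have h1 : Submodule.span R (Set.range fun i : Fin d =>
        (⟨ψ (MvPowerSeries.X i), hψ i⟩ : maximalIdeal R)) = ⊤ := by
      rw [← CotangentSpace.span_image_eq_top_iff, ← Set.range_comp]
      exact hsp
    have h2 := congrArg (Submodule.map (maximalIdeal R).subtype) h1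
    rw [Submodule.map_span, ← Set.range_comp, Submodule.map_top, Submodule.range_subtype] at h2
    exact h2
  haveI : IsHausdorff ((Ideal.span (Set.range (MvPowerSeries.X :
      Fin d → MvPowerSeries (Fin d) k))).map ψ.toRingHom) R := by
    rw [hmap]; infer_instance
  apply surjective_of_mk_map_comp_surjective
    (I := Ideal.span (Set.range (MvPowerSeries.X : Fin d → MvPowerSeries (Fin d) k))) ψ.toRingHom
  intro y
  obtain ⟨r, rfl⟩ := Ideal.Quotient.mk_surjective y
  obtain ⟨c, hc⟩ := hR (residue R r)
  refine ⟨algebraMap k _ c, ?_⟩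
  rw [RingHom.comp_apply, Ideal.Quotient.eq, hmap]
  have : ψ.toRingHom (algebraMap k (MvPowerSeries (Fin d) k) c) = algebraMap k R c :=
    ψ.commutes c
  rw [this, ← Ideal.Quotient.eq]
  exact hc

variable (k) in
/-- For a complete Noetherian local `k`-algebra `R` and elements `x i` of its maximal ideal there
is a `k`-algebra map `k[[X]] → R` sending `X i` to `x i`. -/
theorem exists_algHom {R : Type u} [CommRing R] [IsLocalRing R] [IsNoetherianRing R] [Algebra k R]
    [IsAdicComplete (maximalIdeal R) R] (x : Fin d → R) (hx : ∀ i, x i ∈ maximalIdeal R) :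
    ∃ ψ : MvPowerSeries (Fin d) k →ₐ[k] R, ∀ i, ψ (MvPowerSeries.X i) = x i := by
  classical
  let g : MvPolynomial (Fin d) k →ₐ[k] R := MvPolynomial.aeval x
  have hJ : (MvPolynomial.idealOfVars (Fin d) k).map g.toRingHom ≤ maximalIdeal R := by
    rw [Ideal.map_span, Ideal.span_le]
    rintro _ ⟨_, ⟨i, rfl⟩, rfl⟩
    simpa [g] using hx i
  have hJn : ∀ n : ℕ, ∀ a ∈ MvPolynomial.idealOfVars (Fin d) k ^ n, g a ∈ maximalIdeal R ^ n := by
    intro n a ha
    have h1 : g a ∈ (MvPolynomial.idealOfVars (Fin d) k ^ n).map g.toRingHom :=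
      Ideal.mem_map_of_mem _ ha
    rw [Ideal.map_pow] at h1
    exact Ideal.pow_right_mono hJ n h1
  let f : (n : ℕ) → MvPowerSeries (Fin d) k →ₐ[k] R ⧸ maximalIdeal R ^ n := fun n =>
    (Ideal.Quotient.liftₐ (MvPolynomial.idealOfVars (Fin d) k ^ n)
      ((Ideal.Quotient.mkₐ k (maximalIdeal R ^ n)).comp g)
      (fun a ha => by
        rw [AlgHom.comp_apply, Ideal.Quotient.mkₐ_eq_mk, Ideal.Quotient.eq_zero_iff_mem]
        exact hJn n a ha)).comp
      ((MvPowerSeries.truncTotalAlgHom (Fin d) k n).restrictScalars k)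
  have hfapp : ∀ n p, f n p = Ideal.Quotient.mk (maximalIdeal R ^ n)
      (g (MvPowerSeries.truncTotal n p)) := by
    intro n p
    rfl
  have hf : ∀ {m n : ℕ} (hle : m ≤ n),
      (Ideal.Quotient.factorₐ k (Ideal.pow_le_pow_right hle)).comp (f n) = f m := by
    intro m n hle
    ext p
    rw [AlgHom.comp_apply, hfapp, hfapp, Ideal.Quotient.factorₐ_apply_mk, Ideal.Quotient.eq,
      ← map_sub]
    exact hJn m _ (MvPowerSeries.truncTotal_sub_truncTotal_mem_pow_idealOfVars hle le_rfl p)
  refine ⟨IsAdicComplete.liftAlgHom (maximalIdeal R) f hf, fun i => ?_⟩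
  rw [← sub_eq_zero]
  apply IsHausdorff.haus (inferInstance : IsHausdorff (maximalIdeal R) R)
  intro n
  rw [SModEq.zero, smul_eq_mul, Ideal.mul_top, ← Ideal.Quotient.eq, IsAdicComplete.mk_liftAlgHom,
    hfapp, Ideal.Quotient.eq]
  have h1 : MvPowerSeries.truncTotal n (MvPowerSeries.X i : MvPowerSeries (Fin d) k) -
      MvPolynomial.X i ∈ MvPolynomial.idealOfVars (Fin d) k ^ n := by
    rw [← Ideal.Quotient.eq]
    have := (MvPowerSeries.truncTotalAlgHom (Fin d) k n).commutes (MvPolynomial.X i)
    rw [MvPowerSeries.truncTotalAlgHom_apply] at this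
    have h0 : (algebraMap (MvPolynomial (Fin d) k) (MvPowerSeries (Fin d) k)) (MvPolynomial.X i) =
        MvPowerSeries.X i := MvPolynomial.coe_X i
    rw [h0] at this
    exact this
  have h2 := hJn n _ h1
  rw [map_sub] at h2
  simpa [g] using h2

end Groth.Agent.Lib.Helper26.PowerSeriesRLR
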