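import Mathlib
import Groth.Agent.Lib.Helper9.RegLocal

/-! Regular systems of parameters in regular local rings form regular sequences. -/

set_option autoImplicit false
universe u

namespace Groth.Agent.Lib.Helper26.RegSeq

open IsLocalRing

variable {R : Type u} [CommRing R]

/-- classes of a generating family of size `dim R` are linearly independent in `m/m²`. -/
lemma linearIndependent_toCotangent [IsRegularLocalRing R] {d : ℕ} (hd : ringKrullDim R = d)
    (x : Fin d → maximalIdeal R)
    (hx : Ideal.span (Set.range fun i => (x i : R)) = maximalIdeal R) :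
    LinearIndependent (ResidueField R) (fun i => (maximalIdeal R).toCotangent (x i)) := by
  have hspan : Submodule.span (ResidueField R)
      (Set.range fun i => (maximalIdeal R).toCotangent (x i)) = ⊤ := by
    have := (Groth.Agent.Lib.Helper9.RegLocal.span_cotangent_sup_eq_top_iff x x).mpr
      (by rw [sup_idem]; exact hx)
    rwa [sup_idem] at this
  have hfr : Module.finrank (ResidueField R) (CotangentSpace R) = d := by
    have h1 : ((maximalIdeal R).spanFinrank : WithBot ℕ∞) = ringKrullDim R :=
      IsRegularLocalRing.spanFinrank_maximalIdeal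
    rw [hd] at h1
    have h2 : (maximalIdeal R).spanFinrank = d := by exact_mod_cast h1
    rw [← h2, spanFinrank_maximalIdeal_eq_finrank_cotangentSpace]
  apply linearIndependent_of_top_le_span_of_card_eq_finrank
  · rw [hspan]
  · rw [Fintype.card_fin]; exact hfr.symm

lemma toCotangent_mem_span_of_mem [IsLocalRing R] {ι : Type*} [Fintype ι]
    (y : ι → maximalIdeal R) (z : maximalIdeal R)
    (hz : (z : R) ∈ Ideal.span (Set.range fun j => (y j : R))) :
    (maximalIdeal R).toCotangent z ∈ Submodule.span (ResidueField R)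
      (Set.range fun j => (maximalIdeal R).toCotangent (y j)) := by
  rw [Ideal.span, Submodule.mem_span_range_iff_exists_fun] at hz
  obtain ⟨c, hc⟩ := hz
  have hz' : z = ∑ j, c j • y j := by
    apply Subtype.ext
    rw [← hc]
    simp
  rw [hz', map_sum]
  refine Submodule.sum_mem _ fun j _ => ?_
  rw [map_smul]
  exact Submodule.smul_of_tower_mem _ (c j) (Submodule.subset_span ⟨j, rfl⟩)

theorem isWeaklyRegular_ofFn [IsRegularLocalRing R] {d : ℕ} (hd : ringKrullDim R = d)
    (x : Fin d → R) (hx : Ideal.span (Set.range x) = maximalIdeal R) :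
    RingTheory.Sequence.IsWeaklyRegular R (List.ofFn x) := by
  classical
  have hmem : ∀ i, x i ∈ maximalIdeal R := fun i => hx ▸ Ideal.subset_span ⟨i, rfl⟩
  let xm : Fin d → maximalIdeal R := fun i => ⟨x i, hmem i⟩
  have hli := linearIndependent_toCotangent hd xm (by simpa [xm] using hx)
  rw [RingTheory.Sequence.isWeaklyRegular_iff]
  intro i hi
  have hid : i < d := by simpa using hi
  let y : Fin i → maximalIdeal R := fun j => xm (Fin.castLE hid.le j)
  have hyli : LinearIndependent (ResidueField R)
      (fun j => (maximalIdeal R).toCotangent (y j)) :=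
    hli.comp (Fin.castLE hid.le) (Fin.castLE_injective _)
  obtain ⟨-, hreg⟩ := Groth.Agent.Lib.Helper9.RegLocal.quotient_regular R i y hyli
  set J := Ideal.span (Set.range fun j => (y j : R)) with hJ
  haveI : IsDomain (R ⧸ J) :=
    Groth.Agent.Lib.Helper9.RegLocal.isDomain_of_isRegularLocalRing _
  have hJprime : J.IsPrime := (Ideal.Quotient.isDomain_iff_prime J).mp inferInstance
  have hofList : Ideal.ofList ((List.ofFn x).take i) = J := by
    apply le_antisymm
    · rw [Ideal.span_le]
      intro r hr
      rw [Set.mem_setOf_eq, List.mem_take_iff_getElem] at hr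
      obtain ⟨k, hk, rfl⟩ := hr
      have hki : k < i := lt_of_lt_of_le hk (min_le_left _ _)
      refine Ideal.subset_span ⟨⟨k, hki⟩, ?_⟩
      simp [y, xm]
    · rw [hJ, Ideal.span_le]
      rintro _ ⟨j, rfl⟩
      apply Ideal.subset_span
      rw [Set.mem_setOf_eq, List.mem_take_iff_getElem]
      refine ⟨j, ?_, ?_⟩
      · have := j.2
        simp only [List.length_ofFn, lt_min_iff]
        omega
      · simp only [List.getElem_ofFn, y, xm]
        rfl
  have hxi : x ⟨i, hid⟩ ∉ J := by
    intro hmemJ
    have h1 := toCotangent_mem_span_of_mem y (xm ⟨i, hid⟩) hmemJ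
    have h2 : (⟨i, hid⟩ : Fin d) ∉ Set.range (Fin.castLE hid.le : Fin i → Fin d) := by
      rintro ⟨j, hj⟩
      have := congrArg Fin.val hj
      simp at this
      omega
    have h3 := hli.notMem_span_image h2
    apply h3
    rw [← Set.range_comp]
    exact h1
  have hget : (List.ofFn x)[i] = x ⟨i, hid⟩ := by simp
  rw [hget, hofList]
  have hsm : (J • ⊤ : Submodule R R) = J := by
    rw [smul_eq_mul, Ideal.mul_top]
  rw [isSMulRegular_iff_right_eq_zero_of_smul]
  intro m hm
  obtain ⟨a, rfl⟩ := Submodule.Quotient.mk_surjective _ m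
  rw [← Submodule.Quotient.mk_smul, Submodule.Quotient.mk_eq_zero] at hm
  rw [Submodule.Quotient.mk_eq_zero]
  rw [hsm] at hm ⊢
  rw [smul_eq_mul] at hm
  rcases hJprime.mem_or_mem hm with h | h
  · exact absurd h hxi
  · exact h

theorem isRegular_ofFn [IsRegularLocalRing R] {d : ℕ} (hd : ringKrullDim R = d)
    (x : Fin d → R) (hx : Ideal.span (Set.range x) = maximalIdeal R) :
    RingTheory.Sequence.IsRegular R (List.ofFn x) := by
  apply RingTheory.Sequence.IsRegular.of_isWeaklyRegular_of_mem_maximalIdeal
  · intro r hr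
    rw [List.mem_ofFn] at hr
    obtain ⟨i, rfl⟩ := hr
    exact hx ▸ Ideal.subset_span ⟨i, rfl⟩
  · exact isWeaklyRegular_ofFn hd x hx

end Groth.Agent.Lib.Helper26.RegSeq
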