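import Groth.Agent.Lib.Helper26.SerreReg
import Groth.Agent.S0563
import Groth.Agent.Lib.Helper9.FlatGlDim
import Groth.Agent.Lib.Helper9.RegularLoc
import Mathlib

/-!
# Regular rings: localization of regular local rings, `IsRegularRing` criteria.
-/

set_option autoImplicit false
universe u

open CategoryTheory Abelian IsLocalRing

namespace Groth.Agent.Lib.Helper26.RegularRing

open Groth.Agent.Lib.Helper26.SerreReg

section residue

variable {R : Type u} [CommRing R] (p : Ideal R) [p.IsPrime]

lemma algebraMapSubmonoid_quotient_primeCompl :
    Algebra.algebraMapSubmonoid (R ⧸ p) p.primeCompl = nonZeroDivisors (R ⧸ p) := by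
  ext y
  obtain ⟨x, rfl⟩ := Ideal.Quotient.mk_surjective y
  rw [mem_nonZeroDivisors_iff_ne_zero, Ne, Ideal.Quotient.eq_zero_iff_mem]
  constructor
  · rintro ⟨s, hs, hsx⟩
    intro hx
    apply hs
    have : Ideal.Quotient.mk p s = Ideal.Quotient.mk p x := hsx
    rw [Ideal.Quotient.mk_eq_mk_iff_sub_mem] at this
    have h2 := p.add_mem this hx
    simpa using h2
  · intro hx
    exact ⟨x, hx, rfl⟩

instance isLocalizedModule_quotient_residueField :
    IsLocalizedModule p.primeCompl
      (IsScalarTower.toAlgHom R (R ⧸ p) p.ResidueField).toLinearMap := by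
  rw [isLocalizedModule_iff_isLocalization, algebraMapSubmonoid_quotient_primeCompl]
  infer_instance

/-- The residue field at `p` has projective dimension over `R_p` bounded by that of `R/p`. -/
lemma hasProjectiveDimensionLT_residueField_atPrime (n : ℕ)
    (h : HasProjectiveDimensionLT (ModuleCat.of R (R ⧸ p)) (n + 1)) :
    HasProjectiveDimensionLT (ModuleCat.of (Localization.AtPrime p)
      (ResidueField (Localization.AtPrime p))) (n + 1) := by
  haveI : HasProjectiveDimensionLE (ModuleCat.of R (R ⧸ p)) n := h
  have h1 := ModuleCat.localizedModule_hasProjectiveDimensionLE n p.primeCompl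
    (ModuleCat.of R (R ⧸ p))
  haveI hloc := ModuleCat.localizedModule_isLocalizedModule (ModuleCat.of R (R ⧸ p)) p.primeCompl
  let e : ((ModuleCat.of R (R ⧸ p)).localizedModule p.primeCompl) ≃ₗ[Localization.AtPrime p]
      ResidueField (Localization.AtPrime p) :=
    LinearEquiv.extendScalarsOfIsLocalization p.primeCompl (Localization.AtPrime p)
      (IsLocalizedModule.linearEquiv p.primeCompl
        ((ModuleCat.of R (R ⧸ p)).localizedModuleMkLinearMap p.primeCompl)
        ((IsScalarTower.toAlgHom R (R ⧸ p) p.ResidueField).toLinearMap))
  haveI : HasProjectiveDimensionLT ((ModuleCat.of R (R ⧸ p)).localizedModule p.primeCompl) (n + 1) := h1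
  exact hasProjectiveDimensionLT_of_iso e.toModuleIso (n + 1)

end residue

/-- **Localization of a regular local ring at a prime is regular.** -/
theorem isRegularLocalRing_localization_atPrime (R : Type u) [CommRing R] [IsRegularLocalRing R]
    (p : Ideal R) [p.IsPrime] : IsRegularLocalRing (Localization.AtPrime p) := by
  obtain ⟨d, hd⟩ := exists_nat_ringKrullDim R
  have h := Groth.Agent.S0563.result R d hd (R ⧸ p)
  exact isRegularLocalRing_of_hasProjectiveDimensionLT_residueField _ (d + 1)
    (hasProjectiveDimensionLT_residueField_atPrime p d h)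

/-- A regular local ring is a regular ring. -/
theorem isRegularRing_of_isRegularLocalRing (R : Type u) [CommRing R] [IsRegularLocalRing R] :
    IsRegularRing R :=
  ⟨fun p _ => isRegularLocalRing_localization_atPrime R p⟩

/-- Any localization at a prime of a regular ring is a regular local ring. -/
theorem isRegularLocalRing_of_isLocalization_atPrime (R : Type u) [CommRing R] [IsRegularRing R]
    (p : Ideal R) [p.IsPrime] (S : Type u) [CommRing S] [Algebra R S]
    [IsLocalization.AtPrime S p] : IsRegularLocalRing S :=
  IsRegularLocalRing.of_ringEquiv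
    (IsLocalization.algEquiv p.primeCompl (Localization.AtPrime p) S).toRingEquiv

open TensorProduct in
/-- **Flat descent of regularity** for local rings. -/
theorem isRegularLocalRing_of_flat (R : Type u) [CommRing R] [IsLocalRing R] [IsNoetherianRing R]
    (S : Type u) [CommRing S] [IsRegularLocalRing S] [Algebra R S]
    [IsLocalHom (algebraMap R S)] [Module.Flat R S] : IsRegularLocalRing R := by
  haveI : Module.FaithfullyFlat R S := Module.FaithfullyFlat.of_flat_of_isLocalHom
  obtain ⟨d, hd⟩ := exists_nat_ringKrullDim S
  have h := Groth.Agent.S0563.result S d hd (S ⊗[R] ResidueField R)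
  have h2 := Groth.Agent.Lib.Helper9.hasProjectiveDimensionLT_of_baseChange (A := R) (B := S) d
    (ResidueField R) h
  exact isRegularLocalRing_of_hasProjectiveDimensionLT_residueField R (d + 1) h2

open TensorProduct in
lemma isNoetherianRing_of_faithfullyFlat (R S : Type u) [CommRing R] [CommRing S] [Algebra R S]
    [Module.FaithfullyFlat R S] [IsNoetherianRing S] : IsNoetherianRing R := by
  have h : IsNoetherian S (S ⊗[R] R) :=
    isNoetherian_of_linearEquiv (AlgebraTensorModule.rid R S S).symm
  exact Submodule.IsNoetherian.of_isNoetherian_tensorProduct_of_faithfullyFlat (A := S) h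

/-- Regularity at a prime descends along a flat map (the prime `q` lying over `p`). -/
theorem isRegularLocalRing_atPrime_of_flat (R S : Type u) [CommRing R] [CommRing S] [Algebra R S]
    [Module.Flat R S] [IsNoetherianRing R] (p : Ideal R) [p.IsPrime] (q : Ideal S) [q.IsPrime]
    [q.LiesOver p] [IsRegularLocalRing (Localization.AtPrime q)] :
    IsRegularLocalRing (Localization.AtPrime p) := by
  letI := Localization.AtPrime.algebraOfLiesOver p q
  haveI : IsLocalHom (algebraMap (Localization.AtPrime p) (Localization.AtPrime q)) :=
    Localization.isLocalHom_localRingHom p q (algebraMap R S) Ideal.LiesOver.over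
  exact isRegularLocalRing_of_flat (Localization.AtPrime p) (Localization.AtPrime q)

/-- **Faithfully flat descent of regularity.** -/
theorem isRegularRing_of_faithfullyFlat (R S : Type u) [CommRing R] [CommRing S] [Algebra R S]
    [Module.FaithfullyFlat R S] [IsRegularRing S] : IsRegularRing R := by
  haveI : IsNoetherianRing R := isNoetherianRing_of_faithfullyFlat R S
  refine ⟨fun p hp => ?_⟩
  obtain ⟨q, hq⟩ := PrimeSpectrum.comap_surjective_of_faithfullyFlat (A := R) (B := S) ⟨p, hp⟩
  haveI : q.asIdeal.LiesOver p := ⟨(congrArg PrimeSpectrum.asIdeal hq).symm⟩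
  exact isRegularLocalRing_atPrime_of_flat R S p q.asIdeal

end Groth.Agent.Lib.Helper26.RegularRing
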