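import Groth.Agent.S9246
import Mathlib

/-!
# Regularity of stalks of schemes: affine charts and étale invariance.
-/

set_option autoImplicit false
universe u

open AlgebraicGeometry CategoryTheory

namespace Groth.Agent.Lib.Helper26.RegularSch

/-- The stalk at a point of an affine open is regular iff the localization of the coordinate ring
at the corresponding prime is. -/
lemma isRegularLocalRing_stalk_iff {X : Scheme.{u}} {U : X.Opens} (hU : IsAffineOpen U) (x : U) :
    IsRegularLocalRing (X.presheaf.stalk x) ↔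
      IsRegularLocalRing (Localization.AtPrime (hU.primeIdealOf x).asIdeal) := by
  haveI := hU.isLocalization_stalk x
  let e := (IsLocalization.algEquiv (hU.primeIdealOf x).asIdeal.primeCompl
    (Localization.AtPrime (hU.primeIdealOf x).asIdeal) (X.presheaf.stalk x)).toRingEquiv
  exact ⟨fun h => IsRegularLocalRing.of_ringEquiv e.symm, fun h => IsRegularLocalRing.of_ringEquiv e⟩

lemma etale_aux (A B : Type u) [CommRing A] [CommRing B] [Algebra A B] [Algebra.Etale A B]
    (q : Ideal B) [q.IsPrime] (p : Ideal A) [p.IsPrime]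
    (hp : p = Ideal.comap (algebraMap A B) q) :
    IsRegularLocalRing (Localization.AtPrime p) ↔ IsRegularLocalRing (Localization.AtPrime q) := by
  subst hp
  exact Groth.Agent.S9246.result A B q

/-- Regularity of stalks is invariant under étale morphisms. -/
theorem isRegularLocalRing_stalk_iff_of_etale {X Y : Scheme.{u}} (f : X ⟶ Y) [Etale f] (x : X) :
    IsRegularLocalRing (X.presheaf.stalk x) ↔ IsRegularLocalRing (Y.presheaf.stalk (f.base x)) := by
  obtain ⟨V, hV, hfxV, -⟩ := exists_isAffineOpen_mem_and_subset (x := f.base x) (U := ⊤) trivial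
  obtain ⟨U, hU, hxU, hUV⟩ := exists_isAffineOpen_mem_and_subset (x := x) (U := f ⁻¹ᵁ V) hfxV
  have hφ : RingHom.Etale (f.appLE V U hUV).hom :=
    HasRingHomProperty.appLE @Etale f inferInstance ⟨V, hV⟩ ⟨U, hU⟩ hUV
  letI := (f.appLE V U hUV).hom.toAlgebra
  haveI : Algebra.Etale Γ(Y, V) Γ(X, U) := hφ
  rw [isRegularLocalRing_stalk_iff hU ⟨x, hxU⟩, isRegularLocalRing_stalk_iff hV ⟨f.base x, hfxV⟩]
  refine (etale_aux Γ(Y, V) Γ(X, U) (hU.primeIdealOf ⟨x, hxU⟩).asIdeal
    (hV.primeIdealOf ⟨f.base x, hfxV⟩).asIdeal ?_).symm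
  have := IsAffineOpen.comap_primeIdealOf_appLE (f := f) (x := x) V hV U hU hUV hxU
  exact (congrArg PrimeSpectrum.asIdeal this).symm

/-- Localizations of an étale algebra over a regular ring are regular. -/
lemma isRegularLocalRing_atPrime_of_etale (A B : Type u) [CommRing A] [CommRing B] [Algebra A B]
    [Algebra.Etale A B] [IsRegularRing A] (q : Ideal B) [q.IsPrime] :
    IsRegularLocalRing (Localization.AtPrime q) :=
  (Groth.Agent.S9246.result A B q).mp inferInstance

/-- Localizations of a standard smooth algebra over a regular ring are regular. -/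
theorem isRegularLocalRing_atPrime_of_isStandardSmooth {R S : Type u} [CommRing R] [CommRing S]
    (f : R →+* S) (hf : f.IsStandardSmooth) [IsRegularRing R] (q : Ideal S) [q.IsPrime] :
    IsRegularLocalRing (Localization.AtPrime q) := by
  obtain ⟨n, g, hg, hget⟩ := hf.exists_etale_mvPolynomial
  letI := g.toAlgebra
  haveI : Algebra.Etale (MvPolynomial (Fin n) R) S := hget
  exact isRegularLocalRing_atPrime_of_etale (MvPolynomial (Fin n) R) S q

lemma isLocalization_atPrime_congr {T T'' : Type*} [CommSemiring T] [CommSemiring T'']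
    [Algebra T T'']
    (Q P : Ideal T) [Q.IsPrime] [P.IsPrime] (h : Q = P) [IsLocalization.AtPrime T'' Q] :
    IsLocalization.AtPrime T'' P := by
  subst h
  assumption

attribute [local instance] MvPolynomial.algebraMvPolynomial in
/-- If `R_p` is regular and `P` is a prime of `R[X₁,…,Xₙ]` over `p`, then `R[X₁,…,Xₙ]_P` is
regular. -/
theorem isRegularLocalRing_mvPolynomial_atPrime (R : Type u) [CommRing R] (n : ℕ) (p : Ideal R)
    [p.IsPrime] [IsRegularLocalRing (Localization.AtPrime p)]
    (P : Ideal (MvPolynomial (Fin n) R)) [hP : P.IsPrime] (hPp : P.comap MvPolynomial.C = p) :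
    IsRegularLocalRing (Localization.AtPrime P) := by
  haveI : IsRegularRing (Localization.AtPrime p) :=
    Groth.Agent.Lib.Helper26.RegularRing.isRegularRing_of_isRegularLocalRing _
  let M : Submonoid (MvPolynomial (Fin n) R) := p.primeCompl.map (MvPolynomial.C (σ := Fin n))
  haveI hloc : IsLocalization M (MvPolynomial (Fin n) (Localization.AtPrime p)) :=
    MvPolynomial.isLocalization p.primeCompl (Localization.AtPrime p)
  have hdisj : Disjoint (M : Set (MvPolynomial (Fin n) R)) (P : Set (MvPolynomial (Fin n) R)) := by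
    rw [Set.disjoint_left]
    rintro _ ⟨r, hr, rfl⟩ hrP
    apply hr
    rw [← hPp]
    exact hrP
  let P' : Ideal (MvPolynomial (Fin n) (Localization.AtPrime p)) :=
    P.map (algebraMap (MvPolynomial (Fin n) R) (MvPolynomial (Fin n) (Localization.AtPrime p)))
  haveI hP' : P'.IsPrime := IsLocalization.isPrime_of_isPrime_disjoint M _ P hP hdisj
  have hcomap : P'.comap (algebraMap (MvPolynomial (Fin n) R)
      (MvPolynomial (Fin n) (Localization.AtPrime p))) = P :=
    IsLocalization.comap_map_of_isPrime_disjoint M _ hP hdisj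
  haveI h1 : IsLocalization.AtPrime (Localization.AtPrime P')
      (P'.comap (algebraMap (MvPolynomial (Fin n) R)
        (MvPolynomial (Fin n) (Localization.AtPrime p)))) :=
    IsLocalization.isLocalization_isLocalization_atPrime_isLocalization M _ P'
  haveI h2 : IsLocalization.AtPrime (Localization.AtPrime P') P :=
    isLocalization_atPrime_congr _ P hcomap
  exact IsRegularLocalRing.of_ringEquiv (R := Localization.AtPrime P')
    (IsLocalization.algEquiv P.primeCompl (Localization.AtPrime P')
      (Localization.AtPrime P)).toRingEquiv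

/-- Smooth transfer of regularity (algebra form): for `R → S` standard smooth with `R`
Noetherian, `S_q` is regular iff `R_p` is, where `p = q ∩ R`. -/
theorem isRegularLocalRing_atPrime_iff_of_isStandardSmooth {R S : Type u} [CommRing R]
    [CommRing S] [IsNoetherianRing R] (f : R →+* S) (hf : f.IsStandardSmooth) (q : Ideal S)
    [q.IsPrime] (p : Ideal R) [p.IsPrime] (hp : q.comap f = p) :
    IsRegularLocalRing (Localization.AtPrime q) ↔ IsRegularLocalRing (Localization.AtPrime p) := by
  obtain ⟨n, g, hg, hget⟩ := hf.exists_etale_mvPolynomial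
  letI := g.toAlgebra
  haveI : Algebra.Etale (MvPolynomial (Fin n) R) S := hget
  have hPp : (q.comap (algebraMap (MvPolynomial (Fin n) R) S)).comap MvPolynomial.C = p := by
    rw [Ideal.comap_comap, ← hp]
    show q.comap (g.comp MvPolynomial.C) = _
    rw [hg]
  rw [← Groth.Agent.S9246.result (MvPolynomial (Fin n) R) S q]
  constructor
  · intro h
    haveI : (q.comap (algebraMap (MvPolynomial (Fin n) R) S)).LiesOver p := ⟨hPp.symm⟩
    exact Groth.Agent.Lib.Helper26.RegularRing.isRegularLocalRing_atPrime_of_flat R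
      (MvPolynomial (Fin n) R) p (q.comap (algebraMap (MvPolynomial (Fin n) R) S))
  · intro h
    exact isRegularLocalRing_mvPolynomial_atPrime R n p _ hPp

/-- A scheme smooth over a field has regular local rings. -/
theorem isRegularLocalRing_stalk_of_smooth_field (k : Type u) [Field k] {X : Scheme.{u}}
    (f : X ⟶ Spec (CommRingCat.of k)) [Smooth f] (x : X) :
    IsRegularLocalRing (X.presheaf.stalk x) := by
  obtain ⟨U, hU, V, hV, hxV, e, hss⟩ := Smooth.exists_isStandardSmooth f x
  have hUtop : U = ⊤ := by
    ext y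
    simp only [TopologicalSpace.Opens.coe_top, Set.mem_univ, iff_true]
    have : y = f.base x := Subsingleton.elim _ _
    rw [this]; exact e hxV
  subst hUtop
  haveI : IsRegularRing Γ(Spec (CommRingCat.of k), ⊤) :=
    IsRegularRing.of_ringEquiv (R := k)
      (Scheme.ΓSpecIso (CommRingCat.of k)).commRingCatIsoToRingEquiv.symm
  rw [isRegularLocalRing_stalk_iff hV ⟨x, hxV⟩]
  exact isRegularLocalRing_atPrime_of_isStandardSmooth _ hss _

/-- Regularity of stalks is invariant under smooth morphisms to a locally Noetherian scheme. -/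
theorem isRegularLocalRing_stalk_iff_of_smooth {X Y : Scheme.{u}} (f : X ⟶ Y) [Smooth f]
    [IsLocallyNoetherian Y] (x : X) :
    IsRegularLocalRing (X.presheaf.stalk x) ↔ IsRegularLocalRing (Y.presheaf.stalk (f.base x)) := by
  obtain ⟨V, hV, W, hW, hxW, e, hss⟩ := Smooth.exists_isStandardSmooth f x
  haveI : IsNoetherianRing Γ(Y, V) := IsLocallyNoetherian.component_noetherian ⟨V, hV⟩
  rw [isRegularLocalRing_stalk_iff hW ⟨x, hxW⟩, isRegularLocalRing_stalk_iff hV ⟨f.base x, e hxW⟩]
  refine isRegularLocalRing_atPrime_iff_of_isStandardSmooth _ hss _ _ ?_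
  have := IsAffineOpen.comap_primeIdealOf_appLE (f := f) (x := x) V hV W hW e hxW
  exact congrArg PrimeSpectrum.asIdeal this

/-- Variant: `f` is smooth on an open neighbourhood of `x`. -/
theorem isRegularLocalRing_stalk_iff_of_smooth_nhd {X Y : Scheme.{u}} (f : X ⟶ Y)
    [IsLocallyNoetherian Y] (x : X) (U : X.Opens) (hxU : x ∈ U) [Smooth (U.ι ≫ f)] :
    IsRegularLocalRing (X.presheaf.stalk x) ↔ IsRegularLocalRing (Y.presheaf.stalk (f.base x)) := by
  have h1 := isRegularLocalRing_stalk_iff_of_smooth (U.ι ≫ f) ⟨x, hxU⟩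
  let e : X.presheaf.stalk x ≃+* (U : Scheme.{u}).presheaf.stalk ⟨x, hxU⟩ :=
    (asIso (U.ι.stalkMap ⟨x, hxU⟩)).commRingCatIsoToRingEquiv
  have h2 : IsRegularLocalRing (X.presheaf.stalk x) ↔
      IsRegularLocalRing ((U : Scheme.{u}).presheaf.stalk ⟨x, hxU⟩) :=
    ⟨fun h => IsRegularLocalRing.of_ringEquiv e, fun h => IsRegularLocalRing.of_ringEquiv e.symm⟩
  rw [h2, h1]
  rfl

end Groth.Agent.Lib.Helper26.RegularSch
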