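import Groth.Agent.Lib.Helper26.RegularRing
import Groth.Agent.Lib.Helper26.RegSeq
import Groth.Agent.Lib.Helper4.SerreNormal
import Mathlib

/-!
# Regular local rings are Cohen–Macaulay (depth = dim) and normal.
-/

set_option autoImplicit false
universe u

open IsLocalRing

namespace Groth.Agent.Lib.Helper26.RegularNormal

open Groth.Agent.Lib.Helper26.SerreReg Groth.Agent.Lib.Helper26.RegularRing

/-- A regular local ring of dimension `d` has a regular system of parameters that is a regular
sequence. -/
theorem exists_isRegular_span_eq_maximalIdeal (R : Type u) [CommRing R] [IsRegularLocalRing R]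
    {d : ℕ} (hd : ringKrullDim R = d) :
    ∃ x : Fin d → R, Ideal.span (Set.range x) = maximalIdeal R ∧
      RingTheory.Sequence.IsRegular R (List.ofFn x) := by
  classical
  have hfg : (maximalIdeal R).FG := (maximalIdeal R).fg_of_isNoetherianRing
  obtain ⟨s, hscard, hsspan⟩ := Submodule.FG.exists_span_finset_card_eq_spanFinrank hfg
  have h1 : ((maximalIdeal R).spanFinrank : WithBot ℕ∞) = ringKrullDim R :=
    IsRegularLocalRing.spanFinrank_maximalIdeal
  rw [hd] at h1
  have h2 : (maximalIdeal R).spanFinrank = d := by exact_mod_cast h1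
  have hcard : s.card = d := hscard.trans h2
  let e := Finset.equivFinOfCardEq hcard
  let x : Fin d → R := fun i => (e.symm i : R)
  have hrange : Set.range x = (s : Set R) := by
    ext r
    constructor
    · rintro ⟨i, rfl⟩
      exact (e.symm i).2
    · intro hr
      exact ⟨e ⟨r, hr⟩, by simp [x]⟩
  have hx : Ideal.span (Set.range x) = maximalIdeal R := by
    rw [hrange]; exact hsspan
  exact ⟨x, hx, Groth.Agent.Lib.Helper26.RegSeq.isRegular_ofFn hd x hx⟩

/-- In a regular local ring, `dim ≤ depth`. -/
theorem height_maximalIdeal_le_depth (R : Type u) [CommRing R] [IsRegularLocalRing R] :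
    (maximalIdeal R).height ≤ LocCoh.depth R R := by
  obtain ⟨d, hd⟩ := exists_nat_ringKrullDim R
  obtain ⟨x, hx, hreg⟩ := exists_isRegular_span_eq_maximalIdeal R hd
  have hmem : ∀ r ∈ List.ofFn x, r ∈ maximalIdeal R := by
    intro r hr
    rw [List.mem_ofFn] at hr
    obtain ⟨i, rfl⟩ := hr
    exact hx ▸ Ideal.subset_span ⟨i, rfl⟩
  have h1 := Groth.Agent.Lib.Helper4.length_le_idealDepth (M := R) (maximalIdeal R) (List.ofFn x)
    hreg.toIsWeaklyRegular hmem
  rw [List.length_ofFn] at h1
  have h2 : ((maximalIdeal R).height : WithBot ℕ∞) = ringKrullDim R :=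
    IsLocalRing.maximalIdeal_height_eq_ringKrullDim
  rw [hd] at h2
  have h3 : (maximalIdeal R).height = (d : ℕ∞) := by exact_mod_cast h2
  rw [h3]
  exact h1

/-- A regular ring satisfies `(R_k)` for every `k`. -/
theorem hasRk_of_isRegularRing (R : Type u) [CommRing R] [IsRegularRing R] (k : ℕ) :
    LocCoh.HasRk k R := fun p _ _ => inferInstance

/-- A regular ring satisfies `(S_k)` for every `k`. -/
theorem hasSk_of_isRegularRing (R : Type u) [CommRing R] [IsRegularRing R] (k : ℕ) :
    LocCoh.HasSk k R R := by
  rw [Groth.Agent.Lib.Helper4.hasSk_self_iff']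
  intro p _
  have h := height_maximalIdeal_le_depth (Localization.AtPrime p)
  rw [Groth.Agent.Lib.Helper4.SerreNormal.height_maximalIdeal_atPrime] at h
  exact (min_le_right _ _).trans h

/-- **A regular local ring is integrally closed.** -/
theorem isIntegrallyClosed_of_isRegularLocalRing (A : Type u) [CommRing A] [IsRegularLocalRing A] :
    IsIntegrallyClosed A := by
  haveI : IsDomain A := Groth.Agent.Lib.Helper9.RegLocal.isDomain_of_isRegularLocalRing A
  haveI : IsRegularRing A := isRegularRing_of_isRegularLocalRing A
  exact Groth.Agent.Lib.Helper4.SerreNormal.isIntegrallyClosed_of_R1_S2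
    (hasRk_of_isRegularRing A 1) (hasSk_of_isRegularRing A 2)

end Groth.Agent.Lib.Helper26.RegularNormal
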