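import Groth.Agent.Lib.Helper9.BassLemma
import Groth.Agent.Lib.Helper9.QuotRegPD
import Groth.Agent.Lib.Helper9.RegLocal
import Mathlib

/-!
# Serre's converse: a Noetherian local ring whose residue field has finite projective
dimension is regular.
-/

set_option autoImplicit false
universe u

open CategoryTheory Abelian IsLocalRing

namespace Groth.Agent.Lib.Helper26.SerreReg

open Groth.Agent.Lib.Helper9

section depthZero

variable {A : Type u} [CommRing A] [IsLocalRing A] [IsNoetherianRing A]

/-- In depth zero, `pd k < r + 2` implies `pd k < r + 1`. -/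
lemma hasProjectiveDimensionLT_residueField_pred
    (hass : maximalIdeal A ∈ associatedPrimes A A) (r : ℕ)
    (h : HasProjectiveDimensionLT (ModuleCat.of A (ResidueField A)) (r + 2)) :
    HasProjectiveDimensionLT (ModuleCat.of A (ResidueField A)) (r + 1) := by
  obtain ⟨-, a, ha⟩ := (isAssociatedPrime_iff (R := A) (M := A)).mp hass
  have hker : LinearMap.ker (LinearMap.toSpanSingleton A A a) = maximalIdeal A := by
    ext t
    rw [ha, LinearMap.mem_ker, LinearMap.toSpanSingleton_apply, Submodule.mem_colon_singleton,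
      Submodule.mem_bot]
  let I : Submodule A A := LinearMap.range (LinearMap.toSpanSingleton A A a)
  let e : (A ⧸ maximalIdeal A) ≃ₗ[A] I :=
    (Submodule.quotEquivOfEq _ _ hker.symm).trans
      (LinearMap.quotKerEquivRange (LinearMap.toSpanSingleton A A a))
  let S : ShortComplex (ModuleCat.{u} A) :=
    ModuleCat.shortComplexOfCompEqZero I.subtype I.mkQ
      (by ext x; exact (Submodule.Quotient.mk_eq_zero I).mpr x.2)
  have hS : S.ShortExact := ModuleCat.shortComplex_shortExact S
    (by
      intro y
      show I.mkQ y = 0 ↔ y ∈ Set.range I.subtype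
      rw [Submodule.mkQ_apply, Submodule.Quotient.mk_eq_zero]
      simp)
    I.injective_subtype I.mkQ_surjective
  have h3 : HasProjectiveDimensionLT S.X₃ (r + 1 + 1) :=
    hasProjectiveDimensionLT_of_finite_of_residueField (r + 1) h (A ⧸ I)
  have h2 : HasProjectiveDimensionLT S.X₂ (r + 1) := by
    haveI : Projective S.X₂ :=
      (IsProjective.iff_projective (R := A) A).mp inferInstance
    exact hasProjectiveDimensionLT_of_ge S.X₂ 1 (r + 1) (by omega)
  have h1 : HasProjectiveDimensionLT S.X₁ (r + 1) := hS.hasProjectiveDimensionLT_X₁ (r + 1) h2 h3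
  exact hasProjectiveDimensionLT_of_iso (e.symm.toModuleIso) (r + 1)

/-- In depth zero, finite projective dimension of `k` forces `k` to be projective. -/
lemma projective_residueField_of_mem_associatedPrimes
    (hass : maximalIdeal A ∈ associatedPrimes A A) (n : ℕ)
    (h : HasProjectiveDimensionLT (ModuleCat.of A (ResidueField A)) n) :
    HasProjectiveDimensionLT (ModuleCat.of A (ResidueField A)) 1 := by
  have key : ∀ r : ℕ, HasProjectiveDimensionLT (ModuleCat.of A (ResidueField A)) (r + 1) →
      HasProjectiveDimensionLT (ModuleCat.of A (ResidueField A)) 1 := by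
    intro r
    induction r with
    | zero => exact fun h => h
    | succ r ih => exact fun h => ih (hasProjectiveDimensionLT_residueField_pred hass r h)
  exact key n (hasProjectiveDimensionLT_of_ge _ n (n + 1) (by omega))

/-- In depth zero, finite projective dimension of `k` forces `m = 0`. -/
lemma maximalIdeal_eq_bot_of_mem_associatedPrimes
    (hass : maximalIdeal A ∈ associatedPrimes A A) (n : ℕ)
    (h : HasProjectiveDimensionLT (ModuleCat.of A (ResidueField A)) n) :
    maximalIdeal A = ⊥ := by
  have h1 := projective_residueField_of_mem_associatedPrimes hass n h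
  have hP : Projective (ModuleCat.of A (ResidueField A)) :=
    projective_iff_hasProjectiveDimensionLT_one.mpr h1
  have hP' : Module.Projective A (ResidueField A) :=
    (IsProjective.iff_projective (R := A) (ResidueField A)).mpr hP
  haveI : Module.Free A (ResidueField A) := Module.free_of_flat_of_isLocalRing
  have hann : Module.annihilator A (ResidueField A) = ⊥ :=
    Module.annihilator_eq_bot.mpr inferInstance
  rw [eq_bot_iff]
  intro x hx
  rw [← hann, Module.mem_annihilator]
  intro z
  obtain ⟨b, rfl⟩ := residue_surjective z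
  rw [Algebra.smul_def, ResidueField.algebraMap_eq, ← map_mul]
  exact (residue_eq_zero_iff _).mpr (Ideal.mul_mem_right _ _ hx)

end depthZero

section avoidance

variable {A : Type u} [CommRing A] [IsLocalRing A] [IsNoetherianRing A]

/-- In positive depth there is a nonzerodivisor in `m \ m²`. -/
lemma exists_nonZeroDivisor_notMem_sq (hass : maximalIdeal A ∉ associatedPrimes A A) :
    ∃ x ∈ maximalIdeal A, x ∉ maximalIdeal A ^ 2 ∧ x ∈ nonZeroDivisors A := by
  classical
  let T : Set (Ideal A) := insert (maximalIdeal A ^ 2) (associatedPrimes A A)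
  have hT : T.Finite := (associatedPrimes.finite A A).insert _
  have hnot : ¬ ((maximalIdeal A : Set A) ⊆ ⋃ P ∈ T, (P : Set A)) := by
    rw [Ideal.subset_union_prime_finite hT (maximalIdeal A ^ 2) (maximalIdeal A ^ 2)
      (fun P hP h1 _ => by
        rcases hP with rfl | hP
        · exact absurd rfl h1
        · exact hP.isPrime)]
    rintro ⟨P, hPT, hle⟩
    rcases hPT with rfl | hP
    · have h2 : (maximalIdeal A : Submodule A A) ≤
          maximalIdeal A • (maximalIdeal A : Submodule A A) := by
        rw [smul_eq_mul, ← pow_two]; exact hle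
      have h3 : maximalIdeal A = ⊥ :=
        Submodule.eq_bot_of_le_smul_of_le_jacobson_bot (maximalIdeal A)
          (maximalIdeal A : Submodule A A) (maximalIdeal A).fg_of_isNoetherianRing h2
          (jacobson_eq_maximalIdeal ⊥ bot_ne_top).ge
      obtain ⟨Q, hQ⟩ := associatedPrimes.nonempty A A
      have hQm : Q = maximalIdeal A := by
        rw [h3, eq_bot_iff, ← h3]
        exact le_maximalIdeal hQ.isPrime.ne_top
      exact hass (hQm ▸ hQ)
    · have h2 : P = maximalIdeal A :=
        le_antisymm (le_maximalIdeal hP.isPrime.ne_top) hle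
      exact hass (h2 ▸ hP)
  obtain ⟨t, htm, htT⟩ := Set.not_subset.mp hnot
  refine ⟨t, htm, fun h => htT (Set.mem_biUnion (Set.mem_insert _ _) h), ?_⟩
  by_contra hnz
  have : t ∈ ⋃ p ∈ associatedPrimes A A, (p : Set A) := by
    rw [biUnion_associatedPrimes_eq_compl_nonZeroDivisors]
    exact hnz
  obtain ⟨P, hP, htP⟩ := Set.mem_iUnion₂.mp this
  exact htT (Set.mem_biUnion (Set.mem_insert_of_mem _ hP) htP)

end avoidance

section retract

variable {A : Type u} [CommRing A] [IsLocalRing A] [IsNoetherianRing A]

/-- For `x ∈ m \ m²`, the residue field of `A/x` is a retract of `m/xm` as `A/x`-modules. -/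
lemma hasProjectiveDimensionLT_residueField_quotient
    (x : A) (hxm : x ∈ maximalIdeal A) (hx2 : x ∉ maximalIdeal A ^ 2)
    [IsLocalRing (A ⧸ Ideal.span {x})] (n : ℕ)
    (h : HasProjectiveDimensionLT (ModuleCat.of (A ⧸ Ideal.span {x})
      (maximalIdeal A ⧸ (Ideal.span {x} • ⊤ : Submodule A (maximalIdeal A)))) n) :
    HasProjectiveDimensionLT (ModuleCat.of (A ⧸ Ideal.span {x})
      (ResidueField (A ⧸ Ideal.span {x}))) n := by
  haveI : IsLocalHom (algebraMap A (A ⧸ Ideal.span {x})) :=
    IsLocalHom.of_surjective _ Ideal.Quotient.mk_surjective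
  haveI := isScalarTower_quot_smul_top (Ideal.span {x}) (maximalIdeal A)
  have hne : (maximalIdeal A).toCotangent ⟨x, hxm⟩ ≠ 0 := by
    rw [Ne, Ideal.toCotangent_eq_zero]; exact hx2
  obtain ⟨ψ, hψ⟩ := Module.Projective.exists_dual_eq_one (ResidueField A) hne
  -- the retraction
  let r₀ : maximalIdeal A →ₗ[A] ResidueField (A ⧸ Ideal.span {x}) :=
    ((Algebra.linearMap (ResidueField A) (ResidueField (A ⧸ Ideal.span {x}))).restrictScalars A) ∘ₗ
      (ψ.restrictScalars A) ∘ₗ (maximalIdeal A).toCotangent
  have hkill : ∀ (c : A), c ∈ maximalIdeal A → ∀ z : ResidueField (A ⧸ Ideal.span {x}),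
      c • z = 0 := by
    intro c hc z
    rw [Algebra.smul_def]
    have : algebraMap A (ResidueField (A ⧸ Ideal.span {x})) c = 0 := by
      rw [IsScalarTower.algebraMap_apply A (A ⧸ Ideal.span {x}), ResidueField.algebraMap_eq,
        residue_eq_zero_iff]
      exact map_nonunit (algebraMap A (A ⧸ Ideal.span {x})) c hc
    rw [this, zero_mul]
  have hr₀ : (Ideal.span {x} • ⊤ : Submodule A (maximalIdeal A)) ≤ LinearMap.ker r₀ := by
    rw [Submodule.smul_le]
    intro c hc e _
    rw [LinearMap.mem_ker, map_smul]
    exact hkill c ((Ideal.span_singleton_le_iff_mem _).mpr hxm hc) _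
  let r : (maximalIdeal A ⧸ (Ideal.span {x} • ⊤ : Submodule A (maximalIdeal A))) →ₗ[A ⧸ Ideal.span {x}]
      ResidueField (A ⧸ Ideal.span {x}) :=
    (Submodule.liftQ _ r₀ hr₀).extendScalarsOfSurjective Ideal.Quotient.mk_surjective
  -- the section
  let xbar : maximalIdeal A ⧸ (Ideal.span {x} • ⊤ : Submodule A (maximalIdeal A)) :=
    Submodule.Quotient.mk ⟨x, hxm⟩
  have hi₀ : (maximalIdeal (A ⧸ Ideal.span {x}) : Submodule (A ⧸ Ideal.span {x}) (A ⧸ Ideal.span {x})) ≤
      LinearMap.ker (LinearMap.toSpanSingleton (A ⧸ Ideal.span {x}) _ xbar) := by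
    intro b hb
    obtain ⟨a, rfl⟩ := Ideal.Quotient.mk_surjective b
    have ha : a ∈ maximalIdeal A := by
      by_contra hna
      have hu : IsUnit a := by
        by_contra hnu
        exact hna ((mem_maximalIdeal a).mpr hnu)
      exact (mem_maximalIdeal _).mp hb (hu.map (Ideal.Quotient.mk (Ideal.span {x})))
    rw [LinearMap.mem_ker, LinearMap.toSpanSingleton_apply]
    show Ideal.Quotient.mk (Ideal.span {x}) a • (Submodule.Quotient.mk ⟨x, hxm⟩ :
      maximalIdeal A ⧸ (Ideal.span {x} • ⊤ : Submodule A (maximalIdeal A))) = 0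
    have : Ideal.Quotient.mk (Ideal.span {x}) a • (Submodule.Quotient.mk ⟨x, hxm⟩ :
        maximalIdeal A ⧸ (Ideal.span {x} • ⊤ : Submodule A (maximalIdeal A))) =
        Submodule.Quotient.mk (a • (⟨x, hxm⟩ : maximalIdeal A)) := rfl
    rw [this, Submodule.Quotient.mk_eq_zero]
    have h2 : a • (⟨x, hxm⟩ : maximalIdeal A) = x • (⟨a, ha⟩ : maximalIdeal A) := by
      ext; simp [mul_comm]
    rw [h2]
    exact Submodule.smul_mem_smul (Ideal.mem_span_singleton_self x) Submodule.mem_top
  let i : ResidueField (A ⧸ Ideal.span {x}) →ₗ[A ⧸ Ideal.span {x}]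
      (maximalIdeal A ⧸ (Ideal.span {x} • ⊤ : Submodule A (maximalIdeal A))) :=
    Submodule.liftQ _ (LinearMap.toSpanSingleton (A ⧸ Ideal.span {x}) _ xbar) hi₀
  have hri : r ∘ₗ i = LinearMap.id := by
    apply Submodule.linearMap_qext
    apply LinearMap.ext_ring
    show r (i (Submodule.Quotient.mk 1)) = Submodule.Quotient.mk 1
    have h1 : i (Submodule.Quotient.mk 1) = xbar := by
      show (LinearMap.toSpanSingleton (A ⧸ Ideal.span {x}) _ xbar) 1 = xbar
      rw [LinearMap.toSpanSingleton_apply, one_smul]
    rw [h1]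
    show r₀ ⟨x, hxm⟩ = _
    show algebraMap (ResidueField A) (ResidueField (A ⧸ Ideal.span {x}))
      (ψ ((maximalIdeal A).toCotangent ⟨x, hxm⟩)) = _
    rw [hψ, map_one]
    rfl
  let R : Retract (ModuleCat.of (A ⧸ Ideal.span {x}) (ResidueField (A ⧸ Ideal.span {x})))
      (ModuleCat.of (A ⧸ Ideal.span {x})
        (maximalIdeal A ⧸ (Ideal.span {x} • ⊤ : Submodule A (maximalIdeal A)))) :=
    { i := ModuleCat.ofHom i
      r := ModuleCat.ofHom r
      retract := by
        rw [← ModuleCat.ofHom_comp, hri]
        rfl }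
  exact R.hasProjectiveDimensionLT n

end retract

section main

lemma exists_nat_ringKrullDim (R : Type*) [CommRing R] [IsNoetherianRing R] [IsLocalRing R] :
    ∃ n : ℕ, ringKrullDim R = n := by
  have h1 := ringKrullDim_ne_bot (R := R)
  have h2 := ringKrullDim_ne_top (R := R)
  obtain ⟨a, ha⟩ := WithBot.ne_bot_iff_exists.mp h1
  rw [← ha] at h2 ⊢
  have h3 : a ≠ ⊤ := fun h => h2 (by rw [h]; rfl)
  obtain ⟨n, hn⟩ := ENat.ne_top_iff_exists.mp h3
  exact ⟨n, by rw [← hn]; rfl⟩

theorem isRegularLocalRing_of_hasProjectiveDimensionLT_aux :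
    ∀ (d : ℕ) (A : Type u) [CommRing A] [IsLocalRing A] [IsNoetherianRing A],
      ringKrullDim A = d → ∀ n : ℕ,
      HasProjectiveDimensionLT (ModuleCat.of A (ResidueField A)) n → IsRegularLocalRing A := by
  intro d
  induction d using Nat.strong_induction_on with
  | _ d IH =>
  intro A _ _ _ hd n h
  by_cases hass : maximalIdeal A ∈ associatedPrimes A A
  · have h0 := maximalIdeal_eq_bot_of_mem_associatedPrimes hass n h
    apply IsRegularLocalRing.of_spanFinrank_maximalIdeal_le
    rw [h0, Submodule.spanFinrank_bot, hd]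
    exact_mod_cast Nat.zero_le d
  · obtain ⟨x, hxm, hx2, hxnz⟩ := exists_nonZeroDivisor_notMem_sq hass
    have hne : Ideal.span {x} ≠ ⊤ := by
      intro htop
      have : (1 : A) ∈ maximalIdeal A :=
        (Ideal.span_singleton_le_iff_mem _).mpr hxm (htop ▸ Submodule.mem_top)
      exact (maximalIdeal.isMaximal A).ne_top ((Ideal.eq_top_iff_one _).mpr this)
    haveI : Nontrivial (A ⧸ Ideal.span {x}) := Ideal.Quotient.nontrivial_iff.mpr hne
    haveI : IsLocalRing (A ⧸ Ideal.span {x}) :=
      IsLocalRing.of_surjective' (Ideal.Quotient.mk _) Ideal.Quotient.mk_surjective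
    have hle : ringKrullDim (A ⧸ Ideal.span {x}) + 1 ≤ ringKrullDim A :=
      ringKrullDim_quotient_succ_le_of_nonZeroDivisor hxnz
    have hge : ringKrullDim A ≤ ringKrullDim (A ⧸ Ideal.span {x}) + 1 := by
      have := ringKrullDim_le_ringKrullDim_quotient_add_card ({x} : Finset A) (by
        rw [Finset.coe_singleton, Set.singleton_subset_iff, ringJacobson_eq_maximalIdeal]
        exact hxm)
      rw [Finset.coe_singleton, Finset.card_singleton] at this
      exact_mod_cast this
    obtain ⟨d', hd'⟩ := exists_nat_ringKrullDim (A ⧸ Ideal.span {x})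
    have hdd : d' + 1 = d := by
      have h1 : ((d' + 1 : ℕ) : WithBot ℕ∞) = (d : WithBot ℕ∞) := by
        rw [← hd, Nat.cast_add, Nat.cast_one, ← hd']
        exact le_antisymm hle hge
      exact_mod_cast h1
    -- projective dimension of the residue field of the quotient
    have hn1 : HasProjectiveDimensionLT (ModuleCat.of A (ResidueField A)) (n + 1) :=
      hasProjectiveDimensionLT_of_ge _ n (n + 1) (by omega)
    have hm : HasProjectiveDimensionLT (ModuleCat.of A (maximalIdeal A)) (n + 1) :=
      hasProjectiveDimensionLT_of_finite_of_residueField n hn1 (maximalIdeal A)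
    have hxA : IsSMulRegular A x := (isRegular_iff_mem_nonZeroDivisors.mpr hxnz).left.isSMulRegular
    have hxE : IsSMulRegular (maximalIdeal A) x := hxA.submodule _ x
    have hq := hasProjectiveDimensionLT_quot x hxA (n + 1) (maximalIdeal A) hxE hm
    have hk := hasProjectiveDimensionLT_residueField_quotient x hxm hx2 (n + 1) hq
    haveI hB : IsRegularLocalRing (A ⧸ Ideal.span {x}) :=
      IH d' (by omega) (A ⧸ Ideal.span {x}) hd' (n + 1) hk
    -- lift regularity
    let xs : Fin 1 → maximalIdeal A := fun _ => ⟨x, hxm⟩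
    have hJ : Ideal.span (Set.range fun i => (xs i : A)) = Ideal.span {x} := by
      congr 1
      ext a
      simp [xs]
    have key := RegLocal.regular_of_quotient_regular A 1 xs
    rw [hJ] at key
    exact (key (by rw [hd', hd, ← hdd]; push_cast; rfl)).1

/-- **Serre's theorem** (converse direction): a Noetherian local ring whose residue field has
finite projective dimension is regular. -/
theorem isRegularLocalRing_of_hasProjectiveDimensionLT_residueField
    (A : Type u) [CommRing A] [IsLocalRing A] [IsNoetherianRing A] (n : ℕ)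
    (h : HasProjectiveDimensionLT (ModuleCat.of A (ResidueField A)) n) : IsRegularLocalRing A := by
  obtain ⟨d, hd⟩ := exists_nat_ringKrullDim A
  exact isRegularLocalRing_of_hasProjectiveDimensionLT_aux d A hd n h

end main

end Groth.Agent.Lib.Helper26.SerreReg
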