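import Groth.Agent.Lib.Helper26.HomShSurj

/-!
# Surjectivity of `𝓗om(F, G)_x → Hom(F_x, G_x)` for finitely presented `F` (helper26)
-/

set_option autoImplicit false
set_option linter.style.haveILetI false
set_option linter.unusedSectionVars false
universe u
open CategoryTheory CategoryTheory.Limits AlgebraicGeometry TopologicalSpace Opposite

namespace Groth.Agent.Lib.Helper26.HomShSurj

open Groth.Agent.Lib.Helper3 Groth.Agent.Lib.Helper3.QCSec Groth.Agent.Lib.Helper17

variable {X : Scheme.{u}}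

theorem evalStalk_surjective (F G : X.Modules) (hF : CohB1.IsFP F) (x : X) :
    Function.Surjective (RefHull.evalStalk F G x) := by
  haveI : SheafOfModules.IsFinitePresentation (R := X.ringCatSheaf) F := hF
  haveI : F.IsQuasicoherent := inferInstance
  intro lam
  obtain ⟨W, hW, hxW⟩ := QCProps.exists_affine_nbhd x
  obtain ⟨V, hVW, hxV, μ, hμs, hμg⟩ := exists_local_map hW F G x hxW lam
  have hfam : ∀ y : V, ∃ l : RefHull.StalkHom F G y.1,
      ∀ m, l (F.presheaf.germ W y.1 (hVW y.2) m) = G.presheaf.germ V y.1 y.2 (μ m) := by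
    intro y
    refine exists_stalk_lift hW F y.1 (hVW y.2) (G.presheaf.stalk y.1)
      ((G.presheaf.germ V y.1 y.2).hom.comp μ) ?_
    intro a m
    change G.presheaf.germ V y.1 y.2 (μ (a • m)) = _ • G.presheaf.germ V y.1 y.2 (μ m)
    rw [hμs, QS.germ_smul G y.1 y.2]
    congr 1
    exact TopCat.Presheaf.germ_res_apply X.presheaf (homOfLE hVW) y.1 y.2 a
  choose f hf using hfam
  have hloc : RefHull.IsLocSect F G f := by
    intro V'' i m' z
    have hzW : z.1 ∈ W := hVW (i.le z.2)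
    have hV''W : V'' ≤ W := i.le.trans hVW
    obtain ⟨s, hs, m0, hsm⟩ := StalkKit.exists_germ_smul_eq hW z.1 hzW F
      (F.presheaf.germ V'' z.1 z.2 m')
    have h1 : F.presheaf.germ V'' z.1 z.2 (rres X hV''W s • m') =
        F.presheaf.germ V'' z.1 z.2 (res F hV''W m0) := by
      have e1 : X.presheaf.germ V'' z.1 z.2 (rres X hV''W s) = X.presheaf.germ W z.1 hzW s :=
        TopCat.Presheaf.germ_res_apply X.presheaf (homOfLE hV''W) z.1 z.2 s
      have e2 : F.presheaf.germ V'' z.1 z.2 (res F hV''W m0) = F.presheaf.germ W z.1 hzW m0 :=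
        TopCat.Presheaf.germ_res_apply F.presheaf (homOfLE hV''W) z.1 z.2 m0
      rw [QS.germ_smul F z.1 z.2, e1, e2]
      exact hsm
    obtain ⟨W1, hzW1, i1, i2, hres⟩ := TopCat.Presheaf.germ_eq F.presheaf z.1 z.2 z.2 _ _ h1
    let W' : X.Opens := W1 ⊓ X.basicOpen s
    have hzW' : z.1 ∈ W' :=
      ⟨hzW1, (X.mem_basicOpen s z.1 hzW).2 (StalkKit.isUnit_germ hW z.1 hzW s hs)⟩
    have hW'V'' : W' ≤ V'' := inf_le_left.trans i1.le
    have hW'V : W' ≤ V := hW'V''.trans i.le
    have hW'W : W' ≤ W := hW'V.trans hVW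
    have hsu : IsUnit (rres X hW'W s) := isUnit_rres_of_le_basicOpen s hW'W inf_le_right
    refine ⟨W', hzW', homOfLE hW'V'', (hsu.unit⁻¹ : (Γ(X, W'))ˣ).1 • res G hW'V (μ m0),
      fun y => ?_⟩
    have hyV : y.1 ∈ V := hW'V y.2
    have hyW : y.1 ∈ W := hVW hyV
    have hyV'' : y.1 ∈ V'' := hW'V'' y.2
    have hyW1 : y.1 ∈ W1 := y.2.1
    have huy : IsUnit (X.presheaf.germ W y.1 hyW s) := (X.mem_basicOpen s y.1 hyW).1 y.2.2
    apply huy.smul_left_cancel.mp
    -- left side
    have hL : X.presheaf.germ W y.1 hyW s • F.presheaf.germ V'' y.1 hyV'' m' =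
        F.presheaf.germ W y.1 hyW m0 := by
      have h2 := congrArg (F.presheaf.germ W1 y.1 hyW1) hres
      rw [TopCat.Presheaf.germ_res_apply, TopCat.Presheaf.germ_res_apply,
        QS.germ_smul F y.1 hyV''] at h2
      have e1 : X.presheaf.germ V'' y.1 hyV'' (rres X hV''W s) = X.presheaf.germ W y.1 hyW s :=
        TopCat.Presheaf.germ_res_apply X.presheaf (homOfLE hV''W) y.1 hyV'' s
      have e2 : F.presheaf.germ V'' y.1 hyV'' (res F hV''W m0) = F.presheaf.germ W y.1 hyW m0 :=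
        TopCat.Presheaf.germ_res_apply F.presheaf (homOfLE hV''W) y.1 hyV'' m0
      rw [e1, e2] at h2
      exact h2
    have hR : X.presheaf.germ W y.1 hyW s •
        G.presheaf.germ W' y.1 y.2 ((hsu.unit⁻¹ : (Γ(X, W'))ˣ).1 • res G hW'V (μ m0)) =
        G.presheaf.germ V y.1 hyV (μ m0) := by
      have e1 : X.presheaf.germ W y.1 hyW s = X.presheaf.germ W' y.1 y.2 (rres X hW'W s) :=
        (TopCat.Presheaf.germ_res_apply X.presheaf (homOfLE hW'W) y.1 y.2 s).symm
      rw [e1, ← QS.germ_smul G y.1 y.2, smul_smul, IsUnit.mul_val_inv, one_smul]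
      exact TopCat.Presheaf.germ_res_apply G.presheaf (homOfLE hW'V) y.1 y.2 (μ m0)
    rw [hR, ← map_smul]
    have hL' : X.presheaf.germ W y.1 hyW s • F.presheaf.germ V'' y.1 (hW'V'' y.2) m' =
        F.presheaf.germ W y.1 hyW m0 := hL
    rw [hL']
    exact hf ⟨y.1, hyV⟩ m0
  let g : Γ(RefHull.homSh F G, V) := ⟨f, hloc⟩
  refine ⟨(RefHull.homSh F G).presheaf.germ V x hxV g, ?_⟩
  rw [RefHull.evalStalk_germ]
  apply LinearMap.ext
  intro t
  obtain ⟨s, hs, m, hsm⟩ := StalkKit.exists_germ_smul_eq hW x hxW F t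
  have hu := StalkKit.isUnit_germ hW x hxW s hs
  apply hu.smul_left_cancel.mp
  rw [← map_smul, ← map_smul, hsm]
  exact (hf ⟨x, hxV⟩ m).trans (hμg m)

theorem evalStalk_bijective (F G : X.Modules) (hF : CohB1.IsFP F) (x : X) :
    Function.Bijective (RefHull.evalStalk F G x) := by
  haveI : SheafOfModules.IsFinitePresentation (R := X.ringCatSheaf) F := hF
  exact ⟨Groth.Agent.Lib.Helper22.HomShStalk.evalStalk_injective F G inferInstance x,
    evalStalk_surjective F G hF x⟩

end Groth.Agent.Lib.Helper26.HomShSurj
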