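import Groth.Prelude.Def_RefHull

/-!
# A morphism of `O_X`-modules with bijective stalk maps is an isomorphism (helper26)
-/

namespace Groth.Agent.Lib.Helper26.ModIso

open CategoryTheory AlgebraicGeometry TopologicalSpace Opposite

universe u

variable {X : Scheme.{u}} {M N : X.Modules}

theorem isIso_of_stalkMapₗ_bijective (φ : M ⟶ N)
    (h : ∀ x : X, Function.Bijective (RefHull.stalkMapₗ φ x)) : IsIso φ := by
  rw [Scheme.Modules.Hom.isIso_iff_isIso_app]
  intro U
  let F : TopCat.Sheaf Ab X := ⟨M.presheaf, M.isSheaf⟩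
  let G : TopCat.Sheaf Ab X := ⟨N.presheaf, N.isSheaf⟩
  let f : F ⟶ G := ⟨φ.mapPresheaf⟩
  have hb := TopCat.Presheaf.app_bijective_of_stalkFunctor_map_bijective f U (fun x _ => h x)
  exact (ConcreteCategory.isIso_iff_bijective _).mpr hb

end Groth.Agent.Lib.Helper26.ModIso
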