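import Groth.Agent.Lib.Helper26.RefShB
import Groth.Agent.Lib.Helper26.HomShSurj2
import Groth.Agent.Lib.Helper26.ModIso
import Groth.Agent.Lib.Helper9.StalkUnit
import Groth.Agent.Lib.Helper3.InvCoh
import Groth.Agent.Lib.Helper17.Hartogs
import Groth.Agent.Lib.Helper17.AffIso

/-!
# Reflexive modules: sheaf level versus stalk level (helper26)
-/

set_option autoImplicit false
set_option linter.style.haveILetI false
set_option linter.unusedSectionVars false
universe u
open CategoryTheory CategoryTheory.Limits AlgebraicGeometry TopologicalSpace Opposite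

namespace Groth.Agent.Lib.Helper26.RefSh

open Groth.Agent.Lib.Helper3 Groth.Agent.Lib.Helper3.QCSec Groth.Agent.Lib.Helper17

section algebra

variable {R M D O : Type*} [CommRing R] [AddCommGroup M] [Module R M] [AddCommGroup D]
  [Module R D] [AddCommGroup O] [Module R O]

/-- A pairing `M → Hom(D, O)` with `D ≃ Hom(M, O)` and `O ≃ R` is bijective iff `M` is reflexive. -/
theorem bijective_iff_isReflexive (e1 : D ≃ₗ[R] (M →ₗ[R] O)) (ι : O ≃ₗ[R] R)
    (B : M →ₗ[R] (D →ₗ[R] O)) (hB : ∀ v θ, B v θ = e1 θ v) :
    Function.Bijective B ↔ Module.IsReflexive R M := by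
  let eD : D ≃ₗ[R] Module.Dual R M := e1 ≪≫ₗ LinearEquiv.arrowCongr (LinearEquiv.refl R M) ι
  let Φ : (D →ₗ[R] O) ≃ₗ[R] Module.Dual R (Module.Dual R M) := LinearEquiv.arrowCongr eD ι
  have hΦ : ∀ v, Φ (B v) = Module.Dual.eval R M v := by
    intro v
    refine LinearMap.ext fun lam => ?_
    have h1 : Φ (B v) lam = ι (B v (eD.symm lam)) := rfl
    have h2 : ι (e1 (eD.symm lam) v) = eD (eD.symm lam) v := rfl
    rw [h1, hB, h2, LinearEquiv.apply_symm_apply]
    rfl
  have hcomp : (Module.Dual.eval R M : M → _) = Φ ∘ B := funext fun v => (hΦ v).symm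
  constructor
  · intro h
    refine ⟨?_⟩
    rw [hcomp]
    exact Φ.bijective.comp h
  · intro h
    have h3 := h.bijective_dual_eval'
    rw [hcomp] at h3
    exact (Function.Bijective.of_comp_iff' Φ.bijective B).mp h3

end algebra

variable {X : Scheme.{u}}

/-- The stalk of the structure module is the local ring. -/
noncomputable def unitEquiv (x : X) :
    ↑((Coh.structureModule X).presheaf.stalk x) ≃ₗ[X.presheaf.stalk x] X.presheaf.stalk x :=
  LinearEquiv.ofBijective
    { toFun := Groth.Agent.Lib.Helper9.StalkUnit.unitStalkHom x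
      map_add' := map_add _
      map_smul' := fun r a => Groth.Agent.Lib.Helper9.StalkUnit.unitStalkHom_smul x r a }
    ⟨Groth.Agent.Lib.Helper9.StalkUnit.unitStalkHom_injective x,
      Groth.Agent.Lib.Helper9.StalkUnit.unitStalkHom_surjective x⟩

theorem isCoh_structureModule (X : Scheme.{u}) : Coh.IsCoh (Coh.structureModule X) :=
  ⟨QCOpen.isQuasicoherent_structureModule X, InvCoh.isFiniteType_structureModule X⟩

theorem isCoh_dual [IsLocallyNoetherian X] {F : X.Modules} (hF : Coh.IsCoh F) :
    Coh.IsCoh (RefHull.dual F) :=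
  isCoh_homSh F _ hF (isCoh_structureModule X)

theorem isCoh_ddual [IsLocallyNoetherian X] {F : X.Modules} (hF : Coh.IsCoh F) :
    Coh.IsCoh (RefHull.ddual F) :=
  isCoh_dual (isCoh_dual hF)

theorem isFP_of_isCoh' [IsLocallyNoetherian X] {F : X.Modules} (hF : Coh.IsCoh F) :
    CohB1.IsFP F := by
  haveI : F.IsQuasicoherent := hF.1
  haveI : F.IsFiniteType := hF.2
  exact isFP_of_isCoh F

/-- The stalk of the sheaf Hom out of a finitely presented module. -/
noncomputable def stalkEquiv (F G : X.Modules) (hF : CohB1.IsFP F) (x : X) :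
    ↑((RefHull.homSh F G).presheaf.stalk x) ≃ₗ[X.presheaf.stalk x] RefHull.StalkHom F G x :=
  LinearEquiv.ofBijective (RefHull.evalStalk F G x) (HomShSurj.evalStalk_bijective F G hF x)

theorem evalStalk_comp_stalkMap (F : X.Modules) (x : X) (v : F.presheaf.stalk x) :
    RefHull.evalStalk (RefHull.dual F) (Coh.structureModule X) x
      (RefHull.stalkMapₗ (RefHull.bidualMap F) x v) = RefHull.bidualAt F x v := by
  obtain ⟨U, hx, s, rfl⟩ := TopCat.Presheaf.exists_germ_eq F.presheaf v
  rw [RefHull.stalkMapₗ_germ, RefHull.evalStalk_germ]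
  rfl

theorem stalkMapₗ_bijective_of_isIso {F G : X.Modules} (φ : F ⟶ G) [IsIso φ] (x : X) :
    Function.Bijective (RefHull.stalkMapₗ φ x) :=
  Hartogs.stalkMap_bijective_of_bijective_below φ ⊤
    (fun W _ => AffIso.bijective_app_of_isIso φ W) x trivial

/-- For a coherent module on a locally Noetherian scheme, the stalk of the biduality map at `x`
is bijective iff the stalk `F_x` is a reflexive module. -/
theorem stalkMap_bidual_bijective_iff [IsLocallyNoetherian X] {F : X.Modules} (hF : Coh.IsCoh F)
    (x : X) :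
    Function.Bijective (RefHull.stalkMapₗ (RefHull.bidualMap F) x) ↔
      RefHull.IsReflexiveAt F x := by
  have hFP := isFP_of_isCoh' hF
  have hDP := isFP_of_isCoh' (isCoh_dual hF)
  have he2 := HomShSurj.evalStalk_bijective (RefHull.dual F) (Coh.structureModule X) hDP x
  have hcomp : (RefHull.bidualAt F x : F.presheaf.stalk x → _) =
      (RefHull.evalStalk (RefHull.dual F) (Coh.structureModule X) x) ∘
        (RefHull.stalkMapₗ (RefHull.bidualMap F) x) :=
    funext fun v => (evalStalk_comp_stalkMap F x v).symm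
  have h1 : Function.Bijective (RefHull.stalkMapₗ (RefHull.bidualMap F) x) ↔
      Function.Bijective (RefHull.bidualAt F x) := by
    rw [hcomp]
    exact (Function.Bijective.of_comp_iff' he2 _).symm
  rw [h1]
  exact bijective_iff_isReflexive (stalkEquiv F (Coh.structureModule X) hFP x) (unitEquiv x)
    (RefHull.bidualAt F x) (fun v θ => rfl)

/-- A coherent module on a locally Noetherian scheme is reflexive iff all its stalks are. -/
theorem isReflexive_iff_forall [IsLocallyNoetherian X] {F : X.Modules} (hF : Coh.IsCoh F) :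
    RefHull.IsReflexive F ↔ ∀ x : X, RefHull.IsReflexiveAt F x := by
  constructor
  · intro h x
    haveI : IsIso (RefHull.bidualMap F) := h
    exact (stalkMap_bidual_bijective_iff hF x).mp (stalkMapₗ_bijective_of_isIso _ x)
  · intro h
    exact ModIso.isIso_of_stalkMapₗ_bijective _
      (fun x => (stalkMap_bidual_bijective_iff hF x).mpr (h x))

end Groth.Agent.Lib.Helper26.RefSh
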