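import Groth.Agent.Lib.Helper3.GlobGenFin
import Groth.Agent.Lib.Helper3.InvTwist
import Groth.Agent.Lib.Helper3.InvAmple
import Groth.Agent.Lib.Helper7.TwFun
import Groth.Agent.Lib.Helper23.Inverse
import Groth.Agent.Lib.Helper17.PullBasis
import Groth.Agent.Lib.Helper17.LocFreeOps
import Groth.Agent.Lib.Helper13.PerfLocal
import Groth.Prelude.Def_PerfAux
import Groth.Prelude.Def_MoreMor

/-!
# An ample family of invertible modules gives the resolution property
-/

set_option autoImplicit false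
universe u
open CategoryTheory CategoryTheory.Limits AlgebraicGeometry TopologicalSpace Opposite
open Scheme.Modules

namespace Groth.Agent.Lib.Helper26.AmpleRes

open Groth.Agent.Lib.Helper3 Groth.Agent.Lib.Helper3.QCSec Groth.Agent.Lib.Helper3.InvGen
  Groth.Agent.Lib.Helper3.InvTensor Groth.Agent.Lib.Helper3.InvTwist
  Groth.Agent.Lib.Helper3.InvMonoidal Groth.Agent.Lib.Helper3.InvCoh
  Groth.Agent.Lib.Helper3.InvAmple Groth.Agent.Lib.Helper7.TwFun

variable {X : Scheme.{u}}

/-- the trace of `X_s` on an affine open is a finite union of affine opens contained in `X_s` -/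
theorem exists_finite_affine_cover_inf {N : X.Modules} (hN : PicF.IsInvertible N)
    (s : Coh.structureModule X ⟶ N) {U : X.Opens} (hU : IsAffineOpen U) :
    ∃ (κ : Type u) (_ : Finite κ) (D : κ → X.Opens), (∀ a, IsAffineOpen (D a)) ∧
      (∀ a, D a ≤ U) ∧ (∀ a, D a ≤ CohB1.genLocus N s) ∧
      U ⊓ CohB1.genLocus N s ≤ ⨆ a, D a := by
  obtain ⟨κ, hκ, V, e, hVa, hVU, hcov, hg⟩ := exists_finite_gen_cover hN U hU.isCompact
  have hf : ∀ a, ∃ f : Γ(X, V a), sec s (V a) = f • e a := fun a => by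
    obtain ⟨f, hf⟩ := (hg a).self.exists_coord (sec s (V a))
    exact ⟨f, hf.symm⟩
  choose f hf using hf
  have hD : ∀ a, CohB1.genLocus N s ⊓ V a = X.basicOpen (f a) := fun a =>
    genLocus_inf_eq_basicOpen s (hg a) (f a) (hf a)
  refine ⟨κ, hκ, fun a => X.basicOpen (f a), fun a => (hVa a).basicOpen _,
    fun a => (X.basicOpen_le _).trans (hVU a), fun a => ?_, ?_⟩
  · change X.basicOpen (f a) ≤ _
    rw [← hD a]; exact inf_le_left
  · intro x hx
    obtain ⟨a, ha⟩ := Opens.mem_iSup.mp (hcov hx.1)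
    refine Opens.mem_iSup.mpr ⟨a, ?_⟩
    change x ∈ X.basicOpen (f a)
    rw [← hD a]
    exact ⟨hx.2, ha⟩

/-- a scheme covered by affine opens of the form `X_s`, `s` a section of an invertible module, is
quasi-separated -/
theorem quasiSeparatedSpace_of_cover {ι : Type u} (N : ι → X.Modules)
    (hN : ∀ i, PicF.IsInvertible (N i)) (s : ∀ i, Coh.structureModule X ⟶ N i)
    (haff : ∀ i, IsAffineOpen (CohB1.genLocus (N i) (s i)))
    (hcov : ∀ x : X, ∃ i, x ∈ CohB1.genLocus (N i) (s i)) : QuasiSeparatedSpace X := by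
  rw [quasiSeparatedSpace_iff_forall_affineOpens]
  intro U V
  -- the trace on each `X_{s_i}` is compact
  have hA : ∀ i, IsCompact ((U.1 : Set X) ∩ (V.1 : Set X) ∩
      (CohB1.genLocus (N i) (s i) : Set X)) := by
    intro i
    obtain ⟨κ, hκ, D, hDa, hDU, hDA, hDc⟩ := exists_finite_affine_cover_inf (hN i) (s i) U.2
    obtain ⟨κ', hκ', D', hDa', hDU', hDA', hDc'⟩ :=
      exists_finite_affine_cover_inf (hN i) (s i) V.2
    have heq : (U.1 : Set X) ∩ (V.1 : Set X) ∩ (CohB1.genLocus (N i) (s i) : Set X) =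
        ⋃ p : κ × κ', ((D p.1 : Set X) ∩ (D' p.2 : Set X)) := by
      ext x
      simp only [Set.mem_inter_iff, Set.mem_iUnion, SetLike.mem_coe]
      constructor
      · rintro ⟨⟨hxU, hxV⟩, hxA⟩
        obtain ⟨a, ha⟩ := Opens.mem_iSup.mp (hDc ⟨hxU, hxA⟩)
        obtain ⟨b, hb⟩ := Opens.mem_iSup.mp (hDc' ⟨hxV, hxA⟩)
        exact ⟨⟨a, b⟩, ha, hb⟩
      · rintro ⟨⟨a, b⟩, ha, hb⟩
        exact ⟨⟨hDU a ha, hDU' b hb⟩, hDA a ha⟩
    rw [heq]
    haveI := hκ
    haveI := hκ'
    apply isCompact_iUnion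
    rintro ⟨a, b⟩
    exact (haff i).isQuasiSeparated _ _ (hDA a) (D a).2 (hDa a).isCompact (hDA' b) (D' b).2
      (hDa' b).isCompact
  obtain ⟨t, ht⟩ := U.2.isCompact.elim_finite_subcover
    (fun i => (CohB1.genLocus (N i) (s i) : Set X)) (fun i => (CohB1.genLocus (N i) (s i)).2)
    (fun x _ => by
      obtain ⟨i, hi⟩ := hcov x
      exact Set.mem_iUnion.mpr ⟨i, hi⟩)
  have heq : (U.1 : Set X) ∩ (V.1 : Set X) = ⋃ i ∈ t, ((U.1 : Set X) ∩ (V.1 : Set X) ∩
      (CohB1.genLocus (N i) (s i) : Set X)) := by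
    ext x
    simp only [Set.mem_inter_iff, Set.mem_iUnion, SetLike.mem_coe]
    constructor
    · rintro ⟨hxU, hxV⟩
      obtain ⟨i, hit, hi⟩ := Set.mem_iUnion₂.mp (ht hxU)
      exact ⟨i, hit, ⟨hxU, hxV⟩, hi⟩
    · rintro ⟨i, -, h, -⟩
      exact h
  rw [heq]
  exact t.isCompact_biUnion fun i _ => hA i


/-- on an affine `X_s`, finitely many generators of `Γ(G, X_s)` extend, after twisting by a common
power of `s`, to global sections -/
theorem exists_generators_extension [CompactSpace X] [QuasiSeparatedSpace X]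
    {N : X.Modules} (hN : PicF.IsInvertible N) (s : Coh.structureModule X ⟶ N)
    (haff : IsAffineOpen (CohB1.genLocus N s))
    (G : X.Modules) [G.IsQuasicoherent] [G.IsFiniteType] :
    ∃ (k : ℕ) (T : Finset Γ(G, CohB1.genLocus N s)),
      Submodule.span Γ(X, CohB1.genLocus N s) (T : Set Γ(G, CohB1.genLocus N s)) = ⊤ ∧
      ∀ t ∈ T, ∃ t' : Γ(CohB1.tensorMod G (CohB1.tensorPow N k), ⊤),
        res _ le_top t' = tm G (CohB1.tensorPow N k) _ t (lpow N (sec s _) k) := by
  classical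
  haveI := QCProps.finite_sections G haff
  obtain ⟨T, hT⟩ := (Module.Finite.fg_top (R := Γ(X, CohB1.genLocus N s))
      (M := Γ(G, CohB1.genLocus N s)))
  have hext := fun (t : Γ(G, CohB1.genLocus N s)) =>
    exists_tm_lpow_extension hN s G ⊤ (by simpa using isCompact_univ)
      (fun U U' hU hU' _ _ => QuasiSeparatedSpace.inter_isCompact U.1 U'.1 U.2 hU.isCompact U'.2
        hU'.isCompact)
      (CohB1.genLocus N s) le_top le_rfl inf_le_right t
  choose n₀ hn₀ using hext
  exact ⟨T.sup n₀, T, hT, fun t ht => hn₀ t _ (Finset.le_sup (f := n₀) ht)⟩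

/-- untwisting a global section of a twist of `G` -/
noncomputable def untwist {N₁ N' : X.Modules}
    (e : CohB1.tensorMod N₁ N' ≅ Coh.structureModule X) (G : X.Modules)
    (t' : Γ(CohB1.tensorMod G N₁, ⊤)) :
    CohB1.tensorMod (Coh.structureModule X) N' ⟶ G :=
  (twR N').map (globalHom _ t') ≫ (cancelIso N₁ N' e G).hom

theorem untwist_app {N₁ N' : X.Modules}
    (e : CohB1.tensorMod N₁ N' ≅ Coh.structureModule X) (G : X.Modules)
    (t' : Γ(CohB1.tensorMod G N₁, ⊤)) (W : X.Opens) (m : Γ(G, W)) (l : Γ(N₁, W))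
    (ht' : res _ le_top t' = tm G N₁ W m l) (ν : Γ(N', W)) :
    (untwist e G t').app W (tm (Coh.structureModule X) N' W (ofFun W 1) ν) =
      toFun W (e.hom.app W (tm N₁ N' W l ν)) • m := by
  change (cancelIso N₁ N' e G).hom.app W
    ((tensorMap (globalHom _ t') (𝟙 N')).app W
      (tm (Coh.structureModule X) N' W (ofFun W 1) ν)) = _
  rw [tensorMap_tm]
  have h1 : (globalHom (CohB1.tensorMod G N₁) t').app W (ofFun W 1) = tm G N₁ W m l :=
    (sec_globalHom _ t' W).trans ht'
  rw [h1]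
  have h2 : (𝟙 N' : N' ⟶ N').app W ν = ν := rfl
  rw [h2, cancelIso_hom_tm]

theorem isUnit_of_isGen {N₁ N' : X.Modules}
    (e : CohB1.tensorMod N₁ N' ≅ Coh.structureModule X) {W : X.Opens} {l : Γ(N₁, W)}
    {ν : Γ(N', W)} (hl : IsGen N₁ W l) (hν : IsGen N' W ν) :
    IsUnit (toFun W (e.hom.app W (tm N₁ N' W l ν))) := by
  obtain ⟨a, ha⟩ := (isGen_tm hl hν).self.exists_coord (e.inv.app W (ofFun W 1))
  have h1 : e.hom.app W (a • tm N₁ N' W l ν) = ofFun W 1 := by
    rw [ha, iso_hom_inv_app]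
  rw [Scheme.Modules.Hom.app_smul] at h1
  have h2 : a * toFun W (e.hom.app W (tm N₁ N' W l ν)) = 1 := h1
  exact IsUnit.of_mul_eq_one_right a h2

open ZeroObject in
/-- finitely many maps from finite locally free modules factor through one map from a finite
locally free module -/
theorem exists_finLocFree_through {J : Type u} (P : J → X.Modules)
    (hP : ∀ a, FlatMod.IsFinLocFree (P a)) (G : X.Modules) (ψ : ∀ a, P a ⟶ G) (S : Finset J) :
    ∃ (E : X.Modules) (π : E ⟶ G), FlatMod.IsFinLocFree E ∧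
      ∀ a ∈ S, ∃ c : P a ⟶ E, c ≫ π = ψ a := by
  classical
  refine Finset.induction_on S ?_ ?_
  · exact ⟨0, 0, Groth.Agent.Lib.Helper13.PerfLocal.isFinLocFree_of_isZero (isZero_zero _), fun a ha => by simp at ha⟩
  · intro a S _ ih
    obtain ⟨E, π, hE, hc⟩ := ih
    refine ⟨(E ⊞ P a : X.Modules), biprod.desc π (ψ a),
      Groth.Agent.Lib.Helper17.LocFreeOps.isFinLocFree_biprod E (P a) hE (hP a), ?_⟩
    intro b hb
    rcases Finset.mem_insert.mp hb with rfl | hb
    · exact ⟨biprod.inr, biprod.inr_desc _ _⟩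
    · obtain ⟨c, hc⟩ := hc b hb
      exact ⟨c ≫ biprod.inl, by rw [Category.assoc, biprod.inl_desc, hc]⟩

/-- over an affine `X_s` a quasi-coherent module of finite type is generated by the image of a map
from a finite locally free module defined on all of `X` -/
theorem exists_local_resolution [CompactSpace X] [QuasiSeparatedSpace X]
    {N : X.Modules} (hN : PicF.IsInvertible N) (s : Coh.structureModule X ⟶ N)
    (haff : IsAffineOpen (CohB1.genLocus N s))
    (G : X.Modules) [G.IsQuasicoherent] [G.IsFiniteType] :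
    ∃ (E₀ : X.Modules) (π₀ : E₀ ⟶ G), FlatMod.IsFinLocFree E₀ ∧
      ∀ (E : X.Modules) (π : E ⟶ G) (c : E₀ ⟶ E), c ≫ π = π₀ →
        ∀ x ∈ CohB1.genLocus N s, ∃ (U : X.Opens) (_ : IsAffineOpen U),
          x ∈ U ∧ Function.Surjective (π.app U) := by
  classical
  obtain ⟨k, T, hT, hext⟩ := exists_generators_extension hN s haff G
  obtain ⟨N', hN', ⟨e⟩⟩ := Groth.Agent.Lib.Helper23.Inverse.exists_isInverseOf (isInvertible_tensorPow hN k)
  have ht' : ∀ j : {τ // τ ∈ T}, ∃ t' : Γ(CohB1.tensorMod G (CohB1.tensorPow N k), ⊤),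
      res _ le_top t' = tm G (CohB1.tensorPow N k) _ j.1 (lpow N (sec s _) k) :=
    fun j => hext j.1 j.2
  choose t' ht' using ht'
  obtain ⟨E₀, π₀, hE₀, hc₀⟩ := exists_finLocFree_through
    (fun _ : {τ // τ ∈ T} => CohB1.tensorMod (Coh.structureModule X) N')
    (fun _ => Groth.Agent.Lib.Helper17.PullBasis.isFinLocFree_of_isInvertible
      (isInvertible_tensorMod (isInvertible_structureModule X) hN'))
    G (fun j => untwist e G (t' j)) T.attach
  refine ⟨E₀, π₀, hE₀, ?_⟩
  intro E π c hcπ x hx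
  obtain ⟨W'', ν₀, hxW'', hν₀⟩ := exists_isGen hN' x
  obtain ⟨g, hgW, hxg⟩ := haff.exists_basicOpen_le
    (V := W'' ⊓ CohB1.genLocus N s) ⟨x, ⟨hxW'', hx⟩⟩ hx
  have hDA : X.basicOpen g ≤ CohB1.genLocus N s := X.basicOpen_le g
  have hDW : X.basicOpen g ≤ W'' := hgW.trans inf_le_left
  refine ⟨X.basicOpen g, haff.basicOpen g, hxg, ?_⟩
  have hl : IsGen (CohB1.tensorPow N k) (X.basicOpen g)
      (res _ hDA (lpow N (sec s _) k)) := (isGen_lpow (isGen_genLocus s) k).mono hDA
  have hν : IsGen N' (X.basicOpen g) (res N' hDW ν₀) := hν₀.mono hDW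
  have hu := isUnit_of_isGen e hl hν
  obtain ⟨v, hv⟩ := hu.exists_left_inv
  -- each `res τ` lies in the range
  have hτ : ∀ τ ∈ T, res G hDA τ ∈ LinearMap.range (QCProps.appₗ π (X.basicOpen g)) := by
    intro τ hτ
    obtain ⟨c', hc'⟩ : ∃ c' : CohB1.tensorMod (Coh.structureModule X) N' ⟶ E₀,
        c' ≫ π₀ = untwist e G (t' ⟨τ, hτ⟩) := hc₀ ⟨τ, hτ⟩ (Finset.mem_attach _ _)
    have hres : res _ le_top (t' ⟨τ, hτ⟩) =
        tm G (CohB1.tensorPow N k) (X.basicOpen g) (res G hDA τ)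
          (res _ hDA (lpow N (sec s _) k)) := by
      have h := congrArg (res _ hDA) (ht' ⟨τ, hτ⟩)
      rw [res_res, tm_res] at h
      exact h
    have happ := untwist_app e G (t' ⟨τ, hτ⟩) (X.basicOpen g) (res G hDA τ)
      (res _ hDA (lpow N (sec s _) k)) hres (res N' hDW ν₀)
    have h4 : π.app (X.basicOpen g) (c.app (X.basicOpen g) (c'.app (X.basicOpen g)
        (tm (Coh.structureModule X) N' (X.basicOpen g) (ofFun _ 1) (res N' hDW ν₀)))) =
        (untwist e G (t' ⟨τ, hτ⟩)).app (X.basicOpen g)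
          (tm (Coh.structureModule X) N' (X.basicOpen g) (ofFun _ 1) (res N' hDW ν₀)) := by
      rw [← hc', ← hcπ]; rfl
    have h3 : res G hDA τ = v • π.app (X.basicOpen g) (c.app (X.basicOpen g)
        (c'.app (X.basicOpen g)
        (tm (Coh.structureModule X) N' (X.basicOpen g) (ofFun _ 1) (res N' hDW ν₀)))) := by
      rw [h4, happ, smul_smul, hv, one_smul]
    rw [h3]
    exact Submodule.smul_mem _ v
      (LinearMap.mem_range_self (QCProps.appₗ π (X.basicOpen g)) _)
  have hR : ∀ z₀ ∈ Submodule.span Γ(X, CohB1.genLocus N s) (T : Set Γ(G, CohB1.genLocus N s)),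
      res G hDA z₀ ∈ LinearMap.range (QCProps.appₗ π (X.basicOpen g)) := by
    intro z₀ hmem
    refine Submodule.span_induction (p := fun z _ => res G hDA z ∈
      LinearMap.range (QCProps.appₗ π (X.basicOpen g))) ?_ ?_ ?_ ?_ hmem
    · intro τ hτ'; exact hτ τ hτ'
    · rw [res_zero]; exact Submodule.zero_mem _
    · intro a b _ _ ha hb
      have : res G hDA (a + b) = res G hDA a + res G hDA b := _root_.map_add _ a b
      rw [this]; exact Submodule.add_mem _ ha hb
    · intro r a _ ha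
      rw [res_smul]; exact Submodule.smul_mem _ _ ha
  intro z
  obtain ⟨m, z₀, hz₀⟩ :=
    (isLocSec_of_isQuasicoherent G haff g (X.basicOpen g) rfl hDA).surj z
  have hum : IsUnit (rres X hDA g ^ m) :=
    (RingedSpace.isUnit_res_basicOpen _ g).pow m
  obtain ⟨w, hw⟩ := hum.exists_left_inv
  have hz : z = w • res G hDA z₀ := by rw [hz₀, smul_smul, hw, one_smul]
  have hzR : z ∈ LinearMap.range (QCProps.appₗ π (X.basicOpen g)) := by
    rw [hz]
    exact Submodule.smul_mem _ w (hR z₀ (hT ▸ Submodule.mem_top))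
  obtain ⟨p, hp⟩ := hzR
  exact ⟨p, hp⟩

/-- **An ample family of invertible modules gives the resolution property.** -/
theorem hasResolutionProperty_of_hasAmpleFamily (hX : MoreMor.HasAmpleFamily X) :
    PerfAux.HasResolutionProperty X := by
  classical
  obtain ⟨hcpt, hX⟩ := hX
  haveI := hcpt
  choose L n s hinv hn hx haff using hX
  have hN : ∀ x, PicF.IsInvertible (CohB1.tensorPow (L x) (n x)) := fun x =>
    isInvertible_tensorPow (hinv x) (n x)
  haveI : QuasiSeparatedSpace X :=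
    quasiSeparatedSpace_of_cover (fun x => CohB1.tensorPow (L x) (n x)) hN s haff
      (fun x => ⟨x, hx x⟩)
  intro G hq hft
  haveI : G.IsQuasicoherent := hq
  haveI : G.IsFiniteType := hft
  obtain ⟨t, ht⟩ := isCompact_univ.elim_finite_subcover
    (fun y : X => (CohB1.genLocus (CohB1.tensorPow (L y) (n y)) (s y) : Set X))
    (fun y => (CohB1.genLocus (CohB1.tensorPow (L y) (n y)) (s y)).2)
    (fun x _ => Set.mem_iUnion.mpr ⟨x, hx x⟩)
  have hloc := fun y => exists_local_resolution (hN y) (s y) (haff y) G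
  choose E₀ π₀ hE₀ hsurj using hloc
  obtain ⟨E, π, hE, hc⟩ := exists_finLocFree_through E₀ hE₀ G π₀ t
  refine ⟨E, π, hE, ?_⟩
  apply QCExact.epi_of_surjective_on_affine_cover π
  intro x
  obtain ⟨y, hyt, hxy⟩ := Set.mem_iUnion₂.mp (ht (Set.mem_univ x))
  obtain ⟨c, hc⟩ := hc y hyt
  exact hsurj y E π c hc x hxy

end Groth.Agent.Lib.Helper26.AmpleRes
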