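import Mathlib

/-!
# Separated schemes: functions on `U ∩ V` are generated by those on `U` and `V` (helper26)
-/

set_option autoImplicit false
set_option linter.style.haveILetI false
universe u
open CategoryTheory CategoryTheory.Limits AlgebraicGeometry TopologicalSpace Opposite

namespace Groth.Agent.Lib.Helper26.SepGen

/-- Global sections of a fibre product of affine schemes are generated (as a ring) by the
pullbacks of global sections of the two factors.  (Copied from `Helper7.AnTop`, to avoid its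
imports.) -/
theorem pullback_sections_generated {A' B' R' : Scheme.{u}} [IsAffine A'] [IsAffine B']
    [IsAffine R'] (a : A' ⟶ R') (b : B' ⟶ R') :
    Subring.closure (Set.range (pullback.fst a b).appTop.hom ∪
      Set.range (pullback.snd a b).appTop.hom) = ⊤ := by
  set P := pullback a b with hP
  set Q : Subring Γ(P, ⊤) := Subring.closure (Set.range (pullback.fst a b).appTop.hom ∪
      Set.range (pullback.snd a b).appTop.hom) with hQ
  let incl : CommRingCat.of Q ⟶ Γ(P, ⊤) := CommRingCat.ofHom Q.subtype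
  let α : Γ(A', ⊤) ⟶ CommRingCat.of Q := CommRingCat.ofHom
    ((pullback.fst a b).appTop.hom.codRestrict Q
      (fun x => Subring.subset_closure (Or.inl ⟨x, rfl⟩)))
  let β : Γ(B', ⊤) ⟶ CommRingCat.of Q := CommRingCat.ofHom
    ((pullback.snd a b).appTop.hom.codRestrict Q
      (fun x => Subring.subset_closure (Or.inr ⟨x, rfl⟩)))
  have hα : α ≫ incl = (pullback.fst a b).appTop := rfl
  have hβ : β ≫ incl = (pullback.snd a b).appTop := rfl
  have hmono : Mono incl := ConcreteCategory.mono_of_injective incl Subtype.val_injective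
  have hcompat : a.appTop ≫ α = b.appTop ≫ β := by
    rw [← cancel_mono incl, Category.assoc, Category.assoc, hα, hβ,
      ← Scheme.Hom.comp_appTop, ← Scheme.Hom.comp_appTop, pullback.condition]
  have hcond : (Spec.map α ≫ A'.isoSpec.inv) ≫ a = (Spec.map β ≫ B'.isoSpec.inv) ≫ b := by
    rw [Category.assoc, Category.assoc, ← Scheme.isoSpec_inv_naturality a,
      ← Scheme.isoSpec_inv_naturality b, ← Category.assoc, ← Category.assoc, ← Spec.map_comp,
      ← Spec.map_comp, hcompat]
  let h : Spec (CommRingCat.of Q) ⟶ P := pullback.lift _ _ hcond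
  let e : P ⟶ Spec (CommRingCat.of Q) := P.isoSpec.hom ≫ Spec.map incl
  have heh : e ≫ h = 𝟙 P := by
    apply pullback.hom_ext
    · rw [Category.assoc, pullback.lift_fst, Category.id_comp]
      show (P.isoSpec.hom ≫ Spec.map incl) ≫ Spec.map α ≫ A'.isoSpec.inv = _
      rw [Category.assoc, ← Category.assoc (Spec.map incl), ← Spec.map_comp, hα,
        Scheme.isoSpec_inv_naturality, Iso.hom_inv_id_assoc]
    · rw [Category.assoc, pullback.lift_snd, Category.id_comp]
      show (P.isoSpec.hom ≫ Spec.map incl) ≫ Spec.map β ≫ B'.isoSpec.inv = _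
      rw [Category.assoc, ← Category.assoc (Spec.map incl), ← Spec.map_comp, hβ,
        Scheme.isoSpec_inv_naturality, Iso.hom_inv_id_assoc]
  rw [eq_top_iff]
  intro γ _
  have h1 : (e ≫ h).appTop γ = γ := by rw [heh]; rfl
  have h2 : (e ≫ h).appTop γ = P.isoSpec.hom.appTop ((Spec.map incl).appTop (h.appTop γ)) := rfl
  have h3 : P.isoSpec.hom.appTop = (Scheme.ΓSpecIso Γ(P, ⊤)).hom := Scheme.toSpecΓ_appTop P
  have h4 : ∀ δ, (Scheme.ΓSpecIso Γ(P, ⊤)).hom ((Spec.map incl).appTop δ) =
      incl ((Scheme.ΓSpecIso (CommRingCat.of Q)).hom δ) := by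
    intro δ
    rw [← CommRingCat.comp_apply, Scheme.ΓSpecIso_naturality]
    rfl
  rw [h2, h3, h4] at h1
  rw [← h1]
  exact ((Scheme.ΓSpecIso (CommRingCat.of Q)).hom (h.appTop γ)).2

variable {X : Scheme.{u}}

theorem topIso_hom_res {U V : X.Opens} (h : V ≤ U) :
    (X.homOfLE h).appTop ≫ V.topIso.hom = U.topIso.hom ≫ X.presheaf.map (homOfLE h).op := by
  have h1 : X.presheaf.map (homOfLE h).op ≫ V.topIso.inv =
      U.topIso.inv ≫ (X.homOfLE h).appTop := by
    rw [Scheme.homOfLE_appTop, Scheme.Opens.topIso_inv, Scheme.Opens.topIso_inv]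
    exact (X.presheaf.map_comp _ _).symm.trans
      ((congrArg X.presheaf.map (Subsingleton.elim _ _)).trans (X.presheaf.map_comp _ _))
  rw [← cancel_mono V.topIso.inv, Category.assoc, Iso.hom_inv_id, Category.comp_id,
    Category.assoc, h1, Iso.hom_inv_id_assoc]

/-- In a separated scheme the functions on the intersection of two affine opens are generated by
the restrictions of the functions on the two opens. -/
theorem closure_res_inf_eq_top [X.IsSeparated] {U V : X.Opens} (hU : IsAffineOpen U)
    (hV : IsAffineOpen V) :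
    Subring.closure
      (Set.range (X.presheaf.map (homOfLE (inf_le_left : U ⊓ V ≤ U)).op).hom ∪
        Set.range (X.presheaf.map (homOfLE (inf_le_right : U ⊓ V ≤ V)).op).hom) = ⊤ := by
  let f := terminal.from X
  haveI : IsAffine U.toScheme := hU
  haveI : IsAffine V.toScheme := hV
  let e : (U ⊓ V : X.Opens).toScheme ≅ pullback U.ι V.ι :=
    (isPullback_opens_inf U V).isoPullback
  have he1 : e.hom ≫ pullback.fst U.ι V.ι = X.homOfLE inf_le_left :=
    IsPullback.isoPullback_hom_fst _
  have he2 : e.hom ≫ pullback.snd U.ι V.ι = X.homOfLE inf_le_right :=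
    IsPullback.isoPullback_hom_snd _
  let md := pullback.mapDesc U.ι V.ι f
  have hmd1 : md ≫ pullback.fst _ _ = pullback.fst _ _ :=
    (pullback.lift_fst _ _ _).trans (Category.comp_id _)
  have hmd2 : md ≫ pullback.snd _ _ = pullback.snd _ _ :=
    (pullback.lift_snd _ _ _).trans (Category.comp_id _)
  obtain ⟨-, hsurj⟩ := IsClosedImmersion.isAffine_surjective_of_isAffine (f := md)
  have hgen := pullback_sections_generated (U.ι ≫ f) (V.ι ≫ f)
  let Ξ : Γ(pullback (U.ι ≫ f) (V.ι ≫ f), ⊤) ⟶ Γ(X, U ⊓ V) :=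
    md.appTop ≫ e.hom.appTop ≫ (U ⊓ V).topIso.hom
  have hΞ1 : (pullback.fst (U.ι ≫ f) (V.ι ≫ f)).appTop ≫ Ξ =
      U.topIso.hom ≫ X.presheaf.map (homOfLE (inf_le_left : U ⊓ V ≤ U)).op := by
    rw [← topIso_hom_res, ← he1, ← hmd1]
    simp only [Ξ, Scheme.Hom.comp_appTop, Category.assoc]
  have hΞ2 : (pullback.snd (U.ι ≫ f) (V.ι ≫ f)).appTop ≫ Ξ =
      V.topIso.hom ≫ X.presheaf.map (homOfLE (inf_le_right : U ⊓ V ≤ V)).op := by
    rw [← topIso_hom_res, ← he2, ← hmd2]
    simp only [Ξ, Scheme.Hom.comp_appTop, Category.assoc]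
  have hΞsurj : Function.Surjective Ξ.hom := by
    have h1 : Function.Surjective e.hom.appTop.hom := by
      intro w
      refine ⟨e.inv.appTop.hom w, ?_⟩
      have h : e.inv.appTop ≫ e.hom.appTop = 𝟙 _ := by
        rw [← Scheme.Hom.comp_appTop, Iso.hom_inv_id]
        rfl
      exact congrArg (fun φ => φ.hom w) h
    have h2 : Function.Surjective (U ⊓ V).topIso.hom.hom :=
      ((ConcreteCategory.isIso_iff_bijective (U ⊓ V).topIso.hom).mp inferInstance).2
    exact h2.comp (h1.comp hsurj)
  rw [eq_top_iff]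
  rintro z -
  obtain ⟨y, rfl⟩ := hΞsurj z
  have hy : y ∈ Subring.closure (Set.range (pullback.fst (U.ι ≫ f) (V.ι ≫ f)).appTop.hom ∪
      Set.range (pullback.snd (U.ι ≫ f) (V.ι ≫ f)).appTop.hom) := by
    rw [hgen]
    trivial
  induction hy using Subring.closure_induction with
  | mem y hy =>
    apply Subring.subset_closure
    rcases hy with ⟨a, rfl⟩ | ⟨a, rfl⟩
    · left
      exact ⟨U.topIso.hom.hom a, (congrArg (fun φ => φ.hom a) hΞ1).symm⟩
    · right
      exact ⟨V.topIso.hom.hom a, (congrArg (fun φ => φ.hom a) hΞ2).symm⟩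
  | zero => rw [map_zero]; exact Subring.zero_mem _
  | one => rw [map_one]; exact Subring.one_mem _
  | add a b _ _ ha hb => rw [map_add]; exact Subring.add_mem _ ha hb
  | neg a _ ha => rw [map_neg]; exact Subring.neg_mem _ ha
  | mul a b _ _ ha hb => rw [map_mul]; exact Subring.mul_mem _ ha hb

/-- Variant for an open `W` equal to `U ⊓ V`. -/
theorem closure_res_eq_top [X.IsSeparated] {U V W : X.Opens} (hU : IsAffineOpen U)
    (hV : IsAffineOpen V) (hWU : W ≤ U) (hWV : W ≤ V) (hW : U ⊓ V ≤ W) :
    Subring.closure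
      (Set.range (X.presheaf.map (homOfLE hWU).op).hom ∪
        Set.range (X.presheaf.map (homOfLE hWV).op).hom) = ⊤ := by
  obtain rfl : W = U ⊓ V := le_antisymm (le_inf hWU hWV) hW
  exact closure_res_inf_eq_top hU hV

end Groth.Agent.Lib.Helper26.SepGen
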