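import Mathlib

/-!
# Functions with total poles (helper26)

Commutative algebra behind the existence of ample invertible modules on one-dimensional
Noetherian separated schemes.  `B → C` is the localisation at an element `t` with `B / t` of finite
length (think: `B` the ring of an affine neighbourhood of a closed point `c` of a curve, `C` the ring
of the punctured neighbourhood).  If a ring `A` maps to `C` so that `C` is generated by `A` and `B`
(separatedness), then some `f ∈ A` has a pole along every branch at `c`: a power of `f` is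
invertible near `c` with inverse vanishing at `c`.

The proof avoids valuations: modulo `t` every element of `C` is integral over `B` (a length
count), which makes the Noether normalisation trick `y ↦ y + x ^ q` work, reducing the number of
generators to one; for one generator integrality gives the inverse.
-/

set_option autoImplicit false
set_option linter.style.haveILetI false
universe u v w
open Polynomial

namespace Groth.Agent.Lib.Helper26.TotalPole

section Length

variable {B : Type u} [CommRing B] {P : Type v} [AddCommGroup P] [Module B P]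

/-- Additivity of length along `A ≤ D ≤ ⊤`. -/
theorem length_quot_eq_add (A D : Submodule B P) (h : A ≤ D) :
    Module.length B (P ⧸ A) =
      Module.length B ↥(D.map A.mkQ) + Module.length B (P ⧸ D) := by
  refine Module.length_eq_add_of_exact (D.map A.mkQ).subtype
    (A.liftQ D.mkQ (by rw [Submodule.ker_mkQ]; exact h))
    (Submodule.subtype_injective _) ?_ ?_
  · intro y
    obtain ⟨z, rfl⟩ := D.mkQ_surjective y
    exact ⟨A.mkQ z, by simp⟩
  · rw [LinearMap.exact_iff, Submodule.ker_liftQ, Submodule.ker_mkQ, Submodule.range_subtype]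

/-- The image of a cyclic submodule in a quotient is a quotient of `B ⧸ I` when `I` kills the
generator modulo `A`. -/
theorem length_map_mkQ_span_le (A : Submodule B P) (m₀ : P) (I : Ideal B)
    (hI : ∀ b ∈ I, b • m₀ ∈ A) :
    Module.length B ↥((Submodule.span B {m₀}).map A.mkQ) ≤ Module.length B (B ⧸ I) := by
  let ψ : B →ₗ[B] P ⧸ A := A.mkQ ∘ₗ LinearMap.toSpanSingleton B P m₀
  have hψ : LinearMap.range ψ = (Submodule.span B {m₀}).map A.mkQ := by
    rw [LinearMap.range_comp, LinearMap.span_singleton_eq_range]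
  have hker : I ≤ LinearMap.ker ψ := by
    intro b hb
    rw [LinearMap.mem_ker]
    show A.mkQ (b • m₀) = 0
    rw [Submodule.mkQ_apply, Submodule.Quotient.mk_eq_zero]
    exact hI b hb
  let ψ' : B ⧸ I →ₗ[B] ↥(LinearMap.range ψ) := Submodule.liftQ I ψ.rangeRestrict (by
    intro b hb
    rw [LinearMap.mem_ker]
    apply Subtype.ext
    exact hker hb)
  have hsurj : Function.Surjective ψ' := by
    rintro ⟨y, b, rfl⟩
    exact ⟨Submodule.Quotient.mk b, rfl⟩
  rw [← hψ]
  exact Module.length_le_of_surjective ψ' hsurj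

/-- `ℓ(P/tP) ≤ ℓ(B/tB)` when `t` is injective on `P` and `P/Bm₀` has finite length. -/
theorem length_quot_smul_le (t : B) (hinj : Function.Injective (LinearMap.lsmul B P t))
    (m₀ : P) (hfin : Module.length B (P ⧸ Submodule.span B {m₀}) ≠ ⊤) :
    Module.length B (P ⧸ LinearMap.range (LinearMap.lsmul B P t)) ≤
      Module.length B (B ⧸ Ideal.span {t}) := by
  set M : Submodule B P := Submodule.span B {m₀} with hM
  set tP : Submodule B P := LinearMap.range (LinearMap.lsmul B P t) with htP
  set A : Submodule B P := M.map (LinearMap.lsmul B P t) with hA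
  have hAM : A ≤ M := by
    rintro _ ⟨z, hz, rfl⟩
    exact M.smul_mem t hz
  have hAtP : A ≤ tP := by
    rintro _ ⟨z, _, rfl⟩
    exact ⟨z, rfl⟩
  have h1 := length_quot_eq_add A M hAM
  have h2 := length_quot_eq_add A tP hAtP
  -- the image of `tP` in `P/A` is `P/M`
  let φ : P →ₗ[B] P ⧸ A := A.mkQ ∘ₗ LinearMap.lsmul B P t
  have hφr : LinearMap.range φ = tP.map A.mkQ := by
    rw [LinearMap.range_comp]
  have hφk : LinearMap.ker φ = M := by
    rw [LinearMap.ker_comp, Submodule.ker_mkQ, hA, Submodule.comap_map_eq_of_injective hinj]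
  have h3 : Module.length B ↥(tP.map A.mkQ) = Module.length B (P ⧸ M) := by
    rw [← hφr]
    exact ((Submodule.quotEquivOfEq _ _ hφk).symm.trans φ.quotKerEquivRange).length_eq.symm
  have h4 : Module.length B ↥(M.map A.mkQ) ≤ Module.length B (B ⧸ Ideal.span {t}) := by
    apply length_map_mkQ_span_le A m₀ (Ideal.span {t})
    intro b hb
    obtain ⟨c, rfl⟩ := Ideal.mem_span_singleton'.mp hb
    refine ⟨c • m₀, M.smul_mem c (Submodule.mem_span_singleton_self m₀), ?_⟩
    show t • c • m₀ = (c * t) • m₀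
    rw [smul_smul, mul_comm]
  rw [h3] at h2
  have h5 : Module.length B (P ⧸ tP) + Module.length B (P ⧸ M) ≤
      Module.length B (B ⧸ Ideal.span {t}) + Module.length B (P ⧸ M) := by
    calc Module.length B (P ⧸ tP) + Module.length B (P ⧸ M)
        = Module.length B (P ⧸ A) := by rw [h2, add_comm]
      _ = Module.length B ↥(M.map A.mkQ) + Module.length B (P ⧸ M) := h1
      _ ≤ _ := add_le_add_left h4 _
  exact (ENat.add_le_add_iff_right hfin).mp h5

/-- `B/t^n` has finite length when `B/t` has. -/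
theorem length_quot_pow_ne_top (t : B) (h : Module.length B (B ⧸ Ideal.span {t}) ≠ ⊤) (n : ℕ) :
    Module.length B (B ⧸ Ideal.span {t ^ n}) ≠ ⊤ := by
  induction n with
  | zero =>
    rw [pow_zero, Ideal.span_singleton_one]
    have : Subsingleton (B ⧸ (⊤ : Ideal B)) := Submodule.Quotient.subsingleton_iff.mpr rfl
    rw [Module.length_eq_zero]
    exact ENat.zero_ne_top
  | succ n ih =>
    have hle : (Ideal.span {t ^ (n + 1)} : Ideal B) ≤ Ideal.span {t} := by
      rw [Ideal.span_singleton_le_span_singleton]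
      exact ⟨t ^ n, by rw [pow_succ, mul_comm]⟩
    have h1 := length_quot_eq_add (P := B) (Ideal.span {t ^ (n + 1)}) (Ideal.span {t}) hle
    have h2 : Module.length B ↥((Submodule.span B {t}).map (Ideal.span {t ^ (n + 1)} : Submodule B B).mkQ) ≤
        Module.length B (B ⧸ Ideal.span {t ^ n}) := by
      apply length_map_mkQ_span_le
      intro b hb
      obtain ⟨c, rfl⟩ := Ideal.mem_span_singleton'.mp hb
      apply Ideal.mem_span_singleton'.mpr
      exact ⟨c, by rw [smul_eq_mul, pow_succ]; ring⟩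
    rw [h1]
    have h3 : Module.length B ↥((Submodule.span B {t}).map (Ideal.span {t ^ (n + 1)} : Submodule B B).mkQ) ≠ ⊤ :=
      fun e => ih (top_le_iff.mp (e ▸ h2))
    exact WithTop.add_ne_top.mpr ⟨h3, h⟩

/-- A finitely generated module killed by `τ` has finite length when `B/τ` has. -/
theorem length_ne_top_of_smul_eq_zero {N : Type v} [AddCommGroup N] [Module B N]
    [Module.Finite B N] (τ : B) (hτ : ∀ z : N, τ • z = 0)
    (hB : Module.length B (B ⧸ Ideal.span {τ}) ≠ ⊤) : Module.length B N ≠ ⊤ := by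
  classical
  obtain ⟨n, f, hf⟩ := Module.Finite.exists_fin' B N
  let p : Fin n → Submodule B B := fun _ => Ideal.span {τ}
  have hker : Submodule.pi Set.univ p ≤ LinearMap.ker f := by
    intro v hv
    rw [LinearMap.mem_ker]
    have hv' : ∀ i, ∃ c, c * τ = v i := fun i =>
      Ideal.mem_span_singleton'.mp ((Submodule.mem_pi.mp hv) i (Set.mem_univ i))
    rw [pi_eq_sum_univ v, map_sum]
    apply Finset.sum_eq_zero
    intro i _
    obtain ⟨c, hc⟩ := hv' i
    rw [map_smul, ← hc, mul_smul, smul_comm, hτ]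
    try rw [smul_zero]
  let g : ((Fin n → B) ⧸ Submodule.pi Set.univ p) →ₗ[B] N :=
    (Submodule.pi Set.univ p).liftQ f hker
  have hg : Function.Surjective g := by
    intro y
    obtain ⟨v, rfl⟩ := hf y
    exact ⟨Submodule.Quotient.mk v, rfl⟩
  have h1 := Module.length_le_of_surjective g hg
  have h2 : Module.length B ((Fin n → B) ⧸ Submodule.pi Set.univ p) =
      ∑ _i : Fin n, Module.length B (B ⧸ Ideal.span {τ}) := by
    rw [(Submodule.quotientPi p).length_eq]
    exact Module.length_pi_of_fintype B _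
  rw [h2] at h1
  have h3 : ∑ _i : Fin n, Module.length B (B ⧸ Ideal.span {τ}) ≠ ⊤ :=
    (WithTop.sum_lt_top.mpr fun i _ => lt_top_iff_ne_top.mpr hB).ne
  exact fun e => h3 (top_le_iff.mp (e ▸ h1))

/-- Pigeonhole for chains of submodules. -/
theorem exists_eq_succ_of_length_le (T : ℕ → Submodule B P) (hmono : Monotone T) (e : ℕ)
    (hlen : Module.length B (P ⧸ T 0) ≤ e) :
    ∃ j ≤ e, T j = T (j + 1) := by
  by_contra hne
  push Not at hne
  have hlt : ∀ j ≤ e, T j < T (j + 1) := fun j hj =>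
    lt_of_le_of_ne (hmono (Nat.le_succ j)) (hne j hj)
  have key : ∀ i ≤ e + 1, (i : ℕ∞) ≤ Order.coheight (T (e + 1 - i)) := by
    intro i
    induction i with
    | zero => intro _; exact zero_le
    | succ i ih =>
      intro hi
      have h1 := ih (by omega)
      have h2 : T (e + 1 - (i + 1)) < T (e + 1 - i) := by
        have := hlt (e + 1 - (i + 1)) (by omega)
        rwa [show e + 1 - (i + 1) + 1 = e + 1 - i by omega] at this
      have h3 := Order.coheight_add_one_le h2
      calc ((i + 1 : ℕ) : ℕ∞) = (i : ℕ∞) + 1 := by push_cast; rfl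
        _ ≤ Order.coheight (T (e + 1 - i)) + 1 := add_le_add_left h1 1
        _ ≤ _ := h3
  have h0 := key (e + 1) le_rfl
  rw [Nat.sub_self, ← Module.length_quotient] at h0
  have h4 := h0.trans hlen
  have h5 : e + 1 ≤ e := by exact_mod_cast h4
  omega

end Length

section Rel

variable {B : Type u} [CommRing B] {C : Type v} [CommRing C] [Algebra B C]

/-- Modulo `t`, every element of `C` is integral over `B`. -/
theorem exists_monic_aeval_eq (t : B) (ht : IsUnit (algebraMap B C t))
    (hfin : Module.length B (B ⧸ Ideal.span {t}) ≠ ⊤)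
    (x : C) (k : ℕ) (ξ : B) (hξ : algebraMap B C ξ = algebraMap B C t ^ k * x) :
    ∃ p g : B[X], p.Monic ∧ aeval x p = algebraMap B C t * aeval x g := by
  obtain ⟨e, he⟩ := ENat.ne_top_iff_exists.mp hfin
  let S : ℕ → Submodule B C := fun j => Submodule.span B (Set.range fun i : Fin j => x ^ (i : ℕ))
  have hSmono : Monotone S := by
    intro a b hab
    apply Submodule.span_mono
    rintro _ ⟨i, rfl⟩
    exact ⟨Fin.castLE hab i, rfl⟩
  set P₀ : Submodule B C := S (e + 1) with hP₀
  let tP₀ : Submodule B C := P₀.map (LinearMap.lsmul B C t)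
  let T : ℕ → Submodule B ↥P₀ := fun j => Submodule.comap P₀.subtype (S j ⊔ tP₀)
  have hTmono : Monotone T := fun a b hab =>
    Submodule.comap_mono (sup_le_sup_right (hSmono hab) _)
  have hT0 : T 0 = LinearMap.range (LinearMap.lsmul B ↥P₀ t) := by
    have hS0 : S 0 = ⊥ := by
      show Submodule.span B (Set.range fun i : Fin 0 => x ^ (i : ℕ)) = ⊥
      rw [Set.range_eq_empty, Submodule.span_empty]
    ext z
    simp only [T, hS0, bot_sup_eq, Submodule.mem_comap, Submodule.subtype_apply,
      LinearMap.mem_range]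
    constructor
    · rintro ⟨w, hw, hwz⟩
      exact ⟨⟨w, hw⟩, Subtype.ext hwz⟩
    · rintro ⟨w, rfl⟩
      exact ⟨w.1, w.2, rfl⟩
  have hinj : Function.Injective (LinearMap.lsmul B ↥P₀ t) := by
    intro a b hab
    have h1 : t • (a : C) = t • (b : C) := congrArg Subtype.val hab
    rw [Algebra.smul_def, Algebra.smul_def] at h1
    exact Subtype.ext (ht.mul_left_cancel h1)
  have h1mem : (1 : C) ∈ P₀ := Submodule.subset_span ⟨0, by simp⟩
  let m₀ : ↥P₀ := ⟨1, h1mem⟩
  have hτ : ∀ z ∈ P₀, ∃ b : B, algebraMap B C b = (t ^ (k * e)) • z := by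
    intro z hz
    induction hz using Submodule.span_induction with
    | mem z hz =>
      obtain ⟨i, rfl⟩ := hz
      refine ⟨ξ ^ (i : ℕ) * t ^ (k * (e - i)), ?_⟩
      have hke : k * e = k * (i : ℕ) + k * (e - i) := by
        have := i.2
        rw [← Nat.mul_add]
        congr 1
        omega
      rw [map_mul, map_pow, hξ, Algebra.smul_def, map_pow, map_pow, mul_pow, ← pow_mul, hke,
        pow_add]
      ring
    | zero => exact ⟨0, by simp⟩
    | add a b _ _ ha hb =>
      obtain ⟨a', ha'⟩ := ha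
      obtain ⟨b', hb'⟩ := hb
      exact ⟨a' + b', by rw [map_add, ha', hb', smul_add]⟩
    | smul c a _ ha =>
      obtain ⟨a', ha'⟩ := ha
      exact ⟨c * a', by rw [map_mul, ha', ← Algebra.smul_def, smul_comm]⟩
  have hfinQ : Module.length B (↥P₀ ⧸ Submodule.span B {m₀}) ≠ ⊤ := by
    haveI : Module.Finite B ↥P₀ :=
      Module.Finite.iff_fg.mpr (Submodule.fg_span (Set.finite_range _))
    apply length_ne_top_of_smul_eq_zero (t ^ (k * e)) _ (length_quot_pow_ne_top t hfin _)
    intro z
    obtain ⟨z, rfl⟩ := Submodule.Quotient.mk_surjective _ z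
    rw [← Submodule.Quotient.mk_smul, Submodule.Quotient.mk_eq_zero]
    obtain ⟨b, hb⟩ := hτ z.1 z.2
    rw [Submodule.mem_span_singleton]
    refine ⟨b, Subtype.ext ?_⟩
    show b • (1 : C) = t ^ (k * e) • (z : C)
    rw [← hb, Algebra.smul_def, mul_one]
  have hlen : Module.length B (↥P₀ ⧸ T 0) ≤ e := by
    rw [hT0, he]
    exact length_quot_smul_le t hinj m₀ hfinQ
  obtain ⟨j, hj, hjeq⟩ := exists_eq_succ_of_length_le T hTmono e hlen
  have hxj : x ^ j ∈ S (j + 1) := Submodule.subset_span ⟨Fin.last j, by simp⟩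
  have hxjP : x ^ j ∈ P₀ := hSmono (by omega) hxj
  have h2 : (⟨x ^ j, hxjP⟩ : ↥P₀) ∈ T (j + 1) := by
    show x ^ j ∈ S (j + 1) ⊔ tP₀
    exact Submodule.mem_sup_left hxj
  rw [← hjeq] at h2
  obtain ⟨a, ha, w', hw', hsum⟩ := Submodule.mem_sup.mp h2
  obtain ⟨w, hw, rfl⟩ := hw'
  obtain ⟨c, hc⟩ := (Submodule.mem_span_range_iff_exists_fun B).mp ha
  obtain ⟨d, hd⟩ := (Submodule.mem_span_range_iff_exists_fun B).mp hw
  refine ⟨X ^ j - ∑ i : Fin j, Polynomial.C (c i) * X ^ (i : ℕ), ∑ i : Fin (e + 1), Polynomial.C (d i) * X ^ (i : ℕ),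
    monic_X_pow_sub (degree_sum_fin_lt c), ?_⟩
  have hsum' : a + algebraMap B C t * w = x ^ j := by
    have := hsum
    simpa [Algebra.smul_def] using this
  simp only [map_sub, map_pow, aeval_X, map_sum, map_mul, aeval_C]
  rw [← hsum', ← hc, ← hd]
  simp only [Algebra.smul_def]
  ring

/-- The Noether-normalisation step: `x` is integral over `B[y + x^q]` for large `q`. -/
theorem isIntegral_adjoin_add_pow (t : B) (x y : C) (p g : B[X]) (hp : p.Monic)
    (hpg : aeval x p = algebraMap B C t * aeval x g) (k : ℕ) (η : B)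
    (hη : algebraMap B C η = algebraMap B C t ^ k * y) (q : ℕ) (hq0 : q ≠ 0)
    (hq : k * g.natDegree < k * p.natDegree + q) :
    IsIntegral (Algebra.adjoin B {y + x ^ q}) x := by
  rcases subsingleton_or_nontrivial C with hC | hC
  · exact ⟨1, monic_one, Subsingleton.elim _ _⟩
  set S := Algebra.adjoin B {y + x ^ q} with hS
  haveI : Nontrivial S := ⟨⟨0, 1, fun h => zero_ne_one (congrArg Subtype.val h)⟩⟩
  let w : S := ⟨y + x ^ q, Algebra.subset_adjoin rfl⟩
  let ι : B →+* S := algebraMap B S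
  have hm0 : (p.map ι).Monic := hp.map ι
  have hmw : (X ^ q - Polynomial.C w : S[X]).Monic := monic_X_pow_sub_C w hq0
  have hm1 : ((p.map ι) ^ k * (X ^ q - Polynomial.C w)).Monic := (hm0.pow k).mul hmw
  have hd1 : ((p.map ι) ^ k * (X ^ q - Polynomial.C w)).natDegree = k * p.natDegree + q := by
    rw [(hm0.pow k).natDegree_mul hmw, hm0.natDegree_pow, hp.natDegree_map,
      natDegree_X_pow_sub_C]
  have hd2 : (Polynomial.C (ι η) * (g.map ι) ^ k).natDegree ≤ k * g.natDegree := by
    refine (natDegree_C_mul_le _ _).trans (natDegree_pow_le.trans ?_)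
    exact Nat.mul_le_mul_left k (natDegree_map_le)
  have hdeg : (Polynomial.C (ι η) * (g.map ι) ^ k).degree <
      ((p.map ι) ^ k * (X ^ q - Polynomial.C w)).degree := by
    apply degree_lt_degree
    rw [hd1]
    exact lt_of_le_of_lt hd2 hq
  refine ⟨(p.map ι) ^ k * (X ^ q - Polynomial.C w) + Polynomial.C (ι η) * (g.map ι) ^ k,
    hm1.add_of_left hdeg, ?_⟩
  have hcomp : (algebraMap S C).comp ι = algebraMap B C := rfl
  have hw : algebraMap S C w = y + x ^ q := rfl
  have hιη : algebraMap S C (ι η) = algebraMap B C η := rfl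
  rw [eval₂_add, eval₂_mul, eval₂_mul, eval₂_pow, eval₂_pow, eval₂_sub, eval₂_pow, eval₂_X,
    eval₂_C, eval₂_C, eval₂_map, eval₂_map, hcomp, hw, hιη, ← aeval_def, ← aeval_def, hpg, hη]
  ring

theorem isIntegral_of_le {S₁ S₂ : Subalgebra B C} (h : S₁ ≤ S₂) {z : C}
    (hz : IsIntegral S₁ z) : IsIntegral S₂ z := by
  obtain ⟨p, hp, hpz⟩ := hz
  refine ⟨p.map (Subalgebra.inclusion h).toRingHom, hp.map _, ?_⟩
  rw [eval₂_map]
  exact hpz

theorem isIntegral_trans_of_le {S₁ S₂ : Subalgebra B C} (h12 : S₁ ≤ S₂)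
    (hint : ∀ y ∈ S₂, IsIntegral S₁ y) {z : C} (hz : IsIntegral S₂ z) : IsIntegral S₁ z := by
  letI : Algebra S₁ S₂ := (Subalgebra.inclusion h12).toRingHom.toAlgebra
  haveI : IsScalarTower S₁ S₂ C := IsScalarTower.of_algebraMap_eq (fun _ => rfl)
  haveI : Algebra.IsIntegral S₁ S₂ := ⟨fun y => by
    have h1 : IsIntegral S₁ (algebraMap S₂ C y) := hint y.1 y.2
    exact (isIntegral_algebraMap_iff (Subtype.val_injective)).mp h1⟩
  exact isIntegral_trans z hz

theorem isIntegral_of_mem_adjoin_insert {S₁ : Subalgebra B C} {x : C} (hx : IsIntegral S₁ x)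
    (T : Set C) (hT : T ⊆ S₁) : ∀ y ∈ Algebra.adjoin B (insert x T), IsIntegral S₁ y := by
  intro y hy
  induction hy using Algebra.adjoin_induction with
  | mem y hy =>
    rcases hy with rfl | hy
    · exact hx
    · exact isIntegral_algebraMap (x := (⟨y, hT hy⟩ : S₁))
  | algebraMap b => exact isIntegral_algebraMap (x := algebraMap B S₁ b)
  | add a b _ _ ha hb => exact ha.add hb
  | mul a b _ _ ha hb => exact ha.mul hb

theorem pow_sub_one_mem {I : Ideal B} {a : B} (ha : a - 1 ∈ I) (n : ℕ) : a ^ n - 1 ∈ I := by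
  rw [← geom_sum_mul a n]
  exact I.mul_mem_left _ ha

/-- From integrality of `C` over `B[F]` to an honest inverse of a power of `F`. -/
theorem exists_pow_mul_eq (t : B) [IsLocalization.Away t C] (F : C)
    (hint : ∀ z : C, IsIntegral (Algebra.adjoin B {F}) z) :
    ∃ (M : ℕ) (u σ : B), 0 < M ∧ u ∈ Ideal.span {t} ∧ σ - 1 ∈ Ideal.span {t} ∧
      F ^ M * algebraMap B C u = algebraMap B C σ := by
  set T := algebraMap B C t with hT
  have hTu : IsUnit T := IsLocalization.Away.algebraMap_isUnit t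
  obtain ⟨tinv, htinv⟩ := hTu.exists_right_inv
  set S := Algebra.adjoin B {F} with hS
  have hmem : tinv ∈ S := by
    haveI : Algebra.IsIntegral S C := ⟨hint⟩
    have hTS : T ∈ S := S.algebraMap_mem t
    by_contra hcon
    have hnu : ¬ IsUnit (⟨T, hTS⟩ : S) := by
      rintro ⟨v, hv⟩
      apply hcon
      have h1 : T * ((v⁻¹ : Sˣ) : S).1 = 1 := by
        have h0 : (⟨T, hTS⟩ : S) * ((v⁻¹ : Sˣ) : S) = 1 := by
          rw [← hv]
          exact v.mul_inv
        exact congrArg Subtype.val h0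
      have h2 : ((v⁻¹ : Sˣ) : S).1 = tinv := by
        calc ((v⁻¹ : Sˣ) : S).1 = (tinv * T) * ((v⁻¹ : Sˣ) : S).1 := by
              rw [mul_comm tinv, htinv, one_mul]
          _ = tinv := by rw [mul_assoc, h1, mul_one]
      rw [← h2]
      exact ((v⁻¹ : Sˣ) : S).2
    obtain ⟨𝔫, h𝔫max, h𝔫⟩ := exists_max_ideal_of_mem_nonunits hnu
    haveI := h𝔫max.isPrime
    have hker : (⊥ : Ideal C).comap (algebraMap S C) ≤ 𝔫 := by
      intro a ha
      have h0 : (a : C) = 0 := ha
      have h1 : a = 0 := Subtype.ext h0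
      rw [h1]
      exact 𝔫.zero_mem
    obtain ⟨Q, -, hQp, hQ⟩ := Ideal.exists_ideal_over_prime_of_isIntegral 𝔫 (⊥ : Ideal C) hker
    have hTQ : T ∈ Q := by
      have h3 : (⟨T, hTS⟩ : S) ∈ Q.comap (algebraMap S C) := hQ ▸ h𝔫
      exact h3
    exact hQp.ne_top (Ideal.eq_top_of_isUnit_mem _ hTQ hTu)
  rw [hS, Algebra.adjoin_singleton_eq_range_aeval] at hmem
  obtain ⟨ρ, hρ⟩ := hmem
  have hρ' : aeval F ρ = tinv := hρ
  set β₀ := ρ.coeff 0 with hβ₀
  set ρ₁ := ρ.divX with hρ₁
  have hdec := congrArg (aeval F) (divX_mul_X_add ρ)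
  simp only [map_add, map_mul, aeval_X, aeval_C] at hdec
  rw [hρ'] at hdec
  set σ₀ : B := 1 - t * β₀ with hσ₀
  set Gt : C := T * aeval F ρ₁ with hGt
  have hFG : F * Gt = algebraMap B C σ₀ := by
    rw [hσ₀, map_sub, map_one, map_mul, hGt]
    linear_combination T * hdec + htinv
  set N := ρ₁.natDegree with hN
  let ν : B[X] := ∑ i ∈ Finset.range (N + 1), Polynomial.C (ρ₁.coeff i * σ₀ ^ i) * X ^ (N - i)
  have hν : Gt ^ N * aeval F ρ₁ = aeval Gt ν := by
    rw [aeval_eq_sum_range, Finset.mul_sum]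
    simp only [ν, map_sum, map_mul, map_pow, aeval_C, aeval_X]
    apply Finset.sum_congr rfl
    intro i hi
    have hiN : i ≤ N := Nat.lt_succ_iff.mp (Finset.mem_range.mp hi)
    have hsplit : Gt ^ N = Gt ^ i * Gt ^ (N - i) := by
      rw [← pow_add]
      congr 1
      omega
    rw [Algebra.smul_def, ← hFG, hsplit]
    ring
  have hpow : Gt ^ (N + 1) = T * aeval Gt ν := by
    rw [← hν, pow_succ, hGt]
    ring
  have hνdeg : ν.natDegree ≤ N := by
    apply natDegree_sum_le_of_forall_le
    intro i _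
    exact (natDegree_C_mul_X_pow_le _ _).trans (Nat.sub_le _ _)
  have hGint : IsIntegral B Gt := by
    refine ⟨X ^ (N + 1) - Polynomial.C t * ν, monic_X_pow_sub ?_, ?_⟩
    · refine (degree_le_of_natDegree_le ((natDegree_C_mul_le _ _).trans hνdeg)).trans_lt ?_
      exact WithBot.coe_lt_coe.mpr (Nat.lt_succ_self N)
    · rw [eval₂_sub, eval₂_pow, eval₂_X, eval₂_mul, eval₂_C, ← aeval_def, hpow, sub_self]
  set 𝔑 := Algebra.adjoin B {Gt} with h𝔑
  obtain ⟨G₀, hG₀⟩ : (Subalgebra.toSubmodule 𝔑).FG := hGint.fg_adjoin_singleton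
  have hsurj : ∀ z : C, ∃ (n : ℕ) (a : B), z * T ^ n = algebraMap B C a :=
    IsLocalization.Away.surj t
  choose nn aa haa using hsurj
  classical
  let k' := G₀.sup nn
  have hk' : ∀ z ∈ Submodule.span B (G₀ : Set C), ∃ b : B, algebraMap B C b = T ^ k' * z := by
    intro z hz
    induction hz using Submodule.span_induction with
    | mem z hz =>
      refine ⟨t ^ (k' - nn z) * aa z, ?_⟩
      have hle : nn z ≤ k' := Finset.le_sup (Finset.mem_coe.mp hz)
      have hsplit : T ^ k' = T ^ (k' - nn z) * T ^ nn z := by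
        rw [← pow_add]
        congr 1
        omega
      rw [map_mul, map_pow, ← haa z, hsplit]
      ring
    | zero => exact ⟨0, by simp⟩
    | add a b _ _ ha hb =>
      obtain ⟨a', ha'⟩ := ha
      obtain ⟨b', hb'⟩ := hb
      exact ⟨a' + b', by rw [map_add, ha', hb', mul_add]⟩
    | smul c a _ ha =>
      obtain ⟨a', ha'⟩ := ha
      exact ⟨c * a', by rw [map_mul, ha', Algebra.smul_def]; ring⟩
  have hn₀ : aeval Gt ν ∈ 𝔑 := aeval_mem_adjoin_singleton B Gt
  have hn₀' : (aeval Gt ν) ^ (k' + 1) ∈ Submodule.span B (G₀ : Set C) := by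
    rw [hG₀]
    exact 𝔑.pow_mem hn₀ _
  obtain ⟨b, hb⟩ := hk' _ hn₀'
  refine ⟨(N + 1) * (k' + 1), t * b, σ₀ ^ ((N + 1) * (k' + 1)),
    Nat.mul_pos (Nat.succ_pos _) (Nat.succ_pos _),
    Ideal.mem_span_singleton'.mpr ⟨b, mul_comm _ _⟩, ?_, ?_⟩
  · apply pow_sub_one_mem
    exact Ideal.mem_span_singleton'.mpr ⟨-β₀, by rw [hσ₀]; ring⟩
  · calc F ^ ((N + 1) * (k' + 1)) * algebraMap B C (t * b)
        = F ^ ((N + 1) * (k' + 1)) * (T * aeval Gt ν) ^ (k' + 1) := by
          rw [map_mul, hb]
          ring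
      _ = F ^ ((N + 1) * (k' + 1)) * (Gt ^ (N + 1)) ^ (k' + 1) := by rw [hpow]
      _ = (F * Gt) ^ ((N + 1) * (k' + 1)) := by
          rw [← pow_mul]
          exact (mul_pow F Gt _).symm
      _ = algebraMap B C (σ₀ ^ ((N + 1) * (k' + 1))) := by rw [hFG, map_pow]

/-- The step used in the induction on the number of generators. -/
theorem exists_exponent (t : B) [IsLocalization.Away t C]
    (hfin : Module.length B (B ⧸ Ideal.span {t}) ≠ ⊤) (x y : C) :
    ∃ q₀ : ℕ, ∀ q, q₀ ≤ q → IsIntegral (Algebra.adjoin B {y + x ^ q}) x := by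
  have hTu : IsUnit (algebraMap B C t) := IsLocalization.Away.algebraMap_isUnit t
  obtain ⟨k, ξ, hξ⟩ := IsLocalization.Away.surj t x
  obtain ⟨k₂, η, hη⟩ := IsLocalization.Away.surj t y
  obtain ⟨p, g, hp, hpg⟩ := exists_monic_aeval_eq t hTu hfin x k ξ (by rw [← hξ, mul_comm])
  refine ⟨k₂ * g.natDegree + 1, fun q hq => ?_⟩
  exact isIntegral_adjoin_add_pow t x y p g hp hpg k₂ η (by rw [← hη, mul_comm]) q (by omega)
    (by omega)

theorem exists_finset_of_mem_adjoin_range {A : Type w} [CommRing A] (φ : A →+* C) {z : C}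
    (hz : z ∈ Algebra.adjoin B (Set.range φ)) :
    ∃ s : Finset A, z ∈ Algebra.adjoin B (φ '' (s : Set A)) := by
  classical
  induction hz using Algebra.adjoin_induction with
  | mem z hz =>
    obtain ⟨a, rfl⟩ := hz
    exact ⟨{a}, Algebra.subset_adjoin ⟨a, by simp, rfl⟩⟩
  | algebraMap b => exact ⟨∅, Subalgebra.algebraMap_mem _ b⟩
  | add a b _ _ ha hb =>
    obtain ⟨s₁, h₁⟩ := ha
    obtain ⟨s₂, h₂⟩ := hb
    refine ⟨s₁ ∪ s₂, Subalgebra.add_mem _ ?_ ?_⟩
    · exact Algebra.adjoin_mono (Set.image_mono (by simp)) h₁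
    · exact Algebra.adjoin_mono (Set.image_mono (by simp)) h₂
  | mul a b _ _ ha hb =>
    obtain ⟨s₁, h₁⟩ := ha
    obtain ⟨s₂, h₂⟩ := hb
    refine ⟨s₁ ∪ s₂, Subalgebra.mul_mem _ ?_ ?_⟩
    · exact Algebra.adjoin_mono (Set.image_mono (by simp)) h₁
    · exact Algebra.adjoin_mono (Set.image_mono (by simp)) h₂

end Rel

section Family

variable {A : Type u} [CommRing A] {𝒞 : Type w} [Finite 𝒞] {B C : 𝒞 → Type u}
  [∀ c, CommRing (B c)] [∀ c, CommRing (C c)] [∀ c, Algebra (B c) (C c)]
  (φ : ∀ c, A →+* C c)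

theorem exists_single_generator
    (hstep : ∀ c (x y : C c), ∃ q₀ : ℕ, ∀ q, q₀ ≤ q →
      IsIntegral (Algebra.adjoin (B c) {y + x ^ q}) x) :
    ∀ (n : ℕ) (s : Finset A), s.card ≤ n →
      (∀ c (z : C c), IsIntegral (Algebra.adjoin (B c) ((φ c) '' (s : Set A))) z) →
      ∃ f : A, ∀ c (z : C c), IsIntegral (Algebra.adjoin (B c) {φ c f}) z := by
  classical
  intro n
  induction n with
  | zero =>
    intro s hs hint
    have hs0 : s = ∅ := Finset.card_eq_zero.mp (Nat.le_zero.mp hs)
    subst hs0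
    refine ⟨0, fun c z => isIntegral_of_le ?_ (hint c z)⟩
    rw [Finset.coe_empty, Set.image_empty, Algebra.adjoin_empty]
    exact bot_le
  | succ n ih =>
    intro s hs hint
    by_cases h1 : s.card ≤ 1
    · rcases Nat.le_one_iff_eq_zero_or_eq_one.mp h1 with h0 | h1'
      · exact ih s (by omega) hint
      · obtain ⟨a, rfl⟩ := Finset.card_eq_one.mp h1'
        refine ⟨a, fun c z => ?_⟩
        have := hint c z
        rwa [Finset.coe_singleton, Set.image_singleton] at this
    · push Not at h1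
      obtain ⟨a₁, ha₁, a₂, ha₂, hne⟩ := Finset.one_lt_card.mp h1
      haveI := Fintype.ofFinite 𝒞
      choose q₀ hq₀ using fun c => hstep c (φ c a₁) (φ c a₂)
      let q := Finset.univ.sup q₀
      let wA : A := a₂ + a₁ ^ q
      let T : Finset A := (s.erase a₁).erase a₂
      let s' : Finset A := insert wA T
      have hcard : s'.card ≤ n := by
        have h2 : T.card = s.card - 2 := by
          rw [Finset.card_erase_of_mem (Finset.mem_erase.mpr ⟨hne.symm, ha₂⟩),
            Finset.card_erase_of_mem ha₁]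
          omega
        have h3 : s'.card ≤ T.card + 1 := Finset.card_insert_le wA T
        omega
      apply ih s' hcard
      intro c z
      set S₁ := Algebra.adjoin (B c) ((φ c) '' (s' : Set A)) with hS₁
      have hwS₁ : φ c wA ∈ S₁ :=
        Algebra.subset_adjoin ⟨wA, Finset.mem_coe.mpr (Finset.mem_insert_self _ _), rfl⟩
      have hx₁ : IsIntegral S₁ (φ c a₁) := by
        refine isIntegral_of_le ?_ (hq₀ c q (Finset.le_sup (Finset.mem_univ c)))
        apply Algebra.adjoin_le
        rintro _ rfl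
        have h3 : φ c a₂ + φ c a₁ ^ q = φ c wA := by simp [wA]
        rw [h3]
        exact hwS₁
      set S₂ := Algebra.adjoin (B c) (insert (φ c a₁) ((φ c) '' (s' : Set A))) with hS₂
      have h12 : S₁ ≤ S₂ := Algebra.adjoin_mono (Set.subset_insert _ _)
      have hs2 : Algebra.adjoin (B c) ((φ c) '' (s : Set A)) ≤ S₂ := by
        apply Algebra.adjoin_le
        rintro _ ⟨a, ha, rfl⟩
        by_cases e1 : a = a₁
        · subst e1
          exact Algebra.subset_adjoin (Set.mem_insert _ _)
        by_cases e2 : a = a₂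
        · subst e2
          have h3 : φ c a = φ c wA - φ c a₁ ^ q := by simp [wA]
          rw [h3]
          exact S₂.sub_mem (h12 hwS₁)
            (S₂.pow_mem (Algebra.subset_adjoin (Set.mem_insert _ _)) q)
        · apply h12
          apply Algebra.subset_adjoin
          exact ⟨a, Finset.mem_coe.mpr (Finset.mem_insert_of_mem
            (Finset.mem_erase.mpr ⟨e2, Finset.mem_erase.mpr ⟨e1, ha⟩⟩)), rfl⟩
      exact isIntegral_trans_of_le h12
        (isIntegral_of_mem_adjoin_insert hx₁ _ Algebra.subset_adjoin)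
        (isIntegral_of_le hs2 (hint c z))

/-- **Functions with total poles.**  `B c → C c` are localisations at `t c` with `B c / t c` of
finite length, and the images of `A` together with `B c` generate `C c`.  Then some `f ∈ A` is,
in every `C c`, a unit up to an element of `1 + (t c)`, with inverse a multiple of `t c`. -/
theorem exists_total_pole (t : ∀ c, B c) [∀ c, IsLocalization.Away (t c) (C c)]
    (hfin : ∀ c, Module.length (B c) (B c ⧸ Ideal.span {t c}) ≠ ⊤)
    (hgen : ∀ c, Algebra.adjoin (B c) (Set.range (φ c)) = ⊤) :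
    ∃ (f : A) (u σ : ∀ c, B c), (∀ c, u c ∈ Ideal.span {t c}) ∧
      (∀ c, σ c - 1 ∈ Ideal.span {t c}) ∧
      ∀ c, φ c f * algebraMap (B c) (C c) (u c) = algebraMap (B c) (C c) (σ c) := by
  classical
  haveI := Fintype.ofFinite 𝒞
  have hs : ∀ c, ∃ s : Finset A, ∀ z : C c, z ∈ Algebra.adjoin (B c) ((φ c) '' (s : Set A)) := by
    intro c
    have hTu : IsUnit (algebraMap (B c) (C c) (t c)) := IsLocalization.Away.algebraMap_isUnit (t c)
    obtain ⟨tinv, htinv⟩ := hTu.exists_right_inv
    have h1 : tinv ∈ Algebra.adjoin (B c) (Set.range (φ c)) := by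
      rw [hgen c]
      trivial
    obtain ⟨s, hs⟩ := exists_finset_of_mem_adjoin_range (φ c) h1
    refine ⟨s, fun z => ?_⟩
    obtain ⟨n, a, ha⟩ := IsLocalization.Away.surj (t c) z
    have h2 : z = algebraMap (B c) (C c) a * tinv ^ n := by
      calc z = z * (algebraMap (B c) (C c) (t c) * tinv) ^ n := by rw [htinv, one_pow, mul_one]
        _ = (z * algebraMap (B c) (C c) (t c) ^ n) * tinv ^ n := by ring
        _ = _ := by rw [ha]
    rw [h2]
    exact Subalgebra.mul_mem _ (Subalgebra.algebraMap_mem _ a) (Subalgebra.pow_mem _ hs n)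
  choose sc hsc using hs
  let s : Finset A := Finset.univ.biUnion sc
  have hint : ∀ c (z : C c), IsIntegral (Algebra.adjoin (B c) ((φ c) '' (s : Set A))) z := by
    intro c z
    have h1 : z ∈ Algebra.adjoin (B c) ((φ c) '' (s : Set A)) := by
      refine Algebra.adjoin_mono (Set.image_mono ?_) (hsc c z)
      intro a ha
      exact Finset.mem_coe.mpr (Finset.mem_biUnion.mpr ⟨c, Finset.mem_univ c, Finset.mem_coe.mp ha⟩)
    exact isIntegral_algebraMap (x := (⟨z, h1⟩ : Algebra.adjoin (B c) ((φ c) '' (s : Set A))))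
  obtain ⟨f, hf⟩ := exists_single_generator φ
    (fun c x y => exists_exponent (t c) (hfin c) x y) s.card s le_rfl hint
  have hM := fun c => exists_pow_mul_eq (t c) (φ c f) (hf c)
  choose M u σ hM0 hu hσ hrel using hM
  let Mtot : ℕ := ∏ c, M c
  let m : 𝒞 → ℕ := fun c => ∏ c' ∈ Finset.univ.erase c, M c'
  have hMm : ∀ c, M c * m c = Mtot := fun c => Finset.mul_prod_erase _ _ (Finset.mem_univ c)
  have hm0 : ∀ c, 0 < m c := fun c => Finset.prod_pos (fun c' _ => hM0 c')
  refine ⟨f ^ Mtot, fun c => u c ^ m c, fun c => σ c ^ m c, fun c => ?_, fun c => ?_, fun c => ?_⟩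
  · exact Ideal.pow_mem_of_mem _ (hu c) _ (hm0 c)
  · exact pow_sub_one_mem (hσ c) _
  · rw [map_pow, map_pow, map_pow, ← hMm c, pow_mul, ← mul_pow, hrel c]

end Family

end Groth.Agent.Lib.Helper26.TotalPole
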