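import Mathlib
import Groth.Agent.Lib.Helper3.InvGen
import Groth.Agent.Lib.Helper3.CocycleGlue
import Groth.Agent.Lib.Helper3.Cocycle
import Groth.Agent.Lib.Helper5.InvMod

/-!
# Extending an invertible module across charts (helper26)

For an open immersion `j : U' ⟶ X` and an invertible module `L` on `U'`:
* `isGenJ_restrict_of`, `isGenJ_of_restrict`: generators of `M.restrict j` versus generators of `M`;
* `exists_extension`: gluing lemma from a unit cocycle on a cover of `X`;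
* `exists_extension_of_charts`: `L` extends to `X` as soon as `X` is covered by `U'` and opens `P c`
  over which `L` is trivial, provided functions extend uniquely over pairwise intersections.
-/

set_option autoImplicit false
set_option linter.style.haveILetI false
set_option linter.unusedSectionVars false
universe u
open CategoryTheory CategoryTheory.Limits AlgebraicGeometry TopologicalSpace Opposite
open Scheme.Modules

namespace Groth.Agent.Lib.Helper26.ExtGlue

open Groth.Agent.Lib.Helper3 Groth.Agent.Lib.Helper3.QCSec Groth.Agent.Lib.Helper3.InvGen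

variable {X U' : Scheme.{u}} (j : U' ⟶ X) [IsOpenImmersion j]

theorem rsmulJ (M : X.Modules) (V : U'.Opens) (a : Γ(U', V)) (m : Γ(M.restrict j, V)) :
    a • m = (show Γ(M.restrict j, V) from
      ((j.appIso V).inv a) • (show Γ(M, j ''ᵁ V) from m)) := rfl

theorem res_restrict (M : X.Modules) {P Q : U'.Opens} (h : Q ≤ P) (s : Γ(M.restrict j, P)) :
    res (M.restrict j) h s =
      (show Γ(M.restrict j, Q) from res M (j.image_mono h) (show Γ(M, j ''ᵁ P) from s)) := rfl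

theorem smulJ_image (M : X.Modules) (V : U'.Opens) (b : Γ(X, j ''ᵁ V)) (m : Γ(M.restrict j, V)) :
    (show Γ(M.restrict j, V) from b • (show Γ(M, j ''ᵁ V) from m)) =
      ((j.appIso V).hom b) • m := by
  rw [rsmulJ j M V ((j.appIso V).hom b) m]
  have h : (j.appIso V).inv ((j.appIso V).hom b) = b := by
    have := congr($((j.appIso V).hom_inv_id) b)
    exact this
  rw [h]

theorem genAtJ_of_restrict (M : X.Modules) (V : U'.Opens)
    (m : Γ(M.restrict j, V)) (hm : IsGenAt (M.restrict j) V m) :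
    IsGenAt M (j ''ᵁ V) (show Γ(M, j ''ᵁ V) from m) := by
  have hbij : Function.Bijective (j.appIso V).hom :=
    (ConcreteCategory.isIso_iff_bijective (j.appIso V).hom).mp inferInstance
  constructor
  · intro a₁ a₂ h
    apply hbij.1
    apply hm.1
    show (j.appIso V).hom a₁ • m = (j.appIso V).hom a₂ • m
    rw [← smulJ_image, ← smulJ_image]
    exact h
  · intro t
    obtain ⟨a, ha⟩ := hm.2 (show Γ(M.restrict j, V) from t)
    obtain ⟨b, rfl⟩ := hbij.2 a
    refine ⟨b, ?_⟩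
    have := smulJ_image j M V b m
    exact this.trans ha

theorem genAtJ_restrict_of (M : X.Modules) (V : U'.Opens)
    (m : Γ(M.restrict j, V)) (hm : IsGenAt M (j ''ᵁ V) (show Γ(M, j ''ᵁ V) from m)) :
    IsGenAt (M.restrict j) V m := by
  have hbij : Function.Bijective (j.appIso V).hom :=
    (ConcreteCategory.isIso_iff_bijective (j.appIso V).hom).mp inferInstance
  constructor
  · intro a₁ a₂ h
    obtain ⟨b₁, rfl⟩ := hbij.2 a₁
    obtain ⟨b₂, rfl⟩ := hbij.2 a₂
    congr 1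
    apply hm.1
    have h1 := smulJ_image j M V b₁ m
    have h2 := smulJ_image j M V b₂ m
    exact h1.trans (h.trans h2.symm)
  · intro t
    obtain ⟨b, hb⟩ := hm.2 (show Γ(M, j ''ᵁ V) from t)
    refine ⟨(j.appIso V).hom b, ?_⟩
    have h1 := smulJ_image j M V b m
    exact h1.symm.trans hb

theorem isGenJ_restrict_of (M : X.Modules) (P : U'.Opens) (s : Γ(M, j ''ᵁ P))
    (hs : IsGen M (j ''ᵁ P) s) : IsGen (M.restrict j) P (show Γ(M.restrict j, P) from s) := by
  intro Q hQ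
  apply genAtJ_restrict_of j M Q
  exact hs (j ''ᵁ Q) (j.image_mono hQ)

theorem image_le_opensRange (P : U'.Opens) : j ''ᵁ P ≤ j.opensRange := by
  rintro _ ⟨y, _, rfl⟩
  exact ⟨y, rfl⟩

theorem isGenJ_of_restrict (M : X.Modules) (P : U'.Opens) (s : Γ(M.restrict j, P))
    (hs : IsGen (M.restrict j) P s) : IsGen M (j ''ᵁ P) (show Γ(M, j ''ᵁ P) from s) := by
  intro Q hQ
  have hQr : Q ≤ j.opensRange := hQ.trans (image_le_opensRange j P)
  have hQ' : j ''ᵁ (j ⁻¹ᵁ Q) = Q := by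
    rw [j.image_preimage_eq_opensRange_inf]; exact inf_eq_right.mpr hQr
  have hle : j ⁻¹ᵁ Q ≤ P := by
    intro y hy
    obtain ⟨y', hy', e⟩ := hQ hy
    have : y' = y := j.isOpenEmbedding.injective e
    exact this ▸ hy'
  have h1 := genAtJ_of_restrict j M (j ⁻¹ᵁ Q) _ (hs (j ⁻¹ᵁ Q) hle)
  have h2 := h1.of_eq hQ'.symm
  have h3 : res M (le_of_eq hQ'.symm)
      (show Γ(M, j ''ᵁ (j ⁻¹ᵁ Q)) from res (M.restrict j) hle s) =
      res M hQ (show Γ(M, j ''ᵁ P) from s) := by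
    show res M _ (res M (j.image_mono hle) (show Γ(M, j ''ᵁ P) from s)) = _
    rw [res_res]
  rw [h3] at h2
  exact h2

theorem app_appIso_inv_apply (Q : X.Opens) (x : Γ(X, Q)) :
    (j.appIso (j ⁻¹ᵁ Q)).inv ((j.app Q).hom x) = rres X (j.image_preimage_le Q) x := by
  change (j.app Q ≫ (j.appIso (j ⁻¹ᵁ Q)).inv) x = _
  rw [j.app_appIso_inv Q]
  rfl

theorem bijective_app_of_le (Q : X.Opens) (hQ : Q ≤ j.opensRange) :
    Function.Bijective (j.app Q).hom := by
  haveI := j.isIso_app Q hQ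
  exact (ConcreteCategory.isIso_iff_bijective (j.app Q)).mp inferInstance

theorem app_rres {Q Q' : X.Opens} (h : Q' ≤ Q) (x : Γ(X, Q)) :
    (j.app Q').hom (rres X h x) = rres U' (j.preimage_mono h) ((j.app Q).hom x) := by
  have := j.naturality (homOfLE h).op
  exact congr($this x)

theorem isGen_of_eq_bot (L : U'.Modules) {P : U'.Opens} (hP : P = ⊥) (m : Γ(L, P)) :
    IsGen L P m := by
  subst hP
  intro Q hQ
  have hQ' : Q = ⊥ := le_bot_iff.mp hQ
  subst hQ'
  haveI : Subsingleton Γ(L, (⊥ : U'.Opens)) := Module.subsingleton Γ(U', (⊥ : U'.Opens)) _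
  exact ⟨fun a b _ => Subsingleton.elim a b, fun t => ⟨0, Subsingleton.elim _ _⟩⟩

/-- Gluing from a unit cocycle. -/
theorem exists_extension (L : U'.Modules) {ι : Type u} (N : ι → X.Opens) (hN : iSup N = ⊤)
    (g : ∀ a, Γ(L, j ⁻¹ᵁ N a)) (hg : ∀ a, IsGen L (j ⁻¹ᵁ N a) (g a))
    (η : ∀ a b, (Γ(X, N a ⊓ N b))ˣ)
    (hη : ∀ a b c,
      rres X (inf_le_inf_right (N c) inf_le_left : N a ⊓ N b ⊓ N c ≤ N a ⊓ N c)
          (η a c : Γ(X, N a ⊓ N c)) =
        rres X (inf_le_left : N a ⊓ N b ⊓ N c ≤ N a ⊓ N b) (η a b : Γ(X, N a ⊓ N b)) *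
          rres X (inf_le_inf_right (N c) inf_le_right : N a ⊓ N b ⊓ N c ≤ N b ⊓ N c)
            (η b c : Γ(X, N b ⊓ N c)))
    (hcompat : ∀ a b,
      res L (j.preimage_mono inf_le_left : j ⁻¹ᵁ (N a ⊓ N b) ≤ j ⁻¹ᵁ N a) (g a) =
        ((j.app (N a ⊓ N b)).hom (η a b : Γ(X, N a ⊓ N b))) •
          res L (j.preimage_mono inf_le_right : j ⁻¹ᵁ (N a ⊓ N b) ≤ j ⁻¹ᵁ N b) (g b)) :
    ∃ L' : X.Modules, PicF.IsInvertible L' ∧ Nonempty (L'.restrict j ≅ L) := by
  obtain ⟨M, s, hM, hs, hrel⟩ := CocycleGlue.main N η hη hN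
  refine ⟨M, hM, ?_⟩
  let V : ι → U'.Opens := fun a => j ⁻¹ᵁ N a
  have hV : iSup V = ⊤ := by
    rw [eq_top_iff]
    intro y _
    have hy : j y ∈ (iSup N : X.Opens) := by rw [hN]; trivial
    obtain ⟨a, ha⟩ := Opens.mem_iSup.mp hy
    exact Opens.mem_iSup.mpr ⟨a, ha⟩
  have hle : ∀ a, j ''ᵁ (V a) ≤ N a := fun a => j.image_preimage_le (N a)
  let s' : ∀ a, Γ(M.restrict j, V a) := fun a =>
    (show Γ(M.restrict j, V a) from res M (hle a) (s a))
  have hs' : ∀ a, IsGen (M.restrict j) (V a) (s' a) := fun a =>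
    isGenJ_restrict_of j M (V a) _ ((hs a).mono (hle a))
  let θ : ∀ a b, Γ(U', V a ⊓ V b) := fun a b =>
    (j.app (N a ⊓ N b)).hom (η a b : Γ(X, N a ⊓ N b))
  have hθ' : ∀ a b, res (M.restrict j) (inf_le_left : V a ⊓ V b ≤ V a) (s' a) =
      θ a b • res (M.restrict j) (inf_le_right : V a ⊓ V b ≤ V b) (s' b) := by
    intro a b
    have hP : j ''ᵁ (j ⁻¹ᵁ (N a ⊓ N b)) ≤ N a ⊓ N b := j.image_preimage_le _
    have h1 := congrArg (res M hP) (hrel a b)
    rw [res_smul, res_res, res_res] at h1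
    show (show Γ(M.restrict j, j ⁻¹ᵁ (N a ⊓ N b)) from
        res M (j.image_mono (j.preimage_mono inf_le_left)) (res M (hle a) (s a))) =
      (show Γ(M.restrict j, j ⁻¹ᵁ (N a ⊓ N b)) from
        ((j.appIso (j ⁻¹ᵁ (N a ⊓ N b))).inv
            ((j.app (N a ⊓ N b)).hom (η a b : Γ(X, N a ⊓ N b)))) •
          res M (j.image_mono (j.preimage_mono inf_le_right)) (res M (hle b) (s b)))
    rw [app_appIso_inv_apply, res_res, res_res]
    exact h1
  have hcompat' : ∀ a b, res L (inf_le_left : V a ⊓ V b ≤ V a) (g a) =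
      θ a b • res L (inf_le_right : V a ⊓ V b ≤ V b) (g b) := fun a b => hcompat a b
  exact Cocycle.nonempty_iso_of_units V hV s' g hs' hg θ θ hθ' hcompat' (fun _ => 1) (by
    intro a b
    simp only [Units.val_one]
    rw [rres_one, rres_one, mul_one, one_mul])

/-- `L` extends as soon as `X` is covered by `U'` and charts over which `L` is trivial, with
unique extension of functions over double and triple overlaps of distinct charts. -/
theorem exists_extension_of_charts (L : U'.Modules) (hL : PicF.IsInvertible L)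
    {C : Type u} (P : C → X.Opens) (γ : ∀ c, Γ(L, j ⁻¹ᵁ P c))
    (hγ : ∀ c, IsGen L (j ⁻¹ᵁ P c) (γ c))
    (hcov : ∀ x : X, x ∈ j.opensRange ∨ ∃ c, x ∈ P c)
    (h2 : ∀ c c', c = c' ∨ Function.Bijective (j.app (P c ⊓ P c')).hom)
    (h3 : ∀ c c' c'', (c = c' ∧ c' = c'') ∨
      Function.Injective (j.app (P c ⊓ P c' ⊓ P c'')).hom) :
    ∃ L' : X.Modules, PicF.IsInvertible L' ∧ Nonempty (L'.restrict j ≅ L) := by
  classical
  have hin : ∀ y : U', ∃ (V0 : U'.Opens) (e0 : Γ(L, V0)), y ∈ V0 ∧ IsGen L V0 e0 :=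
    fun y => exists_isGen hL y
  choose V0 e0 hyV0 hgen0 using hin
  let N : (U' ⊕ C) → X.Opens := fun a => Sum.elim (fun y => j ''ᵁ V0 y) P a
  have hpre : ∀ y, j ⁻¹ᵁ (j ''ᵁ V0 y) = V0 y := fun y => j.preimage_image_eq _
  have hG : ∀ a : U' ⊕ C, ∃ G : Γ(L, j ⁻¹ᵁ N a), IsGen L (j ⁻¹ᵁ N a) G := by
    rintro (y | c)
    · exact ⟨res L (le_of_eq (hpre y)) (e0 y), (hgen0 y).mono _⟩
    · exact ⟨γ c, hγ c⟩
  choose G hGgen using hG
  have hr : ∀ y, N (Sum.inl y) ≤ j.opensRange := fun y => image_le_opensRange j (V0 y)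
  have key2 : ∀ a b : U' ⊕ C, a = b ∨ Function.Bijective (j.app (N a ⊓ N b)).hom := by
    rintro (y | c) (y' | c')
    · exact Or.inr (bijective_app_of_le j _ (inf_le_left.trans (hr y)))
    · exact Or.inr (bijective_app_of_le j _ (inf_le_left.trans (hr y)))
    · exact Or.inr (bijective_app_of_le j _ (inf_le_right.trans (hr y')))
    · rcases h2 c c' with h | h
      · exact Or.inl (congrArg Sum.inr h)
      · exact Or.inr h
  have key3 : ∀ a b c : U' ⊕ C, (a = b ∧ b = c) ∨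
      Function.Injective (j.app (N a ⊓ N b ⊓ N c)).hom := by
    rintro (y | c) (y' | c') (y'' | c'')
    · exact Or.inr (bijective_app_of_le j _ ((inf_le_left.trans inf_le_left).trans (hr y))).1
    · exact Or.inr (bijective_app_of_le j _ ((inf_le_left.trans inf_le_left).trans (hr y))).1
    · exact Or.inr (bijective_app_of_le j _ ((inf_le_left.trans inf_le_left).trans (hr y))).1
    · exact Or.inr (bijective_app_of_le j _ ((inf_le_left.trans inf_le_left).trans (hr y))).1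
    · exact Or.inr (bijective_app_of_le j _ ((inf_le_left.trans inf_le_right).trans (hr y'))).1
    · exact Or.inr (bijective_app_of_le j _ ((inf_le_left.trans inf_le_right).trans (hr y'))).1
    · exact Or.inr (bijective_app_of_le j _ (inf_le_right.trans (hr y''))).1
    · rcases h3 c c' c'' with ⟨h, h'⟩ | h
      · exact Or.inl ⟨congrArg Sum.inr h, congrArg Sum.inr h'⟩
      · exact Or.inr h
  have hl : ∀ a b, j ⁻¹ᵁ (N a ⊓ N b) ≤ j ⁻¹ᵁ N a := fun a b => j.preimage_mono inf_le_left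
  have hr' : ∀ a b, j ⁻¹ᵁ (N a ⊓ N b) ≤ j ⁻¹ᵁ N b := fun a b => j.preimage_mono inf_le_right
  have hrat : ∀ a b, ∃ r : Γ(U', j ⁻¹ᵁ (N a ⊓ N b)), IsUnit r ∧
      res L (hl a b) (G a) = r • res L (hr' a b) (G b) :=
    fun a b => (hGgen b _ (hr' a b)).exists_unit (hGgen a _ (hl a b))
  choose r hr_unit hr_eq using hrat
  have hr_self : ∀ a, r a a = 1 := by
    intro a
    apply (hGgen a _ (hr' a a)).smul_inj
    rw [one_smul]
    exact (hr_eq a a).symm
  have hr_coc : ∀ a b c,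
      rres U' (j.preimage_mono (inf_le_inf_right (N c) inf_le_left) :
          j ⁻¹ᵁ (N a ⊓ N b ⊓ N c) ≤ j ⁻¹ᵁ (N a ⊓ N c)) (r a c) =
        rres U' (j.preimage_mono inf_le_left :
            j ⁻¹ᵁ (N a ⊓ N b ⊓ N c) ≤ j ⁻¹ᵁ (N a ⊓ N b)) (r a b) *
          rres U' (j.preimage_mono (inf_le_inf_right (N c) inf_le_right) :
            j ⁻¹ᵁ (N a ⊓ N b ⊓ N c) ≤ j ⁻¹ᵁ (N b ⊓ N c)) (r b c) := by
    intro a b c
    have t1 : j ⁻¹ᵁ (N a ⊓ N b ⊓ N c) ≤ j ⁻¹ᵁ (N a ⊓ N c) :=
      j.preimage_mono (inf_le_inf_right (N c) inf_le_left)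
    have t2 : j ⁻¹ᵁ (N a ⊓ N b ⊓ N c) ≤ j ⁻¹ᵁ (N a ⊓ N b) := j.preimage_mono inf_le_left
    have t3 : j ⁻¹ᵁ (N a ⊓ N b ⊓ N c) ≤ j ⁻¹ᵁ (N b ⊓ N c) :=
      j.preimage_mono (inf_le_inf_right (N c) inf_le_right)
    have e1 := congrArg (res L t1) (hr_eq a c)
    have e2 := congrArg (res L t2) (hr_eq a b)
    have e3 := congrArg (res L t3) (hr_eq b c)
    rw [res_smul, res_res, res_res] at e1 e2 e3
    have hgenT := hGgen c (j ⁻¹ᵁ (N a ⊓ N b ⊓ N c)) (t1.trans (hr' a c))
    apply hgenT.smul_inj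
    rw [mul_smul]
    exact e1.symm.trans (e2.trans (congrArg _ e3))
  have hη_ex : ∀ a b, ∃ η : (Γ(X, N a ⊓ N b))ˣ,
      (j.app (N a ⊓ N b)).hom (η : Γ(X, N a ⊓ N b)) = r a b ∧ (a = b → η = 1) := by
    intro a b
    rcases key2 a b with h | h
    · subst h
      exact ⟨1, by rw [Units.val_one, map_one, hr_self], fun _ => rfl⟩
    · obtain ⟨x, hx⟩ := h.2 (r a b)
      obtain ⟨y, hy⟩ := h.2 (((hr_unit a b).unit⁻¹ : (Γ(U', j ⁻¹ᵁ (N a ⊓ N b)))ˣ) :
        Γ(U', j ⁻¹ᵁ (N a ⊓ N b)))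
      have hxy : x * y = 1 := h.1 (by
        rw [map_mul, hx, hy, map_one]; exact IsUnit.mul_val_inv _)
      refine ⟨⟨x, y, hxy, by rw [mul_comm]; exact hxy⟩, hx, ?_⟩
      intro hab
      subst hab
      apply Units.ext
      apply h.1
      show (j.app (N a ⊓ N a)).hom x = (j.app (N a ⊓ N a)).hom ((1 : (Γ(X, N a ⊓ N a))ˣ) : _)
      rw [hx, hr_self, Units.val_one, map_one]
  choose η hη_eq hη_one using hη_ex
  have hη_coc : ∀ a b c,
      rres X (inf_le_inf_right (N c) inf_le_left : N a ⊓ N b ⊓ N c ≤ N a ⊓ N c)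
          (η a c : Γ(X, N a ⊓ N c)) =
        rres X (inf_le_left : N a ⊓ N b ⊓ N c ≤ N a ⊓ N b) (η a b : Γ(X, N a ⊓ N b)) *
          rres X (inf_le_inf_right (N c) inf_le_right : N a ⊓ N b ⊓ N c ≤ N b ⊓ N c)
            (η b c : Γ(X, N b ⊓ N c)) := by
    intro a b c
    rcases key3 a b c with ⟨hab, hbc⟩ | hinj
    · rw [hη_one a b hab, hη_one b c hbc, hη_one a c (hab.trans hbc)]
      simp only [Units.val_one]
      rw [rres_one, rres_one, rres_one, mul_one]
    · apply hinj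
      rw [map_mul, app_rres, app_rres, app_rres, hη_eq, hη_eq, hη_eq]
      exact hr_coc a b c
  have hcompat : ∀ a b, res L (hl a b) (G a) =
      ((j.app (N a ⊓ N b)).hom (η a b : Γ(X, N a ⊓ N b))) • res L (hr' a b) (G b) := by
    intro a b
    rw [hη_eq]
    exact hr_eq a b
  have hN : iSup N = ⊤ := by
    rw [eq_top_iff]
    intro x _
    rcases hcov x with ⟨y, rfl⟩ | ⟨c, hc⟩
    · exact Opens.mem_iSup.mpr ⟨Sum.inl y, ⟨y, hyV0 y, rfl⟩⟩
    · exact Opens.mem_iSup.mpr ⟨Sum.inr c, hc⟩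
  exact exists_extension j L N hN G hGgen η hη_coc hcompat

end Groth.Agent.Lib.Helper26.ExtGlue
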