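import Mathlib
import Groth.Agent.Lib.Helper26.ExtGlue
import Groth.Agent.Lib.Helper3.InvAmple
import Groth.Agent.Lib.Helper12.ConstrNhds
import Groth.Agent.Lib.Helper16.Mero.SemiLoc
import Groth.Agent.Lib.Lead.CycPullGeo

/-!
# Extending invertible modules across a discrete closed set with small Noetherian local rings
(helper26)

`X` a scheme, `U` a retrocompact open with `X ∖ U` discrete and `O_{X,x}` Noetherian of dimension
at most one for `x ∉ U`.  Then `U = X_s` for a section of an invertible module, and every invertible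
module on `U` extends to `X`.
-/

set_option autoImplicit false
set_option linter.style.haveILetI false
set_option linter.unusedSectionVars false
universe u
open CategoryTheory CategoryTheory.Limits AlgebraicGeometry TopologicalSpace Opposite
open Scheme.Modules Topology

namespace Groth.Agent.Lib.Helper26.DiscExt

open Groth.Agent.Lib.Helper3 Groth.Agent.Lib.Helper3.QCSec Groth.Agent.Lib.Helper3.InvGen
open Groth.Agent.Lib.Lead.CycPull (ker_specMap_injective ker_specMap_self ker_specMap_le_iff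
  primeOf_asIdeal)

/-- In a Noetherian local ring of dimension at most one there is an element of the maximal ideal
lying in no other prime. -/
theorem exists_mem_maximalIdeal_avoid (R : Type u) [CommRing R] [IsLocalRing R]
    [IsNoetherianRing R] (hdim : ringKrullDim R ≤ 1) :
    ∃ t ∈ IsLocalRing.maximalIdeal R, ∀ q : Ideal R, q.IsPrime → t ∈ q →
      q = IsLocalRing.maximalIdeal R := by
  classical
  haveI : Ring.KrullDimLE 1 R := Ring.krullDimLE_iff.mpr (by exact_mod_cast hdim)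
  have hfin : (minimalPrimes R).Finite := minimalPrimes.finite_of_isNoetherianRing R
  let s : Finset (Ideal R) := hfin.toFinset.filter (fun q => q ≠ IsLocalRing.maximalIdeal R)
  have hs : ∀ q ∈ s, q ∈ minimalPrimes R ∧ q ≠ IsLocalRing.maximalIdeal R := by
    intro q hq
    have h := Finset.mem_filter.mp hq
    exact ⟨hfin.mem_toFinset.mp h.1, h.2⟩
  have hnot : ¬ ((IsLocalRing.maximalIdeal R : Set R) ⊆
      ⋃ i ∈ (↑s : Set (Ideal R)), ((fun q : Ideal R => q) i : Set R)) := by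
    intro hsub
    obtain ⟨q, hq, hle⟩ := (Ideal.subset_union_prime (R := R) (s := s) (f := fun q => q) ⊥ ⊥
      (fun q hq _ _ => (hs q hq).1.1.1)).mp hsub
    have hqp : q.IsPrime := (hs q hq).1.1.1
    exact (hs q hq).2 (le_antisymm (IsLocalRing.le_maximalIdeal hqp.ne_top) hle)
  obtain ⟨t, htm, htn⟩ := Set.not_subset.mp hnot
  refine ⟨t, htm, fun q hq htq => ?_⟩
  rcases Ring.krullDimLE_one_iff.mp ‹_› q hq with hmin | hmax
  · by_contra hne
    apply htn
    have hqs : q ∈ s := Finset.mem_filter.mpr ⟨hfin.mem_toFinset.mpr hmin, hne⟩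
    exact Set.mem_biUnion (show q ∈ (↑s : Set (Ideal R)) from hqs) htq
  · exact IsLocalRing.eq_maximalIdeal hmax

variable {X : Scheme.{u}}

theorem exists_affine_le (x : X) (O : X.Opens) (hx : x ∈ O) :
    ∃ V : X.Opens, IsAffineOpen V ∧ x ∈ V ∧ V ≤ O := by
  obtain ⟨V, hV, hxV, hVO⟩ := (Opens.isBasis_iff_nbhd.mp X.isBasis_affineOpens) hx
  exact ⟨V, hV, hxV, hVO⟩

/-- A function whose germ at `x` lies in no prime but the maximal one is invertible at every proper
generization of `x`. -/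
theorem mem_basicOpen_of_specializes (x : X) {P : X.Opens} (hxP : x ∈ P) (h : Γ(X, P))
    (hav : ∀ q : Ideal (X.presheaf.stalk x), q.IsPrime → X.presheaf.germ P x hxP h ∈ q →
      q = IsLocalRing.maximalIdeal (X.presheaf.stalk x))
    (z : X) (hz : z ⤳ x) (hne : z ≠ x) : z ∈ X.basicOpen h := by
  have hzP : z ∈ P := hz.mem_open P.isOpen hxP
  rw [X.mem_basicOpen h z hzP]
  have hg : X.presheaf.germ P z hzP h =
      (X.presheaf.stalkSpecializes hz).hom (X.presheaf.germ P x hxP h) :=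
    (TopCat.Presheaf.germ_stalkSpecializes_apply X.presheaf hxP hz h).symm
  by_contra hnu
  have hmem : X.presheaf.germ P z hzP h ∈ IsLocalRing.maximalIdeal (X.presheaf.stalk z) := by
    rw [IsLocalRing.mem_maximalIdeal, mem_nonunits_iff]
    exact hnu
  have hker : X.presheaf.germ P x hxP h ∈ RingHom.ker (Cyc.specMap x z hz) := by
    rw [← primeOf_asIdeal]
    show (X.presheaf.stalkSpecializes hz).hom (X.presheaf.germ P x hxP h) ∈
      IsLocalRing.maximalIdeal (X.presheaf.stalk z)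
    rw [← hg]
    exact hmem
  have heq := hav _ (RingHom.ker_isPrime _) hker
  exact hne (ker_specMap_injective x z x hz specializes_rfl
    (heq.trans (ker_specMap_self x specializes_rfl).symm))

/-- Finiteness and incomparability of the proper generizations of a point with Noetherian local ring
of dimension at most one. -/
theorem finite_generizations (x : X) [IsNoetherianRing (X.presheaf.stalk x)]
    (hdim : ringKrullDim (X.presheaf.stalk x) ≤ 1) :
    {z : X | z ⤳ x ∧ z ≠ x}.Finite ∧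
      ∀ z z' : X, z ⤳ x → z ≠ x → z' ⤳ x → z' ≠ x → z ⤳ z' → z = z' := by
  classical
  haveI : Ring.KrullDimLE 1 (X.presheaf.stalk x) :=
    Ring.krullDimLE_iff.mpr (by exact_mod_cast hdim)
  have hmin : ∀ (z : X) (hz : z ⤳ x), z ≠ x →
      RingHom.ker (Cyc.specMap x z hz) ∈ minimalPrimes (X.presheaf.stalk x) := by
    intro z hz hne
    rcases Ring.krullDimLE_one_iff.mp ‹_› _ (RingHom.ker_isPrime (Cyc.specMap x z hz)) with h | h
    · exact h
    · exfalso
      have h1 := IsLocalRing.eq_maximalIdeal h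
      exact hne (ker_specMap_injective x z x hz specializes_rfl
        (h1.trans (ker_specMap_self x specializes_rfl).symm))
  constructor
  · have hfin : (minimalPrimes (X.presheaf.stalk x)).Finite :=
      minimalPrimes.finite_of_isNoetherianRing _
    let φ : X → Ideal (X.presheaf.stalk x) := fun z =>
      if hz : z ⤳ x then RingHom.ker (Cyc.specMap x z hz) else ⊥
    refine Set.Finite.of_injOn (f := φ) (t := minimalPrimes (X.presheaf.stalk x)) ?_ ?_ hfin
    · rintro z ⟨hz, hne⟩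
      simp only [φ, dif_pos hz]
      exact hmin z hz hne
    · rintro z ⟨hz, hne⟩ z' ⟨hz', hne'⟩ heq
      simp only [φ, dif_pos hz, dif_pos hz'] at heq
      exact ker_specMap_injective x z z' hz hz' heq
  · intro z z' hz hne hz' hne' hzz'
    have hle := (ker_specMap_le_iff x z z' hz hz').mpr hzz'
    have h2 := hmin z' hz' hne'
    have hge : RingHom.ker (Cyc.specMap x z' hz') ≤ RingHom.ker (Cyc.specMap x z hz) :=
      h2.2 ⟨RingHom.ker_isPrime _, bot_le⟩ hle
    exact ker_specMap_injective x z z' hz hz' (le_antisymm hle hge)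

/-- A compact open of an affine neighbourhood containing all generizations of `x` lying in the
retrocompact open `U` contains `P' ∩ U` for an open neighbourhood `P'` of `x`. -/
theorem exists_nhd_inf_le (U : X.Opens) [QuasiCompact U.ι] (x : X)
    {P₁ : X.Opens} (hP₁ : IsAffineOpen P₁) (hxP₁ : x ∈ P₁) (D : X.Opens) (hD : D ≤ P₁)
    (hDc : IsCompact (D : Set X))
    (hgen : ∀ z : X, z ⤳ x → z ∈ U → z ∈ D) :
    ∃ P' : X.Opens, x ∈ P' ∧ P' ≤ P₁ ∧ P' ⊓ U ≤ D := by
  haveI : IsAffine (P₁ : Scheme.{u}) := hP₁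
  let y : (P₁ : Scheme.{u}) := ⟨x, hxP₁⟩
  have hemb : Topology.IsOpenEmbedding (⇑P₁.ι) := P₁.ι.isOpenEmbedding
  have hrange : Set.range (⇑P₁.ι) = (P₁ : Set X) :=
    Scheme.Opens.range_ι P₁
  have hc1 : IsCompact ((P₁.ι ⁻¹ᵁ D : (P₁ : Scheme.{u}).Opens) : Set (P₁ : Scheme.{u})) := by
    have h0 : ((P₁.ι ⁻¹ᵁ D : (P₁ : Scheme.{u}).Opens) : Set (P₁ : Scheme.{u})) =
        (⇑P₁.ι) ⁻¹' (D : Set X) := rfl
    rw [h0, hemb.isInducing.isCompact_preimage_iff (by rw [hrange]; exact hD)]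
    exact hDc
  have hUP : IsCompact ((U ⊓ P₁ : X.Opens) : Set X) := by
    have h1 : IsCompact ((⇑U.ι) ⁻¹' (P₁ : Set X)) :=
      QuasiCompact.isCompact_preimage (f := U.ι) _ P₁.isOpen hP₁.isCompact
    have h2 := h1.image U.ι.continuous
    have h3 : (⇑U.ι) '' ((⇑U.ι) ⁻¹' (P₁ : Set X)) =
        ((U ⊓ P₁ : X.Opens) : Set X) := by
      ext z
      constructor
      · rintro ⟨w, hw, rfl⟩
        exact ⟨w.2, hw⟩
      · rintro ⟨hzU, hzP⟩
        exact ⟨⟨z, hzU⟩, hzP, rfl⟩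
    rwa [h3] at h2
  have hc2 : IsCompact ((P₁.ι ⁻¹ᵁ U : (P₁ : Scheme.{u}).Opens) : Set (P₁ : Scheme.{u})) := by
    have h0 : ((P₁.ι ⁻¹ᵁ U : (P₁ : Scheme.{u}).Opens) : Set (P₁ : Scheme.{u})) =
        (⇑P₁.ι) ⁻¹' ((U ⊓ P₁ : X.Opens) : Set X) := by
      ext w
      constructor
      · intro hw
        exact ⟨hw, w.2⟩
      · intro hw
        exact hw.1
    rw [h0, hemb.isInducing.isCompact_preimage_iff (by rw [hrange]; exact inf_le_right)]
    exact hUP
  let E : Set (P₁ : Scheme.{u}) :=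
    ((P₁.ι ⁻¹ᵁ D : (P₁ : Scheme.{u}).Opens) : Set (P₁ : Scheme.{u})) ∪
      ((P₁.ι ⁻¹ᵁ U : (P₁ : Scheme.{u}).Opens) : Set (P₁ : Scheme.{u}))ᶜ
  have hE : IsConstructible E :=
    (hc1.isConstructible (P₁.ι ⁻¹ᵁ D).isOpen).union
      (hc2.isConstructible (P₁.ι ⁻¹ᵁ U).isOpen).compl
  have hnhds : E ∈ nhds y := by
    apply Groth.Agent.Lib.Helper12.ConstrNhds.mem_nhds_of_isLocallyConstructible E
      hE.isLocallyConstructible y
    intro z hz
    have hz' : (P₁.ι z : X) ⤳ x := hz.map P₁.ι.continuous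
    by_cases hzU : (P₁.ι z : X) ∈ U
    · left
      exact hgen _ hz' hzU
    · right
      exact hzU
  obtain ⟨O, hOE, hOopen, hyO⟩ := mem_nhds_iff.mp hnhds
  refine ⟨P₁.ι ''ᵁ ⟨O, hOopen⟩, ⟨y, hyO, rfl⟩, P₁.ι_image_le _, ?_⟩
  rintro z ⟨⟨w, hwO, rfl⟩, hzU⟩
  rcases hOE hwO with h | h
  · exact h
  · exact (h hzU).elim

/-- The chart at a point of the complement. -/
theorem exists_chart (U : X.Opens) [QuasiCompact U.ι]
    (hdisc : DiscreteTopology ↥((U : Set X)ᶜ))
    (x : X) (hxU : x ∉ U) [IsNoetherianRing (X.presheaf.stalk x)]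
    (hdim : ringKrullDim (X.presheaf.stalk x) ≤ 1) :
    ∃ (P : X.Opens) (h : Γ(X, P)), IsAffineOpen P ∧ x ∈ P ∧ X.basicOpen h = P ⊓ U ∧
      ∀ z ∈ P, z ∉ U → z = x := by
  haveI := hdisc
  obtain ⟨W₀, hW₀, hW₀x⟩ : ∃ W₀ : Set X, IsOpen W₀ ∧
      Subtype.val ⁻¹' W₀ = ({⟨x, hxU⟩} : Set ↥((U : Set X)ᶜ)) :=
    isOpen_induced_iff.mp (isOpen_discrete _)
  have hxW₀ : x ∈ W₀ := by
    have h0 : (⟨x, hxU⟩ : ↥((U : Set X)ᶜ)) ∈ Subtype.val ⁻¹' W₀ := by
      rw [hW₀x]
      rfl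
    exact h0
  have hiso : ∀ z ∈ W₀, z ∉ U → z = x := by
    intro z hz hzU
    have h0 : (⟨z, hzU⟩ : ↥((U : Set X)ᶜ)) ∈ Subtype.val ⁻¹' W₀ := hz
    rw [hW₀x] at h0
    exact congrArg Subtype.val (Set.mem_singleton_iff.mp h0)
  obtain ⟨t, htm, hav⟩ := exists_mem_maximalIdeal_avoid (X.presheaf.stalk x) hdim
  obtain ⟨P₀, hP₀W, hxP₀, h₀, hh₀⟩ :=
    TopCat.Presheaf.exists_le_germ_eq X.presheaf t (V := ⟨W₀, hW₀⟩) hxW₀
  obtain ⟨P₁, hP₁, hxP₁, hP₁P₀⟩ := exists_affine_le x P₀ hxP₀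
  let h₁ : Γ(X, P₁) := rres X hP₁P₀ h₀
  have hg₁ : X.presheaf.germ P₁ x hxP₁ h₁ = t := by
    rw [← hh₀]
    exact TopCat.Presheaf.germ_res_apply X.presheaf (homOfLE hP₁P₀) x hxP₁ h₀
  have hgen : ∀ z : X, z ⤳ x → z ∈ U → z ∈ X.basicOpen h₁ := by
    intro z hz hzU
    apply mem_basicOpen_of_specializes x hxP₁ h₁ _ z hz (fun e => hxU (e ▸ hzU))
    intro q hq hmem
    rw [hg₁] at hmem
    exact hav q hq hmem
  obtain ⟨P', hxP', hP'P₁, hP'D⟩ := exists_nhd_inf_le U x hP₁ hxP₁ (X.basicOpen h₁)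
    (X.basicOpen_le h₁) (hP₁.basicOpen h₁).isCompact hgen
  obtain ⟨P, hP, hxP, hPP'⟩ := exists_affine_le x P' hxP'
  have hPP₁ : P ≤ P₁ := hPP'.trans hP'P₁
  have hPW : ∀ z ∈ P, z ∈ W₀ := fun z hz => hP₀W (hP₁P₀ (hPP₁ hz))
  refine ⟨P, rres X hPP₁ h₁, hP, hxP, ?_, fun z hzP hzU => hiso z (hPW z hzP) hzU⟩
  have hb : X.basicOpen (rres X hPP₁ h₁) = P ⊓ X.basicOpen h₁ :=
    Scheme.basicOpen_res X h₁ (homOfLE hPP₁).op
  rw [hb]
  apply le_antisymm
  · rintro z ⟨hzP, hzD⟩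
    refine ⟨hzP, ?_⟩
    by_contra hzU
    have hzx : z = x := hiso z (hPW z hzP) hzU
    have hxD : x ∈ X.basicOpen h₁ := hzx ▸ hzD
    have hu := (X.mem_basicOpen h₁ x hxP₁).mp hxD
    rw [hg₁] at hu
    exact (mem_nonunits_iff.mp ((IsLocalRing.mem_maximalIdeal _).mp htm)) hu
  · rintro z ⟨hzP, hzU⟩
    exact ⟨hzP, hP'D ⟨hPP' hzP, hzU⟩⟩

theorem isUnit_rres_of_le_basicOpen {V W : X.Opens} (f : Γ(X, W)) (hV : V ≤ W)
    (h : V ≤ X.basicOpen f) : IsUnit (rres X hV f) := by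
  have h1 : IsUnit (rres X (X.basicOpen_le f) f) := X.toRingedSpace.isUnit_res_basicOpen f
  have h2 := rres_isUnit h h1
  rwa [rres_rres] at h2

/-- Gluing the structure sheaves of `U` and of the charts along the functions `h c`. -/
theorem exists_section (U : X.Opens) {C : Type u} (P : C → X.Opens) (h : ∀ c, Γ(X, P c))
    (hPh : ∀ c, X.basicOpen (h c) = P c ⊓ U)
    (hcov : ∀ x : X, x ∈ U ∨ ∃ c, x ∈ P c)
    (hpair : ∀ c c', c ≠ c' → P c ⊓ P c' ≤ U) :
    ∃ (L : X.Modules) (s : Coh.structureModule X ⟶ L),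
      PicF.IsInvertible L ∧ CohB1.genLocus L s = U := by
  classical
  let N : Option C → X.Opens := fun a => Option.elim a U P
  let H : ∀ a : Option C, Γ(X, N a) := fun a =>
    Option.rec (motive := fun a => Γ(X, N a)) (1 : Γ(X, U)) (fun c => h c) a
  have hNH : ∀ a, X.basicOpen (H a) = N a ⊓ U := by
    rintro (_ | c)
    · show X.basicOpen (1 : Γ(X, U)) = U ⊓ U
      rw [inf_idem]
      exact X.basicOpen_one
    · exact hPh c
  have hNpair : ∀ a b, a ≠ b → N a ⊓ N b ≤ U := by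
    rintro (_ | c) (_ | c') hab
    · exact (hab rfl).elim
    · exact inf_le_left
    · exact inf_le_right
    · exact hpair c c' (fun e => hab (congrArg some e))
  have hNcov : iSup N = ⊤ := by
    rw [eq_top_iff]
    intro z _
    rcases hcov z with hz | ⟨c, hz⟩
    · exact Opens.mem_iSup.mpr ⟨none, hz⟩
    · exact Opens.mem_iSup.mpr ⟨some c, hz⟩
  have hu : ∀ a b, a ≠ b → IsUnit (rres X (inf_le_left : N a ⊓ N b ≤ N a) (H a)) :=
    fun a b hab => isUnit_rres_of_le_basicOpen (H a) inf_le_left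
      (by rw [hNH a]; exact le_inf inf_le_left (hNpair a b hab))
  have hu' : ∀ a b, a ≠ b → IsUnit (rres X (inf_le_right : N a ⊓ N b ≤ N b) (H b)) :=
    fun a b hab => isUnit_rres_of_le_basicOpen (H b) inf_le_right
      (by rw [hNH b]; exact le_inf inf_le_right (hNpair a b hab))
  let η : ∀ a b : Option C, (Γ(X, N a ⊓ N b))ˣ := fun a b =>
    if hab : a = b then 1 else (hu' a b hab).unit * ((hu a b hab).unit)⁻¹
  have hηH : ∀ a b, (η a b : Γ(X, N a ⊓ N b)) * rres X (inf_le_left : N a ⊓ N b ≤ N a) (H a) =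
      rres X (inf_le_right : N a ⊓ N b ≤ N b) (H b) := by
    intro a b
    by_cases hab : a = b
    · subst hab
      have h1 : η a a = 1 := dif_pos rfl
      rw [h1, Units.val_one, one_mul]
    · have h1 : η a b = (hu' a b hab).unit * ((hu a b hab).unit)⁻¹ := dif_neg hab
      rw [h1, Units.val_mul, mul_assoc, IsUnit.val_inv_mul, mul_one, IsUnit.unit_spec]
  have key : ∀ (a b : Option C) (T : X.Opens) (hTa : T ≤ N a) (hTb : T ≤ N b),
      rres X (le_inf hTa hTb) (η a b : Γ(X, N a ⊓ N b)) * rres X hTa (H a) = rres X hTb (H b) := by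
    intro a b T hTa hTb
    have h1 := congrArg (rres X (le_inf hTa hTb)) (hηH a b)
    rwa [rres_mul, rres_rres, rres_rres] at h1
  have hη : ∀ a b c : Option C,
      rres X (inf_le_inf_right (N c) inf_le_left : N a ⊓ N b ⊓ N c ≤ N a ⊓ N c)
          (η a c : Γ(X, N a ⊓ N c)) =
        rres X (inf_le_left : N a ⊓ N b ⊓ N c ≤ N a ⊓ N b) (η a b : Γ(X, N a ⊓ N b)) *
          rres X (inf_le_inf_right (N c) inf_le_right : N a ⊓ N b ⊓ N c ≤ N b ⊓ N c)
            (η b c : Γ(X, N b ⊓ N c)) := by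
    intro a b c
    by_cases hall : a = b ∧ b = c
    · obtain ⟨rfl, rfl⟩ := hall
      have h1 : η a a = 1 := dif_pos rfl
      simp only [h1, Units.val_one, rres_one, mul_one]
    · have hTU : N a ⊓ N b ⊓ N c ≤ U := by
        by_cases hab : a = b
        · have hbc : b ≠ c := fun e => hall ⟨hab, e⟩
          exact (inf_le_inf_right (N c) inf_le_right).trans (hNpair b c hbc)
        · exact inf_le_left.trans (hNpair a b hab)
      have hTa : N a ⊓ N b ⊓ N c ≤ N a := inf_le_left.trans inf_le_left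
      have hTb : N a ⊓ N b ⊓ N c ≤ N b := inf_le_left.trans inf_le_right
      have hTc : N a ⊓ N b ⊓ N c ≤ N c := inf_le_right
      have huT : IsUnit (rres X hTa (H a)) := isUnit_rres_of_le_basicOpen (H a) hTa
        (by rw [hNH a]; exact le_inf hTa hTU)
      have k1 := key a c _ hTa hTc
      have k2 := key a b _ hTa hTb
      have k3 := key b c _ hTb hTc
      change rres X (le_inf hTa hTc) (η a c : Γ(X, N a ⊓ N c)) =
        rres X (le_inf hTa hTb) (η a b : Γ(X, N a ⊓ N b)) *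
          rres X (le_inf hTb hTc) (η b c : Γ(X, N b ⊓ N c))
      apply (IsUnit.mul_left_inj huT).mp
      rw [k1, mul_comm (rres X (le_inf hTa hTb) (η a b : Γ(X, N a ⊓ N b))), mul_assoc, k2, k3]
  obtain ⟨M, s, hM, hs, hrel⟩ := CocycleGlue.main N η hη hNcov
  have hcompat : ∀ i j, res M (inf_le_left : N i ⊓ N j ≤ N i) (H i • s i) =
      res M (inf_le_right : N i ⊓ N j ≤ N j) (H j • s j) := by
    intro i j
    rw [res_smul, res_smul, hrel i j, smul_smul, mul_comm, hηH i j]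
  obtain ⟨σ, hσ⟩ := sec_glue M N ⊤ (fun _ => le_top) (by rw [hNcov]) (fun i => H i • s i) hcompat
  let s₀ : Coh.structureModule X ⟶ M := InvAmple.globalHom M σ
  have hgl : ∀ a, CohB1.genLocus M s₀ ⊓ N a = X.basicOpen (H a) := by
    intro a
    apply genLocus_inf_eq_basicOpen s₀ (hs a) (H a)
    rw [InvAmple.sec_globalHom]
    exact hσ a
  refine ⟨M, s₀, hM, ?_⟩
  apply le_antisymm
  · intro z hz
    have hz' : z ∈ (iSup N : X.Opens) := by
      rw [hNcov]
      trivial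
    obtain ⟨a, ha⟩ := Opens.mem_iSup.mp hz'
    have h1 : z ∈ CohB1.genLocus M s₀ ⊓ N a := ⟨hz, ha⟩
    rw [hgl a, hNH a] at h1
    exact h1.2
  · intro z hz
    have h1 : z ∈ N none ⊓ U := ⟨hz, hz⟩
    rw [← hNH none, ← hgl none] at h1
    exact h1.1

/-- An invertible module on `U` is trivial on `P' ∩ U` for a neighbourhood `P'` of a point of the
complement. -/
theorem exists_nhd_isGen (U : X.Opens) [QuasiCompact U.ι]
    (x : X) (hxU : x ∉ U) [IsNoetherianRing (X.presheaf.stalk x)]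
    (hdim : ringKrullDim (X.presheaf.stalk x) ≤ 1)
    (P : X.Opens) (h : Γ(X, P)) (hP : IsAffineOpen P) (hxP : x ∈ P)
    (hPh : X.basicOpen h = P ⊓ U)
    (N : (U : Scheme.{u}).Modules) (hN : PicF.IsInvertible N) :
    ∃ (P' : X.Opens) (γ : Γ(N, U.ι ⁻¹ᵁ P')), x ∈ P' ∧ P' ≤ P ∧ IsGen N (U.ι ⁻¹ᵁ P') γ := by
  classical
  obtain ⟨hfin, hinc⟩ := finite_generizations x hdim
  have hDaff : IsAffineOpen (X.basicOpen h) := hP.basicOpen h
  have hDU : X.basicOpen h ≤ U := by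
    rw [hPh]
    exact inf_le_right
  have hDP : X.basicOpen h ≤ P := X.basicOpen_le h
  have hW : IsAffineOpen (U.ι ⁻¹ᵁ X.basicOpen h) :=
    hDaff.preimage_of_isOpenImmersion U.ι (by rw [Scheme.Opens.opensRange_ι]; exact hDU)
  let T₀ : Set (U : Scheme.{u}) := {w | (U.ι w : X) ⤳ x}
  have hT₀fin : T₀.Finite := by
    refine Set.Finite.of_injOn (f := fun w : (U : Scheme.{u}) => (U.ι w : X))
      (t := {z : X | z ⤳ x ∧ z ≠ x}) ?_ ?_ hfin
    · intro w hw
      exact ⟨hw, fun e => hxU (e ▸ w.2)⟩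
    · intro w _ w' _ e
      exact Subtype.ext e
  let T : Finset (U : Scheme.{u}) := hT₀fin.toFinset
  have hTmem : ∀ w, w ∈ T ↔ (U.ι w : X) ⤳ x := fun w => hT₀fin.mem_toFinset
  have hTW : ∀ w ∈ T, w ∈ U.ι ⁻¹ᵁ X.basicOpen h := by
    intro w hw
    have hw' : (U.ι w : X) ⤳ x := (hTmem w).mp hw
    show (U.ι w : X) ∈ X.basicOpen h
    rw [hPh]
    exact ⟨hw'.mem_open P.isOpen hxP, w.2⟩
  have hTinc : ∀ w ∈ T, ∀ w' ∈ T, w' ⤳ w → w' = w := by
    intro w hw w' hw' hs
    have h1 : (U.ι w : X) ⤳ x := (hTmem w).mp hw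
    have h2 : (U.ι w' : X) ⤳ x := (hTmem w').mp hw'
    have h3 : (U.ι w' : X) ⤳ U.ι w := hs.map U.ι.continuous
    exact Subtype.ext (hinc _ _ h2 (fun e => hxU (e ▸ w'.2)) h1 (fun e => hxU (e ▸ w.2)) h3)
  obtain ⟨k, e, hTk, hgen⟩ := H16Mero.exists_basicOpen_isGen_of_finite hN hW T hTW hTinc
  let Dk : X.Opens := U.ι ''ᵁ ((U : Scheme.{u}).basicOpen k)
  have hDkc : IsCompact (Dk : Set X) := (hW.basicOpen k).isCompact.image U.ι.continuous
  have hDkP : Dk ≤ P := by
    rintro z ⟨w, hw, rfl⟩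
    exact hDP (((U : Scheme.{u}).basicOpen_le k) hw)
  have hgenz : ∀ z : X, z ⤳ x → z ∈ U → z ∈ Dk := by
    intro z hz hzU
    exact ⟨⟨z, hzU⟩, hTk _ ((hTmem _).mpr hz), rfl⟩
  obtain ⟨P', hxP', hP'P, hP'D⟩ := exists_nhd_inf_le U x hP hxP Dk hDkP hDkc hgenz
  have hle : U.ι ⁻¹ᵁ P' ≤ (U : Scheme.{u}).basicOpen k := by
    intro w hw
    have h1 : (U.ι w : X) ∈ Dk := hP'D ⟨hw, w.2⟩
    obtain ⟨w', hw', e'⟩ := h1
    have h2 : w' = w := Subtype.ext e'
    exact h2 ▸ hw'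
  exact ⟨P', res N hle e, hxP', hP'P, hgen.mono hle⟩

/-- The main theorem. -/
theorem main (X : Scheme.{u}) (U : X.Opens) [QuasiCompact U.ι]
    (hdisc : DiscreteTopology ↥((U : Set X)ᶜ))
    (hloc : ∀ x : X, x ∉ U →
      IsNoetherianRing (X.presheaf.stalk x) ∧ ringKrullDim (X.presheaf.stalk x) ≤ 1) :
    (∃ (L : X.Modules) (s : Coh.structureModule X ⟶ L),
        PicF.IsInvertible L ∧ CohB1.genLocus L s = U) ∧
      ∀ N : (↑U : Scheme.{u}).Modules, PicF.IsInvertible N →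
        ∃ L : X.Modules, PicF.IsInvertible L ∧ Nonempty (L.restrict U.ι ≅ N) := by
  classical
  let C : Type u := {x : X // x ∉ U}
  have hchart : ∀ c : C, ∃ (P : X.Opens) (h : Γ(X, P)), IsAffineOpen P ∧ c.1 ∈ P ∧
      X.basicOpen h = P ⊓ U ∧ ∀ z ∈ P, z ∉ U → z = c.1 := by
    intro c
    haveI := (hloc c.1 c.2).1
    exact exists_chart U hdisc c.1 c.2 (hloc c.1 c.2).2
  choose P h hPaff hcP hPh hPiso using hchart
  have hcov : ∀ x : X, x ∈ U ∨ ∃ c, x ∈ P c := by
    intro x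
    by_cases hx : x ∈ U
    · exact Or.inl hx
    · exact Or.inr ⟨⟨x, hx⟩, hcP ⟨x, hx⟩⟩
  have hpair : ∀ c c' : C, c ≠ c' → P c ⊓ P c' ≤ U := by
    intro c c' hne z hz
    by_contra hzU
    exact hne (Subtype.ext ((hPiso c z hz.1 hzU).symm.trans (hPiso c' z hz.2 hzU)))
  refine ⟨exists_section U P h hPh hcov hpair, ?_⟩
  intro N hN
  have hchart2 : ∀ c : C, ∃ (P' : X.Opens) (γ : Γ(N, U.ι ⁻¹ᵁ P')),
      c.1 ∈ P' ∧ P' ≤ P c ∧ IsGen N (U.ι ⁻¹ᵁ P') γ := by
    intro c
    haveI := (hloc c.1 c.2).1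
    exact exists_nhd_isGen U c.1 c.2 (hloc c.1 c.2).2 (P c) (h c) (hPaff c) (hcP c) (hPh c) N hN
  choose P' γ hcP' hP'P hγ using hchart2
  have hpair' : ∀ c c' : C, c ≠ c' → P' c ⊓ P' c' ≤ U := fun c c' hne =>
    (inf_le_inf (hP'P c) (hP'P c')).trans (hpair c c' hne)
  apply ExtGlue.exists_extension_of_charts U.ι N hN P' γ hγ
  · intro x
    by_cases hx : x ∈ U
    · left
      rw [Scheme.Opens.opensRange_ι]
      exact hx
    · right
      exact ⟨⟨x, hx⟩, hcP' ⟨x, hx⟩⟩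
  · intro c c'
    by_cases hcc : c = c'
    · exact Or.inl hcc
    · right
      apply ExtGlue.bijective_app_of_le U.ι
      rw [Scheme.Opens.opensRange_ι]
      exact hpair' c c' hcc
  · intro c c' c''
    by_cases hall : c = c' ∧ c' = c''
    · exact Or.inl hall
    · right
      refine (ExtGlue.bijective_app_of_le U.ι _ ?_).1
      rw [Scheme.Opens.opensRange_ι]
      by_cases hcc : c = c'
      · have hne : c' ≠ c'' := fun e => hall ⟨hcc, e⟩
        exact (inf_le_inf_right _ inf_le_right).trans (hpair' c' c'' hne)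
      · exact inf_le_left.trans (hpair' c c' hcc)

end Groth.Agent.Lib.Helper26.DiscExt
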