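import Mathlib
import Groth.Agent.Lib.Helper26.TwoSec
import Groth.Agent.Lib.Helper26.SepGen
import Groth.Agent.Lib.Helper26.TotalPole
import Groth.Agent.S0217

/-!
# Ample invertible modules on one-dimensional Noetherian separated schemes (helper26)
-/

set_option autoImplicit false
set_option linter.style.haveILetI false
set_option linter.unusedSectionVars false
universe u
open CategoryTheory CategoryTheory.Limits AlgebraicGeometry TopologicalSpace Opposite
open Scheme.Modules Topology

namespace Groth.Agent.Lib.Helper26.AmpleCurve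

open Groth.Agent.Lib.Helper3 Groth.Agent.Lib.Helper3.QCSec Groth.Agent.Lib.Helper3.InvGen
open Groth.Agent.Lib.Helper26.DiscExt

variable {X : Scheme.{u}}

/-- The ring of an affine chart modulo a function vanishing at a single point has finite length. -/
theorem length_quot_ne_top [IsLocallyNoetherian X] {P : X.Opens} (hP : IsAffineOpen P)
    (h : Γ(X, P)) (x : X) (hone : ∀ z ∈ P, z ∉ X.basicOpen h → z = x) :
    Module.length Γ(X, P) (Γ(X, P) ⧸ Ideal.span {h}) ≠ ⊤ := by
  haveI : IsNoetherianRing Γ(X, P) := IsLocallyNoetherian.component_noetherian ⟨P, hP⟩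
  have huniq : ∀ 𝔮 𝔮' : Ideal Γ(X, P), 𝔮.IsPrime → 𝔮'.IsPrime → h ∈ 𝔮 → h ∈ 𝔮' → 𝔮 = 𝔮' := by
    intro 𝔮 𝔮' h𝔮 h𝔮' hh hh'
    have key : ∀ (𝔭 : PrimeSpectrum Γ(X, P)), h ∈ 𝔭.asIdeal → hP.fromSpec 𝔭 = x := by
      intro 𝔭 hmem
      have h1 : hP.fromSpec 𝔭 ∈ P := by
        have h0 : hP.fromSpec 𝔭 ∈ Set.range hP.fromSpec := ⟨𝔭, rfl⟩
        rwa [hP.range_fromSpec] at h0
      apply hone _ h1
      intro h2
      have h3 : 𝔭 ∈ hP.fromSpec ⁻¹ᵁ X.basicOpen h := h2
      rw [hP.fromSpec_preimage_basicOpen] at h3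
      exact h3 hmem
    have e := hP.fromSpec.isOpenEmbedding.injective
      ((key ⟨𝔮, h𝔮⟩ hh).trans (key ⟨𝔮', h𝔮'⟩ hh').symm)
    exact congrArg PrimeSpectrum.asIdeal e
  haveI : Ring.KrullDimLE 0 (Γ(X, P) ⧸ Ideal.span {h}) := by
    rw [Ring.krullDimLE_zero_iff]
    intro I hI
    obtain ⟨𝔐, h𝔐, hI𝔐⟩ := Ideal.exists_le_maximal I hI.ne_top
    have hcm : ∀ J : Ideal (Γ(X, P) ⧸ Ideal.span {h}),
        h ∈ J.comap (Ideal.Quotient.mk (Ideal.span {h})) := fun J => by
      rw [Ideal.mem_comap, Ideal.Quotient.eq_zero_iff_mem.mpr (Ideal.mem_span_singleton_self h)]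
      exact J.zero_mem
    haveI := h𝔐.isPrime
    have e := huniq _ _ (Ideal.comap_isPrime _ I) (Ideal.comap_isPrime _ 𝔐) (hcm I) (hcm 𝔐)
    have e' : I = 𝔐 := Ideal.comap_injective_of_surjective _ Ideal.Quotient.mk_surjective e
    rw [e']
    exact h𝔐
  haveI : IsArtinianRing (Γ(X, P) ⧸ Ideal.span {h}) :=
    IsNoetherianRing.isArtinianRing_of_krullDimLE_zero
  have h1 : Module.length (Γ(X, P) ⧸ Ideal.span {h}) (Γ(X, P) ⧸ Ideal.span {h}) ≠ ⊤ :=
    Module.length_ne_top
  rwa [← Module.length_eq_of_surjective (S := Γ(X, P)) (R := Γ(X, P) ⧸ Ideal.span {h})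
    (M := Γ(X, P) ⧸ Ideal.span {h}) Ideal.Quotient.mk_surjective] at h1

/-- The core construction: an affine open whose complement is a finite set of points with charts is
the non-vanishing locus `X_s` of a section of an invertible module having a second section `s'`
that generates at all points of the complement. -/
theorem exists_two_sections_of_affine [X.IsSeparated] [IsLocallyNoetherian X] (U : X.Opens)
    (hU : IsAffineOpen U) {𝒞 : Type u} [Finite 𝒞] (pt : 𝒞 → X) (P : 𝒞 → X.Opens)
    (h : ∀ c, Γ(X, P c)) (hP : ∀ c, IsAffineOpen (P c)) (hpt : ∀ c, pt c ∈ P c)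
    (hptU : ∀ c, pt c ∉ U) (hPh : ∀ c, X.basicOpen (h c) = P c ⊓ U)
    (hone : ∀ c, ∀ z ∈ P c, z ∉ U → z = pt c)
    (hcov : ∀ x : X, x ∈ U ∨ ∃ c, x = pt c) (hinj : Function.Injective pt) :
    ∃ (L : X.Modules) (s s' : Coh.structureModule X ⟶ L),
      PicF.IsInvertible L ∧ CohB1.genLocus L s = U ∧ ∀ x, x ∉ U → x ∈ CohB1.genLocus L s' := by
  classical
  have hle : ∀ c, X.basicOpen (h c) ≤ U := fun c => (hPh c).le.trans inf_le_right
  let φ : ∀ c, Γ(X, U) →+* Γ(X, X.basicOpen (h c)) := fun c =>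
    (X.presheaf.map (homOfLE (hle c)).op).hom
  haveI : ∀ c, IsLocalization.Away (h c) Γ(X, X.basicOpen (h c)) := fun c =>
    (hP c).isLocalization_basicOpen (h c)
  have hfin : ∀ c, Module.length Γ(X, P c) (Γ(X, P c) ⧸ Ideal.span {h c}) ≠ ⊤ := by
    intro c
    apply length_quot_ne_top (hP c) (h c) (pt c)
    intro z hzP hz
    apply hone c z hzP
    intro hzU
    exact hz ((hPh c).ge ⟨hzP, hzU⟩)
  have hgen : ∀ c, Algebra.adjoin Γ(X, P c) (Set.range (φ c)) = ⊤ := by
    intro c
    have hcl := SepGen.closure_res_eq_top hU (hP c) (hle c) (X.basicOpen_le (h c))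
      (by rw [hPh c, inf_comm])
    rw [eq_top_iff]
    rintro z -
    have hz : z ∈ Subring.closure
        (Set.range (X.presheaf.map (homOfLE (hle c)).op).hom ∪
          Set.range (X.presheaf.map (homOfLE (X.basicOpen_le (h c))).op).hom) := by
      rw [hcl]
      trivial
    have hsub : Subring.closure
        (Set.range (X.presheaf.map (homOfLE (hle c)).op).hom ∪
          Set.range (X.presheaf.map (homOfLE (X.basicOpen_le (h c))).op).hom) ≤
        (Algebra.adjoin Γ(X, P c) (Set.range (φ c))).toSubring := by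
      rw [Subring.closure_le]
      rintro w (⟨a, rfl⟩ | ⟨a, rfl⟩)
      · exact Algebra.subset_adjoin ⟨a, rfl⟩
      · exact Subalgebra.algebraMap_mem _ a
    exact hsub hz
  obtain ⟨f, u, σ, hu, hσ, hrel⟩ := TotalPole.exists_total_pole (A := Γ(X, U))
    (B := fun c => Γ(X, P c)) (C := fun c => Γ(X, X.basicOpen (h c))) φ h hfin hgen
  have hgerm_h : ∀ c, X.presheaf.germ (P c) (pt c) (hpt c) (h c) ∈
      IsLocalRing.maximalIdeal (X.presheaf.stalk (pt c)) := by
    intro c
    rw [IsLocalRing.mem_maximalIdeal, mem_nonunits_iff]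
    intro hunit
    have h1 : pt c ∈ X.basicOpen (h c) := (X.mem_basicOpen (h c) (pt c) (hpt c)).mpr hunit
    rw [hPh c] at h1
    exact hptU c h1.2
  have hgerm_mem : ∀ c (a : Γ(X, P c)), a ∈ Ideal.span {h c} →
      X.presheaf.germ (P c) (pt c) (hpt c) a ∈
        IsLocalRing.maximalIdeal (X.presheaf.stalk (pt c)) := by
    intro c a ha
    obtain ⟨r, rfl⟩ := Ideal.mem_span_singleton'.mp ha
    rw [map_mul]
    exact Ideal.mul_mem_left _ _ (hgerm_h c)
  let P' : 𝒞 → X.Opens := fun c => X.basicOpen (σ c)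
  have hP'P : ∀ c, P' c ≤ P c := fun c => X.basicOpen_le (σ c)
  have hptP' : ∀ c, pt c ∈ P' c := by
    intro c
    refine (X.mem_basicOpen (σ c) (pt c) (hpt c)).mpr ?_
    have h1 := hgerm_mem c _ (hσ c)
    rw [map_sub, map_one] at h1
    have h3 : (1 - X.presheaf.germ (P c) (pt c) (hpt c) (σ c)) ∈
        nonunits (X.presheaf.stalk (pt c)) := by
      rw [← IsLocalRing.mem_maximalIdeal]
      have h2 := (Ideal.neg_mem_iff _).mpr h1
      rwa [neg_sub] at h2
    have h4 := IsLocalRing.isUnit_one_sub_self_of_mem_nonunits _ h3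
    rwa [sub_sub_cancel] at h4
  have hσu : ∀ c, IsUnit (rres X (hP'P c) (σ c)) := fun c =>
    X.toRingedSpace.isUnit_res_basicOpen (σ c)
  let g : ∀ c, Γ(X, P' c) := fun c =>
    rres X (hP'P c) (u c) * (((hσu c).unit⁻¹ : (Γ(X, P' c))ˣ) : Γ(X, P' c))
  have hfg : ∀ c, rres X (inf_le_right : P' c ⊓ U ≤ U) f *
      rres X (inf_le_left : P' c ⊓ U ≤ P' c) (g c) = 1 := by
    intro c
    have hWD : P' c ⊓ U ≤ X.basicOpen (h c) := by
      rw [hPh c]
      exact inf_le_inf_right U (hP'P c)
    have h1 := congrArg (rres X hWD) (hrel c)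
    change rres X hWD (rres X (hle c) f * rres X (X.basicOpen_le (h c)) (u c)) =
      rres X hWD (rres X (X.basicOpen_le (h c)) (σ c)) at h1
    rw [rres_mul, rres_rres, rres_rres, rres_rres] at h1
    have h2 : rres X (inf_le_left : P' c ⊓ U ≤ P' c) (g c) =
        rres X ((inf_le_left : P' c ⊓ U ≤ P' c).trans (hP'P c)) (u c) *
          rres X (inf_le_left : P' c ⊓ U ≤ P' c)
            (((hσu c).unit⁻¹ : (Γ(X, P' c))ˣ) : Γ(X, P' c)) := by
      show rres X _ (rres X (hP'P c) (u c) * _) = _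
      rw [rres_mul, rres_rres]
    have h3 : rres X (inf_le_left : P' c ⊓ U ≤ P' c)
        (((hσu c).unit⁻¹ : (Γ(X, P' c))ˣ) : Γ(X, P' c)) *
          rres X ((inf_le_left : P' c ⊓ U ≤ P' c).trans (hP'P c)) (σ c) = 1 := by
      have h0 : (((hσu c).unit⁻¹ : (Γ(X, P' c))ˣ) : Γ(X, P' c)) * rres X (hP'P c) (σ c) = 1 :=
        IsUnit.val_inv_mul (hσu c)
      have h00 := congrArg (rres X (inf_le_left : P' c ⊓ U ≤ P' c)) h0
      rwa [rres_mul, rres_rres, rres_one] at h00
    rw [h2, ← mul_assoc, h1, mul_comm, h3]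
  have hPg : ∀ c, X.basicOpen (g c) = P' c ⊓ U := by
    intro c
    apply le_antisymm
    · intro z hz
      have hzP' : z ∈ P' c := X.basicOpen_le (g c) hz
      refine ⟨hzP', ?_⟩
      by_contra hzU
      have hzpt : z = pt c := hone c z (hP'P c hzP') hzU
      subst hzpt
      have h1 := (X.mem_basicOpen (g c) (pt c) (hptP' c)).mp hz
      rw [map_mul] at h1
      have h2 : X.presheaf.germ (P' c) (pt c) (hptP' c) (rres X (hP'P c) (u c)) =
          X.presheaf.germ (P c) (pt c) (hpt c) (u c) :=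
        TopCat.Presheaf.germ_res_apply X.presheaf (homOfLE (hP'P c)) (pt c) (hptP' c) (u c)
      rw [h2] at h1
      have h3 := hgerm_mem c _ (hu c)
      exact (IsLocalRing.mem_maximalIdeal _).mp h3 (isUnit_of_mul_isUnit_left h1)
    · intro z hz
      have hW : P' c ⊓ U ≤ P' c := inf_le_left
      have hunit : IsUnit (rres X hW (g c)) :=
        IsUnit.of_mul_eq_one _ (by rw [mul_comm]; exact hfg c)
      have h1 : X.basicOpen (rres X hW (g c)) = (P' c ⊓ U) ⊓ X.basicOpen (g c) :=
        Scheme.basicOpen_res X (g c) (homOfLE hW).op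
      rw [X.basicOpen_of_isUnit hunit] at h1
      have h2 : z ∈ (P' c ⊓ U) ⊓ X.basicOpen (g c) := h1 ▸ hz
      exact h2.2
  have hcov' : ∀ x : X, x ∈ U ∨ ∃ c, x ∈ P' c := by
    intro x
    rcases hcov x with hx | ⟨c, rfl⟩
    · exact Or.inl hx
    · exact Or.inr ⟨c, hptP' c⟩
  have hpair' : ∀ c c', c ≠ c' → P' c ⊓ P' c' ≤ U := by
    rintro c c' hcc' z ⟨hz, hz'⟩
    by_contra hzU
    exact hcc' (hinj ((hone c z (hP'P c hz) hzU).symm.trans (hone c' z (hP'P c' hz') hzU)))
  obtain ⟨L, s, s', hL, hs, hs'⟩ :=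
    TwoSec.exists_two_sections U P' g hPg hcov' hpair' f hfg
  refine ⟨L, s, s', hL, hs, fun x hx => ?_⟩
  rcases hcov x with hxU | ⟨c, rfl⟩
  · exact (hx hxU).elim
  · exact hs' c (hptP' c)

/-- A Noetherian quasi-sober space all of whose points are closed is finite. -/
theorem finite_of_isClosed_singleton {T : Type*} [TopologicalSpace T] [NoetherianSpace T]
    [QuasiSober T] (h : ∀ t : T, IsClosed ({t} : Set T)) : Finite T := by
  have hfin := NoetherianSpace.finite_irreducibleComponents (α := T)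
  have hsub : ∀ C ∈ irreducibleComponents T, ∃ t, C = {t} := by
    intro C hC
    obtain ⟨g, hg⟩ := QuasiSober.sober hC.1 (isClosed_of_mem_irreducibleComponents C hC)
    exact ⟨g, by rw [← hg.def, (h g).closure_eq]⟩
  have h1 : (Set.univ : Set T).Finite := by
    rw [← sUnion_irreducibleComponents]
    refine Set.Finite.sUnion hfin (fun C hC => ?_)
    obtain ⟨t, rfl⟩ := hsub C hC
    exact Set.finite_singleton t
  exact Set.finite_univ_iff.mp h1

/-- In a scheme with local rings of dimension at most one, a point that is a proper specialisation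
is closed. -/
theorem isClosed_singleton_of_specializes
    (hdim : ∀ x : X, ringKrullDim (X.presheaf.stalk x) ≤ 1) (z η : X) (hηz : η ⤳ z)
    (hne : η ≠ z) : IsClosed ({z} : Set X) := by
  rw [← closure_subset_iff_isClosed]
  intro y hy
  by_contra hyz
  have hyz' : y ≠ z := hyz
  have hzy : z ⤳ y := specializes_iff_mem_closure.mpr hy
  have h1 : z < η := by
    refine lt_of_le_not_ge (Scheme.le_iff_specializes.mpr hηz) (fun h => ?_)
    have h2 : z ⤳ η := Scheme.le_iff_specializes.mp h
    exact hne ((h2.antisymm hηz).eq).symm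
  have h2 : y < z := by
    refine lt_of_le_not_ge (Scheme.le_iff_specializes.mpr hzy) (fun h => ?_)
    have h3 : y ⤳ z := Scheme.le_iff_specializes.mp h
    exact hyz' ((h3.antisymm hzy).eq)
  have h3 := Order.coheight_add_one_le h1
  have h4 := Order.coheight_add_one_le h2
  have h5 : (2 : ℕ∞) ≤ Order.coheight y := by
    calc (2 : ℕ∞) = 0 + 1 + 1 := by norm_num
      _ ≤ Order.coheight η + 1 + 1 := by gcongr; exact zero_le
      _ ≤ Order.coheight z + 1 := by gcongr
      _ ≤ Order.coheight y := h4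
  have h6 := hdim y
  rw [ringKrullDim_stalk_eq_coheight] at h6
  have h7 : Order.coheight y ≤ (1 : ℕ∞) := by exact_mod_cast h6
  exact absurd (h5.trans h7) (by decide)

/-- Every point has an affine neighbourhood of the form `X_s`, `s` a section of an invertible
module generated by `s` and a second section. -/
theorem exists_good_pair [IsNoetherian X] [X.IsSeparated]
    (hdim : ∀ x : X, ringKrullDim (X.presheaf.stalk x) ≤ 1) (x : X) :
    ∃ (U : X.Opens) (L : X.Modules) (s s' : Coh.structureModule X ⟶ L), IsAffineOpen U ∧ x ∈ U ∧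
      PicF.IsInvertible L ∧ CohB1.genLocus L s = U ∧ ∀ z, z ∉ U → z ∈ CohB1.genLocus L s' := by
  classical
  have hcomp := NoetherianSpace.finite_irreducibleComponents (α := X)
  have hgenpt : ∀ Z : irreducibleComponents X, ∃ η : X, IsGenericPoint η (Z : Set X) := fun Z =>
    QuasiSober.sober Z.2.1 (isClosed_of_mem_irreducibleComponents _ Z.2)
  choose γ hγ using hgenpt
  haveI : Fintype (irreducibleComponents X) := hcomp.fintype
  let S₀ : Finset X := insert x (Finset.univ.image γ)
  obtain ⟨U, hU, hS₀U⟩ := Groth.Agent.S0217.result X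
    (fun V _ => NoetherianSpace.finite_irreducibleComponents) S₀
    (fun y _ => ⟨inferInstance, hdim y⟩)
  have hxU : x ∈ U := hS₀U x (Finset.mem_insert_self _ _)
  have hgen : ∀ z : X, ∃ η ∈ U, η ⤳ z := by
    intro z
    let Z : irreducibleComponents X :=
      ⟨irreducibleComponent z, irreducibleComponent_mem_irreducibleComponents z⟩
    refine ⟨γ Z, hS₀U _ (Finset.mem_insert_of_mem
      (Finset.mem_image_of_mem γ (Finset.mem_univ Z))), ?_⟩
    rw [specializes_iff_mem_closure, (hγ Z).def]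
    exact mem_irreducibleComponent
  have hclosed : ∀ z, z ∉ U → IsClosed ({z} : Set X) := by
    intro z hz
    obtain ⟨η, hηU, hηz⟩ := hgen z
    exact isClosed_singleton_of_specializes hdim z η hηz (fun e => hz (e ▸ hηU))
  have hZcl : IsClosed ((U : Set X)ᶜ) := U.isOpen.isClosed_compl
  haveI : QuasiSober ↥((U : Set X)ᶜ) := hZcl.isClosedEmbedding_subtypeVal.quasiSober
  have hpts : ∀ t : ↥((U : Set X)ᶜ), IsClosed ({t} : Set ↥((U : Set X)ᶜ)) := by
    intro t
    have h1 : IsClosed ((Subtype.val : ↥((U : Set X)ᶜ) → X) ⁻¹' {t.1}) :=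
      (hclosed t.1 t.2).preimage continuous_subtype_val
    convert h1 using 1
    ext w
    simp [Subtype.ext_iff]
  haveI : Finite ↥((U : Set X)ᶜ) := finite_of_isClosed_singleton hpts
  haveI : T1Space ↥((U : Set X)ᶜ) := ⟨hpts⟩
  have hdisc : DiscreteTopology ↥((U : Set X)ᶜ) := inferInstance
  have hchart : ∀ c : ↥((U : Set X)ᶜ), ∃ (P : X.Opens) (h : Γ(X, P)), IsAffineOpen P ∧
      c.1 ∈ P ∧ X.basicOpen h = P ⊓ U ∧ ∀ z ∈ P, z ∉ U → z = c.1 := fun c =>
    exists_chart U hdisc c.1 c.2 (hdim c.1)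
  choose P h hP hcP hPh hone using hchart
  obtain ⟨L, s, s', hL, hs, hs'⟩ := exists_two_sections_of_affine U hU
    (fun c : ↥((U : Set X)ᶜ) => c.1) P h hP hcP (fun c => c.2) hPh hone
    (fun z => by
      by_cases hz : z ∈ U
      · exact Or.inl hz
      · exact Or.inr ⟨⟨z, hz⟩, rfl⟩) Subtype.val_injective
  exact ⟨U, L, s, s', hU, hxU, hL, hs, hs'⟩

open InvAmple InvTensor InvMonoidal in
theorem secLocus_of_section {L : X.Modules} (σ : Coh.structureModule X ⟶ L) :
    CohB1.genLocus L σ ∈ SecLocus L :=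
  ⟨0, σ ≫ (powOne L).hom, (genLocus_comp_iso σ _).symm⟩

open InvAmple InvTensor InvMonoidal in
/-- **A Noetherian separated scheme with local rings of dimension at most one has an ample
invertible module.** -/
theorem exists_isAmple [IsNoetherian X] [X.IsSeparated]
    (hdim : ∀ x : X, ringKrullDim (X.presheaf.stalk x) ≤ 1) :
    ∃ L : X.Modules, CohB1.IsAmple L := by
  classical
  choose U M s s' hU hxU hM hs hs' using exists_good_pair (X := X) hdim
  obtain ⟨t, ht⟩ : ∃ t : Finset X, ∀ z : X, ∃ x ∈ t, z ∈ U x := by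
    obtain ⟨t, ht⟩ := isCompact_univ.elim_finite_subcover (fun x : X => (U x : Set X))
      (fun x => (U x).isOpen) (fun z _ => Set.mem_iUnion.mpr ⟨z, hxU z⟩)
    refine ⟨t, fun z => ?_⟩
    have h1 := ht (Set.mem_univ z)
    simpa using h1
  have hsec : ∀ x z, ∃ V ∈ SecLocus (M x), z ∈ V := by
    intro x z
    by_cases hz : z ∈ U x
    · exact ⟨_, secLocus_of_section (s x), by rw [hs x]; exact hz⟩
    · exact ⟨_, secLocus_of_section (s' x), hs' x z hz⟩
  have key : ∀ t' : Finset X, ∃ L : X.Modules, PicF.IsInvertible L ∧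
      (∀ z : X, ∃ V ∈ SecLocus L, z ∈ V) ∧
      ∀ z : X, (∃ x ∈ t', z ∈ U x) → ∃ V ∈ SecLocus L, z ∈ V ∧ IsAffineOpen V := by
    intro t'
    induction t' using Finset.induction_on with
    | empty =>
      refine ⟨Coh.structureModule X, isInvertible_structureModule X,
        fun z => ⟨⊤, secLocus_unit_iff.mpr ⟨1, X.basicOpen_one.symm⟩, trivial⟩, ?_⟩
      rintro z ⟨x, hx, -⟩
      exact absurd hx (Finset.notMem_empty x)
    | insert x t' hx ih =>
      obtain ⟨L, hL, hall, haff⟩ := ih
      refine ⟨CohB1.tensorMod L (M x), isInvertible_tensorMod hL (hM x), ?_, ?_⟩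
      · intro z
        obtain ⟨V, hV, hzV⟩ := hall z
        obtain ⟨V', hV', hzV'⟩ := hsec x z
        exact ⟨V ⊓ V', secLocus_tensor hL (hM x) hV hV', hzV, hzV'⟩
      · rintro z ⟨y, hy, hzy⟩
        rcases Finset.mem_insert.mp hy with rfl | hy'
        · obtain ⟨V, hV, hzV⟩ := hall z
          have hUsec : U y ∈ SecLocus (M y) := by
            have h1 := secLocus_of_section (s y)
            rwa [hs y] at h1
          refine ⟨V ⊓ U y, secLocus_tensor hL (hM y) hV hUsec, ⟨hzV, hzy⟩, ?_⟩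
          obtain ⟨n, σ, rfl⟩ := hV
          exact isAffineOpen_genLocus_inf (isInvertible_tensorPow hL _) σ (hU y)
        · obtain ⟨V, hV, hzV, hVa⟩ := haff z ⟨y, hy', hzy⟩
          obtain ⟨V', hV', hzV'⟩ := hsec x z
          refine ⟨V ⊓ V', secLocus_tensor hL (hM x) hV hV', ⟨hzV, hzV'⟩, ?_⟩
          obtain ⟨n, σ, rfl⟩ := hV'
          rw [inf_comm]
          exact isAffineOpen_genLocus_inf (isInvertible_tensorPow (hM x) _) σ hVa
  obtain ⟨L, hL, -, haff⟩ := key t
  exact ⟨L, isAmple_of_secLocus hL (fun z => haff z (ht z))⟩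

section Top

variable {T : Type*} [TopologicalSpace T]

attribute [local instance] specializationPreorder

/-- The dimension of a sober space is the supremum of the coheights of its points. -/
theorem topologicalKrullDim_eq_iSup_coheight' [QuasiSober T] [T0Space T] :
    topologicalKrullDim T = ⨆ t : T, ((Order.coheight t : ℕ∞) : WithBot ℕ∞) := by
  unfold topologicalKrullDim
  rw [Order.krullDim_eq_of_orderIso (irreducibleSetEquivPoints (α := T))]
  exact Order.krullDim_eq_iSup_coheight

end Top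

theorem ringKrullDim_stalk_le_topologicalKrullDim (x : X) :
    ringKrullDim (X.presheaf.stalk x) ≤ topologicalKrullDim X := by
  rw [ringKrullDim_stalk_eq_coheight, topologicalKrullDim_eq_iSup_coheight']
  exact le_iSup (fun t : X => ((Order.coheight t : ℕ∞) : WithBot ℕ∞)) x

/-- A Noetherian separated scheme of dimension at most one has an ample invertible module. -/
theorem exists_isAmple_of_dim_le_one [IsNoetherian X] [X.IsSeparated]
    (hdim : topologicalKrullDim X ≤ 1) : ∃ L : X.Modules, CohB1.IsAmple L :=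
  exists_isAmple fun x => (ringKrullDim_stalk_le_topologicalKrullDim x).trans hdim

end Groth.Agent.Lib.Helper26.AmpleCurve
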