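import Mathlib
import Groth.Agent.Lib.Helper26.TotalPole

/-!
# A function of a prescribed ideal with a total pole at a prime of height one (helper26)

`B` is the ring of an affine chart `P`, `𝔭` the prime of a point `c` of codimension one,
`Bt = B_𝔭` its local ring, `t ∈ 𝔭` a function whose zero locus near `c` is the closure of `c`,
`C' = B[1/t]` the ring of `P ∩ U`, and `A` the ring of the affine open `U`, mapping to `C'`.
If `C'` is generated by `A` and `B`, every ideal `𝔞` of `A` whose image generates the unit ideal of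
`C'` contains an element `a` with `a · g = h` in `C'`, where `g ∈ t B` and `h ∉ 𝔭`: near `c` the
function `a` is invertible on `P ∩ U` and its inverse extends to a function vanishing along `c`.
-/

set_option autoImplicit false
set_option linter.style.haveILetI false
universe u

namespace Groth.Agent.Lib.Helper26.PoleAlg

open Groth.Agent.Lib.Helper26.TotalPole

section Local

variable {R : Type u} [CommRing R] [IsLocalRing R] [IsNoetherianRing R]

/-- `R / t` has finite length when `t` lies in no prime but the maximal ideal. -/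
theorem length_quot_ne_top_of_avoid (t : R)
    (hav : ∀ q : Ideal R, q.IsPrime → t ∈ q → q = IsLocalRing.maximalIdeal R) :
    Module.length R (R ⧸ Ideal.span {t}) ≠ ⊤ := by
  haveI : Ring.KrullDimLE 0 (R ⧸ Ideal.span {t}) := by
    rw [Ring.krullDimLE_zero_iff]
    intro I hI
    obtain ⟨𝔐, h𝔐, hI𝔐⟩ := Ideal.exists_le_maximal I hI.ne_top
    have hcm : ∀ J : Ideal (R ⧸ Ideal.span {t}),
        t ∈ J.comap (Ideal.Quotient.mk (Ideal.span {t})) := fun J => by
      rw [Ideal.mem_comap, Ideal.Quotient.eq_zero_iff_mem.mpr (Ideal.mem_span_singleton_self t)]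
      exact J.zero_mem
    haveI := h𝔐.isPrime
    have e : I.comap (Ideal.Quotient.mk (Ideal.span {t})) =
        𝔐.comap (Ideal.Quotient.mk (Ideal.span {t})) :=
      (hav _ (Ideal.comap_isPrime _ I) (hcm I)).trans
        (hav _ (Ideal.comap_isPrime _ 𝔐) (hcm 𝔐)).symm
    have e' : I = 𝔐 := Ideal.comap_injective_of_surjective _ Ideal.Quotient.mk_surjective e
    rw [e']
    exact h𝔐
  haveI : IsArtinianRing (R ⧸ Ideal.span {t}) :=
    IsNoetherianRing.isArtinianRing_of_krullDimLE_zero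
  have h1 : Module.length (R ⧸ Ideal.span {t}) (R ⧸ Ideal.span {t}) ≠ ⊤ :=
    Module.length_ne_top
  rwa [← Module.length_eq_of_surjective (S := R) (R := R ⧸ Ideal.span {t})
    (M := R ⧸ Ideal.span {t}) Ideal.Quotient.mk_surjective] at h1

/-- Localising a local ring of dimension at most one at an element of the maximal ideal gives a
zero-dimensional ring. -/
theorem krullDimLE_zero_away (hdim : ringKrullDim R ≤ 1) (t : R)
    (ht : t ∈ IsLocalRing.maximalIdeal R) (S : Type u) [CommRing S] [Algebra R S]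
    [IsLocalization.Away t S] : Ring.KrullDimLE 0 S := by
  haveI : Ring.KrullDimLE 1 R := Ring.krullDimLE_iff.mpr (by exact_mod_cast hdim)
  rw [Ring.krullDimLE_zero_iff]
  intro I hI
  obtain ⟨𝔐, h𝔐, hI𝔐⟩ := Ideal.exists_le_maximal I hI.ne_top
  haveI := h𝔐.isPrime
  have hq₂ : (𝔐.comap (algebraMap R S)).IsPrime := Ideal.comap_isPrime _ _
  have hq : (I.comap (algebraMap R S)).IsPrime := Ideal.comap_isPrime _ _
  have htn : t ∉ 𝔐.comap (algebraMap R S) := by
    intro h
    have hu : IsUnit (algebraMap R S t) := IsLocalization.Away.algebraMap_isUnit t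
    exact h𝔐.ne_top (Ideal.eq_top_of_isUnit_mem _ (Ideal.mem_comap.mp h) hu)
  have hmin : 𝔐.comap (algebraMap R S) ∈ minimalPrimes R := by
    rcases Ring.krullDimLE_one_iff.mp ‹_› _ hq₂ with h | h
    · exact h
    · exfalso
      have h0 := IsLocalRing.eq_maximalIdeal h
      rw [h0] at htn
      exact htn ht
  have hle : I.comap (algebraMap R S) ≤ 𝔐.comap (algebraMap R S) := Ideal.comap_mono hI𝔐
  have hge : 𝔐.comap (algebraMap R S) ≤ I.comap (algebraMap R S) := hmin.2 ⟨hq, bot_le⟩ hle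
  have e0 : I.under R = 𝔐.under R := le_antisymm hle hge
  have e : I = 𝔐 :=
    ((IsLocalization.map_comap (Submonoid.powers t) S I).symm.trans
      (congrArg (Ideal.map (algebraMap R S)) e0)).trans
      (IsLocalization.map_comap (Submonoid.powers t) S 𝔐)
  rw [e]
  exact h𝔐

end Local

section Main

variable {A B C' Bt Ct : Type u} [CommRing A] [CommRing B] [CommRing C'] [CommRing Bt]
  [CommRing Ct] [Algebra B C'] [Algebra B Bt] [Algebra Bt Ct]

/-- The kernel of `B[1/t] → B_𝔭[1/t]` is killed by elements outside `𝔭`. -/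
theorem exists_primeCompl_mul_eq_zero (t : B) [IsLocalization.Away t C'] (𝔭 : Ideal B)
    [𝔭.IsPrime] [IsLocalization.AtPrime Bt 𝔭] [IsLocalization.Away (algebraMap B Bt t) Ct]
    (ρ : C' →+* Ct)
    (hρ : ∀ b : B, ρ (algebraMap B C' b) = algebraMap Bt Ct (algebraMap B Bt b))
    (x : C') (hx : ρ x = 0) : ∃ s : B, s ∉ 𝔭 ∧ algebraMap B C' s * x = 0 := by
  obtain ⟨n, b, hb⟩ := IsLocalization.Away.surj t x
  have hTu : IsUnit (algebraMap B C' t) := IsLocalization.Away.algebraMap_isUnit t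
  have h1 : algebraMap Bt Ct (algebraMap B Bt b) = 0 := by
    rw [← hρ, ← hb, map_mul, hx, zero_mul]
  obtain ⟨⟨m, hm'⟩, hm⟩ :=
    (IsLocalization.map_eq_zero_iff (Submonoid.powers (algebraMap B Bt t)) Ct _).mp h1
  obtain ⟨k, rfl⟩ := (Submonoid.mem_powers_iff _ _).mp hm'
  have h2 : algebraMap B Bt (t ^ k * b) = 0 := by
    rw [map_mul, map_pow]
    exact hm
  obtain ⟨⟨s, hs⟩, hs0⟩ := (IsLocalization.map_eq_zero_iff 𝔭.primeCompl Bt _).mp h2
  refine ⟨s, hs, ?_⟩
  have hs0' : s * (t ^ k * b) = 0 := hs0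
  have h3 : algebraMap B C' s * (algebraMap B C' t ^ k * algebraMap B C' b) = 0 := by
    rw [← map_pow, ← map_mul, ← map_mul, hs0', map_zero]
  have h4 : algebraMap B C' s * algebraMap B C' b = 0 := by
    have h5 : (algebraMap B C' s * algebraMap B C' b) * algebraMap B C' t ^ k = 0 := by
      rw [← h3]
      ring
    exact (hTu.pow k).mul_left_eq_zero.mp h5
  have h5 : (algebraMap B C' s * x) * algebraMap B C' t ^ n = 0 := by
    rw [mul_assoc, hb, h4]
  exact (hTu.pow n).mul_left_eq_zero.mp h5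

variable [IsLocalRing Bt] [IsNoetherianRing Bt]

theorem exists_pole_in_ideal_aux (t : B) [IsLocalization.Away t C'] (𝔭 : Ideal B) [𝔭.IsPrime]
    [IsLocalization.AtPrime Bt 𝔭] [IsLocalization.Away (algebraMap B Bt t) Ct]
    (hdim : ringKrullDim Bt ≤ 1) (ht : t ∈ 𝔭)
    (hav : ∀ q : Ideal Bt, q.IsPrime → algebraMap B Bt t ∈ q → q = IsLocalRing.maximalIdeal Bt)
    (φ : A →+* C') (hgen : Algebra.adjoin B (Set.range φ) = ⊤)
    (𝔞 : Ideal A) (h𝔞 : Ideal.span (φ '' (𝔞 : Set A)) = ⊤) :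
    ∃ a ∈ 𝔞, ∃ g ∈ Ideal.span {t}, ∃ h : B, h ∉ 𝔭 ∧
      φ a * algebraMap B C' g = algebraMap B C' h := by
  classical
  obtain ⟨tt, htt⟩ : ∃ tt : Bt, tt = algebraMap B Bt t := ⟨_, rfl⟩
  haveI hloc : IsLocalization.Away tt Ct := by rw [htt]; infer_instance
  rw [← htt] at hav
  have httm : tt ∈ IsLocalRing.maximalIdeal Bt := by
    rw [htt]
    exact (IsLocalization.AtPrime.to_map_mem_maximal_iff Bt 𝔭 t).mpr ht
  have hTu : IsUnit (algebraMap Bt Ct tt) := IsLocalization.Away.algebraMap_isUnit tt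
  let ψ : B →+* Ct := (algebraMap Bt Ct).comp (algebraMap B Bt)
  have hψt : IsUnit (ψ t) := by
    show IsUnit (algebraMap Bt Ct (algebraMap B Bt t))
    rw [← htt]
    exact hTu
  let ρ : C' →+* Ct := IsLocalization.Away.lift t hψt
  have hρ : ∀ b : B, ρ (algebraMap B C' b) = algebraMap Bt Ct (algebraMap B Bt b) :=
    fun b => IsLocalization.Away.lift_eq t hψt b
  let φt : A →+* Ct := ρ.comp φ
  have hφt : ∀ a, φt a = ρ (φ a) := fun _ => rfl
  have hfin : Module.length Bt (Bt ⧸ Ideal.span {tt}) ≠ ⊤ := length_quot_ne_top_of_avoid tt hav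
  have hgen' : Algebra.adjoin Bt (Set.range φt) = ⊤ := by
    have hmem : ∀ x ∈ Algebra.adjoin B (Set.range φ), ρ x ∈ Algebra.adjoin Bt (Set.range φt) := by
      intro x hx
      induction hx using Algebra.adjoin_induction with
      | mem x hx =>
        obtain ⟨a, rfl⟩ := hx
        exact Algebra.subset_adjoin ⟨a, rfl⟩
      | algebraMap r =>
        rw [hρ]
        exact Subalgebra.algebraMap_mem _ _
      | add x y _ _ hx hy =>
        rw [map_add]
        exact add_mem hx hy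
      | mul x y _ _ hx hy =>
        rw [map_mul]
        exact mul_mem hx hy
    obtain ⟨tinv, htinv⟩ :=
      (IsLocalization.Away.algebraMap_isUnit (S := C') t).exists_right_inv
    have h1 : ρ tinv ∈ Algebra.adjoin Bt (Set.range φt) := hmem _ (by rw [hgen]; trivial)
    have h2 : algebraMap Bt Ct tt * ρ tinv = 1 := by
      rw [htt, ← hρ, ← map_mul, htinv, map_one]
    rw [eq_top_iff]
    rintro z -
    obtain ⟨n, b, hb⟩ := IsLocalization.Away.surj tt z
    have h3 : z = algebraMap Bt Ct b * ρ tinv ^ n := by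
      calc z = z * (algebraMap Bt Ct tt * ρ tinv) ^ n := by rw [h2, one_pow, mul_one]
        _ = (z * algebraMap Bt Ct tt ^ n) * ρ tinv ^ n := by ring
        _ = _ := by rw [hb]
    rw [h3]
    exact mul_mem (Subalgebra.algebraMap_mem _ _) (pow_mem h1 n)
  haveI : ∀ c : Unit, IsLocalization.Away ((fun _ : Unit => tt) c) ((fun _ : Unit => Ct) c) :=
    fun _ => hloc
  obtain ⟨f, u, σ, hu, hσ, hrel⟩ := exists_total_pole (𝒞 := Unit) (B := fun _ => Bt)
    (C := fun _ => Ct) (fun _ => φt) (fun _ => tt) (fun _ => hfin) (fun _ => hgen')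
  have hu0 : u () ∈ Ideal.span {tt} := hu ()
  have hσ0 : σ () - 1 ∈ Ideal.span {tt} := hσ ()
  have hrel0 : φt f * algebraMap Bt Ct (u ()) = algebraMap Bt Ct (σ ()) := hrel ()
  obtain ⟨u', hu'⟩ := Ideal.mem_span_singleton'.mp hu0
  have hσu : IsUnit (σ ()) := by
    have h3 : (1 - σ ()) ∈ nonunits Bt := by
      have h0 : σ () - 1 ∈ IsLocalRing.maximalIdeal Bt :=
        ((Ideal.span_singleton_le_iff_mem _).mpr httm) hσ0
      have h4 : 1 - σ () ∈ IsLocalRing.maximalIdeal Bt := by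
        have h5 := (IsLocalRing.maximalIdeal Bt).neg_mem h0
        rwa [neg_sub] at h5
      exact (IsLocalRing.mem_maximalIdeal _).mp h4
    have h5 := IsLocalRing.isUnit_one_sub_self_of_mem_nonunits _ h3
    rwa [sub_sub_cancel] at h5
  obtain ⟨σi, hσi⟩ := hσu.exists_right_inv
  haveI : IsNoetherianRing Ct :=
    IsLocalization.isNoetherianRing (Submonoid.powers tt) Ct inferInstance
  haveI : Ring.KrullDimLE 0 Ct := krullDimLE_zero_away hdim tt httm Ct
  haveI : IsArtinianRing Ct := IsNoetherianRing.isArtinianRing_of_krullDimLE_zero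
  haveI : Finite (PrimeSpectrum Ct) := inferInstance
  haveI := Fintype.ofFinite (PrimeSpectrum Ct)
  obtain ⟨a₁, ha₁, ha₁u⟩ : ∃ a₁ ∈ 𝔞, IsUnit (φt a₁) := by
    by_contra hcon
    push Not at hcon
    have hsub : ((𝔞 : Set A)) ⊆
        ⋃ q ∈ ((Finset.univ : Finset (PrimeSpectrum Ct)) : Set (PrimeSpectrum Ct)),
          ((q.asIdeal.comap φt : Ideal A) : Set A) := by
      intro a ha
      obtain ⟨𝔐, h𝔐, hmem⟩ := exists_max_ideal_of_mem_nonunits (hcon a ha)
      simp only [Set.mem_iUnion]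
      exact ⟨⟨𝔐, h𝔐.isPrime⟩, Finset.mem_coe.mpr (Finset.mem_univ _), hmem⟩
    obtain ⟨𝔐₀, h𝔐₀, -⟩ := exists_max_ideal_of_mem_nonunits (hcon 0 𝔞.zero_mem)
    let q₀ : PrimeSpectrum Ct := ⟨𝔐₀, h𝔐₀.isPrime⟩
    obtain ⟨q, -, hq⟩ := (Ideal.subset_union_prime (s := Finset.univ)
      (f := fun q : PrimeSpectrum Ct => q.asIdeal.comap φt) q₀ q₀
      (fun i _ _ _ => Ideal.comap_isPrime φt i.asIdeal)).mp hsub
    have h1 : Ideal.span (φ '' (𝔞 : Set A)) ≤ q.asIdeal.comap ρ := by
      rw [Ideal.span_le]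
      rintro _ ⟨a, ha, rfl⟩
      exact hq ha
    rw [h𝔞] at h1
    have h2 : (1 : C') ∈ q.asIdeal.comap ρ := h1 trivial
    rw [Ideal.mem_comap, map_one] at h2
    exact q.isPrime.ne_top ((Ideal.eq_top_iff_one _).mpr h2)
  obtain ⟨E, hE⟩ := ha₁u.exists_right_inv
  obtain ⟨n, y, hy⟩ := IsLocalization.Away.surj tt E
  obtain ⟨T', hT'⟩ := hTu.exists_right_inv
  obtain ⟨w, hw0⟩ : ∃ w : Bt, w = u' ^ (n + 1) * σi ^ (n + 1) * y := ⟨_, rfl⟩
  have hZ : φt (f ^ (n + 1) * a₁) * algebraMap Bt Ct (tt * w) = 1 := by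
    have hF : φt f * algebraMap Bt Ct u' * algebraMap Bt Ct σi = T' := by
      have h1 : φt f * (algebraMap Bt Ct u' * algebraMap Bt Ct tt) = algebraMap Bt Ct (σ ()) := by
        rw [← map_mul, hu']
        exact hrel0
      have h2 : algebraMap Bt Ct (σ ()) * algebraMap Bt Ct σi = 1 := by
        rw [← map_mul, hσi, map_one]
      calc φt f * algebraMap Bt Ct u' * algebraMap Bt Ct σi
          = φt f * algebraMap Bt Ct u' * algebraMap Bt Ct σi * (algebraMap Bt Ct tt * T') := by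
            rw [hT', mul_one]
        _ = (φt f * (algebraMap Bt Ct u' * algebraMap Bt Ct tt)) * algebraMap Bt Ct σi * T' := by
            ring
        _ = T' := by rw [h1, h2, one_mul]
    have hEY : algebraMap Bt Ct y * T' ^ n = E := by
      rw [← hy]
      calc E * algebraMap Bt Ct tt ^ n * T' ^ n = E * (algebraMap Bt Ct tt * T') ^ n := by ring
        _ = E := by rw [hT', one_pow, mul_one]
    calc φt (f ^ (n + 1) * a₁) * algebraMap Bt Ct (tt * w)
        = φt a₁ * ((φt f * algebraMap Bt Ct u' * algebraMap Bt Ct σi) ^ (n + 1) *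
            algebraMap Bt Ct tt * algebraMap Bt Ct y) := by
          rw [hw0]
          simp only [map_mul, map_pow]
          ring
      _ = φt a₁ * (T' ^ (n + 1) * algebraMap Bt Ct tt * algebraMap Bt Ct y) := by rw [hF]
      _ = φt a₁ * (algebraMap Bt Ct y * T' ^ n * (algebraMap Bt Ct tt * T')) := by ring
      _ = 1 := by rw [hT', mul_one, hEY, hE]
  obtain ⟨⟨g', ⟨s₀, hs₀⟩⟩, hw⟩ := IsLocalization.mk'_surjective 𝔭.primeCompl w
  have hw' : w * algebraMap B Bt s₀ = algebraMap B Bt g' := by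
    rw [← hw]
    exact IsLocalization.mk'_spec Bt g' ⟨s₀, hs₀⟩
  obtain ⟨a, ha0⟩ : ∃ a : A, a = f ^ (n + 1) * a₁ := ⟨_, rfl⟩
  have haI : a ∈ 𝔞 := by
    rw [ha0]
    exact 𝔞.mul_mem_left _ ha₁
  rw [← ha0] at hZ
  obtain ⟨x, hx0⟩ : ∃ x : C', x = φ a * algebraMap B C' (t * g') - algebraMap B C' s₀ := ⟨_, rfl⟩
  have hx : ρ x = 0 := by
    have e1 : ρ x = φt a * algebraMap Bt Ct (tt * w) * algebraMap Bt Ct (algebraMap B Bt s₀) -
        algebraMap Bt Ct (algebraMap B Bt s₀) := by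
      rw [hx0, map_sub, map_mul, hρ, hρ, map_mul (algebraMap B Bt), ← hw', ← htt, hφt]
      simp only [map_mul]
      ring
    rw [e1, hZ, one_mul, sub_self]
  obtain ⟨s₁, hs₁, hs₁x⟩ := exists_primeCompl_mul_eq_zero (Bt := Bt) (Ct := Ct) t 𝔭 ρ hρ x hx
  refine ⟨a, haI, t * g' * s₁, Ideal.mem_span_singleton'.mpr ⟨g' * s₁, by ring⟩, s₀ * s₁,
    𝔭.primeCompl.mul_mem hs₀ hs₁, ?_⟩
  rw [hx0] at hs₁x
  simp only [map_mul] at hs₁x ⊢
  linear_combination hs₁x

/-- **A function of a prescribed ideal with a total pole.**  See the module docstring. -/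
theorem exists_pole_in_ideal (t : B) [IsLocalization.Away t C'] (𝔭 : Ideal B) [𝔭.IsPrime]
    [IsLocalization.AtPrime Bt 𝔭]
    (hdim : ringKrullDim Bt ≤ 1) (ht : t ∈ 𝔭)
    (hav : ∀ q : Ideal Bt, q.IsPrime → algebraMap B Bt t ∈ q → q = IsLocalRing.maximalIdeal Bt)
    (φ : A →+* C') (hgen : Algebra.adjoin B (Set.range φ) = ⊤)
    (𝔞 : Ideal A) (h𝔞 : Ideal.span (φ '' (𝔞 : Set A)) = ⊤) :
    ∃ a ∈ 𝔞, ∃ g ∈ Ideal.span {t}, ∃ h : B, h ∉ 𝔭 ∧
      φ a * algebraMap B C' g = algebraMap B C' h :=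
  exists_pole_in_ideal_aux (Ct := Localization.Away (algebraMap B Bt t)) t 𝔭 hdim ht hav φ hgen
    𝔞 h𝔞

end Main

end Groth.Agent.Lib.Helper26.PoleAlg
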