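import Mathlib
import Groth.Agent.Lib.Helper26.TwoSec

/-!
# Gluing an invertible module with all its compatible sections (helper26)
-/

set_option autoImplicit false
set_option linter.style.haveILetI false
set_option linter.unusedSectionVars false
universe u
open CategoryTheory CategoryTheory.Limits AlgebraicGeometry TopologicalSpace Opposite
open Scheme.Modules Topology

namespace Groth.Agent.Lib.Helper26.TwoSec2

open Groth.Agent.Lib.Helper3 Groth.Agent.Lib.Helper3.QCSec Groth.Agent.Lib.Helper3.InvGen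
open Groth.Agent.Lib.Helper26.DiscExt

variable {X : Scheme.{u}}

/-- Gluing the structure sheaves of `U` and of the charts `P c` along the functions `h c`: the
resulting invertible module has a global section for every family `(α; β c)` of functions with
`α · h c = β c` on `P c ∩ U`, whose non-vanishing locus is `D(α)` on `U` and `D(β c)` on `P c`. -/
theorem exists_glue (U : X.Opens) {C : Type u} (P : C → X.Opens) (h : ∀ c, Γ(X, P c))
    (hPh : ∀ c, X.basicOpen (h c) = P c ⊓ U)
    (hcov : ∀ x : X, x ∈ U ∨ ∃ c, x ∈ P c)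
    (hpair : ∀ c c', c ≠ c' → P c ⊓ P c' ≤ U) :
    ∃ L : X.Modules, PicF.IsInvertible L ∧
      ∀ (α : Γ(X, U)) (β : ∀ c, Γ(X, P c)),
        (∀ c, rres X (inf_le_right : P c ⊓ U ≤ U) α *
          rres X (inf_le_left : P c ⊓ U ≤ P c) (h c) =
          rres X (inf_le_left : P c ⊓ U ≤ P c) (β c)) →
        ∃ s : Coh.structureModule X ⟶ L, CohB1.genLocus L s ⊓ U = X.basicOpen α ∧
          ∀ c, CohB1.genLocus L s ⊓ P c = X.basicOpen (β c) := by
  classical
  let N : Option C → X.Opens := fun a => Option.elim a U P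
  let H : ∀ a : Option C, Γ(X, N a) := fun a =>
    Option.rec (motive := fun a => Γ(X, N a)) (1 : Γ(X, U)) (fun c => h c) a
  have hNH : ∀ a, X.basicOpen (H a) = N a ⊓ U := by
    rintro (_ | c)
    · show X.basicOpen (1 : Γ(X, U)) = U ⊓ U
      rw [inf_idem]
      exact X.basicOpen_one
    · exact hPh c
  have hNpair : ∀ a b, a ≠ b → N a ⊓ N b ≤ U := by
    rintro (_ | c) (_ | c') hab
    · exact (hab rfl).elim
    · exact inf_le_left
    · exact inf_le_right
    · exact hpair c c' (fun e => hab (congrArg some e))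
  have hNcov : iSup N = ⊤ := by
    rw [eq_top_iff]
    intro z _
    rcases hcov z with hz | ⟨c, hz⟩
    · exact Opens.mem_iSup.mpr ⟨none, hz⟩
    · exact Opens.mem_iSup.mpr ⟨some c, hz⟩
  have hu : ∀ a b, a ≠ b → IsUnit (rres X (inf_le_left : N a ⊓ N b ≤ N a) (H a)) :=
    fun a b hab => isUnit_rres_of_le_basicOpen (H a) inf_le_left
      (by rw [hNH a]; exact le_inf inf_le_left (hNpair a b hab))
  have hu' : ∀ a b, a ≠ b → IsUnit (rres X (inf_le_right : N a ⊓ N b ≤ N b) (H b)) :=
    fun a b hab => isUnit_rres_of_le_basicOpen (H b) inf_le_right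
      (by rw [hNH b]; exact le_inf inf_le_right (hNpair a b hab))
  let η : ∀ a b : Option C, (Γ(X, N a ⊓ N b))ˣ := fun a b =>
    if hab : a = b then 1 else (hu' a b hab).unit * ((hu a b hab).unit)⁻¹
  have hηH : ∀ a b, (η a b : Γ(X, N a ⊓ N b)) * rres X (inf_le_left : N a ⊓ N b ≤ N a) (H a) =
      rres X (inf_le_right : N a ⊓ N b ≤ N b) (H b) := by
    intro a b
    by_cases hab : a = b
    · subst hab
      have h1 : η a a = 1 := dif_pos rfl
      rw [h1, Units.val_one, one_mul]
    · have h1 : η a b = (hu' a b hab).unit * ((hu a b hab).unit)⁻¹ := dif_neg hab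
      rw [h1, Units.val_mul, mul_assoc, IsUnit.val_inv_mul, mul_one, IsUnit.unit_spec]
  have key : ∀ (a b : Option C) (T : X.Opens) (hTa : T ≤ N a) (hTb : T ≤ N b),
      rres X (le_inf hTa hTb) (η a b : Γ(X, N a ⊓ N b)) * rres X hTa (H a) = rres X hTb (H b) := by
    intro a b T hTa hTb
    have h1 := congrArg (rres X (le_inf hTa hTb)) (hηH a b)
    rwa [rres_mul, rres_rres, rres_rres] at h1
  have hη : ∀ a b c : Option C,
      rres X (inf_le_inf_right (N c) inf_le_left : N a ⊓ N b ⊓ N c ≤ N a ⊓ N c)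
          (η a c : Γ(X, N a ⊓ N c)) =
        rres X (inf_le_left : N a ⊓ N b ⊓ N c ≤ N a ⊓ N b) (η a b : Γ(X, N a ⊓ N b)) *
          rres X (inf_le_inf_right (N c) inf_le_right : N a ⊓ N b ⊓ N c ≤ N b ⊓ N c)
            (η b c : Γ(X, N b ⊓ N c)) := by
    intro a b c
    by_cases hall : a = b ∧ b = c
    · obtain ⟨rfl, rfl⟩ := hall
      have h1 : η a a = 1 := dif_pos rfl
      simp only [h1, Units.val_one, rres_one, mul_one]
    · have hTU : N a ⊓ N b ⊓ N c ≤ U := by
        by_cases hab : a = b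
        · have hbc : b ≠ c := fun e => hall ⟨hab, e⟩
          exact (inf_le_inf_right (N c) inf_le_right).trans (hNpair b c hbc)
        · exact inf_le_left.trans (hNpair a b hab)
      have hTa : N a ⊓ N b ⊓ N c ≤ N a := inf_le_left.trans inf_le_left
      have hTb : N a ⊓ N b ⊓ N c ≤ N b := inf_le_left.trans inf_le_right
      have hTc : N a ⊓ N b ⊓ N c ≤ N c := inf_le_right
      have huT : IsUnit (rres X hTa (H a)) := isUnit_rres_of_le_basicOpen (H a) hTa
        (by rw [hNH a]; exact le_inf hTa hTU)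
      have k1 := key a c _ hTa hTc
      have k2 := key a b _ hTa hTb
      have k3 := key b c _ hTb hTc
      change rres X (le_inf hTa hTc) (η a c : Γ(X, N a ⊓ N c)) =
        rres X (le_inf hTa hTb) (η a b : Γ(X, N a ⊓ N b)) *
          rres X (le_inf hTb hTc) (η b c : Γ(X, N b ⊓ N c))
      apply (IsUnit.mul_left_inj huT).mp
      rw [k1, mul_comm (rres X (le_inf hTa hTb) (η a b : Γ(X, N a ⊓ N b))), mul_assoc, k2, k3]
  obtain ⟨M, s, hM, hs, hrel⟩ := CocycleGlue.main N η hη hNcov
  refine ⟨M, hM, fun α β hαβ => ?_⟩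
  -- the second section
  let H' : ∀ a : Option C, Γ(X, N a) := fun a =>
    Option.rec (motive := fun a => Γ(X, N a)) α (fun c => β c) a
  have hH' : ∀ a, rres X (inf_le_left : N a ⊓ U ≤ N a) (H' a) =
      rres X (inf_le_right : N a ⊓ U ≤ U) α * rres X (inf_le_left : N a ⊓ U ≤ N a) (H a) := by
    rintro (_ | c)
    · show rres X _ α = rres X _ α * rres X _ (1 : Γ(X, U))
      rw [rres_one, mul_one]
    · show rres X _ (β c) = rres X _ α * rres X _ (h c)
      exact (hαβ c).symm
  have hηH' : ∀ a b, (η a b : Γ(X, N a ⊓ N b)) *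
      rres X (inf_le_left : N a ⊓ N b ≤ N a) (H' a) =
      rres X (inf_le_right : N a ⊓ N b ≤ N b) (H' b) := by
    intro a b
    by_cases hab : a = b
    · subst hab
      have h1 : η a a = 1 := dif_pos rfl
      rw [h1, Units.val_one, one_mul]
    · have hTU : N a ⊓ N b ≤ U := hNpair a b hab
      have e1 : rres X (inf_le_left : N a ⊓ N b ≤ N a) (H' a) =
          rres X hTU α * rres X (inf_le_left : N a ⊓ N b ≤ N a) (H a) := by
        have h0 := congrArg (rres X (le_inf inf_le_left hTU : N a ⊓ N b ≤ N a ⊓ U)) (hH' a)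
        rwa [rres_rres, rres_mul, rres_rres, rres_rres] at h0
      have e2 : rres X (inf_le_right : N a ⊓ N b ≤ N b) (H' b) =
          rres X hTU α * rres X (inf_le_right : N a ⊓ N b ≤ N b) (H b) := by
        have h0 := congrArg (rres X (le_inf inf_le_right hTU : N a ⊓ N b ≤ N b ⊓ U)) (hH' b)
        rwa [rres_rres, rres_mul, rres_rres, rres_rres] at h0
      rw [e1, e2, mul_left_comm, hηH a b]
  have hcompat' : ∀ i j, res M (inf_le_left : N i ⊓ N j ≤ N i) (H' i • s i) =
      res M (inf_le_right : N i ⊓ N j ≤ N j) (H' j • s j) := by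
    intro i j
    rw [res_smul, res_smul, hrel i j, smul_smul, mul_comm, hηH' i j]
  obtain ⟨σ', hσ'⟩ := sec_glue M N ⊤ (fun _ => le_top) (by rw [hNcov])
    (fun i => H' i • s i) hcompat'
  let s₀' : Coh.structureModule X ⟶ M := InvAmple.globalHom M σ'
  have hgl' : ∀ a, CohB1.genLocus M s₀' ⊓ N a = X.basicOpen (H' a) := by
    intro a
    apply genLocus_inf_eq_basicOpen s₀' (hs a) (H' a)
    rw [InvAmple.sec_globalHom]
    exact hσ' a
  exact ⟨s₀', hgl' none, fun c => hgl' (some c)⟩

end Groth.Agent.Lib.Helper26.TwoSec2
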