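import Mathlib
import Groth.Agent.Lib.Helper26.TwoSec2
import Groth.Agent.Lib.Helper26.AmpleCurve
import Groth.Agent.Lib.Helper26.PoleAlg
import Groth.Prelude.Def_MoreMor

/-!
# Ample families on neighbourhoods of the points of codimension at most one (helper26)
-/

set_option autoImplicit false
set_option linter.style.haveILetI false
set_option linter.unusedSectionVars false
universe u
open CategoryTheory CategoryTheory.Limits AlgebraicGeometry TopologicalSpace Opposite
open Scheme.Modules Topology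

namespace Groth.Agent.Lib.Helper26.AmpleFam

open Groth.Agent.Lib.Helper3 Groth.Agent.Lib.Helper3.QCSec Groth.Agent.Lib.Helper3.InvGen
open Groth.Agent.Lib.Helper26.DiscExt

section Cover

variable {Y : Scheme.{u}}

open InvAmple InvTensor InvMonoidal in
/-- **Ample family from charts.**  `Y` is covered by an affine open `U` and affine charts `P c`
meeting pairwise inside `U`, with `P c ∩ U = D(t c)`; for every chart there is a function `α c` on
`U`, non-vanishing only inside `P c`, whose inverse on `P c ∩ U` extends to a function `G c` on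
`P c` vanishing exactly outside `U`.  Then `Y` has an ample family of invertible modules. -/
theorem hasAmpleFamily_of_cover [CompactSpace Y] (U : Y.Opens) (hU : IsAffineOpen U)
    {𝒞 : Type u} (P : 𝒞 → Y.Opens) (hP : ∀ c, IsAffineOpen (P c))
    (t : ∀ c, Γ(Y, P c)) (hPt : ∀ c, Y.basicOpen (t c) = P c ⊓ U)
    (hcov : ∀ y : Y, y ∈ U ∨ ∃ c, y ∈ P c)
    (hpair : ∀ c c', c ≠ c' → P c ⊓ P c' ≤ U)
    (α : 𝒞 → Γ(Y, U)) (G : ∀ c, Γ(Y, P c))
    (hα : ∀ c, Y.basicOpen (α c) ≤ P c)
    (hG : ∀ c, Y.basicOpen (G c) = P c ⊓ U)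
    (hrel : ∀ c, rres Y (inf_le_right : P c ⊓ U ≤ U) (α c) *
      rres Y (inf_le_left : P c ⊓ U ≤ P c) (G c) = 1) :
    MoreMor.HasAmpleFamily Y := by
  classical
  refine ⟨inferInstance, fun y => ?_⟩
  by_cases hy : y ∈ U
  · obtain ⟨L, hL, hsec⟩ := TwoSec2.exists_glue U P t hPt hcov hpair
    obtain ⟨s, hsU, hsP⟩ := hsec 1 t (fun c => by rw [rres_one, one_mul])
    have hloc : CohB1.genLocus L s = U := by
      apply le_antisymm
      · intro z hz
        rcases hcov z with hzU | ⟨c, hzc⟩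
        · exact hzU
        · have h1 : z ∈ CohB1.genLocus L s ⊓ P c := ⟨hz, hzc⟩
          rw [hsP c, hPt c] at h1
          exact h1.2
      · intro z hz
        have h1 : z ∈ Y.basicOpen (1 : Γ(Y, U)) := by
          rw [Y.basicOpen_one]
          exact hz
        rw [← hsU] at h1
        exact h1.1
    refine ⟨L, 0 + 1, s ≫ (powOne L).hom, hL, le_refl _, ?_, ?_⟩
    · rw [genLocus_comp_iso, hloc]
      exact hy
    · rw [genLocus_comp_iso, hloc]
      exact hU
  · obtain ⟨c, hyc⟩ := (hcov y).resolve_left hy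
    have hβ : ∀ c', ∃ (M : ℕ) (b : Γ(Y, P c')),
        rres Y (inf_le_right : P c' ⊓ U ≤ U) (α c) *
          rres Y (inf_le_left : P c' ⊓ U ≤ P c') (t c' ^ (M + 1)) =
        rres Y (inf_le_left : P c' ⊓ U ≤ P c') (b * t c') := by
      intro c'
      have hle : Y.basicOpen (t c') ≤ U := (hPt c').le.trans inf_le_right
      haveI : IsLocalization.Away (t c') Γ(Y, Y.basicOpen (t c')) :=
        (hP c').isLocalization_basicOpen (t c')
      obtain ⟨n, a, hna⟩ := IsLocalization.Away.surj (t c') (rres Y hle (α c))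
      have hna' : rres Y hle (α c) * rres Y (Y.basicOpen_le (t c')) (t c') ^ n =
          rres Y (Y.basicOpen_le (t c')) a := hna
      have h1 := congrArg (rres Y ((hPt c').ge : P c' ⊓ U ≤ Y.basicOpen (t c'))) hna'
      rw [rres_mul, rres_pow, rres_rres, rres_rres, rres_rres] at h1
      refine ⟨n, a, ?_⟩
      rw [pow_succ, rres_mul, rres_mul, rres_pow, ← mul_assoc, h1]
    choose M b hMb using hβ
    let H : ∀ c', Γ(Y, P c') := fun c' => if c' = c then G c' else t c' ^ (M c' + 1)
    let β : ∀ c', Γ(Y, P c') := fun c' => if c' = c then 1 else b c' * t c'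
    have hH : ∀ c', Y.basicOpen (H c') = P c' ⊓ U := by
      intro c'
      by_cases e : c' = c
      · simp only [H, if_pos e]
        exact hG c'
      · simp only [H, if_neg e]
        rw [Y.basicOpen_pow _ (Nat.succ_pos _)]
        exact hPt c'
    obtain ⟨L, hL, hsec⟩ := TwoSec2.exists_glue U P H hH hcov hpair
    obtain ⟨s, hsU, hsP⟩ := hsec (α c) β (fun c' => by
      by_cases e : c' = c
      · simp only [H, β, if_pos e]
        rw [rres_one, e]
        exact hrel c
      · simp only [H, β, if_neg e]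
        exact hMb c')
    have hloc : CohB1.genLocus L s = P c := by
      apply le_antisymm
      · intro z hz
        have hU' : z ∈ U → z ∈ P c := fun hzU => by
          have h1 : z ∈ CohB1.genLocus L s ⊓ U := ⟨hz, hzU⟩
          rw [hsU] at h1
          exact hα c h1
        rcases hcov z with hzU | ⟨c', hzc'⟩
        · exact hU' hzU
        · by_cases e : c' = c
          · rw [← e]
            exact hzc'
          · have h1 : z ∈ CohB1.genLocus L s ⊓ P c' := ⟨hz, hzc'⟩
            rw [hsP c'] at h1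
            simp only [β, if_neg e] at h1
            rw [Y.basicOpen_mul] at h1
            have h2 : z ∈ P c' ⊓ U := by
              rw [← hPt c']
              exact h1.2
            exact hU' h2.2
      · intro z hz
        have h1 : z ∈ Y.basicOpen (β c) := by
          simp only [β, if_pos rfl]
          rw [Y.basicOpen_one]
          exact hz
        rw [← hsP c] at h1
        exact h1.1
    refine ⟨L, 0 + 1, s ≫ (powOne L).hom, hL, le_refl _, ?_, ?_⟩
    · rw [genLocus_comp_iso, hloc]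
      exact hyc
    · rw [genLocus_comp_iso, hloc]
      exact hP c

end Cover

section LocalPole

variable {X : Scheme.{u}}

/-- The ideal of the functions on `U` whose non-vanishing locus lies in `P`. -/
def idealIn (U P : X.Opens) : Ideal Γ(X, U) where
  carrier := {a | X.basicOpen a ≤ P}
  zero_mem' := by
    show X.basicOpen (0 : Γ(X, U)) ≤ P
    rw [X.basicOpen_zero]
    exact bot_le
  add_mem' := by
    intro a b ha hb
    exact (X.basicOpen_add_le a b).trans (sup_le ha hb)
  smul_mem' := by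
    intro r a ha
    show X.basicOpen (r • a) ≤ P
    rw [smul_eq_mul, X.basicOpen_mul]
    exact inf_le_right.trans ha

theorem mem_idealIn {U P : X.Opens} (a : Γ(X, U)) : a ∈ idealIn U P ↔ X.basicOpen a ≤ P :=
  Iff.rfl

/-- A function on an affine open `W ⊆ U`, multiplied by a power of a function `a` on `U` with
`D(a) ⊆ W`, extends to `U`. -/
theorem exists_extension_mul_pow {U W : X.Opens} (hU : IsAffineOpen U) (hW : IsAffineOpen W)
    (hWU : W ≤ U) (a : Γ(X, U)) (ha : X.basicOpen a ≤ W) (x : Γ(X, W)) :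
    ∃ (K : ℕ) (α : Γ(X, U)), rres X hWU α = rres X hWU a ^ K * x := by
  haveI : IsLocalization.Away a Γ(X, X.basicOpen a) := hU.isLocalization_basicOpen a
  obtain ⟨k, α₀, hk⟩ := IsLocalization.Away.surj a (rres X ha x)
  have hk' : rres X ha x * rres X (X.basicOpen_le a) a ^ k = rres X (X.basicOpen_le a) α₀ := hk
  obtain ⟨a', ha'⟩ : ∃ a' : Γ(X, W), a' = rres X hWU a := ⟨_, rfl⟩
  have hD' : X.basicOpen a' = X.basicOpen a := by
    have h1 : X.basicOpen a' = W ⊓ X.basicOpen a := by
      rw [ha']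
      exact Scheme.basicOpen_res X a (homOfLE hWU).op
    rw [h1]
    exact inf_eq_right.mpr ha
  haveI : IsLocalization.Away a' Γ(X, X.basicOpen a') := hW.isLocalization_basicOpen a'
  have hzero : algebraMap Γ(X, W) Γ(X, X.basicOpen a') (x * a' ^ k - rres X hWU α₀) = 0 := by
    show rres X (X.basicOpen_le a') (x * a' ^ k - rres X hWU α₀) = 0
    have hle : X.basicOpen a' ≤ X.basicOpen a := hD'.le
    have h1 := congrArg (rres X hle) hk'
    rw [rres_mul, rres_pow, rres_rres, rres_rres, rres_rres] at h1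
    have h2 : rres X (X.basicOpen_le a') (x * a' ^ k) =
        rres X (X.basicOpen_le a') (rres X hWU α₀) := by
      subst ha'
      rw [rres_mul, rres_pow, rres_rres, rres_rres]
      exact h1
    show (X.presheaf.map (homOfLE (X.basicOpen_le a')).op).hom (x * a' ^ k - rres X hWU α₀) = 0
    rw [map_sub, sub_eq_zero]
    exact h2
  obtain ⟨⟨m, hm'⟩, hm⟩ :=
    (IsLocalization.map_eq_zero_iff (Submonoid.powers a') Γ(X, X.basicOpen a') _).mp hzero
  obtain ⟨j, rfl⟩ := (Submonoid.mem_powers_iff _ _).mp hm'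
  have hm2 : a' ^ j * (x * a' ^ k - rres X hWU α₀) = 0 := hm
  refine ⟨j + k, a ^ j * α₀, ?_⟩
  rw [rres_mul, rres_pow, ← ha']
  linear_combination (-1 : Γ(X, W)) * hm2

/-- **The local pole.**  `c` is a point of the affine chart `P` outside the affine open `U`, with
local ring of dimension at most one, `P ∩ U = D(t)` and `t` in no prime of the local ring but the
maximal one.  Then a smaller chart `D(h) ∋ c` carries a function `G` vanishing exactly outside
`U` whose inverse on `D(h) ∩ U` extends to a function `α` on `U` non-vanishing only inside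
`D(h)`. -/
theorem exists_local_pole [X.IsSeparated] [IsLocallyNoetherian X] {U P : X.Opens}
    (hU : IsAffineOpen U) (hP : IsAffineOpen P) (t : Γ(X, P)) (hPt : X.basicOpen t = P ⊓ U)
    (c : X) (hcP : c ∈ P) (hcU : c ∉ U)
    (hdim : ringKrullDim (X.presheaf.stalk c) ≤ 1)
    (hav : ∀ q : Ideal (X.presheaf.stalk c), q.IsPrime → X.presheaf.germ P c hcP t ∈ q →
      q = IsLocalRing.maximalIdeal (X.presheaf.stalk c)) :
    ∃ (h : Γ(X, P)) (α : Γ(X, U)) (G : Γ(X, X.basicOpen h)), c ∈ X.basicOpen h ∧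
      X.basicOpen α ≤ X.basicOpen h ∧ X.basicOpen G = X.basicOpen h ⊓ U ∧
      rres X (inf_le_right : X.basicOpen h ⊓ U ≤ U) α *
        rres X (inf_le_left : X.basicOpen h ⊓ U ≤ X.basicOpen h) G = 1 := by
  classical
  have hWU : X.basicOpen t ≤ U := hPt.le.trans inf_le_right
  have hWP : X.basicOpen t ≤ P := X.basicOpen_le t
  have hW : IsAffineOpen (X.basicOpen t) := hP.basicOpen t
  let φ : Γ(X, U) →+* Γ(X, X.basicOpen t) := (X.presheaf.map (homOfLE hWU).op).hom
  haveI : IsLocalization.Away t Γ(X, X.basicOpen t) := hP.isLocalization_basicOpen t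
  have hgen : Algebra.adjoin Γ(X, P) (Set.range φ) = ⊤ := by
    have hcl := SepGen.closure_res_eq_top hU hP hWU hWP (by rw [hPt, inf_comm])
    rw [eq_top_iff]
    rintro z -
    have hz : z ∈ Subring.closure
        (Set.range (X.presheaf.map (homOfLE hWU).op).hom ∪
          Set.range (X.presheaf.map (homOfLE hWP).op).hom) := by
      rw [hcl]
      trivial
    have hsub : Subring.closure
        (Set.range (X.presheaf.map (homOfLE hWU).op).hom ∪
          Set.range (X.presheaf.map (homOfLE hWP).op).hom) ≤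
        (Algebra.adjoin Γ(X, P) (Set.range φ)).toSubring := by
      rw [Subring.closure_le]
      rintro w (⟨a, rfl⟩ | ⟨a, rfl⟩)
      · exact Algebra.subset_adjoin ⟨a, rfl⟩
      · exact Subalgebra.algebraMap_mem _ a
    exact hsub hz
  let x₀ : P := ⟨c, hcP⟩
  letI : Algebra Γ(X, P) (X.presheaf.stalk c) :=
    TopCat.Presheaf.algebra_section_stalk X.presheaf x₀
  let 𝔭 : Ideal Γ(X, P) := (hP.primeIdealOf x₀).asIdeal
  haveI : 𝔭.IsPrime := (hP.primeIdealOf x₀).isPrime
  haveI hloc : IsLocalization.AtPrime (X.presheaf.stalk c) 𝔭 := hP.isLocalization_stalk x₀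
  have hmem𝔭 : ∀ b : Γ(X, P), b ∈ 𝔭 ↔ ¬ IsUnit (X.presheaf.germ P c hcP b) := by
    intro b
    rw [← IsLocalization.AtPrime.to_map_mem_maximal_iff (X.presheaf.stalk c) 𝔭 b,
      IsLocalRing.mem_maximalIdeal, mem_nonunits_iff]
    rfl
  have ht : t ∈ 𝔭 := by
    rw [hmem𝔭]
    intro hu
    have h1 : c ∈ X.basicOpen t := (X.mem_basicOpen t c hcP).mpr hu
    rw [hPt] at h1
    exact hcU h1.2
  have h𝔞 : Ideal.span (φ '' (idealIn U P : Set Γ(X, U))) = ⊤ := by
    rw [← hW.self_le_iSup_basicOpen_iff]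
    intro z hz
    have hzU : z ∈ U := hWU hz
    obtain ⟨a, haW, hza⟩ := hU.exists_basicOpen_le (V := X.basicOpen t) ⟨z, hz⟩ hzU
    rw [Opens.mem_iSup]
    refine ⟨⟨φ a, a, haW.trans hWP, rfl⟩, ?_⟩
    show z ∈ X.basicOpen (X.presheaf.map (homOfLE hWU).op a)
    rw [Scheme.basicOpen_res]
    exact ⟨hz, hza⟩
  obtain ⟨a, ha𝔞, g, hg, h, hh𝔭, hrel⟩ := PoleAlg.exists_pole_in_ideal
    (Bt := X.presheaf.stalk c) t 𝔭 hdim ht hav φ hgen (idealIn U P) h𝔞
  have hrel' : rres X hWU a * rres X hWP g = rres X hWP h := hrel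
  have hch : c ∈ X.basicOpen h := by
    rw [X.mem_basicOpen h c hcP]
    by_contra hnu
    exact hh𝔭 ((hmem𝔭 h).mpr hnu)
  have haW : X.basicOpen a ≤ X.basicOpen t := by
    rw [hPt]
    exact le_inf ha𝔞 (X.basicOpen_le a)
  obtain ⟨K, α₀, hα₀⟩ := exists_extension_mul_pow hU hW hWU a haW (rres X hWP h)
  have hP'P : X.basicOpen h ≤ P := X.basicOpen_le h
  have hαP' : X.basicOpen (a * α₀) ≤ X.basicOpen h := by
    intro z hz
    rw [X.basicOpen_mul] at hz
    have hzW : z ∈ X.basicOpen t := haW hz.1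
    have h1 : z ∈ X.basicOpen (rres X hWU α₀) := by
      have h2 : X.basicOpen (rres X hWU α₀) = X.basicOpen t ⊓ X.basicOpen α₀ :=
        Scheme.basicOpen_res X α₀ (homOfLE hWU).op
      rw [h2]
      exact ⟨hzW, hz.2⟩
    rw [hα₀, X.basicOpen_mul] at h1
    have h3 : X.basicOpen (rres X hWP h) = X.basicOpen t ⊓ X.basicOpen h :=
      Scheme.basicOpen_res X h (homOfLE hWP).op
    rw [h3] at h1
    exact h1.2.2
  have hu : IsUnit (rres X hP'P h) := X.toRingedSpace.isUnit_res_basicOpen h
  obtain ⟨hi, hhi⟩ := hu.exists_right_inv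
  have hV'W : X.basicOpen h ⊓ U ≤ X.basicOpen t := by
    rw [hPt]
    exact inf_le_inf_right U hP'P
  have hrelV : rres X (inf_le_right : X.basicOpen h ⊓ U ≤ U) (a * α₀) *
      rres X (inf_le_left : X.basicOpen h ⊓ U ≤ X.basicOpen h)
        (rres X hP'P g ^ (K + 1) * hi ^ (K + 2)) = 1 := by
    have e1 : rres X (inf_le_right : X.basicOpen h ⊓ U ≤ U) α₀ =
        rres X (inf_le_right : X.basicOpen h ⊓ U ≤ U) a ^ K *
          rres X (inf_le_left.trans hP'P : X.basicOpen h ⊓ U ≤ P) h := by
      have h0 := congrArg (rres X hV'W) hα₀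
      rwa [rres_rres, rres_mul, rres_pow, rres_rres, rres_rres] at h0
    have e2 : rres X (inf_le_right : X.basicOpen h ⊓ U ≤ U) a *
        rres X (inf_le_left.trans hP'P : X.basicOpen h ⊓ U ≤ P) g =
        rres X (inf_le_left.trans hP'P : X.basicOpen h ⊓ U ≤ P) h := by
      have h0 := congrArg (rres X hV'W) hrel'
      rwa [rres_mul, rres_rres, rres_rres, rres_rres] at h0
    have e3 : rres X (inf_le_left.trans hP'P : X.basicOpen h ⊓ U ≤ P) h *
        rres X (inf_le_left : X.basicOpen h ⊓ U ≤ X.basicOpen h) hi = 1 := by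
      have h0 := congrArg (rres X (inf_le_left : X.basicOpen h ⊓ U ≤ X.basicOpen h)) hhi
      rwa [rres_mul, rres_rres, rres_one] at h0
    rw [rres_mul, rres_mul, rres_pow, rres_pow, rres_rres, e1]
    calc _ = (rres X (inf_le_right : X.basicOpen h ⊓ U ≤ U) a *
            rres X (inf_le_left.trans hP'P : X.basicOpen h ⊓ U ≤ P) g) ^ (K + 1) *
          rres X (inf_le_left.trans hP'P : X.basicOpen h ⊓ U ≤ P) h *
          rres X (inf_le_left : X.basicOpen h ⊓ U ≤ X.basicOpen h) hi ^ (K + 2) := by ring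
      _ = (rres X (inf_le_left.trans hP'P : X.basicOpen h ⊓ U ≤ P) h *
          rres X (inf_le_left : X.basicOpen h ⊓ U ≤ X.basicOpen h) hi) ^ (K + 2) := by
        rw [e2]
        ring
      _ = 1 := by rw [e3, one_pow]
  refine ⟨h, a * α₀, rres X hP'P g ^ (K + 1) * hi ^ (K + 2), hch, hαP', ?_, hrelV⟩
  apply le_antisymm
  · intro z hz
    have hzP' : z ∈ X.basicOpen h := X.basicOpen_le _ hz
    refine ⟨hzP', ?_⟩
    rw [X.basicOpen_mul, X.basicOpen_pow _ (Nat.succ_pos K)] at hz
    have h1 : X.basicOpen (rres X hP'P g) = X.basicOpen h ⊓ X.basicOpen g :=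
      Scheme.basicOpen_res X g (homOfLE hP'P).op
    have h2 : z ∈ X.basicOpen g := by
      have h3 := hz.1
      rw [h1] at h3
      exact h3.2
    obtain ⟨r, rfl⟩ := Ideal.mem_span_singleton'.mp hg
    rw [X.basicOpen_mul, hPt] at h2
    exact h2.2.2
  · intro z hz
    have hzP' : z ∈ X.basicOpen h := hz.1
    have hunit : IsUnit (rres X (inf_le_left : X.basicOpen h ⊓ U ≤ X.basicOpen h)
        (rres X hP'P g ^ (K + 1) * hi ^ (K + 2))) :=
      IsUnit.of_mul_eq_one_right _ hrelV
    have hg1 : X.presheaf.germ (X.basicOpen h ⊓ U) z hz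
        (rres X inf_le_left (rres X hP'P g ^ (K + 1) * hi ^ (K + 2))) =
        X.presheaf.germ (X.basicOpen h) z hzP' (rres X hP'P g ^ (K + 1) * hi ^ (K + 2)) :=
      TopCat.Presheaf.germ_res_apply X.presheaf (homOfLE inf_le_left) z hz _
    rw [X.mem_basicOpen _ z hzP', ← hg1]
    exact hunit.map (X.presheaf.germ (X.basicOpen h ⊓ U) z hz).hom

end LocalPole

section Global

variable {X : Scheme.{u}}

/-- A chain of two proper specialisations ends at a point of codimension at least two. -/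
theorem not_dim_le_one_of_chain {η z y : X} (h1 : η ⤳ z) (h2 : z ⤳ y) (hne1 : η ≠ z)
    (hne2 : z ≠ y) : ¬ ringKrullDim (X.presheaf.stalk y) ≤ 1 := by
  intro hdim
  have hlt1 : z < η := by
    refine lt_of_le_not_ge (Scheme.le_iff_specializes.mpr h1) (fun h => ?_)
    have h3 : z ⤳ η := Scheme.le_iff_specializes.mp h
    exact hne1 ((h3.antisymm h1).eq).symm
  have hlt2 : y < z := by
    refine lt_of_le_not_ge (Scheme.le_iff_specializes.mpr h2) (fun h => ?_)
    have h3 : y ⤳ z := Scheme.le_iff_specializes.mp h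
    exact hne2 ((h3.antisymm h2).eq).symm
  have h3 := Order.coheight_add_one_le hlt1
  have h4 := Order.coheight_add_one_le hlt2
  have h5 : (2 : ℕ∞) ≤ Order.coheight y := by
    calc (2 : ℕ∞) = 0 + 1 + 1 := by norm_num
      _ ≤ Order.coheight η + 1 + 1 := by gcongr; exact zero_le
      _ ≤ Order.coheight z + 1 := by gcongr
      _ ≤ Order.coheight y := h4
  rw [ringKrullDim_stalk_eq_coheight] at hdim
  have h7 : Order.coheight y ≤ (1 : ℕ∞) := by exact_mod_cast hdim
  exact absurd (h5.trans h7) (by decide)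

/-- The generic points of the irreducible components. -/
def genericPoints (X : Scheme.{u}) : Set X := {η | closure {η} ∈ irreducibleComponents X}

theorem finite_genericPoints [IsNoetherian X] : (genericPoints X).Finite := by
  have hfin := NoetherianSpace.finite_irreducibleComponents (α := X)
  refine Set.Finite.of_finite_image (f := fun η : X => closure ({η} : Set X)) (hfin.subset ?_) ?_
  · rintro _ ⟨η, hη, rfl⟩
    exact hη
  · intro η _ η' _ h
    have h' : closure ({η} : Set X) = closure {η'} := h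
    have h1 : η ⤳ η' := by
      rw [specializes_iff_closure_subset]
      exact h'.ge
    have h2 : η' ⤳ η := by
      rw [specializes_iff_closure_subset]
      exact h'.le
    exact (h1.antisymm h2).eq

theorem exists_genericPoint_specializes (z : X) : ∃ η ∈ genericPoints X, η ⤳ z := by
  have hZ := irreducibleComponent_mem_irreducibleComponents z
  obtain ⟨η, hη⟩ := QuasiSober.sober hZ.1 (isClosed_of_mem_irreducibleComponents _ hZ)
  refine ⟨η, ?_, ?_⟩
  · show closure {η} ∈ irreducibleComponents X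
    rw [hη.def]
    exact hZ
  · rw [specializes_iff_mem_closure, hη.def]
    exact mem_irreducibleComponent

/-- Every point of a Noetherian scheme has a dense affine open neighbourhood. -/
theorem exists_dense_affine [IsNoetherian X] (x : X) :
    ∃ U : X.Opens, IsAffineOpen U ∧ x ∈ U ∧ ∀ z : X, ∃ η ∈ U, η ⤳ z := by
  classical
  have hfin := finite_genericPoints (X := X)
  have key : ∀ n : ℕ, ∀ U : X.Opens, IsAffineOpen U → x ∈ U →
      (genericPoints X \ (U : Set X)).ncard ≤ n →
      ∃ U' : X.Opens, IsAffineOpen U' ∧ x ∈ U' ∧ genericPoints X ⊆ (U' : Set X) := by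
    intro n
    induction n with
    | zero =>
      intro U hU hxU hn
      refine ⟨U, hU, hxU, ?_⟩
      have h0 : genericPoints X \ (U : Set X) = ∅ :=
        (Set.ncard_eq_zero (hfin.diff)).mp (Nat.le_zero.mp hn)
      intro η hη
      by_contra hηU
      have h1 : η ∈ genericPoints X \ (U : Set X) := ⟨hη, hηU⟩
      rw [h0] at h1
      exact h1
    | succ n ih =>
      intro U hU hxU hn
      by_cases hall : genericPoints X ⊆ (U : Set X)
      · exact ⟨U, hU, hxU, hall⟩
      · obtain ⟨η, hη, hηU⟩ := Set.not_subset.mp hall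
        have hcl : η ∉ closure (U : Set X) := by
          intro hmem
          have hsub : (U : Set X) ⊆
              ⋃ η' ∈ (genericPoints X ∩ (U : Set X)), closure ({η'} : Set X) := by
            intro u hu
            obtain ⟨η', hη', hsp⟩ := exists_genericPoint_specializes u
            have hη'U : η' ∈ (U : Set X) := hsp.mem_open U.isOpen hu
            exact Set.mem_biUnion ⟨hη', hη'U⟩ (specializes_iff_mem_closure.mp hsp)
          have hclosed : IsClosed
              (⋃ η' ∈ (genericPoints X ∩ (U : Set X)), closure ({η'} : Set X)) :=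
            (hfin.inter_of_left _).isClosed_biUnion (fun _ _ => isClosed_closure)
          have h1 := closure_minimal hsub hclosed hmem
          obtain ⟨η', ⟨hη'g, hη'U⟩, hmem'⟩ := Set.mem_iUnion₂.mp h1
          have hle : closure ({η} : Set X) ⊆ closure {η'} :=
            closure_minimal (Set.singleton_subset_iff.mpr hmem') isClosed_closure
          have hirr : IsIrreducible (closure ({η'} : Set X)) := isIrreducible_singleton.closure
          have hge : closure ({η'} : Set X) ⊆ closure {η} := hη.2 hirr hle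
          have h2 : η ⤳ η' := by
            rw [specializes_iff_closure_subset]
            exact hge
          have h3 : η' ⤳ η := by
            rw [specializes_iff_closure_subset]
            exact hle
          have h4 : η = η' := (h2.antisymm h3).eq
          exact hηU (h4 ▸ hη'U)
        obtain ⟨W, hW, hηW, hWO⟩ := exists_affine_le η
          ⟨(closure (U : Set X))ᶜ, isClosed_closure.isOpen_compl⟩ hcl
        have hdisj : Disjoint U W := by
          rw [disjoint_iff_inf_le]
          intro z hz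
          exact (hWO hz.2 (subset_closure hz.1)).elim
        have hlt : (genericPoints X \ ((U ⊔ W : X.Opens) : Set X)).ncard <
            (genericPoints X \ (U : Set X)).ncard := by
          apply Set.ncard_lt_ncard _ hfin.diff
          refine ⟨fun z hz => ⟨hz.1, fun hzU => hz.2 ((le_sup_left : U ≤ U ⊔ W) hzU)⟩, ?_⟩
          intro hsub
          exact (hsub ⟨hη, hηU⟩).2 ((le_sup_right : W ≤ U ⊔ W) hηW)
        exact ih (U ⊔ W) (hU.sup_of_disjoint hW hdisj) ((le_sup_left : U ≤ U ⊔ W) hxU)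
          (by omega)
  obtain ⟨U₀, hU₀, hxU₀, -⟩ := exists_affine_le x ⊤ trivial
  obtain ⟨U, hU, hxU, hsub⟩ := key _ U₀ hU₀ hxU₀ (le_refl _)
  refine ⟨U, hU, hxU, fun z => ?_⟩
  obtain ⟨η, hη, hsp⟩ := exists_genericPoint_specializes z
  exact ⟨η, hsub hη, hsp⟩

/-- Outside a dense open of a Noetherian scheme there are only finitely many points of
codimension at most one. -/
theorem finite_codim_le_one_compl [IsNoetherian X] (U : X.Opens)
    (hgen : ∀ z : X, ∃ η ∈ U, η ⤳ z) :
    {y : X | y ∉ U ∧ ringKrullDim (X.presheaf.stalk y) ≤ 1}.Finite := by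
  classical
  rcases isEmpty_or_nonempty X with hE | hN
  · exact Set.toFinite _
  obtain ⟨S, hSf, hScl, hSirr, hS⟩ :=
    NoetherianSpace.exists_finite_set_isClosed_irreducible (U.isOpen.isClosed_compl)
  have hγ : ∀ C ∈ S, ∃ γ : X, IsGenericPoint γ C :=
    fun C hC => QuasiSober.sober (hSirr C hC) (hScl C hC)
  choose! γ hγ' using hγ
  refine (hSf.image γ).subset ?_
  rintro y ⟨hyU, hdim⟩
  have hyZ : y ∈ (U : Set X)ᶜ := hyU
  rw [hS] at hyZ
  obtain ⟨C, hC, hyC⟩ := Set.mem_sUnion.mp hyZ
  refine ⟨C, hC, ?_⟩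
  have hsp : γ C ⤳ y := by
    rw [specializes_iff_mem_closure, (hγ' C hC).def]
    exact hyC
  by_contra hne
  have hγZ : γ C ∉ U := by
    have h1 : γ C ∈ (U : Set X)ᶜ := by
      rw [hS]
      exact Set.mem_sUnion.mpr ⟨C, hC, (hγ' C hC).mem⟩
    exact h1
  obtain ⟨η, hηU, hηsp⟩ := hgen (γ C)
  exact not_dim_le_one_of_chain hηsp hsp (fun e => hγZ (e ▸ hηU)) hne hdim

/-- The chart at a point of codimension one of the complement of a dense open. -/
theorem exists_chart_codim_one [IsNoetherian X] (U : X.Opens)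
    (hgen : ∀ z : X, ∃ η ∈ U, η ⤳ z) (T : Set X) (hTfin : T.Finite)
    (hT : ∀ y ∈ T, y ∉ U ∧ ringKrullDim (X.presheaf.stalk y) ≤ 1) (c : X) (hc : c ∈ T) :
    ∃ (P : X.Opens) (t : Γ(X, P)) (hcP : c ∈ P), IsAffineOpen P ∧ X.basicOpen t = P ⊓ U ∧
      (∀ q : Ideal (X.presheaf.stalk c), q.IsPrime → X.presheaf.germ P c hcP t ∈ q →
        q = IsLocalRing.maximalIdeal (X.presheaf.stalk c)) ∧
      (∀ z ∈ P, z ∉ U → c ⤳ z) ∧ (∀ c' ∈ T, c' ≠ c → ∀ z ∈ P, ¬ c' ⤳ z) := by
  classical
  obtain ⟨hcU, hdim⟩ := hT c hc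
  haveI : IsNoetherianRing (X.presheaf.stalk c) := inferInstance
  have hprop : ∀ z : X, z ⤳ c → z ≠ c → z ∈ U := by
    intro z hz hne
    obtain ⟨η, hηU, hηz⟩ := hgen z
    by_cases e : η = z
    · exact e ▸ hηU
    · exact absurd hdim (not_dim_le_one_of_chain hηz hz e hne)
  have hOc : IsClosed (⋃ c' ∈ T \ {c}, closure ({c'} : Set X)) :=
    (hTfin.diff).isClosed_biUnion (fun _ _ => isClosed_closure)
  let O : X.Opens := ⟨(⋃ c' ∈ T \ {c}, closure ({c'} : Set X))ᶜ, hOc.isOpen_compl⟩
  have hcO : c ∈ O := by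
    intro hmem
    obtain ⟨c', ⟨hc'T, hc'ne⟩, hmem'⟩ := Set.mem_iUnion₂.mp hmem
    have hsp : c' ⤳ c := specializes_iff_mem_closure.mpr hmem'
    exact (hT c' hc'T).1 (hprop c' hsp hc'ne)
  obtain ⟨t₀, ht₀m, hav₀⟩ := exists_mem_maximalIdeal_avoid (X.presheaf.stalk c) hdim
  obtain ⟨P₀, hP₀O, hcP₀, h₀, hh₀⟩ :=
    TopCat.Presheaf.exists_le_germ_eq X.presheaf t₀ (V := O) hcO
  obtain ⟨P₁, hP₁, hcP₁, hP₁P₀⟩ := exists_affine_le c P₀ hcP₀
  let h₁ : Γ(X, P₁) := rres X hP₁P₀ h₀
  have hg₁ : X.presheaf.germ P₁ c hcP₁ h₁ = t₀ := by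
    rw [← hh₀]
    exact TopCat.Presheaf.germ_res_apply X.presheaf (homOfLE hP₁P₀) c hcP₁ h₀
  have hcD : c ∉ X.basicOpen h₁ := by
    intro hmem
    have hu := (X.mem_basicOpen h₁ c hcP₁).mp hmem
    rw [hg₁] at hu
    exact (mem_nonunits_iff.mp ((IsLocalRing.mem_maximalIdeal _).mp ht₀m)) hu
  have hgen1 : ∀ z : X, z ⤳ c → z ∈ U → z ∈ X.basicOpen h₁ := by
    intro z hz hzU
    apply mem_basicOpen_of_specializes c hcP₁ h₁ _ z hz (fun e => hcU (e ▸ hzU))
    intro q hq hmem
    rw [hg₁] at hmem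
    exact hav₀ q hq hmem
  obtain ⟨P', hcP', hP'P₁, hP'D⟩ := exists_nhd_inf_le U c hP₁ hcP₁ (X.basicOpen h₁)
    (X.basicOpen_le h₁) (hP₁.basicOpen h₁).isCompact hgen1
  obtain ⟨P'', hcP'', hP''P₁, hP''D⟩ := exists_nhd_inf_le (X.basicOpen h₁) c hP₁ hcP₁ (P₁ ⊓ U)
    inf_le_left (NoetherianSpace.isCompact _) (fun z hz hzD => by
      have hne : z ≠ c := fun e => hcD (e ▸ hzD)
      exact ⟨X.basicOpen_le h₁ hzD, hprop z hz hne⟩)
  let Oc : X.Opens := ⟨(closure ({c} : Set X))ᶜ, isClosed_closure.isOpen_compl⟩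
  obtain ⟨Q, hcQ, hQP₁, hQD⟩ := exists_nhd_inf_le Oc c hP₁ hcP₁ (X.basicOpen h₁)
    (X.basicOpen_le h₁) (hP₁.basicOpen h₁).isCompact (fun z hz hzO => by
      have hne : z ≠ c := fun e => hzO (by
        rw [e]
        exact subset_closure (Set.mem_singleton c))
      exact hgen1 z hz (hprop z hz hne))
  obtain ⟨P, hP, hcP, hPle⟩ := exists_affine_le c (P' ⊓ P'' ⊓ Q) ⟨⟨hcP', hcP''⟩, hcQ⟩
  have hPP' : P ≤ P' := hPle.trans (inf_le_left.trans inf_le_left)
  have hPP'' : P ≤ P'' := hPle.trans (inf_le_left.trans inf_le_right)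
  have hPQ : P ≤ Q := hPle.trans inf_le_right
  have hPP₁ : P ≤ P₁ := hPP'.trans hP'P₁
  refine ⟨P, rres X hPP₁ h₁, hcP, hP, ?_, ?_, ?_, ?_⟩
  · have hb : X.basicOpen (rres X hPP₁ h₁) = P ⊓ X.basicOpen h₁ :=
      Scheme.basicOpen_res X h₁ (homOfLE hPP₁).op
    rw [hb]
    apply le_antisymm
    · rintro z ⟨hzP, hzD⟩
      exact ⟨hzP, (hP''D ⟨hPP'' hzP, hzD⟩).2⟩
    · rintro z ⟨hzP, hzU⟩
      exact ⟨hzP, hP'D ⟨hPP' hzP, hzU⟩⟩
  · intro q hq hmem
    have hg : X.presheaf.germ P c hcP (rres X hPP₁ h₁) = t₀ := by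
      rw [← hg₁]
      exact TopCat.Presheaf.germ_res_apply X.presheaf (homOfLE hPP₁) c hcP h₁
    rw [hg] at hmem
    exact hav₀ q hq hmem
  · intro z hzP hzU
    rw [specializes_iff_mem_closure]
    by_contra hzc
    have hzO : z ∈ Oc := hzc
    have hzD : z ∈ X.basicOpen h₁ := hQD ⟨hPQ hzP, hzO⟩
    exact hzU (hP''D ⟨hPP'' hzP, hzD⟩).2
  · intro c' hc'T hc'ne z hzP hsp
    have hzO : z ∈ O := hP₀O (hP₁P₀ (hPP₁ hzP))
    apply hzO
    exact Set.mem_biUnion ⟨hc'T, hc'ne⟩ (specializes_iff_mem_closure.mp hsp)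

end Global

section Final

variable {X : Scheme.{u}}

/-- **Every point of a Noetherian separated scheme has an open neighbourhood containing all
points of codimension at most one and carrying an ample family of invertible modules.** -/
theorem exists_nhd_hasAmpleFamily [IsNoetherian X] [X.IsSeparated] (x : X) :
    ∃ V : X.Opens, x ∈ V ∧ (∀ y : X, ringKrullDim (X.presheaf.stalk y) ≤ 1 → y ∈ V) ∧
      MoreMor.HasAmpleFamily (V : Scheme.{u}) := by
  classical
  obtain ⟨U, hU, hxU, hgen⟩ := exists_dense_affine x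
  let T : Set X := {y : X | y ∉ U ∧ ringKrullDim (X.presheaf.stalk y) ≤ 1}
  have hTfin : T.Finite := finite_codim_le_one_compl U hgen
  have hT : ∀ y ∈ T, y ∉ U ∧ ringKrullDim (X.presheaf.stalk y) ≤ 1 := fun y hy => hy
  haveI : Finite ↥T := hTfin.to_subtype
  have hchart := fun c : ↥T => exists_chart_codim_one U hgen T hTfin hT c.1 c.2
  choose P t hcP hP hPt hav hone hoth using hchart
  have hpole := fun c : ↥T => exists_local_pole hU (hP c) (t c) (hPt c) c.1 (hcP c)
    (hT c.1 c.2).1 (hT c.1 c.2).2 (hav c)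
  choose h α G hch hαh hGh hrel using hpole
  let V : X.Opens := U ⊔ ⨆ c : ↥T, X.basicOpen (h c)
  have hUV : U ≤ V := le_sup_left
  have hDV : ∀ c : ↥T, X.basicOpen (h c) ≤ V := fun c =>
    (le_iSup (fun c : ↥T => X.basicOpen (h c)) c).trans le_sup_right
  refine ⟨V, hUV hxU, fun y hy => ?_, ?_⟩
  · by_cases hyU : y ∈ U
    · exact hUV hyU
    · exact hDV ⟨y, hyU, hy⟩ (hch ⟨y, hyU, hy⟩)
  · haveI : CompactSpace (V : Scheme.{u}) :=
      isCompact_iff_compactSpace.mp (NoetherianSpace.isCompact _)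
    have hrange : V.ι.opensRange = V := Scheme.Opens.opensRange_ι V
    have hDU : ∀ c : ↥T, X.basicOpen (rres X (X.basicOpen_le (h c)) (t c)) =
        X.basicOpen (h c) ⊓ U := by
      intro c
      have h1 : X.basicOpen (rres X (X.basicOpen_le (h c)) (t c)) =
          X.basicOpen (h c) ⊓ X.basicOpen (t c) :=
        Scheme.basicOpen_res X (t c) (homOfLE (X.basicOpen_le (h c))).op
      rw [h1, hPt c]
      apply le_antisymm
      · exact inf_le_inf_left _ inf_le_right
      · exact le_inf inf_le_left (le_inf (inf_le_left.trans (X.basicOpen_le (h c))) inf_le_right)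
    refine hasAmpleFamily_of_cover (Y := (V : Scheme.{u})) (V.ι ⁻¹ᵁ U)
      (hU.preimage_of_isOpenImmersion V.ι (by rw [hrange]; exact hUV))
      (fun c : ↥T => V.ι ⁻¹ᵁ X.basicOpen (h c))
      (fun c => ((hP c).basicOpen (h c)).preimage_of_isOpenImmersion V.ι
        (by rw [hrange]; exact hDV c))
      (fun c => (V.ι.app (X.basicOpen (h c))).hom (rres X (X.basicOpen_le (h c)) (t c)))
      ?_ ?_ ?_
      (fun c => (V.ι.app U).hom (α c)) (fun c => (V.ι.app (X.basicOpen (h c))).hom (G c))
      ?_ ?_ ?_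
    · intro c
      have h1 := (Scheme.preimage_basicOpen V.ι (rres X (X.basicOpen_le (h c)) (t c))).symm
      refine h1.trans ?_
      rw [hDU c]
      rfl
    · intro y
      have hy : V.ι y ∈ V := y.2
      rcases Opens.mem_sup.mp hy with hyU | hyD
      · exact Or.inl hyU
      · obtain ⟨c, hc⟩ := Opens.mem_iSup.mp hyD
        exact Or.inr ⟨c, hc⟩
    · intro c c' hne y hy
      have hy1 : V.ι y ∈ P c := X.basicOpen_le (h c) hy.1
      have hy2 : V.ι y ∈ P c' := X.basicOpen_le (h c') hy.2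
      show V.ι y ∈ U
      by_contra hyU
      have hsp : c'.1 ⤳ V.ι y := hone c' (V.ι y) hy2 hyU
      have hne' : c'.1 ≠ c.1 := fun e => hne (Subtype.ext e).symm
      exact hoth c c'.1 c'.2 hne' (V.ι y) hy1 hsp
    · intro c
      have h1 := (Scheme.preimage_basicOpen V.ι (α c)).symm
      refine h1.le.trans ?_
      exact V.ι.preimage_mono (hαh c)
    · intro c
      have h1 := (Scheme.preimage_basicOpen V.ι (G c)).symm
      refine h1.trans ?_
      rw [hGh c]
      rfl
    · intro c
      have e := congrArg (V.ι.app (X.basicOpen (h c) ⊓ U)).hom (hrel c)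
      rw [map_mul, map_one, ExtGlue.app_rres V.ι, ExtGlue.app_rres V.ι] at e
      exact e

end Final

end Groth.Agent.Lib.Helper26.AmpleFam
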