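import Mathlib
import Groth.Agent.Lib.Helper17.EffCartMod
import Groth.Agent.Lib.Helper3.CocycleGlue
import Groth.Agent.Lib.Helper3.InvAmple

/-!
# The invertible module `O(D)` of an effective Cartier divisor and its canonical section (helper26)

For an effective Cartier divisor `D` the ideal module is invertible; gluing with the inverse
cocycle gives an invertible module `M = O(D)` with a global section whose non-vanishing locus is
the complement of the support of `D`.
-/

set_option autoImplicit false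
set_option linter.style.haveILetI false
set_option linter.unusedSectionVars false
universe u
open CategoryTheory CategoryTheory.Limits AlgebraicGeometry TopologicalSpace Opposite
open Scheme.Modules Topology

namespace Groth.Agent.Lib.Helper26.CartierSec

open Groth.Agent.Lib.Helper3 Groth.Agent.Lib.Helper3.QCSec Groth.Agent.Lib.Helper3.InvGen
open Groth.Agent.Lib.Helper3.IdealMod

variable {X : Scheme.{u}}

/-- **`O(D)` and its canonical section.** -/
theorem exists_section_of_effCartier (D : X.IdealSheafData) (hD : BlowUp.IsEffCartierIdeal D) :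
    ∃ (M : X.Modules) (s : Coh.structureModule X ⟶ M), PicF.IsInvertible M ∧
      ∀ x : X, x ∈ CohB1.genLocus M s ↔ x ∉ D.support := by
  classical
  have hJ : PicF.IsInvertible (ClSub.idealMod D) :=
    (Groth.Agent.Lib.Helper17.EffCartMod.isInvertible_idealMod_iff D).mpr hD
  choose N e hxN hgen using fun x : X => exists_isGen hJ x
  have hNcov : iSup N = ⊤ := by
    rw [eq_top_iff]
    intro x _
    exact Opens.mem_iSup.mpr ⟨x, hxN x⟩
  have hu : ∀ a b : X, ∃ u : Γ(X, N a ⊓ N b), IsUnit u ∧
      res (ClSub.idealMod D) (inf_le_left : N a ⊓ N b ≤ N a) (e a) =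
        u • res (ClSub.idealMod D) (inf_le_right : N a ⊓ N b ≤ N b) (e b) := fun a b =>
    (hgen b _ inf_le_right).exists_unit (hgen a _ inf_le_left)
  choose u huu hue using hu
  let η : ∀ a b : X, (Γ(X, N a ⊓ N b))ˣ := fun a b => ((huu a b).unit)⁻¹
  have hηu : ∀ a b, (η a b : Γ(X, N a ⊓ N b)) * u a b = 1 := fun a b => by
    show ((((huu a b).unit)⁻¹ : (Γ(X, N a ⊓ N b))ˣ) : Γ(X, N a ⊓ N b)) * u a b = 1
    exact IsUnit.val_inv_mul (huu a b)
  have hη : ∀ a b c : X,
      rres X (inf_le_inf_right (N c) inf_le_left : N a ⊓ N b ⊓ N c ≤ N a ⊓ N c)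
          (η a c : Γ(X, N a ⊓ N c)) =
        rres X (inf_le_left : N a ⊓ N b ⊓ N c ≤ N a ⊓ N b) (η a b : Γ(X, N a ⊓ N b)) *
          rres X (inf_le_inf_right (N c) inf_le_right : N a ⊓ N b ⊓ N c ≤ N b ⊓ N c)
            (η b c : Γ(X, N b ⊓ N c)) := by
    intro a b c
    have hTc : N a ⊓ N b ⊓ N c ≤ N c := inf_le_right
    have hTab : N a ⊓ N b ⊓ N c ≤ N a ⊓ N b := inf_le_left
    have hTac : N a ⊓ N b ⊓ N c ≤ N a ⊓ N c := inf_le_inf_right (N c) inf_le_left
    have hTbc : N a ⊓ N b ⊓ N c ≤ N b ⊓ N c := inf_le_inf_right (N c) inf_le_right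
    have k : ∀ (p q : X) (hTpq : N a ⊓ N b ⊓ N c ≤ N p ⊓ N q),
        res (ClSub.idealMod D) (hTpq.trans inf_le_left) (e p) =
          rres X hTpq (u p q) • res (ClSub.idealMod D) (hTpq.trans inf_le_right) (e q) := by
      intro p q hTpq
      have h1 := congrArg (res (ClSub.idealMod D) hTpq) (hue p q)
      rwa [res_res, res_smul, res_res] at h1
    have k1 := k a c hTac
    have k2 := k a b hTab
    have k3 := k b c hTbc
    have hR : rres X hTac (u a c) = rres X hTab (u a b) * rres X hTbc (u b c) := by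
      apply (hgen c _ hTc).smul_inj
      rw [← k1, mul_smul, ← k3, ← k2]
    have hA : rres X hTac (η a c : Γ(X, N a ⊓ N c)) * rres X hTac (u a c) = 1 := by
      rw [← rres_mul, hηu, rres_one]
    have hB : rres X hTab (η a b : Γ(X, N a ⊓ N b)) * rres X hTab (u a b) = 1 := by
      rw [← rres_mul, hηu, rres_one]
    have hC : rres X hTbc (η b c : Γ(X, N b ⊓ N c)) * rres X hTbc (u b c) = 1 := by
      rw [← rres_mul, hηu, rres_one]
    calc rres X hTac (η a c : Γ(X, N a ⊓ N c))
        = rres X hTac (η a c : Γ(X, N a ⊓ N c)) *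
            ((rres X hTab (η a b : Γ(X, N a ⊓ N b)) * rres X hTab (u a b)) *
              (rres X hTbc (η b c : Γ(X, N b ⊓ N c)) * rres X hTbc (u b c))) := by
          rw [hB, hC, mul_one, mul_one]
      _ = (rres X hTac (η a c : Γ(X, N a ⊓ N c)) *
            (rres X hTab (u a b) * rres X hTbc (u b c))) *
            (rres X hTab (η a b : Γ(X, N a ⊓ N b)) *
              rres X hTbc (η b c : Γ(X, N b ⊓ N c))) := by ring
      _ = _ := by rw [← hR, hA, one_mul]
  obtain ⟨M, s, hM, hs, hrel⟩ := CocycleGlue.main N η hη hNcov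
  have hcompat : ∀ a b, res M (inf_le_left : N a ⊓ N b ≤ N a) (val D (e a) • s a) =
      res M (inf_le_right : N a ⊓ N b ≤ N b) (val D (e b) • s b) := by
    intro a b
    have hv : rres X (inf_le_left : N a ⊓ N b ≤ N a) (val D (e a)) =
        u a b * rres X (inf_le_right : N a ⊓ N b ≤ N b) (val D (e b)) := by
      rw [← val_res, hue a b, val_smul, val_res]
    rw [res_smul, res_smul, hrel a b, smul_smul, hv]
    congr 1
    calc u a b * rres X (inf_le_right : N a ⊓ N b ≤ N b) (val D (e b)) *
          (η a b : Γ(X, N a ⊓ N b))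
        = ((η a b : Γ(X, N a ⊓ N b)) * u a b) *
            rres X (inf_le_right : N a ⊓ N b ≤ N b) (val D (e b)) := by ring
      _ = _ := by rw [hηu, one_mul]
  obtain ⟨σ, hσ⟩ := sec_glue M N ⊤ (fun _ => le_top) (by rw [hNcov])
    (fun a => val D (e a) • s a) hcompat
  let s₀ : Coh.structureModule X ⟶ M := InvAmple.globalHom M σ
  have hgl : ∀ a, CohB1.genLocus M s₀ ⊓ N a = X.basicOpen (val D (e a)) := by
    intro a
    apply genLocus_inf_eq_basicOpen s₀ (hs a) (val D (e a))
    rw [InvAmple.sec_globalHom]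
    exact hσ a
  refine ⟨M, s₀, hM, fun x => ?_⟩
  have hx1 : x ∈ CohB1.genLocus M s₀ ↔ x ∈ X.basicOpen (val D (e x)) := by
    rw [← hgl x]
    exact ⟨fun h => ⟨h, hxN x⟩, fun h => h.1⟩
  rw [hx1]
  constructor
  · intro hx hxs
    exact Set.disjoint_left.mp (disjoint_basicOpen_val D (e x)) hx hxs
  · intro hxs
    let W : X.Opens := N x ⊓ ⟨(D.support : Set X)ᶜ, D.support.isClosed.isOpen_compl⟩
    have hxW : x ∈ W := ⟨hxN x, hxs⟩
    have hdisj : Disjoint (W : Set X) (D.support : Set X) :=
      Set.disjoint_left.mpr (fun z hz hzs => hz.2 hzs)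
    obtain ⟨s1, hs1⟩ := exists_val_eq_one D hdisj
    obtain ⟨c, hc⟩ := (hgen x W inf_le_left).2 s1
    have hc' : c • res (ClSub.idealMod D) (inf_le_left : W ≤ N x) (e x) = s1 := hc
    have h1 : c * rres X (inf_le_left : W ≤ N x) (val D (e x)) = 1 := by
      rw [← val_res, ← val_smul, hc', hs1]
    have hunit : IsUnit (rres X (inf_le_left : W ≤ N x) (val D (e x))) :=
      IsUnit.of_mul_eq_one c (by rw [mul_comm]; exact h1)
    rw [X.mem_basicOpen _ x (hxN x)]
    have hg1 : X.presheaf.germ W x hxW (rres X inf_le_left (val D (e x))) =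
        X.presheaf.germ (N x) x (hxN x) (val D (e x)) :=
      TopCat.Presheaf.germ_res_apply X.presheaf (homOfLE inf_le_left) x hxW _
    rw [← hg1]
    exact hunit.map (X.presheaf.germ W x hxW).hom

end Groth.Agent.Lib.Helper26.CartierSec
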