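import Groth.Agent.Lib.Helper26.EffCartierUFD

/-!
# Variant of `EffCartierUFD.exists_effCartier` assuming only that `U ↪ X` is an affine morphism
(e.g. when `X` has affine diagonal).
-/

set_option autoImplicit false
set_option linter.style.haveILetI false
set_option linter.unusedSectionVars false
universe u
open CategoryTheory CategoryTheory.Limits AlgebraicGeometry IsLocalRing TopologicalSpace

namespace Groth.Agent.Lib.Helper26.EffCartierUFD

open Groth.Agent.Lib.Helper26.PuncAffine

theorem isAffineHom_ι_of_forall_inf (X : Scheme.{u}) (U : X.Opens)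
    (hΔ : ∀ W : X.Opens, IsAffineOpen W → IsAffineOpen (U ⊓ W)) : IsAffineHom U.ι := by
  refine ⟨fun W hW => ?_⟩
  rw [← U.ι.isAffineOpen_iff_of_isOpenImmersion, U.ι.image_preimage_eq_opensRange_inf,
    Scheme.Opens.opensRange_ι]
  exact hΔ W hW

/-- **S1687.** -/
theorem exists_effCartier' (X : Scheme.{u}) [IsNoetherian X]
    (U : X.Opens) [IsAffineHom U.ι] (hdense : Dense (U : Set X))
    (hufd : ∀ x : X, x ∉ U → IsDomain (X.presheaf.stalk x) ∧
      UniqueFactorizationMonoid (X.presheaf.stalk x)) :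
    ∃ D : X.IdealSheafData, BlowUp.IsEffCartierIdeal D ∧ (D.support : Set X) = (U : Set X)ᶜ := by
  let Z : Closeds X := ⟨(U : Set X)ᶜ, U.isOpen.isClosed_compl⟩
  refine ⟨Scheme.IdealSheafData.vanishingIdeal Z, ?_,
    Scheme.IdealSheafData.coe_support_vanishingIdeal Z⟩
  apply Groth.Agent.S1570.result
  intro x hx W hxW
  have hxU : x ∉ U := by
    have : x ∈ ((Scheme.IdealSheafData.vanishingIdeal Z).support : Set X) := hx
    rw [Scheme.IdealSheafData.coe_support_vanishingIdeal] at this
    exact this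
  obtain ⟨hdom, hufm⟩ := hufd x hxU
  haveI := hdom
  haveI := hufm
  haveI : IsNoetherianRing Γ(X, W.1) := IsLocallyNoetherian.component_noetherian W
  letI := TopCat.Presheaf.algebra_section_stalk X.presheaf (U := W.1) ⟨x, hxW⟩
  haveI : IsLocalization.AtPrime (X.presheaf.stalk x) (W.2.primeIdealOf ⟨x, hxW⟩).asIdeal :=
    W.2.isLocalization_stalk ⟨x, hxW⟩
  rw [Scheme.IdealSheafData.vanishingIdeal_ideal]
  obtain ⟨g, hg, hgI⟩ :=
    Groth.Agent.Lib.Helper26.UFDRadical.exists_span_singleton_map_of_ufd_localization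
      (W.2.primeIdealOf ⟨x, hxW⟩).asIdeal (X.presheaf.stalk x)
      (PrimeSpectrum.vanishingIdeal (W.2.fromSpec ⁻¹' (Z : Set X)))
      (PrimeSpectrum.isRadical_vanishingIdeal _)
      (fun r hr _ => height_eq_one_of_mem_minimalPrimes X U hdense W.1 W.2 r hr)
  exact ⟨g, hg, hgI⟩

end Groth.Agent.Lib.Helper26.EffCartierUFD
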