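import Mathlib

/-!
# Radical ideals of pure height one in a Noetherian UFD are principal
-/

set_option autoImplicit false
set_option linter.style.haveILetI false
set_option linter.unusedSectionVars false

namespace Groth.Agent.Lib.Helper26.UFDRadical

/-- In a Noetherian UFD, a radical ideal all of whose minimal primes have height one is principal,
generated by a nonzero element. -/
theorem exists_span_singleton_of_radical_height_one {S : Type*} [CommRing S] [IsDomain S]
    [IsNoetherianRing S] [UniqueFactorizationMonoid S] (I : Ideal S) (hI : I.IsRadical)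
    (hht : ∀ q ∈ I.minimalPrimes, q.height = 1) : ∃ g : S, g ≠ 0 ∧ I = Ideal.span {g} := by
  classical
  have hTfin := Ideal.finite_minimalPrimes_of_isNoetherianRing S I
  have hgen : ∀ q ∈ I.minimalPrimes, ∃ π : S, q = Ideal.span {π} ∧ π ≠ 0 := by
    intro q hq
    haveI : q.IsPrime := hq.1.1
    have hprin := UniqueFactorizationMonoid.isPrincipal_of_height_eq_one (hht q hq)
    refine ⟨Submodule.IsPrincipal.generator q, (Ideal.span_singleton_generator q).symm, ?_⟩
    intro h0
    have hbot : q = ⊥ := by
      rw [← Ideal.span_singleton_generator q, h0]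
      simp
    exact Ideal.ne_bot_of_height_eq_one (hht q hq) hbot
  choose! π hπ using hgen
  have hprime : ∀ q ∈ I.minimalPrimes, Prime (π q) := by
    intro q hq
    have h1 := (hπ q hq).1
    have : (Ideal.span {π q}).IsPrime := h1 ▸ hq.1.1
    exact (Ideal.span_singleton_prime (hπ q hq).2).mp this
  have hIinf : sInf I.minimalPrimes = I := by
    rw [Ideal.sInf_minimalPrimes, hI.radical]
  -- divisibility of the product
  have hdvd : ∀ s : Finset (Ideal S), (∀ q ∈ s, q ∈ I.minimalPrimes) →
      ∀ a : S, (∀ q ∈ s, π q ∣ a) → ∏ q ∈ s, π q ∣ a := by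
    intro s
    induction s using Finset.induction_on with
    | empty => intro _ a _; simp
    | insert q₀ s' hq₀ ih =>
      intro hs a ha
      have hq₀m : q₀ ∈ I.minimalPrimes := hs q₀ (Finset.mem_insert_self _ _)
      obtain ⟨b, rfl⟩ := ha q₀ (Finset.mem_insert_self _ _)
      rw [Finset.prod_insert hq₀]
      apply mul_dvd_mul_left
      apply ih (fun q hq => hs q (Finset.mem_insert_of_mem hq))
      intro q hq
      have hqm : q ∈ I.minimalPrimes := hs q (Finset.mem_insert_of_mem hq)
      rcases (hprime q hqm).dvd_or_dvd (ha q (Finset.mem_insert_of_mem hq)) with h | h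
      · exfalso
        -- q₀ ≤ q
        have hle : q₀ ≤ q := by
          rw [(hπ q₀ hq₀m).1, (hπ q hqm).1, Ideal.span_singleton_le_span_singleton]
          exact h
        have hge : q ≤ q₀ := hqm.2 hq₀m.1 hle
        have : q = q₀ := le_antisymm hge hle
        exact hq₀ (this ▸ hq)
      · exact h
  refine ⟨∏ q ∈ hTfin.toFinset, π q, ?_, ?_⟩
  · rw [Finset.prod_ne_zero_iff]
    intro q hq
    exact (hπ q (hTfin.mem_toFinset.mp hq)).2
  · apply le_antisymm
    · intro a ha
      rw [Ideal.mem_span_singleton]
      apply hdvd _ (fun q hq => hTfin.mem_toFinset.mp hq)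
      intro q hq
      have hqm := hTfin.mem_toFinset.mp hq
      have haq : a ∈ q := hqm.1.2 ha
      rw [(hπ q hqm).1, Ideal.mem_span_singleton] at haq
      exact haq
    · rw [Ideal.span_singleton_le_iff_mem]
      apply hIinf.le
      rw [Ideal.mem_sInf]
      intro q hq
      rw [(hπ q hq).1, Ideal.mem_span_singleton]
      exact Finset.dvd_prod_of_mem _ (hTfin.mem_toFinset.mpr hq)

/-- Localised version: `R` Noetherian, `S = R_p` a UFD, `J` radical with all its minimal primes
below `p` of height one: then `J S` is generated by a nonzerodivisor. -/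
theorem exists_span_singleton_map_of_ufd_localization {R : Type*} [CommRing R]
    [IsNoetherianRing R] (p : Ideal R) [p.IsPrime] (S : Type*) [CommRing S] [Algebra R S]
    [IsLocalization.AtPrime S p] [IsDomain S] [UniqueFactorizationMonoid S] (J : Ideal R)
    (hJ : J.IsRadical) (hht : ∀ r ∈ J.minimalPrimes, r ≤ p → r.height = 1) :
    ∃ g : S, g ∈ nonZeroDivisors S ∧ J.map (algebraMap R S) = Ideal.span {g} := by
  haveI : IsNoetherianRing S := IsLocalization.isNoetherianRing p.primeCompl S inferInstance
  have hrad : (J.map (algebraMap R S)).IsRadical := by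
    rw [← Ideal.radical_eq_iff, ← IsLocalization.map_radical p.primeCompl S J, hJ.radical]
  have hht' : ∀ q ∈ (J.map (algebraMap R S)).minimalPrimes, q.height = 1 := by
    intro q hq
    have hqp : q.IsPrime := hq.1.1
    rw [IsLocalization.minimalPrimes_map p.primeCompl S J] at hq
    have hq' : q.under R ∈ J.minimalPrimes := hq
    have hle : q.under R ≤ p := by
      have hdisj := ((IsLocalization.isPrime_iff_isPrime_disjoint p.primeCompl S q).mp hqp).2
      intro x hx
      by_contra hxp
      exact Set.disjoint_left.mp hdisj (show x ∈ (p.primeCompl : Set R) from hxp) hx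
    rw [← IsLocalization.height_under p.primeCompl q]
    exact hht _ hq' hle
  obtain ⟨g, hg0, hg⟩ := exists_span_singleton_of_radical_height_one _ hrad hht'
  exact ⟨g, mem_nonZeroDivisors_of_ne_zero hg0, hg⟩

end Groth.Agent.Lib.Helper26.UFDRadical
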