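import Groth.Agent.Lib.Helper26.PuncAffineClosure
import Groth.Agent.Lib.Helper26.UFDRadical
import Groth.Agent.S1570

/-!
# The complement of a dense affine open of a separated Noetherian scheme with factorial local
rings outside is the support of an effective Cartier divisor
-/

set_option autoImplicit false
set_option linter.style.haveILetI false
set_option linter.unusedSectionVars false
universe u
open CategoryTheory CategoryTheory.Limits AlgebraicGeometry IsLocalRing TopologicalSpace

namespace Groth.Agent.Lib.Helper26.EffCartierUFD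

open Groth.Agent.Lib.Helper26.PuncAffine

theorem isAffineHom_ι_of_isAffineOpen (X : Scheme.{u}) [X.IsSeparated] (U : X.Opens)
    (hU : IsAffineOpen U) : IsAffineHom U.ι := by
  haveI : IsAffine U := hU
  haveI : IsAffineHom (U.ι ≫ terminal.from X) := inferInstance
  exact IsAffineHom.of_comp (f := U.ι) (g := terminal.from X)

/-- Height-one statement: minimal primes of the vanishing ideal of the complement of `U`. -/
theorem height_eq_one_of_mem_minimalPrimes (X : Scheme.{u}) [IsLocallyNoetherian X] (U : X.Opens)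
    [IsAffineHom U.ι] (hdense : Dense (U : Set X)) (W : X.Opens) (hW : IsAffineOpen W)
    (r : Ideal Γ(X, W))
    (hr : r ∈ (PrimeSpectrum.vanishingIdeal (hW.fromSpec ⁻¹' ((U : Set X)ᶜ))).minimalPrimes) :
    r.height = 1 := by
  haveI : r.IsPrime := hr.1.1
  set y : PrimeSpectrum Γ(X, W) := ⟨r, hr.1.1⟩ with hy
  have hcl : IsClosed (hW.fromSpec ⁻¹' ((U : Set X)ᶜ)) :=
    U.isOpen.isClosed_compl.preimage hW.fromSpec.continuous
  have hyW : hW.fromSpec y ∈ W := by
    have : hW.fromSpec y ∈ Set.range hW.fromSpec := ⟨y, rfl⟩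
    rw [hW.range_fromSpec] at this
    exact this
  have hyU : hW.fromSpec y ∉ U := by
    have h1 : y ∈ PrimeSpectrum.zeroLocus
        (PrimeSpectrum.vanishingIdeal (hW.fromSpec ⁻¹' ((U : Set X)ᶜ)) : Set Γ(X, W)) := by
      rw [PrimeSpectrum.mem_zeroLocus]
      exact hr.1.2
    rw [PrimeSpectrum.zeroLocus_vanishingIdeal_eq_closure] at h1
    exact hcl.closure_subset h1
  have hmax : ∀ η : X, η ∉ U → η ⤳ hW.fromSpec y → η = hW.fromSpec y := by
    intro η hηU hη
    have hηW : η ∈ W := hη.mem_open W.isOpen hyW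
    set y' := hW.primeIdealOf ⟨η, hηW⟩ with hy'
    have hy'η : hW.fromSpec y' = η := hW.fromSpec_primeIdealOf ⟨η, hηW⟩
    rw [← hy'η] at hη hηU ⊢
    have hle : y' ≤ y := (PrimeSpectrum.le_iff_specializes y' y).mpr
      (hW.fromSpec.isOpenEmbedding.isInducing.specializes_iff.mp hη)
    have hJ : PrimeSpectrum.vanishingIdeal (hW.fromSpec ⁻¹' ((U : Set X)ᶜ)) ≤ y'.asIdeal := by
      have := PrimeSpectrum.subset_zeroLocus_vanishingIdeal (hW.fromSpec ⁻¹' ((U : Set X)ᶜ))
        (show y' ∈ hW.fromSpec ⁻¹' ((U : Set X)ᶜ) from hηU)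
      rw [PrimeSpectrum.mem_zeroLocus] at this
      exact this
    have hge : r ≤ y'.asIdeal := hr.2 ⟨y'.isPrime, hJ⟩ hle
    have : y' = y := le_antisymm hle hge
    rw [this]
  have hdim : ringKrullDim (X.presheaf.stalk (hW.fromSpec y)) = 1 :=
    le_antisymm (ringKrullDim_stalk_le_one X U _ hyU hmax)
      (one_le_ringKrullDim_stalk_of_dense X U _ hyU hdense)
  have hloc := hW.isLocalization_stalk' y hyW
  have h2 := @IsLocalization.AtPrime.ringKrullDim_eq_height _ _ y.asIdeal _
    (X.presheaf.stalk (hW.fromSpec y)) _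
    (TopCat.Presheaf.algebra_section_stalk X.presheaf ⟨hW.fromSpec y, hyW⟩) hloc
  rw [h2] at hdim
  have h3 : y.asIdeal.height = 1 := by exact_mod_cast hdim
  exact h3

/-- **S1572.** -/
theorem exists_effCartier (X : Scheme.{u}) [IsNoetherian X] [X.IsSeparated]
    (U : X.Opens) (hU : IsAffineOpen U) (hdense : Dense (U : Set X))
    (hufd : ∀ x : X, x ∉ U → IsDomain (X.presheaf.stalk x) ∧
      UniqueFactorizationMonoid (X.presheaf.stalk x)) :
    ∃ D : X.IdealSheafData, BlowUp.IsEffCartierIdeal D ∧ (D.support : Set X) = (U : Set X)ᶜ := by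
  haveI := isAffineHom_ι_of_isAffineOpen X U hU
  let Z : Closeds X := ⟨(U : Set X)ᶜ, U.isOpen.isClosed_compl⟩
  refine ⟨Scheme.IdealSheafData.vanishingIdeal Z, ?_,
    Scheme.IdealSheafData.coe_support_vanishingIdeal Z⟩
  apply Groth.Agent.S1570.result
  intro x hx W hxW
  have hxU : x ∉ U := by
    have : x ∈ ((Scheme.IdealSheafData.vanishingIdeal Z).support : Set X) := hx
    rw [Scheme.IdealSheafData.coe_support_vanishingIdeal] at this
    exact this
  obtain ⟨hdom, hufm⟩ := hufd x hxU
  haveI := hdom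
  haveI := hufm
  haveI : IsNoetherianRing Γ(X, W.1) := IsLocallyNoetherian.component_noetherian W
  letI := TopCat.Presheaf.algebra_section_stalk X.presheaf (U := W.1) ⟨x, hxW⟩
  haveI : IsLocalization.AtPrime (X.presheaf.stalk x) (W.2.primeIdealOf ⟨x, hxW⟩).asIdeal :=
    W.2.isLocalization_stalk ⟨x, hxW⟩
  rw [Scheme.IdealSheafData.vanishingIdeal_ideal]
  obtain ⟨g, hg, hgI⟩ :=
    Groth.Agent.Lib.Helper26.UFDRadical.exists_span_singleton_map_of_ufd_localization
      (W.2.primeIdealOf ⟨x, hxW⟩).asIdeal (X.presheaf.stalk x)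
      (PrimeSpectrum.vanishingIdeal (W.2.fromSpec ⁻¹' (Z : Set X)))
      (PrimeSpectrum.isRadical_vanishingIdeal _)
      (fun r hr _ => height_eq_one_of_mem_minimalPrimes X U hdense W.1 W.2 r hr)
  exact ⟨g, hg, hgI⟩

end Groth.Agent.Lib.Helper26.EffCartierUFD
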