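import Groth.Agent.Lib.Helper17.UnitBC2
import Groth.Agent.Lib.Helper17.TensorSec
import Groth.Agent.Lib.Helper17.AffIso
import Groth.Agent.Lib.Helper17.PbStalk
import Groth.Agent.Lib.Helper2.Mon.ProjFormula
import Groth.Agent.Lib.Helper3.QCPush
import Mathlib

/-!
# The projection formula for affine morphisms and quasi-coherent modules (helper26)

For an affine morphism `f : X ⟶ Y`, a quasi-coherent `A` on `X` and a quasi-coherent `B` on `Y`,
the projection morphism `f_*A ⊗ B ⟶ f_*(A ⊗ f^*B)` is an isomorphism.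
-/

set_option autoImplicit false
set_option linter.style.haveILetI false
universe u
open CategoryTheory CategoryTheory.Limits AlgebraicGeometry Opposite TopologicalSpace
open TensorProduct

namespace Groth.Agent.Lib.Helper26.AffProj

open Groth.Agent.Lib.Helper17

theorem bijective_of_isBCHom {R S : Type*} [CommRing R] [CommRing S] (φ : R →+* S)
    {T T' N N' : Type*} [AddCommGroup T] [Module R T] [AddCommGroup T'] [Module S T']
    [AddCommGroup N] [Module R N] [AddCommGroup N'] [Module S N']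
    (eT : T ≃+ T') (heT : ∀ (r : R) (t : T), eT (r • t) = φ r • eT t)
    (β : N → N') (hβ : UnitBC.IsBCHom φ β)
    (Ψ : T ⊗[R] N →+ T' ⊗[S] N') (hΨ : ∀ t n, Ψ (t ⊗ₜ[R] n) = eT t ⊗ₜ[S] β n) :
    Function.Bijective Ψ := by
  letI := φ.toAlgebra
  letI : Module R N' := Module.compHom N' φ
  haveI : IsScalarTower R S N' := IsScalarTower.of_algebraMap_smul fun _ _ => rfl
  letI : Module R T' := Module.compHom T' φ
  haveI : IsScalarTower R S T' := IsScalarTower.of_algebraMap_smul fun _ _ => rfl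
  obtain ⟨lin, hlin, hbc⟩ := hβ
  let eT' : T ≃ₗ[R] T' := eT.toLinearEquiv (fun r t => heT r t)
  let e1 : T ⊗[R] N ≃ₗ[R] T' ⊗[R] N := TensorProduct.congr eT' (LinearEquiv.refl R N)
  let e2 : T' ⊗[S] (S ⊗[R] N) ≃ₗ[S] T' ⊗[R] N :=
    TensorProduct.AlgebraTensorModule.cancelBaseChange R S S T' N
  let e3 : T' ⊗[S] (S ⊗[R] N) ≃ₗ[S] T' ⊗[S] N' :=
    TensorProduct.congr (LinearEquiv.refl S T') hbc.equiv
  have hΦ : ∀ z, Ψ z = e3 (e2.symm (e1 z)) := by
    intro z
    induction z using TensorProduct.induction_on with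
    | zero => simp
    | tmul t n =>
      rw [hΨ]
      show _ = e3 (e2.symm (eT' t ⊗ₜ[R] n))
      rw [TensorProduct.AlgebraTensorModule.cancelBaseChange_symm_tmul]
      show _ = (eT' t) ⊗ₜ[S] (hbc.equiv ((1 : S) ⊗ₜ[R] n))
      rw [hbc.equiv_tmul, one_smul, hlin]
      rfl
    | add x y hx hy => rw [map_add, hx, hy, map_add, map_add, map_add]
  constructor
  · intro a b hab
    rw [hΦ, hΦ] at hab
    exact e1.injective (e2.symm.injective (e3.injective hab))
  · intro y
    obtain ⟨z, hz⟩ := e1.surjective (e2 (e3.symm y))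
    refine ⟨z, ?_⟩
    rw [hΦ, hz, LinearEquiv.symm_apply_apply, LinearEquiv.apply_symm_apply]

section Sheaf

open Groth.Agent.Lib.Helper3 Groth.Agent.Lib.Helper3.QCSec Groth.Agent.Lib.Helper3.PbBasic
  Groth.Agent.Lib.Helper3.InvTensor Groth.Agent.Lib.Helper17.TensorSec
  Groth.Agent.Lib.Helper17.UnitBC Groth.Agent.Lib.Helper2.Mon
open Scheme.Modules

variable {X Y : Scheme.{u}} (f : X ⟶ Y) [IsAffineHom f] (A : X.Modules) [A.IsQuasicoherent]
  (B : Y.Modules) [B.IsQuasicoherent]

theorem bijective_projHom_app {V : Y.Opens} (hV : IsAffineOpen V) :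
    Function.Bijective ((projHom f A B).app V) := by
  haveI : ((pushforward f).obj A).IsQuasicoherent := QCSec.isQuasicoherent_pushforward f A
  haveI : ((Scheme.Modules.pullback f).obj B).IsQuasicoherent :=
    PbStalk.isQuasicoherent_pullback f B
  have hU : IsAffineOpen (f ⁻¹ᵁ V) := hV.preimage f
  have b1 := et_bijective ((pushforward f).obj A) B hV
  have b2 := et_bijective A ((Scheme.Modules.pullback f).obj B) hU
  let e1 := AddEquiv.ofBijective (et ((pushforward f).obj A) B V) b1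
  let e2 := AddEquiv.ofBijective (et A ((Scheme.Modules.pullback f).obj B) (f ⁻¹ᵁ V)) b2
  let P : Γ(CohB1.tensorMod ((pushforward f).obj A) B, V) →+
      Γ(CohB1.tensorMod A ((Scheme.Modules.pullback f).obj B), f ⁻¹ᵁ V) :=
    AddMonoidHom.mk' (fun s => (projHom f A B).app V s)
      (fun a b => QCExact.app_add (projHom f A B) V a b)
  let Ψ : PT ((pushforward f).obj A) B V →+
      PT A ((Scheme.Modules.pullback f).obj B) (f ⁻¹ᵁ V) :=
    (e2.symm.toAddMonoidHom.comp P).comp e1.toAddMonoidHom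
  have hβ := isBCHom_unitSec f B hV hU le_rfl
  have hΨ : ∀ (t : ↑((CohB1.toPMod ((pushforward f).obj A)).obj (op V)))
      (n : ↑((CohB1.toPMod B).obj (op V))),
      Ψ (t ⊗ₜ[Rg Y V] n) =
        (show ↑((CohB1.toPMod A).obj (op (f ⁻¹ᵁ V))) from t) ⊗ₜ[Rg X (f ⁻¹ᵁ V)]
          (show ↑((CohB1.toPMod ((Scheme.Modules.pullback f).obj B)).obj (op (f ⁻¹ᵁ V))) from
            unitSec f B V (f ⁻¹ᵁ V) le_rfl n) := by
    intro t n
    apply e2.injective
    show e2 (e2.symm (P (e1 (t ⊗ₜ[Rg Y V] n)))) = _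
    rw [AddEquiv.apply_symm_apply]
    show (projHom f A B).app V (tm ((pushforward f).obj A) B V t n) =
      tm A ((Scheme.Modules.pullback f).obj B) (f ⁻¹ᵁ V) t (unitSec f B V (f ⁻¹ᵁ V) le_rfl n)
    rw [projHom_tm]
    unfold unitSec
    rw [res_self]
  let φ' : Rg Y V →+* Rg X (f ⁻¹ᵁ V) := (f.appLE V (f ⁻¹ᵁ V) le_rfl).hom
  have hβ' : IsBCHom (M := ↑((CohB1.toPMod B).obj (op V)))
      (N := ↑((CohB1.toPMod ((Scheme.Modules.pullback f).obj B)).obj (op (f ⁻¹ᵁ V)))) φ'
      (unitSec f B V (f ⁻¹ᵁ V) le_rfl) := hβ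
  have hbij : Function.Bijective Ψ :=
    bijective_of_isBCHom (R := Rg Y V) (S := Rg X (f ⁻¹ᵁ V)) φ'
      (T := ↑((CohB1.toPMod ((pushforward f).obj A)).obj (op V)))
      (T' := ↑((CohB1.toPMod A).obj (op (f ⁻¹ᵁ V))))
      (N := ↑((CohB1.toPMod B).obj (op V)))
      (N' := ↑((CohB1.toPMod ((Scheme.Modules.pullback f).obj B)).obj (op (f ⁻¹ᵁ V))))
      (AddEquiv.refl _)
      (fun r t => by
        show (f.app V).hom r • (show Γ(A, f ⁻¹ᵁ V) from t) =
          (f.appLE V (f ⁻¹ᵁ V) le_rfl).hom r • (show Γ(A, f ⁻¹ᵁ V) from t)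
        rw [Scheme.Hom.app_eq_appLE])
      (unitSec f B V (f ⁻¹ᵁ V) le_rfl) hβ' Ψ hΨ
  have hP : ∀ s, (projHom f A B).app V s = e2 (Ψ (e1.symm s)) := by
    intro s
    show _ = e2 (e2.symm (P (e1 (e1.symm s))))
    rw [AddEquiv.apply_symm_apply, AddEquiv.apply_symm_apply]
    rfl
  constructor
  · intro a b hab
    rw [hP, hP] at hab
    exact e1.symm.injective (hbij.1 (e2.injective hab))
  · intro y
    obtain ⟨z, hz⟩ := hbij.2 (e2.symm y)
    refine ⟨e1 z, ?_⟩
    rw [hP, AddEquiv.symm_apply_apply, hz, AddEquiv.apply_symm_apply]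

/-- **Projection formula for affine morphisms.** -/
theorem isIso_projHom_of_isAffineHom : IsIso (projHom f A B) := by
  haveI : ((pushforward f).obj A).IsQuasicoherent := QCSec.isQuasicoherent_pushforward f A
  haveI : ((Scheme.Modules.pullback f).obj B).IsQuasicoherent :=
    PbStalk.isQuasicoherent_pullback f B
  haveI : (CohB1.tensorMod ((pushforward f).obj A) B).IsQuasicoherent :=
    isQuasicoherent_tensorMod _ _
  haveI : (CohB1.tensorMod A ((Scheme.Modules.pullback f).obj B)).IsQuasicoherent :=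
    isQuasicoherent_tensorMod _ _
  haveI : ((pushforward f).obj
      (CohB1.tensorMod A ((Scheme.Modules.pullback f).obj B))).IsQuasicoherent :=
    QCSec.isQuasicoherent_pushforward f _
  apply AffIso.isIso_of_bijective_on_affine_cover
  intro y
  obtain ⟨V, hV, hyV⟩ := QCProps.exists_affine_nbhd y
  exact ⟨V, hV, hyV, bijective_projHom_app f A B hV⟩

end Sheaf

end Groth.Agent.Lib.Helper26.AffProj
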