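import Mathlib

/-!
# Spreading out homomorphisms from finitely presented algebras into localizations
-/

universe u

namespace Groth.Agent.Lib.Helper26.SpreadOut

open IsLocalization

/-- an algebra hom out of a localization, evaluated on `mk'`. -/
theorem algHom_mk'_mul {T A L : Type*} [CommRing T] [CommRing A] [CommRing L] [Algebra T A]
    [Algebra T L] (N : Submonoid T) [IsLocalization N A] (ρ : A →ₐ[T] L) (a : T) (s : N) :
    ρ (IsLocalization.mk' A a s) * algebraMap T L s = algebraMap T L a := by
  rw [← ρ.commutes (s : T), ← map_mul, IsLocalization.mk'_spec, ρ.commutes]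

/-- canonical map from `T_d` to a `T`-algebra in which `d` is a unit. -/
noncomputable def awayHom {T : Type*} [CommRing T] (d : T) (A : Type*) [CommRing A] [Algebra T A]
    (hd : IsUnit (algebraMap T A d)) : Localization.Away d →ₐ[T] A :=
  IsLocalization.Away.liftAlgHom (A := T) (R := T) (S := Localization.Away d) d
    (f := Algebra.ofId T A) hd

/-- **Spreading out a homomorphism**: a homomorphism from a finitely presented algebra into a
localization `M⁻¹T` factors through `T_t` for some `t ∈ M`. -/
theorem exists_algHom_away {R S T L : Type*} [CommRing R] [CommRing S] [CommRing T] [CommRing L]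
    [Algebra R S] [Algebra R T] [Algebra T L] [Algebra R L] [IsScalarTower R T L]
    [Algebra.FinitePresentation R S] (M : Submonoid T) [IsLocalization M L] (φ : S →ₐ[R] L) :
    ∃ (t : T) (_ : t ∈ M) (ψ : S →ₐ[R] Localization.Away t) (ρ : Localization.Away t →ₐ[T] L),
      ∀ s, ρ (ψ s) = φ s := by
  classical
  obtain ⟨n, π, hπ, hker⟩ := Algebra.FinitePresentation.out (R := R) (A := S)
  obtain ⟨⟨d, hdM⟩, hd⟩ := IsLocalization.exist_integer_multiples_of_finite M
    (fun i : Fin n => φ (π (MvPolynomial.X i)))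
  have hd' : ∀ i : Fin n, ∃ x, algebraMap T L x = d • φ (π (MvPolynomial.X i)) := fun i => hd i
  choose r hr using hd'
  have hdu : IsUnit (algebraMap T L d) := IsLocalization.map_units L (⟨d, hdM⟩ : M)
  let ψ₀ : MvPolynomial (Fin n) R →ₐ[R] Localization.Away d :=
    MvPolynomial.aeval (fun i => IsLocalization.mk' (Localization.Away d) (r i)
      (⟨d, Submonoid.mem_powers d⟩ : Submonoid.powers d))
  let ρd : Localization.Away d →ₐ[T] L := awayHom d L hdu
  have h0 : (ρd.restrictScalars R).comp ψ₀ = φ.comp π := by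
    apply MvPolynomial.algHom_ext
    intro i
    simp only [AlgHom.comp_apply, AlgHom.restrictScalars_apply, ψ₀, MvPolynomial.aeval_X]
    have h1 := algHom_mk'_mul (Submonoid.powers d) ρd (r i) ⟨d, Submonoid.mem_powers d⟩
    have h2 := hr i
    apply hdu.mul_right_cancel
    rw [h1, h2, Algebra.smul_def, mul_comm]
  obtain ⟨G, hG⟩ := hker
  have hkill : ∀ F ∈ G, ∃ m ∈ M, ∀ (t : T), m ∣ t →
      ∀ (hdt : IsUnit (algebraMap T (Localization.Away t) d)),
      awayHom d (Localization.Away t) hdt (ψ₀ F) = 0 := by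
    intro F hF
    have hF0 : π F = 0 := by
      have : F ∈ RingHom.ker π.toRingHom := hG ▸ Ideal.subset_span hF
      exact this
    have h1 : ρd (ψ₀ F) = 0 := by
      have := DFunLike.congr_fun h0 F
      simp only [AlgHom.comp_apply, AlgHom.restrictScalars_apply] at this
      rw [this, hF0, map_zero]
    obtain ⟨c, ⟨_, k, rfl⟩, hc⟩ := IsLocalization.exists_mk'_eq (Submonoid.powers d) (ψ₀ F)
    have h2 := algHom_mk'_mul (Submonoid.powers d) ρd c ⟨d ^ k, k, rfl⟩
    rw [hc, h1, zero_mul] at h2
    obtain ⟨⟨m, hm⟩, hmc⟩ := (IsLocalization.map_eq_zero_iff M L c).mp h2.symm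
    refine ⟨m, hm, fun t hmt hdt => ?_⟩
    have h3 := algHom_mk'_mul (Submonoid.powers d) (awayHom d (Localization.Away t) hdt) c
      ⟨d ^ k, k, rfl⟩
    rw [hc] at h3
    have hmu : IsUnit (algebraMap T (Localization.Away t) m) :=
      isUnit_of_dvd_unit (map_dvd _ hmt) (IsLocalization.Away.algebraMap_isUnit t)
    have hc0 : algebraMap T (Localization.Away t) c = 0 := by
      apply hmu.mul_left_cancel
      rw [← map_mul, hmc, map_zero, mul_zero]
    rw [hc0] at h3
    have hdk : IsUnit (algebraMap T (Localization.Away t) (d ^ k)) := by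
      rw [map_pow]; exact hdt.pow k
    exact hdk.mul_left_eq_zero.mp h3
  choose! mF hmF hmF' using hkill
  set t : T := d * ∏ F ∈ G, mF F with ht
  have htM : t ∈ M := M.mul_mem hdM (M.prod_mem hmF)
  have hdt : IsUnit (algebraMap T (Localization.Away t) d) :=
    isUnit_of_dvd_unit (map_dvd _ (Dvd.intro _ rfl)) (IsLocalization.Away.algebraMap_isUnit t)
  let τ : Localization.Away d →ₐ[T] Localization.Away t := awayHom d (Localization.Away t) hdt
  let ψ₁ : MvPolynomial (Fin n) R →ₐ[R] Localization.Away t := (τ.restrictScalars R).comp ψ₀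
  have hle : RingHom.ker π.toRingHom ≤ RingHom.ker ψ₁.toRingHom := by
    rw [← hG, Ideal.span_le]
    intro F hF
    exact hmF' F hF t (Dvd.dvd.mul_left (Finset.dvd_prod_of_mem _ hF) d) hdt
  have htu : IsUnit (algebraMap T L t) := IsLocalization.map_units L (⟨t, htM⟩ : M)
  let ρt : Localization.Away t →ₐ[T] L := awayHom t L htu
  refine ⟨t, htM, AlgHom.liftOfSurjective π hπ ψ₁ hle, ρt, fun s => ?_⟩
  obtain ⟨P, rfl⟩ := hπ s
  rw [AlgHom.liftOfSurjective_apply]
  have h4 : ρt.comp τ = ρd := (IsLocalization.algHom_subsingleton (Submonoid.powers d)).elim _ _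
  have h5 := DFunLike.congr_fun h0 P
  simp only [AlgHom.comp_apply, AlgHom.restrictScalars_apply] at h5
  rw [← h5, ← h4]
  rfl

/-- two algebra maps that agree on generators after multiplying by `t` agree everywhere
after multiplying by `t`. -/
theorem mul_eq_of_adjoin {R S T : Type*} [CommRing R] [CommRing S] [CommRing T]
    [Algebra R S] [Algebra R T] (α β : S →ₐ[R] T) (t : T) (X : Set S)
    (hX : Algebra.adjoin R X = ⊤) (h : ∀ x ∈ X, t * α x = t * β x) (s : S) :
    t * α s = t * β s := by
  have hs : s ∈ Algebra.adjoin R X := hX ▸ Algebra.mem_top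
  induction hs using Algebra.adjoin_induction with
  | mem x hx => exact h x hx
  | algebraMap r => rw [α.commutes, β.commutes]
  | add x y _ _ hx hy => rw [map_add, map_add, mul_add, mul_add, hx, hy]
  | mul x y _ _ hx hy =>
    rw [map_mul, map_mul, ← mul_assoc, hx, mul_assoc, mul_left_comm, hy, mul_left_comm]

/-- splitting off a factor from a retraction and an idempotent. -/
theorem nonempty_algEquiv_prod {A B : Type*} [CommRing A] [CommRing B] [Algebra A B]
    (σ : B →ₐ[A] A) (e : B) (he1 : σ e = 1) (he : ∀ j, σ j = 0 → e * j = 0) :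
    Nonempty (B ≃ₐ[A] A × (B ⧸ Ideal.span {e})) := by
  have hee : e * e = e := by
    have h1 : σ (e - 1) = 0 := by rw [map_sub, he1, map_one, sub_self]
    have h2 := he _ h1
    rw [mul_sub, mul_one, sub_eq_zero] at h2
    exact h2
  let ψ : B →ₐ[A] A × (B ⧸ Ideal.span {e}) := AlgHom.prod σ (Ideal.Quotient.mkₐ A _)
  refine ⟨AlgEquiv.ofBijective ψ ⟨?_, ?_⟩⟩
  · rw [injective_iff_map_eq_zero]
    intro s hs
    have h1 : σ s = 0 := congrArg Prod.fst hs
    have h2 : Ideal.Quotient.mk (Ideal.span {e}) s = 0 := congrArg Prod.snd hs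
    rw [Ideal.Quotient.eq_zero_iff_mem, Ideal.mem_span_singleton'] at h2
    obtain ⟨b, rfl⟩ := h2
    have h3 := he _ h1
    rw [mul_left_comm, hee] at h3
    exact h3
  · rintro ⟨r, c⟩
    obtain ⟨t, rfl⟩ := Ideal.Quotient.mk_surjective c
    refine ⟨e * algebraMap A B r + (1 - e) * t, ?_⟩
    refine Prod.ext ?_ ?_
    · change σ (e * algebraMap A B r + (1 - e) * t) = r
      rw [map_add, map_mul, map_mul, map_sub, he1, map_one, sub_self, zero_mul, add_zero, one_mul,
        σ.commutes]
      rfl
    · change Ideal.Quotient.mk (Ideal.span {e}) (e * algebraMap A B r + (1 - e) * t) =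
        Ideal.Quotient.mk (Ideal.span {e}) t
      rw [Ideal.Quotient.eq, Ideal.mem_span_singleton']
      exact ⟨algebraMap A B r - t, by ring⟩

end Groth.Agent.Lib.Helper26.SpreadOut
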