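import Groth.Agent.Lib.Helper16.CartSum.Main

/-!
# Two effective Cartier divisors, one inside the other, agreeing off codimension two, are equal
-/

set_option autoImplicit false
set_option linter.style.haveILetI false
set_option linter.unusedSectionVars false
universe u
open CategoryTheory CategoryTheory.Limits AlgebraicGeometry TopologicalSpace

namespace Groth.Agent.Lib.Helper26.CartierSumEq

open Groth.Agent.Lib.Helper3

variable {X : Scheme.{u}}

/-- If two ideal sheaves have the same restriction to an open `U`, they have the same sections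
over every affine open contained in `U`. -/
theorem ideal_eq_of_comap_ι_eq (U : X.Opens) (I J : X.IdealSheafData)
    (h : I.comap U.ι = J.comap U.ι) (W : X.affineOpens) (hW : W.1 ≤ U) :
    I.ideal W = J.ideal W := by
  have hW' : W.1 ≤ U.ι.opensRange := by rw [Scheme.Opens.opensRange_ι]; exact hW
  set V : U.toScheme.affineOpens := (IsOpenImmersion.affineOpensEquiv U.ι).symm ⟨W, hW'⟩ with hV
  have hVW : (⟨U.ι ''ᵁ V.1, V.2.image_of_isOpenImmersion U.ι⟩ : X.affineOpens) = W := by
    have := (IsOpenImmersion.affineOpensEquiv U.ι).apply_symm_apply ⟨W, hW'⟩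
    exact congrArg Subtype.val this
  have h1 : (I.comap U.ι).ideal V = (J.comap U.ι).ideal V := by rw [h]
  rw [Scheme.IdealSheafData.ideal_comap_of_isOpenImmersion,
    Scheme.IdealSheafData.ideal_comap_of_isOpenImmersion] at h1
  rw [← hVW]
  have hsurj : Function.Surjective (U.ι.appIso V.1).inv.hom :=
    (U.ι.appIso V.1).symm.commRingCatIsoToRingEquiv.surjective
  exact Ideal.comap_injective_of_surjective _ hsurj h1

/-- `D ≤ E` effective Cartier, equal over an open `U` whose complement in the support of `D` has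
codimension at least two at its maximal points: then `D = E`. -/
theorem eq_of_le_of_codim [IsLocallyNoetherian X] (D E : X.IdealSheafData)
    (hD : BlowUp.IsEffCartierIdeal D) (hE : BlowUp.IsEffCartierIdeal E)
    (hle : D ≤ E) (U : X.Opens) (hU : E.comap U.ι = D.comap U.ι)
    (hcodim : ∀ z ∈ (D.support : Set X) \ (U : Set X),
      (∀ y ∈ (D.support : Set X) \ (U : Set X), y ⤳ z → y = z) →
      (2 : WithBot ℕ∞) ≤ ringKrullDim (X.presheaf.stalk z)) : D = E := by
  apply le_antisymm hle
  have hch := fun x => H16CartSum.exists_chart₂ D E hD hE x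
  choose W hxW F G hF hG hFW hGW using hch
  apply Scheme.IdealSheafData.le_of_iSup_eq_top W
  · rw [eq_top_iff]
    intro x _
    exact Opens.mem_iSup.mpr ⟨x, hxW x⟩
  intro x
  rw [hFW x, hGW x]
  haveI : IsNoetherianRing Γ(X, (W x).1) := IsLocallyNoetherian.component_noetherian (W x)
  have h1 : Ideal.span {F x} ≤ Ideal.span {G x} := by
    rw [← hFW x, ← hGW x]; exact hle (W x)
  obtain ⟨h, hh⟩ : ∃ h, F x = G x * h := by
    obtain ⟨c, hc⟩ := Ideal.mem_span_singleton'.mp (h1 (Ideal.mem_span_singleton_self (F x)))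
    exact ⟨c, by rw [← hc, mul_comm]⟩
  have hunit : IsUnit h := by
    by_contra hnu
    have hne : Ideal.span {h} ≠ ⊤ := by
      rwa [Ne, Ideal.span_singleton_eq_top]
    obtain ⟨m, hm, hlem⟩ := Ideal.exists_le_maximal _ hne
    haveI := hm.isPrime
    obtain ⟨Q, hQ, -⟩ := Ideal.exists_minimalPrimes_le hlem
    haveI hQp : Q.IsPrime := hQ.1.1
    haveI : (Ideal.span {h}).IsPrincipal := ⟨⟨h, rfl⟩⟩
    have hht : Q.height ≤ 1 :=
      Ideal.height_le_one_of_isPrincipal_of_mem_minimalPrimes (Ideal.span {h}) Q hQ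
    have hhQ : h ∈ Q := hQ.1.2 (Ideal.mem_span_singleton_self h)
    obtain ⟨z, hzW, hq⟩ := H16CartSum.exists_primeIdealOf_eq (W x).2 ⟨Q, hQp⟩
    have hqI : ((W x).2.primeIdealOf ⟨z, hzW⟩).asIdeal = Q := by rw [hq]
    have hzD : z ∈ D.support := by
      rw [mem_support_iff_le_primeIdealOf D (W x) z hzW, hFW x, hqI,
        Ideal.span_singleton_le_iff_mem, hh]
      exact Q.mul_mem_left _ hhQ
    have hzU : z ∉ U := by
      intro hzU
      obtain ⟨s, hsU, hzs⟩ := (W x).2.exists_basicOpen_le (V := U) ⟨z, hzU⟩ hzW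
      have heq := ideal_eq_of_comap_ι_eq U E D hU (X.affineBasicOpen s) hsU
      rw [← E.map_ideal_basicOpen (W x) s, ← D.map_ideal_basicOpen (W x) s, hFW x, hGW x,
        Ideal.map_span, Ideal.map_span, Set.image_singleton, Set.image_singleton] at heq
      set ρ := (X.presheaf.map (homOfLE (X.basicOpen_le s)).op).hom with hρ
      have hlocB := (W x).2.isLocalization_basicOpen s
      have hGnzd : ρ (G x) ∈ nonZeroDivisors Γ(X, X.basicOpen s) :=
        IsLocalization.map_nonZeroDivisors_le (Submonoid.powers s) Γ(X, X.basicOpen s)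
          (Submonoid.mem_map_of_mem _ (hG x))
      have hmem : ρ (G x) ∈ Ideal.span {ρ (F x)} := by
        rw [← heq]; exact Ideal.mem_span_singleton_self _
      obtain ⟨c, hc⟩ := Ideal.mem_span_singleton'.mp hmem
      rw [hh, map_mul] at hc
      have h2 : ρ (G x) * (c * ρ h) = ρ (G x) * 1 := by
        calc ρ (G x) * (c * ρ h) = c * (ρ (G x) * ρ h) := by ring
          _ = ρ (G x) := hc
          _ = ρ (G x) * 1 := (mul_one _).symm
      have h3 : c * ρ h = 1 :=
        (mul_cancel_left_mem_nonZeroDivisors hGnzd).mp h2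
      have hu : IsUnit (ρ h) := IsUnit.of_mul_eq_one_right c h3
      have h4 : X.basicOpen (ρ h) = X.basicOpen s := Scheme.basicOpen_of_isUnit X hu
      have h5 : X.basicOpen (ρ h) = X.basicOpen s ⊓ X.basicOpen h :=
        Scheme.basicOpen_res X h (homOfLE (X.basicOpen_le s)).op
      have hzh : z ∈ X.basicOpen h := by
        have : z ∈ X.basicOpen s ⊓ X.basicOpen h := by rw [← h5, h4]; exact hzs
        exact this.2
      have hpz : (W x).2.fromSpec ((W x).2.primeIdealOf ⟨z, hzW⟩) = z :=
        (W x).2.fromSpec_primeIdealOf ⟨z, hzW⟩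
      rw [← hpz] at hzh
      change (W x).2.primeIdealOf ⟨z, hzW⟩ ∈ (W x).2.fromSpec ⁻¹ᵁ X.basicOpen h at hzh
      rw [(W x).2.fromSpec_preimage_basicOpen] at hzh
      exact hzh (hqI ▸ hhQ)
    have hTcl : IsClosed ((D.support : Set X) \ (U : Set X)) :=
      D.support.isClosed.sdiff U.isOpen
    obtain ⟨z', hz'T, hz'z, hz'max⟩ :=
      H16CartSum.exists_maximal_generization_in hTcl (show z ∈ (D.support : Set X) \ (U : Set X)
        from ⟨hzD, hzU⟩)
    have h2 := hcodim z' hz'T hz'max
    have h3 := le_trans h2 (H16CartSum.ringKrullDim_stalk_mono hz'z)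
    rw [H16CartSum.ringKrullDim_stalk_eq_height (W x).2 z hzW, hqI] at h3
    have h4 : ((2 : ℕ∞) : WithBot ℕ∞) ≤ ((Q.height : ℕ∞) : WithBot ℕ∞) := h3
    have h5 : (2 : ℕ∞) ≤ 1 := le_trans (WithBot.coe_le_coe.mp h4) hht
    simp at h5
  rw [Ideal.span_singleton_le_span_singleton]
  obtain ⟨u, rfl⟩ := hunit
  refine ⟨(↑u⁻¹ : Γ(X, (W x).1)), ?_⟩
  rw [hh, mul_assoc, Units.mul_inv, mul_one]

end Groth.Agent.Lib.Helper26.CartierSumEq
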