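import Groth.Agent.Lib.Helper26.RegularRing
import Groth.Agent.Lib.Helper9.RegLocal
import Mathlib

/-!
# Ascent of regularity along flat local homomorphisms with regular closed fibre.
-/

set_option autoImplicit false
universe u

open IsLocalRing

namespace Groth.Agent.Lib.Helper26.RegularAscent

lemma spanFinrank_sup_le {R M : Type*} [Semiring R] [AddCommMonoid M] [Module R M]
    {p q : Submodule R M} (hp : p.FG) (hq : q.FG) :
    (p ⊔ q).spanFinrank ≤ p.spanFinrank + q.spanFinrank := by
  have h := Submodule.spanRank_sup_le_sum_spanRank (p := p) (q := q)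
  rw [(hp.sup hq).spanRank_eq_spanFinrank, hp.spanRank_eq_spanFinrank,
    hq.spanRank_eq_spanFinrank] at h
  exact_mod_cast h

/-- **Ascent of regularity**: for a flat local homomorphism `A → B` of Noetherian local rings with
`A` regular and regular closed fibre `B/𝔪_A B`, the ring `B` is regular. -/
theorem isRegularLocalRing_of_flat_of_fibre (A B : Type u) [CommRing A] [CommRing B]
    [IsRegularLocalRing A] [IsLocalRing B] [IsNoetherianRing B] [Algebra A B]
    [IsLocalHom (algebraMap A B)] [Module.Flat A B]
    [hF : IsRegularLocalRing (B ⧸ (maximalIdeal A).map (algebraMap A B))] :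
    IsRegularLocalRing B := by
  classical
  set J := (maximalIdeal A).map (algebraMap A B) with hJ
  -- dimension formula
  have hlo : (maximalIdeal B).LiesOver (maximalIdeal A) :=
    ⟨(IsLocalRing.maximalIdeal_comap (algebraMap A B)).symm⟩
  have h1 := Ideal.height_eq_height_add_of_liesOver_of_hasGoingDown (maximalIdeal A)
    (maximalIdeal B)
  have hmax : (maximalIdeal B).map (Ideal.Quotient.mk J) = maximalIdeal (B ⧸ J) :=
    map_maximalIdeal_of_surjective (Ideal.Quotient.mk J) Ideal.Quotient.mk_surjective
  rw [hmax] at h1
  have hdim : ringKrullDim B = ringKrullDim A + ringKrullDim (B ⧸ J) := by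
    rw [← IsLocalRing.maximalIdeal_height_eq_ringKrullDim,
      ← IsLocalRing.maximalIdeal_height_eq_ringKrullDim,
      ← IsLocalRing.maximalIdeal_height_eq_ringKrullDim, h1]
    push_cast
    rfl
  -- generators
  set e := (maximalIdeal (B ⧸ J)).spanFinrank with hedef
  obtain ⟨s, hscard, hsspan⟩ := Submodule.FG.exists_span_finset_card_eq_spanFinrank
    ((maximalIdeal (B ⧸ J)).fg_of_isNoetherianRing)
  let eq := Finset.equivFinOfCardEq hscard
  have hlift : ∀ j : Fin e, ∃ a : B, Ideal.Quotient.mk J a = ((eq.symm j : s) : B ⧸ J) :=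
    fun j => Ideal.Quotient.mk_surjective _
  choose y' hy' using hlift
  have hrange : (Set.range fun j => Ideal.Quotient.mk J (y' j)) = (s : Set (B ⧸ J)) := by
    ext t
    constructor
    · rintro ⟨j, rfl⟩
      show Ideal.Quotient.mk J (y' j) ∈ (s : Set (B ⧸ J))
      rw [hy']; exact (eq.symm j).2
    · intro ht
      refine ⟨eq ⟨t, ht⟩, ?_⟩
      show Ideal.Quotient.mk J (y' (eq ⟨t, ht⟩)) = t
      rw [hy', Equiv.symm_apply_apply]
  have hmbar : maximalIdeal (B ⧸ J) =
      Ideal.span (Set.range fun j => Ideal.Quotient.mk J (y' j)) := by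
    rw [hrange]; exact hsspan.symm
  have hm := Groth.Agent.Lib.Helper9.RegLocal.sup_span_eq_maximalIdeal_of_quotient J y' hmbar
  have hJfin : J.spanFinrank ≤ (maximalIdeal A).spanFinrank :=
    Ideal.spanFinrank_map_le_of_fg _ (IsNoetherian.noetherian _)
  have hyfin : (Ideal.span (Set.range y')).spanFinrank ≤ e := by
    have := Groth.Agent.Lib.Helper9.RegLocal.spanFinrank_span_range_le (R := B) y'
    exact this
  have hle : (maximalIdeal B).spanFinrank ≤ (maximalIdeal A).spanFinrank + e := by
    rw [← hm]
    exact (spanFinrank_sup_le (IsNoetherian.noetherian _) (IsNoetherian.noetherian _)).trans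
      (add_le_add hJfin hyfin)
  apply IsRegularLocalRing.of_spanFinrank_maximalIdeal_le
  rw [hdim, ← IsRegularLocalRing.spanFinrank_maximalIdeal (R := A),
    ← IsRegularLocalRing.spanFinrank_maximalIdeal (R := B ⧸ J)]
  exact_mod_cast hle

lemma isRegularLocalRing_atPrime_congr {S : Type*} [CommRing S] (r q₀ : Ideal S) [r.IsPrime]
    [q₀.IsPrime] (h : r = q₀) (H : IsRegularLocalRing (Localization.AtPrime r)) :
    IsRegularLocalRing (Localization.AtPrime q₀) := by
  subst h
  exact H

open TensorProduct Algebra.TensorProduct in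
/-- Flat `R → S` with `R` regular: if the fibre ring over `p` is regular then `S` is regular at
every prime coming from the fibre. -/
theorem isRegularLocalRing_atPrime_of_fiber (R S : Type u) [CommRing R] [CommRing S] [Algebra R S]
    [IsRegularRing R] [IsNoetherianRing S] [Module.Flat R S] (p : Ideal R) [p.IsPrime]
    [IsRegularRing (p.Fiber S)] (q : Ideal (p.Fiber S)) [q.IsPrime] :
    IsRegularLocalRing (Localization.AtPrime (q.comap (includeRight (R := R)
      (A := p.ResidueField) (B := S)))) := by
  set r := q.comap (includeRight (R := R) (A := p.ResidueField) (B := S)) with hr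
  haveI hlo : r.LiesOver p := inferInstance
  letI := Localization.AtPrime.algebraOfLiesOver p r
  haveI hloc : IsLocalHom (algebraMap (Localization.AtPrime p) (Localization.AtPrime r)) :=
    Localization.isLocalHom_localRingHom p r (algebraMap R S) Ideal.LiesOver.over
  let e := Ideal.Fiber.localizationAlgEquivQuotient p q
  haveI h1 : IsRegularLocalRing (Localization.AtPrime r ⧸
      p.map (algebraMap R (Localization.AtPrime r))) :=
    IsRegularLocalRing.of_ringEquiv (R := Localization.AtPrime q) e.toRingEquiv
  have hJ : (maximalIdeal (Localization.AtPrime p)).map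
      (algebraMap (Localization.AtPrime p) (Localization.AtPrime r)) =
      p.map (algebraMap R (Localization.AtPrime r)) := by
    rw [← Localization.AtPrime.map_eq_maximalIdeal, Ideal.map_map, ← IsScalarTower.algebraMap_eq]
  haveI h2 : IsRegularLocalRing (Localization.AtPrime r ⧸
      (maximalIdeal (Localization.AtPrime p)).map
        (algebraMap (Localization.AtPrime p) (Localization.AtPrime r))) :=
    IsRegularLocalRing.of_ringEquiv (Ideal.quotEquivOfEq hJ.symm)
  exact isRegularLocalRing_of_flat_of_fibre (Localization.AtPrime p) (Localization.AtPrime r)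

open TensorProduct Algebra.TensorProduct in
/-- Flat `R → S`, `R` regular, `S` Noetherian, all fibre rings regular ⟹ `S` regular. -/
theorem isRegularRing_of_flat_of_fibers (R S : Type u) [CommRing R] [CommRing S] [Algebra R S]
    [IsRegularRing R] [IsNoetherianRing S] [Module.Flat R S]
    (h : ∀ (p : Ideal R) [p.IsPrime], IsRegularRing (p.Fiber S)) : IsRegularRing S := by
  refine ⟨fun q₀ hq₀ => ?_⟩
  let p := q₀.under R
  haveI := h p
  obtain ⟨q, hq⟩ := (PrimeSpectrum.primesOverOrderIsoFiber R S p).symm.surjective
    ⟨q₀, ⟨hq₀, inferInstance⟩⟩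
  have hq' : q.1.comap (includeRight (R := R) (A := p.ResidueField) (B := S)) = q₀ := by
    have := congrArg Subtype.val hq
    rwa [PrimeSpectrum.coe_primesOverOrderIsoFiber_symm_apply] at this
  exact isRegularLocalRing_atPrime_congr _ q₀ hq'
    (isRegularLocalRing_atPrime_of_fiber R S p q.1)

end Groth.Agent.Lib.Helper26.RegularAscent
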