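import Groth.Agent.Lib.Helper26.RegularSmooth
import Groth.Agent.Lib.Helper26.RegularAscent
import Groth.Agent.S0542
import Mathlib

/-!
# Adic completions and power series rings over regular rings are regular.
-/

set_option autoImplicit false
universe u

namespace Groth.Agent.Lib.Helper26.RegularCompletion

open IsLocalRing

/-- A Noetherian ring is regular as soon as its localizations at maximal ideals are. -/
theorem isRegularRing_of_maximal (R : Type u) [CommRing R] [IsNoetherianRing R]
    (h : ∀ (m : Ideal R) [m.IsMaximal], IsRegularLocalRing (Localization.AtPrime m)) :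
    IsRegularRing R := by
  refine ⟨fun p hp => ?_⟩
  obtain ⟨m, hm, hpm⟩ := Ideal.exists_le_maximal p hp.ne_top
  haveI := hm
  haveI := h m
  haveI : IsRegularRing (Localization.AtPrime m) :=
    Groth.Agent.Lib.Helper26.RegularRing.isRegularRing_of_isRegularLocalRing _
  have hdisj : Disjoint ((m.primeCompl : Submonoid R) : Set R) (p : Set R) := by
    rw [Set.disjoint_left]
    intro x hx hxp
    exact hx (hpm hxp)
  exact Groth.Agent.Lib.Helper26.RegularSmooth.isRegularLocalRing_atPrime_of_isLocalization
    m.primeCompl (Localization.AtPrime m) p hdisj (fun Q _ => inferInstance)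

/-- Flat `R → S`, `q` over `p` with `pS = q` and `R_p` regular ⟹ `S_q` regular. -/
theorem isRegularLocalRing_atPrime_of_flat_of_map_eq (R S : Type u) [CommRing R] [CommRing S]
    [Algebra R S] [Module.Flat R S] [IsNoetherianRing S] (p : Ideal R) [p.IsPrime] (q : Ideal S)
    [q.IsPrime] [q.LiesOver p] [IsRegularLocalRing (Localization.AtPrime p)]
    (h : p.map (algebraMap R S) = q) : IsRegularLocalRing (Localization.AtPrime q) := by
  letI := Localization.AtPrime.algebraOfLiesOver p q
  haveI : IsLocalHom (algebraMap (Localization.AtPrime p) (Localization.AtPrime q)) :=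
    Localization.isLocalHom_localRingHom p q (algebraMap R S) Ideal.LiesOver.over
  have hmax : (maximalIdeal (Localization.AtPrime p)).map
      (algebraMap (Localization.AtPrime p) (Localization.AtPrime q)) =
      maximalIdeal (Localization.AtPrime q) := by
    rw [← Localization.AtPrime.map_eq_maximalIdeal, ← Localization.AtPrime.map_eq_maximalIdeal,
      Ideal.map_map, ← IsScalarTower.algebraMap_eq,
      IsScalarTower.algebraMap_eq R S (Localization.AtPrime q), ← Ideal.map_map, h]
  haveI : IsRegularLocalRing (Localization.AtPrime q ⧸
      (maximalIdeal (Localization.AtPrime p)).map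
        (algebraMap (Localization.AtPrime p) (Localization.AtPrime q))) := by
    haveI : IsRegularLocalRing (Localization.AtPrime q ⧸ maximalIdeal (Localization.AtPrime q)) :=
      inferInstanceAs (IsRegularLocalRing (ResidueField (Localization.AtPrime q)))
    exact IsRegularLocalRing.of_ringEquiv (Ideal.quotEquivOfEq hmax.symm)
  exact Groth.Agent.Lib.Helper26.RegularAscent.isRegularLocalRing_of_flat_of_fibre
    (Localization.AtPrime p) (Localization.AtPrime q)

/-- Maximal ideals of an adic completion `Â` along a finitely generated ideal `J` are extended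
from maximal ideals of `A` containing `J`. -/
theorem adicCompletion_maximal (A : Type u) [CommRing A] (J : Ideal A) (fg : J.FG)
    (n : Ideal (AdicCompletion J A)) [hn : n.IsMaximal] :
    (n.comap (algebraMap A (AdicCompletion J A))).IsMaximal ∧
      J ≤ n.comap (algebraMap A (AdicCompletion J A)) ∧
      (n.comap (algebraMap A (AdicCompletion J A))).map (algebraMap A (AdicCompletion J A)) = n := by
  haveI hc := AdicCompletion.isAdicComplete_self J fg
  have hJn : J.map (algebraMap A (AdicCompletion J A)) ≤ n :=
    (IsAdicComplete.le_jacobson_bot _).trans (sInf_le ⟨bot_le, hn⟩)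
  set m := n.comap (algebraMap A (AdicCompletion J A)) with hm
  have hJm : J ≤ m := Ideal.map_le_iff_le_comap.mp hJn
  have hker : RingHom.ker (AdicCompletion.evalOneₐ J).toRingHom ≤ n := by
    rw [AdicCompletion.ker_evalOneₐ_eq_map J fg]; exact hJn
  have hnbar : (n.map (AdicCompletion.evalOneₐ J).toRingHom).IsMaximal :=
    Ideal.IsMaximal.map_of_surjective_of_ker_le (AdicCompletion.evalOneₐ_surjective J) hker
  have hn_eq : n = (n.map (AdicCompletion.evalOneₐ J).toRingHom).comap
      (AdicCompletion.evalOneₐ J).toRingHom := by
    rw [Ideal.comap_map_of_surjective' (AdicCompletion.evalOneₐ J).toRingHom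
      (AdicCompletion.evalOneₐ_surjective J)]
    exact (sup_eq_left.mpr hker).symm
  haveI hmmax : m.IsMaximal := by
    have : m = (n.map (AdicCompletion.evalOneₐ J).toRingHom).comap (Ideal.Quotient.mk J) := by
      rw [hm]
      conv_lhs => rw [hn_eq]
      rw [Ideal.comap_comap]
      congr 1
    rw [this]
    exact Ideal.comap_isMaximal_of_surjective _ Ideal.Quotient.mk_surjective
  refine ⟨hmmax, hJm, ?_⟩
  haveI := AdicCompletion.isMaximal_map_of_le J m hJm fg
  exact Ideal.IsMaximal.eq_of_le inferInstance hn.ne_top Ideal.map_comap_le

/-- The adic completion of a regular ring along any ideal is regular. -/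
theorem isRegularRing_adicCompletion (A : Type u) [CommRing A] [IsRegularRing A] (J : Ideal A) :
    IsRegularRing (AdicCompletion J A) := by
  have fg : J.FG := Ideal.fg_of_isNoetherianRing J
  haveI : IsNoetherianRing (AdicCompletion J A) := Groth.Agent.S0542.result A J fg
  apply isRegularRing_of_maximal
  intro n hn
  obtain ⟨hmmax, hJm, hmap⟩ := adicCompletion_maximal A J fg n
  haveI := hmmax
  haveI : n.LiesOver (n.comap (algebraMap A (AdicCompletion J A))) := ⟨rfl⟩
  exact isRegularLocalRing_atPrime_of_flat_of_map_eq A (AdicCompletion J A) _ n hmap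

/-- The completion of a Noetherian local ring along a proper ideal is local. -/
theorem isLocalRing_adicCompletion (A : Type u) [CommRing A] [IsLocalRing A] [IsNoetherianRing A]
    (I : Ideal A) (hI : I ≠ ⊤) : IsLocalRing (AdicCompletion I A) := by
  have fg : I.FG := Ideal.fg_of_isNoetherianRing I
  haveI hmax := AdicCompletion.isMaximal_map_of_le I (maximalIdeal A)
    (IsLocalRing.le_maximalIdeal hI) fg
  refine IsLocalRing.of_unique_max_ideal ⟨_, hmax, fun n hn => ?_⟩
  haveI := hn
  obtain ⟨hmmax, hJm, hmap⟩ := adicCompletion_maximal A I fg n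
  rw [← hmap, IsLocalRing.eq_maximalIdeal hmmax]

/-- For a Noetherian local ring `A` and a proper ideal `I`, the maximal ideal of the completion is
extended from `A`. -/
theorem maximalIdeal_adicCompletion (A : Type u) [CommRing A] [IsLocalRing A] [IsNoetherianRing A]
    (I : Ideal A) (hI : I ≠ ⊤) :
    letI := isLocalRing_adicCompletion A I hI
    (maximalIdeal A).map (algebraMap A (AdicCompletion I A)) =
      maximalIdeal (AdicCompletion I A) := by
  letI := isLocalRing_adicCompletion A I hI
  have fg : I.FG := Ideal.fg_of_isNoetherianRing I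
  haveI hmax := AdicCompletion.isMaximal_map_of_le I (maximalIdeal A)
    (IsLocalRing.le_maximalIdeal hI) fg
  exact IsLocalRing.eq_maximalIdeal hmax

/-- Power series rings in finitely many variables over a regular ring are regular. -/
theorem isRegularRing_mvPowerSeries (A : Type u) [CommRing A] [IsRegularRing A] (n : ℕ) :
    IsRegularRing (MvPowerSeries (Fin n) A) := by
  haveI : Algebra.Smooth A (MvPolynomial (Fin n) A) := ⟨inferInstance, inferInstance⟩
  haveI : IsRegularRing (MvPolynomial (Fin n) A) :=
    Groth.Agent.Lib.Helper26.RegularSmooth.isRegularRing_of_smooth A _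
  haveI := isRegularRing_adicCompletion (MvPolynomial (Fin n) A)
    (MvPolynomial.idealOfVars (Fin n) A)
  exact IsRegularRing.of_ringEquiv (MvPowerSeries.toAdicCompletionAlgEquiv (Fin n) A).symm.toRingEquiv

end Groth.Agent.Lib.Helper26.RegularCompletion
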