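import Mathlib
import Groth.Agent.S0542
import Groth.Agent.Lib.Helper8.FlatCompl2
import Groth.Agent.Lib.Helper8.Hzl.Noeth

/-!
# Direct limits of Noetherian local rings along flat local maps with `𝔪ᵢ Aⱼ = 𝔪ⱼ`

Abstract setting: a directed system `(G i, f)` of local rings and a cocone `φ i : G i →+* S` which
is jointly surjective and has the "zero-exactness" property of a direct limit.
-/

set_option autoImplicit false
universe u

open IsLocalRing

namespace Groth.Agent.Lib.Helper26.DirLimNoeth

section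

variable {ι : Type u} [Preorder ι] [Nonempty ι] [IsDirected ι (· ≤ ·)]
  {G : ι → Type u} [∀ i, CommRing (G i)] [∀ i, IsLocalRing (G i)]
  (f : ∀ i j, i ≤ j → G i →+* G j)
  (hcomp : ∀ i j k (hij : i ≤ j) (hjk : j ≤ k) (x : G i),
    f j k hjk (f i j hij x) = f i k (hij.trans hjk) x)
  (hloc : ∀ i j (h : i ≤ j), IsLocalHom (f i j h))
  {S : Type u} [CommRing S] (φ : ∀ i, G i →+* S)
  (hφf : ∀ i j (h : i ≤ j) (x : G i), φ j (f i j h x) = φ i x)
  (hsurj : ∀ s : S, ∃ i x, φ i x = s)
  (hzero : ∀ i (x : G i), φ i x = 0 → ∃ j, ∃ h : i ≤ j, f i j h x = 0)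

include hcomp hloc hφf hsurj hzero in
theorem isUnit_of_isUnit_map (i : ι) (x : G i) (hx : IsUnit (φ i x)) : IsUnit x := by
  obtain ⟨y, hy⟩ := hx.exists_right_inv
  obtain ⟨j, y', rfl⟩ := hsurj y
  obtain ⟨k, hik, hjk⟩ := exists_ge_ge i j
  have h0 : φ k (f i k hik x * f j k hjk y' - 1) = 0 := by
    rw [map_sub, map_mul, hφf, hφf, map_one, hy, sub_self]
  obtain ⟨l, hkl, hl⟩ := hzero k _ h0
  rw [map_sub, map_mul, map_one, hcomp, hcomp, sub_eq_zero] at hl
  haveI := hloc i l (hik.trans hkl)
  exact isUnit_of_map_unit (f i l (hik.trans hkl)) x (IsUnit.of_mul_eq_one _ hl)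

include hcomp hloc hφf hsurj hzero in
theorem isLocalRing : IsLocalRing S := by
  haveI : Nontrivial S := by
    obtain ⟨i⟩ := ‹Nonempty ι›
    refine ⟨⟨0, 1, fun h => ?_⟩⟩
    have h0 : φ i 1 = 0 := by rw [map_one]; exact h.symm
    obtain ⟨j, hij, hj⟩ := hzero i 1 h0
    rw [map_one] at hj
    exact one_ne_zero hj
  refine IsLocalRing.of_nonunits_add ?_
  intro a b ha hb
  rw [mem_nonunits_iff] at ha hb ⊢
  intro hab
  obtain ⟨i, x, rfl⟩ := hsurj a
  obtain ⟨j, y, rfl⟩ := hsurj b
  obtain ⟨k, hik, hjk⟩ := exists_ge_ge i j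
  have hx : f i k hik x ∈ nonunits (G k) := by
    rw [mem_nonunits_iff]
    intro hu
    exact ha (by rw [← hφf i k hik]; exact hu.map (φ k))
  have hy : f j k hjk y ∈ nonunits (G k) := by
    rw [mem_nonunits_iff]
    intro hu
    exact hb (by rw [← hφf j k hjk]; exact hu.map (φ k))
  have hxy := IsLocalRing.nonunits_add hx hy
  rw [mem_nonunits_iff] at hxy
  apply hxy
  apply isUnit_of_isUnit_map f hcomp hloc φ hφf hsurj hzero k
  rw [map_add, hφf, hφf]
  exact hab

include hcomp hloc hφf hsurj hzero in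
theorem map_maximalIdeal [IsLocalRing S]
    (hmax : ∀ i j (h : i ≤ j), (maximalIdeal (G i)).map (f i j h) = maximalIdeal (G j))
    (i : ι) : (maximalIdeal (G i)).map (φ i) = maximalIdeal S := by
  apply le_antisymm
  · rw [Ideal.map_le_iff_le_comap]
    intro x hx
    rw [Ideal.mem_comap, mem_maximalIdeal, mem_nonunits_iff]
    intro hu
    rw [mem_maximalIdeal, mem_nonunits_iff] at hx
    exact hx (isUnit_of_isUnit_map f hcomp hloc φ hφf hsurj hzero i x hu)
  · intro s hs
    rw [mem_maximalIdeal, mem_nonunits_iff] at hs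
    obtain ⟨j, y, rfl⟩ := hsurj s
    obtain ⟨k, hik, hjk⟩ := exists_ge_ge i j
    have hy : f j k hjk y ∈ maximalIdeal (G k) := by
      rw [mem_maximalIdeal, mem_nonunits_iff]
      intro hu
      exact hs (by rw [← hφf j k hjk]; exact hu.map (φ k))
    rw [← hmax i k hik] at hy
    have := Ideal.mem_map_of_mem (φ k) hy
    rw [Ideal.map_map] at this
    have hc : (φ k).comp (f i k hik) = φ i := RingHom.ext (hφf i k hik)
    rw [hc, hφf] at this
    exact this

include hcomp hφf hsurj hzero in
theorem flat_of (hflat : ∀ i j (h : i ≤ j), (f i j h).Flat) (i : ι) : (φ i).Flat := by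
  letI : Algebra (G i) S := (φ i).toAlgebra
  show Module.Flat (G i) S
  apply Module.Flat.of_forall_isTrivialRelation
  intro l c x hcx
  classical
  choose k b hb using fun m => hsurj (x m)
  obtain ⟨k₀, hk₀⟩ := Finset.exists_le (insert i (Finset.univ.image k))
  have hik : i ≤ k₀ := hk₀ _ (Finset.mem_insert_self _ _)
  have hk : ∀ m, k m ≤ k₀ := fun m =>
    hk₀ _ (Finset.mem_insert_of_mem (Finset.mem_image_of_mem _ (Finset.mem_univ m)))
  have hsm : ∀ (a : G i) (y : S), a • y = φ i a * y := fun a y => by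
    rw [Algebra.smul_def]; rfl
  have h0 : φ k₀ (∑ m, f i k₀ hik (c m) * f (k m) k₀ (hk m) (b m)) = 0 := by
    rw [map_sum, ← hcx]
    refine Finset.sum_congr rfl fun m _ => ?_
    rw [map_mul, hφf, hφf, hb, hsm]
  obtain ⟨k₁, h01, h1⟩ := hzero k₀ _ h0
  have hik1 : i ≤ k₁ := hik.trans h01
  letI : Algebra (G i) (G k₁) := (f i k₁ hik1).toAlgebra
  have hfl : Module.Flat (G i) (G k₁) := hflat i k₁ hik1
  have h2 : ∑ m, c m • f (k m) k₁ ((hk m).trans h01) (b m) = 0 := by
    rw [← h1, map_sum]
    refine Finset.sum_congr rfl fun m _ => ?_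
    rw [map_mul, hcomp, hcomp, Algebra.smul_def]
    rfl
  obtain ⟨κ, a, y, hy, ha⟩ :=
    Module.Flat.isTrivialRelation_of_sum_smul_eq_zero (R := G i) (M := G k₁) h2
  refine ⟨κ, a, fun t => φ k₁ (y t), fun m => ?_, ha⟩
  have hy' : f (k m) k₁ ((hk m).trans h01) (b m) = ∑ t, a m t • y t := hy m
  show x m = ∑ t, a m t • φ k₁ (y t)
  rw [← hb m, ← hφf (k m) k₁ ((hk m).trans h01), hy', map_sum]
  refine Finset.sum_congr rfl fun t _ => ?_
  rw [Algebra.smul_def, map_mul, hsm]
  congr 1
  exact hφf i k₁ hik1 _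

include hcomp hloc hφf hsurj hzero in
theorem isNoetherianRing_of_directed [∀ i, IsNoetherianRing (G i)]
    (hmax : ∀ i j (h : i ≤ j), (maximalIdeal (G i)).map (f i j h) = maximalIdeal (G j))
    (hflat : ∀ i j (h : i ≤ j), (f i j h).Flat) : IsNoetherianRing S := by
  haveI hSloc : IsLocalRing S := isLocalRing f hcomp hloc φ hφf hsurj hzero
  have hmS : ∀ i, (maximalIdeal (G i)).map (φ i) = maximalIdeal S :=
    map_maximalIdeal f hcomp hloc φ hφf hsurj hzero hmax
  have hfg : (maximalIdeal S).FG := by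
    obtain ⟨i⟩ := ‹Nonempty ι›
    rw [← hmS i]
    exact Ideal.FG.map (IsNoetherian.noetherian _) _
  have hq : IsNoetherianRing (S ⧸ maximalIdeal S) :=
    inferInstanceAs (IsNoetherianRing (ResidueField S))
  have hTnoeth : IsNoetherianRing (AdicCompletion (maximalIdeal S) S) :=
    Groth.Agent.S0542.result S (maximalIdeal S) hfg
  have hTloc : IsLocalRing (AdicCompletion (maximalIdeal S) S) :=
    AdicCompletion.isLocalRing_of_fg hfg
  have hTlh : IsLocalHom (algebraMap S (AdicCompletion (maximalIdeal S) S)) :=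
    AdicCompletion.algebraMap_isLocalHom_of_fg hfg
  have hJ : (maximalIdeal S).map (algebraMap S (AdicCompletion (maximalIdeal S) S)) ≤
      Ideal.jacobson ⊥ := by
    rw [IsLocalRing.jacobson_eq_maximalIdeal ⊥ bot_ne_top]
    exact Ideal.map_le_iff_le_comap.mpr fun r hr => map_nonunit _ r hr
  have hflat' : Module.Flat S (AdicCompletion (maximalIdeal S) S) := by
    apply Module.Flat.of_forall_isTrivialRelation
    intro l c x hcx
    classical
    choose k b hb using fun j => hsurj (c j)
    obtain ⟨i, hi⟩ := Finset.exists_le (Finset.univ.image k)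
    have hk : ∀ j, k j ≤ i := fun j => hi _ (Finset.mem_image_of_mem _ (Finset.mem_univ j))
    obtain ⟨b', hb'def⟩ : ∃ b' : Fin l → G i, b' = fun j => f (k j) i (hk j) (b j) :=
      ⟨_, rfl⟩
    have hb' : ∀ j, φ i (b' j) = c j := fun j => by rw [hb'def, hφf, hb]
    letI algS : Algebra (G i) S := (φ i).toAlgebra
    haveI : Module.Flat (G i) S := flat_of f hcomp φ hφf hsurj hzero hflat i
    have hBflat : Module.Flat (G i) (AdicCompletion (maximalIdeal S) S) := by
      have hpowS' : ∀ n : ℕ, (maximalIdeal (G i) ^ n).map (algebraMap (G i) S) =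
          maximalIdeal S ^ n := fun n => by
        rw [Ideal.map_pow]
        congr 1
        exact hmS i
      have hpowT : ∀ n : ℕ, (maximalIdeal (G i) ^ n).map
          (algebraMap (G i) (AdicCompletion (maximalIdeal S) S)) =
          (maximalIdeal S ^ n).map (algebraMap S (AdicCompletion (maximalIdeal S) S)) :=
        fun n => by
          rw [IsScalarTower.algebraMap_eq (G i) S, ← Ideal.map_map, hpowS']
      apply Groth.Agent.Lib.Helper8.flat_of_approx' (S := S) (maximalIdeal (G i))
      · have := hpowT 1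
        rw [pow_one, pow_one] at this
        rw [this]
        exact hJ
      · intro n t
        rw [hpowT]
        exact Groth.Agent.Lib.Helper8.Hzl.compl_exists_sub_mem _ hfg n t
      · intro n s hs
        rw [hpowT] at hs
        rw [hpowS']
        exact Groth.Agent.Lib.Helper8.Hzl.compl_mem_of_map_mem _ hfg n s hs
    have hsm : ∀ (a : G i) (y : AdicCompletion (maximalIdeal S) S), a • y = φ i a • y :=
      fun a y => by
        rw [Algebra.smul_def, Algebra.smul_def]; rfl
    have hrel : ∑ j, b' j • x j = 0 := by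
      rw [← hcx]
      refine Finset.sum_congr rfl fun j _ => ?_
      rw [hsm, hb']
    obtain ⟨κ, a, y, hy, ha⟩ := Module.Flat.isTrivialRelation_of_sum_smul_eq_zero
      (R := G i) (M := AdicCompletion (maximalIdeal S) S) hrel
    refine ⟨κ, fun j t => φ i (a j t), y, fun j => ?_, fun t => ?_⟩
    · rw [hy j]
      exact Finset.sum_congr rfl fun t _ => hsm _ _
    · have h1 := congrArg (φ i) (ha t)
      rw [map_sum, map_zero] at h1
      rw [← h1]
      refine Finset.sum_congr rfl fun j _ => ?_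
      rw [map_mul, hb']
  have hff : Module.FaithfullyFlat S (AdicCompletion (maximalIdeal S) S) :=
    Module.FaithfullyFlat.of_flat_of_isLocalHom
  exact Groth.Agent.Lib.Helper8.isNoetherianRing_of_faithfullyFlat S
    (AdicCompletion (maximalIdeal S) S)

end

end Groth.Agent.Lib.Helper26.DirLimNoeth
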