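import Groth.Agent.Lib.Helper26.PowerSeriesRLR
import Groth.Agent.Lib.Helper12.IntegralDim
import Mathlib

/-!
# Finiteness over power series rings ("complete Nakayama") and injectivity via dimension.
-/

set_option autoImplicit false
universe u

namespace Groth.Agent.Lib.Helper26.CompleteFinite

open IsLocalRing

/-- A module of finite length over a local `k`-algebra with residue field finite over `k` is finite
over `k`. -/
theorem finite_of_isFiniteLength (k B : Type*) [Field k] [CommRing B] [IsLocalRing B] [Algebra k B]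
    [Module.Finite k (ResidueField B)] {M : Type*} [AddCommGroup M] [Module B M]
    (h : IsFiniteLength B M) :
    ∀ [Module k M] [IsScalarTower k B M], Module.Finite k M := by
  induction h with
  | of_subsingleton =>
    intro _ _
    exact Module.Finite.of_finite
  | @of_simple_quotient M _ _ N hs _ ih =>
    intro _ _
    obtain ⟨I, hI, ⟨e⟩⟩ := isSimpleModule_iff_quot_maximal.mp hs
    have hIm : I = maximalIdeal B := IsLocalRing.eq_maximalIdeal hI
    subst hIm
    haveI h1 : Module.Finite k (B ⧸ maximalIdeal B) :=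
      inferInstanceAs (Module.Finite k (ResidueField B))
    haveI h2 : Module.Finite k (M ⧸ N) :=
      Module.Finite.equiv (e.restrictScalars k).symm
    haveI h3 : Module.Finite k N := ih
    constructor
    apply Submodule.fg_of_fg_map_of_fg_inf_ker (N.mkQ.restrictScalars k)
    · rw [Submodule.map_top, LinearMap.range_eq_top.mpr]
      · exact Module.Finite.fg_top
      · exact N.mkQ_surjective
    · rw [top_inf_eq]
      have hker : LinearMap.ker (N.mkQ.restrictScalars k) = N.restrictScalars k := by
        ext x
        simp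
      rw [hker]
      have := (Module.Finite.iff_fg (N := N.restrictScalars k)).mp h3
      exact this

/-- Finite free modules over a precomplete ring are precomplete. -/
theorem isPrecomplete_pi_fin {P : Type*} [CommRing P] (I : Ideal P) [IsPrecomplete I P] (r : ℕ) :
    IsPrecomplete I (Fin r → P) := by
  rw [← AdicCompletion.of_surjective_iff]
  intro y
  have hs : Function.Surjective (AdicCompletion.of I P) := AdicCompletion.of_surjective I P
  choose x hx using fun i => hs (AdicCompletion.piEquivFin I r y i)
  refine ⟨x, ?_⟩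
  apply (AdicCompletion.piEquivFin I r).injective
  funext i
  rw [← hx i, AdicCompletion.piEquivFin_apply]
  simp only [AdicCompletion.pi, LinearMap.pi_apply]
  rw [AdicCompletion.map_of]
  rfl

/-- "Complete Nakayama": a Hausdorff module over a precomplete ring whose reduction modulo `I` is
finitely generated is itself finitely generated. -/
theorem finite_of_isHausdorff_of_fg_quotient {P : Type*} [CommRing P] (I : Ideal P)
    [IsPrecomplete I P] (N : Type*) [AddCommGroup N] [Module P N] [IsHausdorff I N]
    (h : Module.Finite P (N ⧸ (I • ⊤ : Submodule P N))) : Module.Finite P N := by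
  obtain ⟨r, g, hg⟩ := Module.Finite.exists_fin' P (N ⧸ (I • ⊤ : Submodule P N))
  choose b hb using fun i => (I • ⊤ : Submodule P N).mkQ_surjective (g (Pi.single i 1))
  let f : (Fin r → P) →ₗ[P] N := (Pi.basisFun P (Fin r)).constr P b
  haveI := isPrecomplete_pi_fin I r
  have hcomp : (I • ⊤ : Submodule P N).mkQ ∘ₗ f = g := by
    apply (Pi.basisFun P (Fin r)).ext
    intro i
    simp [f, hb]
  have hsurj : Function.Surjective f := by
    apply surjective_of_mkQ_comp_surjective (I := I)
    rw [hcomp]
    exact hg
  exact Module.Finite.of_surjective f hsurj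

open Groth.Agent.Lib.Helper26.PowerSeriesRLR in
/-- An integral map from `k[[X_1,…,X_d]]` to a ring of dimension at least `d` is injective. -/
theorem injective_of_isIntegral_of_le_ringKrullDim (k : Type u) [Field k] (d : ℕ) {R : Type u}
    [CommRing R] (ψ : MvPowerSeries (Fin d) k →+* R) (hint : ψ.IsIntegral)
    (hd : (d : WithBot ℕ∞) ≤ ringKrullDim R) : Function.Injective ψ := by
  rw [injective_iff_map_eq_zero]
  intro f hf
  by_contra hne
  have hnzd : f ∈ nonZeroDivisors (MvPowerSeries (Fin d) k) := mem_nonZeroDivisors_of_ne_zero hne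
  have h1 := ringKrullDim_quotient_succ_le_of_nonZeroDivisor hnzd
  have hker : Ideal.span {f} ≤ RingHom.ker ψ := by
    rw [Ideal.span_le, Set.singleton_subset_iff]
    exact hf
  let φ : MvPowerSeries (Fin d) k ⧸ Ideal.span {f} →+* R :=
    Ideal.Quotient.lift (Ideal.span {f}) ψ (fun a ha => hker ha)
  have hφ : φ.IsIntegral := by
    apply RingHom.IsIntegral.tower_top (Ideal.Quotient.mk (Ideal.span {f})) φ
    have : φ.comp (Ideal.Quotient.mk (Ideal.span {f})) = ψ := by
      ext x
      simp [φ]
    rw [this]
    exact hint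
  letI := φ.toAlgebra
  haveI : Algebra.IsIntegral (MvPowerSeries (Fin d) k ⧸ Ideal.span {f}) R := ⟨hφ⟩
  have h2 : ringKrullDim R ≤ ringKrullDim (MvPowerSeries (Fin d) k ⧸ Ideal.span {f}) :=
    Groth.Agent.Lib.Helper12.ringKrullDim_le_of_isIntegral
  have h3 := ringKrullDim_mvPowerSeries_le k d
  have h4 : (d : WithBot ℕ∞) + 1 ≤ d :=
    (add_le_add_left (hd.trans h2) 1).trans (h1.trans h3)
  have h5 : ((d + 1 : ℕ) : WithBot ℕ∞) ≤ (d : ℕ) := by exact_mod_cast h4
  have h6 : d + 1 ≤ d := by exact_mod_cast h5
  omega

open Groth.Agent.Lib.Helper26.PowerSeriesRLR in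
/-- Given a `k₀`-algebra map `ψ : k₀[[X]] → A` to a Noetherian local ring with residue field finite
over `k₀` such that the `ψ X_i` generate an `𝔪`-primary ideal, `ψ` is finite and local. -/
theorem finite_of_primary {k₀ A : Type u} [Field k₀] [CommRing A] [IsLocalRing A]
    [IsNoetherianRing A] [Algebra k₀ A] [Module.Finite k₀ (ResidueField A)] {n : ℕ}
    (ψ : MvPowerSeries (Fin n) k₀ →ₐ[k₀] A)
    (hmin : maximalIdeal A ∈ (Ideal.span (Set.range fun i => ψ (MvPowerSeries.X i))).minimalPrimes) :
    IsLocalHom ψ.toRingHom ∧ ψ.toRingHom.Finite := by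
  set J := Ideal.span (Set.range fun i => ψ (MvPowerSeries.X i)) with hJ
  have hJm : J ≤ maximalIdeal A := hmin.1.2
  have hmap : (Ideal.span (Set.range (MvPowerSeries.X : Fin n → MvPowerSeries (Fin n) k₀))).map
      ψ.toRingHom = J := by
    rw [Ideal.map_span, ← Set.range_comp]
    rfl
  constructor
  · constructor
    intro a ha
    by_contra hna
    have h1 : a ∈ maximalIdeal (MvPowerSeries (Fin n) k₀) := hna
    rw [maximalIdeal_mvPowerSeries] at h1
    have h2 : ψ.toRingHom a ∈ J := by
      rw [← hmap]
      exact Ideal.mem_map_of_mem _ h1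
    exact (hJm h2) ha
  · letI := ψ.toRingHom.toAlgebra
    show Module.Finite (MvPowerSeries (Fin n) k₀) A
    set I := Ideal.span (Set.range (MvPowerSeries.X : Fin n → MvPowerSeries (Fin n) k₀)) with hI
    have hmap' : I.map (algebraMap (MvPowerSeries (Fin n) k₀) A) = J := hmap
    haveI hH : IsHausdorff I A := by
      rw [← IsHausdorff.map_algebraMap_iff (S := A), hmap']
      exact IsHausdorff.of_le_jacobson J A
        (hJm.trans (by rw [IsLocalRing.jacobson_eq_maximalIdeal ⊥ bot_ne_top]))
    haveI : IsPrecomplete I (MvPowerSeries (Fin n) k₀) :=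
      (inferInstance : IsAdicComplete I (MvPowerSeries (Fin n) k₀)).toIsPrecomplete
    apply finite_of_isHausdorff_of_fg_quotient I A
    -- `A ⧸ J` is an Artinian ring
    have hdim0 : Ring.KrullDimLE 0 (A ⧸ J) := by
      rw [Ring.krullDimLE_zero_iff]
      intro q hq
      have hp : (q.comap (Ideal.Quotient.mk J)).IsPrime := Ideal.comap_isPrime _ q
      have hJp : J ≤ q.comap (Ideal.Quotient.mk J) := by
        intro x hx
        rw [Ideal.mem_comap, Ideal.Quotient.eq_zero_iff_mem.mpr hx]
        exact q.zero_mem
      have hpm : q.comap (Ideal.Quotient.mk J) = maximalIdeal A :=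
        le_antisymm (IsLocalRing.le_maximalIdeal hp.ne_top)
          (hmin.2 ⟨hp, hJp⟩ (IsLocalRing.le_maximalIdeal hp.ne_top))
      have : q = (maximalIdeal A).map (Ideal.Quotient.mk J) := by
        rw [← hpm, Ideal.map_comap_of_surjective _ Ideal.Quotient.mk_surjective]
      rw [this]
      exact Ideal.IsMaximal.map_of_surjective_of_ker_le Ideal.Quotient.mk_surjective
        (by rw [Ideal.mk_ker]; exact hJm)
    haveI : IsArtinianRing (A ⧸ J) :=
      isArtinianRing_iff_isNoetherianRing_krullDimLE_zero.mpr ⟨inferInstance, hdim0⟩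
    haveI : IsArtinian A (A ⧸ J) :=
      isArtinian_of_surjective_algebraMap (R := A ⧸ J) (S := A) Ideal.Quotient.mk_surjective
    have hfl : IsFiniteLength A (A ⧸ J) :=
      isFiniteLength_iff_isNoetherian_isArtinian.mpr ⟨inferInstance, inferInstance⟩
    haveI hfin : Module.Finite k₀ (A ⧸ J) := finite_of_isFiniteLength k₀ A hfl
    -- transfer to the quotient by `I • ⊤`
    have hsm : (I • ⊤ : Submodule (MvPowerSeries (Fin n) k₀) A) =
        J.restrictScalars (MvPowerSeries (Fin n) k₀) := by
      rw [Ideal.smul_top_eq_map, hmap']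
    haveI hst : IsScalarTower k₀ (MvPowerSeries (Fin n) k₀) A :=
      IsScalarTower.of_algebraMap_eq (fun c => (ψ.commutes c).symm)
    let e1 : (A ⧸ J) ≃ₗ[k₀] (A ⧸ J.restrictScalars k₀) :=
      (Submodule.Quotient.restrictScalarsEquiv k₀ J).symm
    let e2 : (A ⧸ (I • ⊤ : Submodule (MvPowerSeries (Fin n) k₀) A)) ≃ₗ[k₀]
        (A ⧸ (I • ⊤ : Submodule (MvPowerSeries (Fin n) k₀) A).restrictScalars k₀) :=
      (Submodule.Quotient.restrictScalarsEquiv k₀ _).symm
    have heq : (I • ⊤ : Submodule (MvPowerSeries (Fin n) k₀) A).restrictScalars k₀ =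
        J.restrictScalars k₀ := by
      rw [hsm]
      rfl
    let e3 := Submodule.quotEquivOfEq _ _ heq
    haveI : Module.Finite k₀ (A ⧸ (I • ⊤ : Submodule (MvPowerSeries (Fin n) k₀) A)) :=
      Module.Finite.equiv (e1.trans (e3.symm.trans e2.symm))
    exact Module.Finite.of_restrictScalars_finite k₀ (MvPowerSeries (Fin n) k₀) _

end Groth.Agent.Lib.Helper26.CompleteFinite
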