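import Mathlib
import Groth.Prelude.Def_Found
import Groth.Agent.Lib.Helper12.N1Crit2

/-!
# "Local N-1" data (helper26)

`LN1 R F T`: the integral closure of (the image of) `R` in `F` becomes finite after inverting `T`,
expressed without localizations.  Transport lemmas and the local criterion for N-1.
-/

set_option autoImplicit false
universe u

namespace Groth.Agent.Lib.Helper26.NagLN1

/-- Integrality only depends on the image of the base ring. -/
theorem isIntegral_of_range_le {R₁ R₂ F : Type*} [CommRing R₁] [CommRing R₂] [CommRing F]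
    [Algebra R₁ F] [Algebra R₂ F]
    (h : ∀ c : R₁, algebraMap R₁ F c ∈ Set.range (algebraMap R₂ F)) {z : F}
    (hz : IsIntegral R₁ z) : IsIntegral R₂ z := by
  obtain ⟨p, hpm, hpz⟩ := hz
  have hlift : p.map (algebraMap R₁ F) ∈ Polynomial.lifts (algebraMap R₂ F) := by
    rw [Polynomial.lifts_iff_coeff_lifts]
    intro n
    rw [Polynomial.coeff_map]
    exact h _
  obtain ⟨q, hq, -, hqm⟩ := Polynomial.lifts_and_natDegree_eq_and_monic hlift (hpm.map _)
  refine ⟨q, hqm, ?_⟩
  rw [← Polynomial.eval_map, hq, Polynomial.eval_map]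
  exact hpz

/-- Spans only depend on the image of the base ring. -/
theorem span_le_of_range_le {R₁ R₂ F : Type*} [CommRing R₁] [CommRing R₂] [CommRing F]
    [Algebra R₁ F] [Algebra R₂ F]
    (h : ∀ c : R₁, algebraMap R₁ F c ∈ Set.range (algebraMap R₂ F)) (Y : Set F) {z : F}
    (hz : z ∈ Submodule.span R₁ Y) : z ∈ Submodule.span R₂ Y := by
  refine Submodule.span_induction (p := fun v _ => v ∈ Submodule.span R₂ Y) ?_ ?_ ?_ ?_ hz
  · intro v hv
    exact Submodule.subset_span hv
  · exact Submodule.zero_mem _
  · intro a b _ _ ha hb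
    exact Submodule.add_mem _ ha hb
  · intro r v _ hv
    obtain ⟨r₂, hr₂⟩ := h r
    have : r • v = r₂ • v := by rw [Algebra.smul_def, Algebra.smul_def, hr₂]
    rw [this]
    exact Submodule.smul_mem _ _ hv

/-- `LN1 R F T`: there is a finite set `Y` of elements of `F` integral over `R` such that every
element of `F` integral over `R` has a multiple by an element of `T` in the span of `Y`. -/
def LN1 (R F : Type*) [CommRing R] [CommRing F] [Algebra R F] (T : Submonoid R) : Prop :=
  ∃ Y : Finset F, (∀ y ∈ Y, IsIntegral R y) ∧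
    ∀ z : F, IsIntegral R z → ∃ t ∈ T, t • z ∈ Submodule.span R (Y : Set F)

theorem LN1.mono {R F : Type*} [CommRing R] [CommRing F] [Algebra R F] {T T' : Submonoid R}
    (h : LN1 R F T) (hT : T ≤ T') : LN1 R F T' := by
  obtain ⟨Y, hYint, hY⟩ := h
  refine ⟨Y, hYint, fun z hz => ?_⟩
  obtain ⟨t, ht, htz⟩ := hY z hz
  exact ⟨t, hT ht, htz⟩

/-- Transport of `LN1` along an "integral extension with the same target". -/
theorem LN1.of_integral {R R' F : Type*} [CommRing R] [CommRing R'] [CommRing F] [Algebra R F]
    [Algebra R' F] {T : Submonoid R} {T' : Submonoid R'}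
    (hle : ∀ r : R, algebraMap R F r ∈ Set.range (algebraMap R' F))
    (hint : ∀ r' : R', IsIntegral R (algebraMap R' F r'))
    (hT : ∀ t ∈ T, ∃ t' ∈ T', algebraMap R' F t' = algebraMap R F t)
    (h : LN1 R F T) : LN1 R' F T' := by
  obtain ⟨Y, hYint, hY⟩ := h
  refine ⟨Y, fun y hy => isIntegral_of_range_le hle (hYint y hy), fun z hz => ?_⟩
  have hz' : IsIntegral R z := by
    have h1 : IsIntegral (integralClosure R F) z :=
      isIntegral_of_range_le (R₂ := integralClosure R F)
        (fun r' => ⟨⟨algebraMap R' F r', hint r'⟩, rfl⟩) hz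
    exact isIntegral_trans z h1
  obtain ⟨t, ht, htz⟩ := hY z hz'
  obtain ⟨t', ht', htt'⟩ := hT t ht
  refine ⟨t', ht', ?_⟩
  have : t' • z = t • z := by rw [Algebra.smul_def, Algebra.smul_def, htt']
  rw [this]
  exact span_le_of_range_le hle _ htz

/-- From `LN1 R F T` to finiteness of the integral closure of a "localization" `C` of `R`
mapping to `F`. -/
theorem finite_integralClosure_of_LN1 {R C F : Type*} [CommRing R] [CommRing C] [CommRing F]
    [Algebra R C] [Algebra C F] [Algebra R F] [IsScalarTower R C F] (T : Submonoid R)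
    (hT : ∀ t ∈ T, IsUnit (algebraMap R C t))
    (hC : ∀ c : C, ∃ r : R, ∃ t ∈ T, algebraMap C F c * algebraMap R F t = algebraMap R F r)
    (h : LN1 R F T) : Module.Finite C (integralClosure C F) := by
  classical
  obtain ⟨Y, hYint, hY⟩ := h
  have hTF : ∀ t ∈ T, IsUnit (algebraMap R F t) := fun t ht => by
    rw [IsScalarTower.algebraMap_apply R C F]
    exact (hT t ht).map _
  letI : Algebra (Localization T) F :=
    (IsLocalization.lift (M := T) (g := algebraMap R F) (fun t => hTF t t.2)).toAlgebra
  haveI : IsScalarTower R (Localization T) F :=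
    IsScalarTower.of_algebraMap_eq
      (fun x => (IsLocalization.lift_eq (M := T) (fun t => hTF t t.2) x).symm)
  have hrange : ∀ c : C, algebraMap C F c ∈ Set.range (algebraMap (Localization T) F) := by
    intro c
    obtain ⟨r, t, ht, hct⟩ := hC c
    refine ⟨IsLocalization.mk' (Localization T) r ⟨t, ht⟩, ?_⟩
    apply (hTF t ht).mul_right_cancel
    rw [hct, IsScalarTower.algebraMap_apply R (Localization T) F t, ← map_mul]
    have := IsLocalization.mk'_spec (Localization T) r (⟨t, ht⟩ : T)
    rw [this, ← IsScalarTower.algebraMap_apply]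
  have hspan : Subalgebra.toSubmodule (integralClosure C F) = Submodule.span C (Y : Set F) := by
    apply le_antisymm
    · intro z hz
      have hz' : IsIntegral C z := hz
      obtain ⟨⟨m, hm⟩, hmz⟩ :=
        IsIntegral.exists_multiple_integral_of_isLocalization T z (isIntegral_of_range_le hrange hz')
      obtain ⟨t, ht, htz⟩ := hY _ hmz
      have h1 : t • ((⟨m, hm⟩ : T) • z) ∈ Submodule.span C (Y : Set F) :=
        Submodule.span_le_restrictScalars R C (Y : Set F) htz
      obtain ⟨u, hu'⟩ := hT _ (T.mul_mem ht hm)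
      have hz_eq : t • ((⟨m, hm⟩ : T) • z) = (u : C) • z := by
        rw [Submonoid.smul_def, smul_smul, hu', algebraMap_smul]
      have hz2 : z = ((u⁻¹ : Cˣ) : C) • ((u : C) • z) := by
        rw [smul_smul, Units.inv_mul, one_smul]
      rw [hz2, ← hz_eq]
      exact Submodule.smul_mem _ _ h1
    · rw [Submodule.span_le]
      intro y hy
      exact (hYint y hy).tower_top
  exact Module.Finite.iff_fg.2 ⟨Y, hspan.symm⟩

section
variable (R : Type u) [CommRing R] [IsDomain R] (K : Type u) [Field K] [Algebra R K]
  [IsFractionRing R K] [IsNoetherianRing R]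

open Groth.Agent.Lib.Helper12.N1Crit

/-- **Stacks 0333** in `LN1` form. -/
theorem finite_integralClosure_of_local (f : R) (hf : f ≠ 0)
    (hfpow : ∀ x : K, IsIntegral R x →
      ∃ n : ℕ, ∃ a : R, x * algebraMap R K (f ^ n) = algebraMap R K a)
    (hloc : ∀ (m : Ideal R) [m.IsMaximal], LN1 R K m.primeCompl) :
    Module.Finite R (integralClosure R K) := by
  classical
  have hVopen : ∀ T, IsOpen (V R K (Sub R K T)) := fun T => isOpen_V R K f hf hfpow (Sub R K T)
  have hcover : (Set.univ : Set (PrimeSpectrum R)) ⊆ ⋃ T, V R K (Sub R K T) := by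
    intro p _
    obtain ⟨m, hm, hpm⟩ := Ideal.exists_le_maximal p.asIdeal p.2.ne_top
    haveI := hm
    obtain ⟨Y, hYint, hY⟩ := hloc m
    let T : Finset (integralClosure R K) := Y.attach.image (fun y => ⟨y.1, hYint y.1 y.2⟩)
    have hYT : ∀ y ∈ Y, y ∈ Sub R K T := by
      intro y hy
      exact subset_sub R K T ⟨y, hYint y hy⟩
        (Finset.mem_image.2 ⟨⟨y, hy⟩, Finset.mem_attach _ _, rfl⟩)
    have hmV : (⟨m, hm.isPrime⟩ : PrimeSpectrum R) ∈ V R K (Sub R K T) := by
      rw [mem_V]
      intro q hq x hx
      obtain ⟨s, hs, hsx⟩ := hY x hx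
      have hmem : s • x ∈ Sub R K T := by
        have : Submodule.span R (Y : Set K) ≤ (Sub R K T).toSubmodule :=
          Submodule.span_le.2 (fun y hy => hYT y hy)
        exact this hsx
      refine ⟨⟨s • x, hmem⟩, algebraMap R (Sub R K T) s, ?_, ?_⟩
      · intro hcon
        apply hs
        have : s ∈ (PrimeSpectrum.comap (algebraMap R (Sub R K T)) q).asIdeal := hcon
        rw [hq] at this
        exact this
      · show x * algebraMap R K s = s • x
        rw [Algebra.smul_def, mul_comm]
    refine Set.mem_iUnion.2 ⟨T, ?_⟩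
    have hspec : p ⤳ ⟨m, hm.isPrime⟩ := (PrimeSpectrum.le_iff_specializes _ _).1 hpm
    exact hspec.mem_open (hVopen T) hmV
  have hdir : Directed (· ⊆ ·) (fun T => V R K (Sub R K T)) := by
    intro T T'
    exact ⟨T ∪ T', V_mono R K (sub_mono R K Finset.subset_union_left),
      V_mono R K (sub_mono R K Finset.subset_union_right)⟩
  obtain ⟨T, hT⟩ := isCompact_univ.elim_directed_cover (fun T => V R K (Sub R K T)) hVopen hcover hdir
  have hle : integralClosure R K ≤ Sub R K T := by
    intro x hx
    by_contra hxT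
    let I : Ideal (Sub R K T) :=
      { carrier := {s | (s : K) * x ∈ Sub R K T}
        add_mem' := fun {a b} ha hb => by
          show ((a + b : Sub R K T) : K) * x ∈ Sub R K T
          rw [Subalgebra.coe_add, add_mul]
          exact (Sub R K T).add_mem ha hb
        zero_mem' := by
          show ((0 : Sub R K T) : K) * x ∈ Sub R K T
          rw [Subalgebra.coe_zero, zero_mul]
          exact (Sub R K T).zero_mem
        smul_mem' := fun c s hs => by
          show ((c * s : Sub R K T) : K) * x ∈ Sub R K T
          rw [Subalgebra.coe_mul, mul_assoc]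
          exact (Sub R K T).mul_mem c.2 hs }
    have hI : I ≠ ⊤ := by
      intro h
      apply hxT
      have h1 : (1 : Sub R K T) ∈ I := h ▸ Submodule.mem_top
      have h2 : ((1 : Sub R K T) : K) * x ∈ Sub R K T := h1
      rwa [Subalgebra.coe_one, one_mul] at h2
    obtain ⟨q, hq, hIq⟩ := Ideal.exists_le_maximal I hI
    have hg : Good R K (Sub R K T) ⟨q, hq.isPrime⟩ :=
      (mem_V R K (Sub R K T) _).1 (hT (Set.mem_univ
        (PrimeSpectrum.comap (algebraMap R (Sub R K T)) ⟨q, hq.isPrime⟩))) _ rfl
    obtain ⟨a, s, hs, hxs⟩ := hg x hx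
    apply hs
    apply hIq
    show (s : K) * x ∈ Sub R K T
    rw [mul_comm, hxs]
    exact a.2
  have heq : integralClosure R K = Sub R K T := le_antisymm hle (sub_le R K T)
  have hfg : (Subalgebra.toSubmodule (integralClosure R K)).FG := by
    rw [heq]
    exact sub_fg R K T
  exact Module.Finite.iff_fg.2 hfg

/-- `LN1` from N-1 of the local ring. -/
theorem LN1.of_isN1_atPrime (m : Ideal R) [m.IsPrime]
    (h : CAlg.IsN1 (Localization.AtPrime m)) : LN1 R K m.primeCompl :=
  exists_finset_of_isN1_atPrime R K m h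

end

end Groth.Agent.Lib.Helper26.NagLN1
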