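import Mathlib

/-!
# The derivative trick for Nagata's theorem (helper26)

* `exists_mul_eq_of_sq`: in an integrally closed domain `H` with a derivation `δ`, if
  `z ^ 2 ∈ (w)` then `δ w * z ∈ (w)`.
* `exists_mul_eq_of_sq_conductor`: the same in a subring with a conductor element.
* `isReduced_quotient_map`: reducedness of `G₀ ⧸ Q G₀` for a flat `P`-algebra `G₀`.
* `flat_mvPowerSeries`: `R[[X_σ]]` is flat over `R[X_σ]` (`R` Noetherian, `σ` finite).
* `exists_pow_mul_eq`: if `q (a / b) = 0` then `b ^ N * q ∈ (b X - a)`.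
-/

set_option autoImplicit false
universe u

namespace Groth.Agent.Lib.Helper26.NagDeriv

open Polynomial TensorProduct

/-- **Derivative trick.** -/
theorem exists_mul_eq_of_sq {H : Type*} [CommRing H] [IsDomain H] [IsIntegrallyClosed H]
    (δ : Derivation ℤ H H) {w b z u : H} (hw : w ≠ 0) (hb : δ w = b) (hz : z ^ 2 = w * u) :
    ∃ c : H, b * z = w * c := by
  have h1 : δ (z ^ 2) = δ (w * u) := by rw [hz]
  rw [Derivation.leibniz_pow, Derivation.leibniz, hb] at h1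
  have h1' : 2 * (z * δ z) = w * δ u + u * b := by
    simpa [smul_eq_mul, nsmul_eq_mul, pow_one] using h1
  obtain ⟨α, hα⟩ : ∃ α : H, α = 2 * δ z := ⟨_, rfl⟩
  obtain ⟨β, hβ⟩ : ∃ β : H, β = -(δ u) * b := ⟨_, rfl⟩
  have h2 : b * u = α * z + (-(δ u)) * w := by
    rw [hα]; linear_combination (-1 : H) * h1'
  have h3 : (b * z) ^ 2 = α * w * (b * z) + β * w ^ 2 := by
    rw [hβ]; linear_combination (b ^ 2) * hz + (b * w) * h2
  have hW : algebraMap H (FractionRing H) w ≠ 0 := by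
    rw [Ne, map_eq_zero_iff _ (IsFractionRing.injective H (FractionRing H))]; exact hw
  obtain ⟨B, hB⟩ : ∃ B : FractionRing H, B = algebraMap H (FractionRing H) (b * z) := ⟨_, rfl⟩
  obtain ⟨W, hWdef⟩ : ∃ W : FractionRing H, W = algebraMap H (FractionRing H) w := ⟨_, rfl⟩
  have hW' : W ≠ 0 := by rw [hWdef]; exact hW
  have h3K : B ^ 2 = algebraMap H (FractionRing H) α * W * B +
        algebraMap H (FractionRing H) β * W ^ 2 := by
    rw [hB, hWdef]
    simp only [← map_pow, ← map_mul, ← map_add]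
    rw [h3]
  have ht2 : (B / W) ^ 2 = algebraMap H (FractionRing H) α * (B / W) +
      algebraMap H (FractionRing H) β := by
    field_simp
    linear_combination h3K
  have ht : IsIntegral H (B / W) := by
    refine ⟨X ^ 2 - (C α * X + C β), monic_X_pow_sub ?_, ?_⟩
    · exact lt_of_le_of_lt (degree_linear_le) (by norm_num)
    · rw [eval₂_sub, eval₂_pow, eval₂_X, eval₂_add, eval₂_mul, eval₂_C, eval₂_C, eval₂_X, ht2,
        sub_self]
  obtain ⟨c, hc⟩ := IsIntegrallyClosed.algebraMap_eq_of_integral ht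
  refine ⟨c, IsFractionRing.injective H (FractionRing H) ?_⟩
  rw [map_mul _ w c, hc, ← hB, ← hWdef]
  field_simp

/-- The derivative trick in a subring `G₀ ⊆ G` of an integrally closed domain, with a conductor
element `c` (`c G ⊆ G₀`). -/
theorem exists_mul_eq_of_sq_conductor {G₀ G : Type*} [CommRing G₀] [CommRing G] [IsDomain G]
    [IsIntegrallyClosed G] (ι : G₀ →+* G) (hι : Function.Injective ι)
    (δ₀ : G₀ → G₀) (δ : Derivation ℤ G G) (hδ : ∀ g, ι (δ₀ g) = δ (ι g))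
    (c : G₀) (hc : ∀ g : G, ∃ g₀ : G₀, ι g₀ = ι c * g)
    {w b z u : G₀} (hw : w ≠ 0) (hb : δ₀ w = b) (hz : z ^ 2 = w * u) :
    ∃ u' : G₀, c * b * z = w * u' := by
  have hw' : ι w ≠ 0 := fun h => hw (hι (by rw [h, map_zero]))
  have hb' : δ (ι w) = ι b := by rw [← hδ, hb]
  have hz' : (ι z) ^ 2 = ι w * ι u := by rw [← map_pow, hz, map_mul]
  obtain ⟨d, hd⟩ := exists_mul_eq_of_sq δ hw' hb' hz'
  obtain ⟨g₀, hg₀⟩ := hc d
  refine ⟨g₀, hι ?_⟩
  rw [map_mul, map_mul, map_mul, hg₀]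
  linear_combination (ι c) * hd

section Flat

variable {P G₀ : Type*} [CommRing P] [CommRing G₀] [Algebra P G₀] [Module.Flat P G₀]

/-- For a flat `P`-algebra `G₀` and a prime `Q` of `P`, elements outside `Q` are nonzerodivisors
modulo `Q G₀`. -/
theorem mem_map_of_mul_mem (Q : Ideal P) [Q.IsPrime] {d : P} (hd : d ∉ Q) {z : G₀}
    (h : algebraMap P G₀ d * z ∈ Q.map (algebraMap P G₀)) : z ∈ Q.map (algebraMap P G₀) := by
  have hreg : IsSMulRegular (P ⧸ Q) d := by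
    intro x y hxy
    simp only [Algebra.smul_def, Ideal.Quotient.algebraMap_eq] at hxy
    refine mul_left_cancel₀ ?_ hxy
    rwa [Ne, Ideal.Quotient.eq_zero_iff_mem]
  have hreg' : IsSMulRegular (G₀ ⊗[P] (P ⧸ Q)) d := IsSMulRegular.lTensor G₀ hreg
  let e := Algebra.TensorProduct.quotIdealMapEquivTensorQuot G₀ Q
  have h0 : d • (z ⊗ₜ[P] (1 : P ⧸ Q)) = d • (0 : G₀ ⊗[P] (P ⧸ Q)) := by
    rw [smul_zero, TensorProduct.smul_tmul', Algebra.smul_def,
      ← Algebra.TensorProduct.quotIdealMapEquivTensorQuot_mk G₀ Q (algebraMap P G₀ d * z)]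
    have : (Ideal.Quotient.mk (Q.map (algebraMap P G₀))) (algebraMap P G₀ d * z) = 0 :=
      Ideal.Quotient.eq_zero_iff_mem.2 h
    rw [this, map_zero]
  have h1 : z ⊗ₜ[P] (1 : P ⧸ Q) = 0 := hreg' h0
  rw [← Algebra.TensorProduct.quotIdealMapEquivTensorQuot_mk G₀ Q z] at h1
  have h2 : (Ideal.Quotient.mk (Q.map (algebraMap P G₀))) z = 0 :=
    (Algebra.TensorProduct.quotIdealMapEquivTensorQuot G₀ Q).injective (by rw [h1, map_zero])
  exact Ideal.Quotient.eq_zero_iff_mem.1 h2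

/-- Reducedness of `G₀ ⧸ Q G₀`. -/
theorem isReduced_quotient_map (Q : Ideal P) [Q.IsPrime] (w b e : P) (hwQ : w ∈ Q)
    (hb : b ∉ Q) (he : e ∉ Q)
    (hQ : ∀ q ∈ Q, ∃ N : ℕ, b ^ N * q ∈ Ideal.span {w})
    (key : ∀ z u : G₀, z ^ 2 = algebraMap P G₀ w * u →
      ∃ u', algebraMap P G₀ e * z = algebraMap P G₀ w * u') :
    IsReduced (G₀ ⧸ Q.map (algebraMap P G₀)) := by
  set φ := algebraMap P G₀ with hφ
  have hstep : ∀ v ∈ Q.map φ, ∃ N : ℕ, φ b ^ N * v ∈ Ideal.span {φ w} := by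
    intro v hv
    refine Submodule.span_induction ?_ ?_ ?_ ?_ hv
    · rintro _ ⟨q, hq, rfl⟩
      obtain ⟨N, hN⟩ := hQ q hq
      obtain ⟨r, hr⟩ := Ideal.mem_span_singleton'.mp hN
      refine ⟨N, Ideal.mem_span_singleton'.mpr ⟨φ r, ?_⟩⟩
      rw [← map_mul, hr, map_mul, map_pow]
    · exact ⟨0, by simp⟩
    · rintro v₁ v₂ - - ⟨N₁, h₁⟩ ⟨N₂, h₂⟩
      refine ⟨N₁ + N₂, ?_⟩
      have : φ b ^ (N₁ + N₂) * (v₁ + v₂) =
          φ b ^ N₂ * (φ b ^ N₁ * v₁) + φ b ^ N₁ * (φ b ^ N₂ * v₂) := by ring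
      rw [this]
      exact Ideal.add_mem _ (Ideal.mul_mem_left _ _ h₁) (Ideal.mul_mem_left _ _ h₂)
    · rintro g v - ⟨N, h⟩
      refine ⟨N, ?_⟩
      have : φ b ^ N * (g • v) = g * (φ b ^ N * v) := by rw [smul_eq_mul]; ring
      rw [this]
      exact Ideal.mul_mem_left _ _ h
  rw [isReduced_iff_pow_one_lt 2 one_lt_two]
  intro x hx
  obtain ⟨z, rfl⟩ := Ideal.Quotient.mk_surjective x
  rw [← map_pow, Ideal.Quotient.eq_zero_iff_mem] at hx
  obtain ⟨N, hN⟩ := hstep _ hx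
  obtain ⟨u, hu⟩ := Ideal.mem_span_singleton'.mp hN
  have hz1 : (φ b ^ N * z) ^ 2 = φ w * (φ b ^ N * u) := by
    linear_combination (-(φ b ^ N)) * hu
  obtain ⟨u', hu'⟩ := key _ _ hz1
  have hmem : φ (e * b ^ N) * z ∈ Q.map φ := by
    rw [map_mul, map_pow, mul_assoc, hu']
    exact Ideal.mul_mem_right _ _ (Ideal.mem_map_of_mem φ hwQ)
  have hd : e * b ^ N ∉ Q := fun h =>
    (Ideal.IsPrime.mem_or_mem ‹Q.IsPrime› h).elim he
      (fun h' => hb (Ideal.IsPrime.mem_of_pow_mem ‹Q.IsPrime› N h'))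
  rw [Ideal.Quotient.eq_zero_iff_mem]
  exact mem_map_of_mul_mem Q hd hmem

end Flat

/-- `R[[X_σ]]` is flat over `R[X_σ]`. -/
theorem flat_mvPowerSeries (σ : Type*) [Finite σ] (R : Type*) [CommRing R] [IsNoetherianRing R] :
    Module.Flat (MvPolynomial σ R) (MvPowerSeries σ R) := by
  haveI : IsNoetherianRing (MvPolynomial σ R) := inferInstance
  exact Module.Flat.of_linearEquiv (MvPowerSeries.toAdicCompletionAlgEquiv σ R).toLinearEquiv

/-- If `q (a / b) = 0` then `b ^ N q ∈ (b X - a)`. -/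
theorem exists_pow_mul_eq {D₀ K : Type*} [CommRing D₀] [CommRing K] [Algebra D₀ K]
    (hinj : Function.Injective (algebraMap D₀ K)) (a b : D₀) (y : K)
    (hy : algebraMap D₀ K b * y = algebraMap D₀ K a)
    (q : D₀[X]) (hq : Polynomial.aeval y q = 0) :
    ∃ g : D₀[X], C b ^ q.natDegree * q = (C b * X - C a) * g := by
  have h1 : Polynomial.eval a (scaleRoots q b) = 0 := by
    apply hinj
    rw [map_zero, ← Polynomial.eval₂_at_apply, ← hy, scaleRoots_eval₂_mul]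
    rw [Polynomial.aeval_def] at hq
    rw [hq, mul_zero]
  obtain ⟨g, hg⟩ := (Polynomial.dvd_iff_isRoot).2 h1
  refine ⟨eval₂ C (C b * X) g, ?_⟩
  have := congrArg (eval₂ C (C b * X)) hg
  rw [scaleRoots_eval₂_mul, eval₂_C_X, eval₂_mul, eval₂_sub, eval₂_X, eval₂_C] at this
  exact this

end Groth.Agent.Lib.Helper26.NagDeriv
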