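import Mathlib
import Groth.Prelude.Def_Found
import Groth.Agent.S2072

/-!
# Faithfully flat descent of N-1 (helper26)

`isN1_of_faithfullyFlat`: a domain `E` with a faithfully flat Noetherian reduced extension `C` all of
whose quotients by minimal primes are N-1 is itself N-1.  (Abstract form of lead's `S2072.result`.)
-/

set_option autoImplicit false
universe u

open TensorProduct

namespace Groth.Agent.Lib.Helper26.NagFF

/-- For a prime `q` of a Noetherian ring `C` with `C ⧸ q` N-1, the fraction field of `C ⧸ q`
contains a finite integral closure of `C`. -/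
theorem exists_field_of_prime' (C : Type u) [CommRing C] [IsNoetherianRing C] (q : Ideal C)
    [q.IsPrime] (hN1 : CAlg.IsN1 (C ⧸ q)) :
    ∃ (F : Type u) (_ : Field F) (_ : Algebra C F), RingHom.ker (algebraMap C F) = q ∧
      Module.Finite C (integralClosure C F) := by
  refine ⟨FractionRing (C ⧸ q), inferInstance, inferInstance, ?_, ?_⟩
  · ext c
    rw [RingHom.mem_ker, IsScalarTower.algebraMap_apply C (C ⧸ q) (FractionRing (C ⧸ q)),
      map_eq_zero_iff _ (IsFractionRing.injective (C ⧸ q) (FractionRing (C ⧸ q))),
      Ideal.Quotient.algebraMap_eq, Ideal.Quotient.eq_zero_iff_mem]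
  · haveI hfin : Module.Finite (C ⧸ q) (integralClosure (C ⧸ q) (FractionRing (C ⧸ q))) := hN1
    haveI : Module.Finite C (integralClosure (C ⧸ q) (FractionRing (C ⧸ q))) :=
      Module.Finite.trans (C ⧸ q) _
    haveI : IsNoetherian C (integralClosure (C ⧸ q) (FractionRing (C ⧸ q))) :=
      isNoetherian_of_isNoetherianRing_of_finite C _
    let f : integralClosure C (FractionRing (C ⧸ q)) →ₗ[C]
        integralClosure (C ⧸ q) (FractionRing (C ⧸ q)) :=
      { toFun := fun x => ⟨x.1, x.2.tower_top⟩
        map_add' := fun _ _ => rfl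
        map_smul' := fun _ _ => rfl }
    refine Module.Finite.of_injective f (fun x y h => Subtype.ext ?_)
    have h' : (f x).1 = (f y).1 := congrArg Subtype.val h
    exact h'

/-- Faithfully flat descent of N-1 from a reduced Noetherian ring with N-1 irreducible
components. -/
theorem isN1_of_faithfullyFlat (E : Type u) [CommRing E] [IsDomain E] (C : Type u) [CommRing C]
    [Algebra E C] [Module.FaithfullyFlat E C] [IsNoetherianRing C] [IsReduced C]
    (hN : ∀ (q : Ideal C) [q.IsPrime], q ∈ minimalPrimes C → CAlg.IsN1 (C ⧸ q)) :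
    CAlg.IsN1 E := by
  haveI : Finite {q : Ideal C // q ∈ minimalPrimes C} :=
    (minimalPrimes.finite_of_isNoetherianRing C).to_subtype
  have hch : ∀ q : {q : Ideal C // q ∈ minimalPrimes C},
      ∃ (F : Type u) (_ : Field F) (_ : Algebra C F),
        RingHom.ker (algebraMap C F) = q.1 ∧ Module.Finite C (integralClosure C F) := fun q => by
    haveI : q.1.IsPrime := Ideal.IsMinimalPrime.isPrime q.2
    exact exists_field_of_prime' _ q.1 (hN q.1 q.2)
  choose F hField hAlg hker hfin using hch
  letI := hField
  letI := hAlg
  have hinj : ∀ c : C, (∀ q, algebraMap C (F q) c = 0) → c = 0 := by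
    intro c hc
    have h1 : c ∈ sInf (minimalPrimes C) := by
      rw [Submodule.mem_sInf]
      intro q hq
      have h := hc ⟨q, hq⟩
      rw [← RingHom.mem_ker, hker ⟨q, hq⟩] at h
      exact h
    have h2 : sInf (minimalPrimes C) = ⊥ := by
      rw [minimalPrimes, Ideal.sInf_minimalPrimes]
      exact nilradical_eq_zero _
    rw [h2] at h1
    exact h1
  have hunit : ∀ b : E, b ≠ 0 → ∀ q, algebraMap C (F q) (algebraMap E C b) ≠ 0 := by
    intro b hb q hzero
    have hmem : algebraMap E C b ∈ q.1 := by
      rw [← hker q, RingHom.mem_ker]; exact hzero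
    have hreg : IsSMulRegular C b :=
      Module.Flat.isSMulRegular_of_nonZeroDivisors (mem_nonZeroDivisors_of_ne_zero hb)
    have hnzd : algebraMap E C b ∈ nonZeroDivisors C := by
      rw [mem_nonZeroDivisors_iff_right]
      intro x hx
      exact hreg (by
        show b • x = b • (0 : C)
        rw [smul_zero, Algebra.smul_def, mul_comm]; exact hx)
    exact Set.disjoint_left.mp (Ideal.disjoint_nonZeroDivisors_of_mem_minimalPrimes q.2) hmem hnzd
  exact Groth.Agent.S2072.finite_integralClosure_of_flat_embedding E C _ F hinj hunit hfin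

end Groth.Agent.Lib.Helper26.NagFF
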