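import Mathlib
import Groth.Prelude.Def_Found
import Groth.Agent.S6299
import Groth.Agent.Lib.Helper7.PowSerCRing
import Groth.Agent.Lib.Helper27.NagCompl
import Groth.Agent.Lib.Helper15.ComplSurj
import Groth.Agent.Lib.Helper12.N1Crit
import Groth.Agent.Lib.Helper26.NagDeriv
import Groth.Agent.Lib.Helper26.NagFF

/-!
# Nagata's theorem, complete local case (helper26)

For a complete Noetherian local domain `D₀` and `y` in its fraction field, the local ring of
`D₀[y]` at a prime containing `𝔪` and `y` is N-1.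
-/

set_option autoImplicit false
universe u

open IsLocalRing TensorProduct

namespace Groth.Agent.Lib.Helper26.NagStage1

open Groth.Agent.Lib.Helper26.NagDeriv

section conductor

variable (D₀ : Type u) [CommRing D₀] [IsDomain D₀]

/-- A conductor element for a finite normalization. -/
theorem exists_conductor (hfin : Module.Finite D₀ (integralClosure D₀ (FractionRing D₀))) :
    ∃ c : D₀, c ≠ 0 ∧ ∀ d : integralClosure D₀ (FractionRing D₀),
      ∃ d₀ : D₀, algebraMap D₀ (integralClosure D₀ (FractionRing D₀)) d₀ =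
        algebraMap D₀ (integralClosure D₀ (FractionRing D₀)) c * d := by
  classical
  have hfg : (Subalgebra.toSubmodule (integralClosure D₀ (FractionRing D₀))).FG :=
    Module.Finite.iff_fg.1 hfin
  obtain ⟨Z, hZ⟩ := hfg
  obtain ⟨c, hc⟩ := IsLocalization.exist_integer_multiples_of_finset (nonZeroDivisors D₀) Z
  refine ⟨c, nonZeroDivisors.ne_zero c.2, fun d => ?_⟩
  have hd : (d : FractionRing D₀) ∈ Submodule.span D₀ (Z : Set (FractionRing D₀)) := by
    rw [hZ]; exact d.2
  have key : ∃ d₀ : D₀, algebraMap D₀ (FractionRing D₀) d₀ =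
      algebraMap D₀ (FractionRing D₀) c * (d : FractionRing D₀) := by
    refine Submodule.span_induction (p := fun v _ => ∃ d₀ : D₀,
      algebraMap D₀ (FractionRing D₀) d₀ = algebraMap D₀ (FractionRing D₀) c * v) ?_ ?_ ?_ ?_ hd
    · intro v hv
      obtain ⟨d₀, hd₀⟩ := hc v hv
      exact ⟨d₀, by rw [hd₀, Algebra.smul_def]⟩
    · exact ⟨0, by simp⟩
    · rintro v₁ v₂ - - ⟨a₁, h₁⟩ ⟨a₂, h₂⟩
      exact ⟨a₁ + a₂, by rw [map_add, h₁, h₂, mul_add]⟩
    · rintro r v - ⟨a, h⟩
      exact ⟨r * a, by rw [map_mul, h, Algebra.smul_def]; ring⟩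
  obtain ⟨d₀, hd₀⟩ := key
  refine ⟨d₀, Subtype.ext ?_⟩
  rw [Subalgebra.coe_mul, Subalgebra.coe_algebraMap, Subalgebra.coe_algebraMap]
  exact hd₀

end conductor

section ps

variable {D₀ D : Type*} [CommRing D₀] [CommRing D] [Algebra D₀ D]

/-- An additive map satisfying the Leibniz rule, as a `ℤ`-derivation. -/
noncomputable def derivOfAdd {G : Type*} [CommRing G] (d : G →+ G)
    (h : ∀ a b, d (a * b) = a • d b + b • d a) : Derivation ℤ G G :=
  Derivation.mk' d.toIntLinearMap h

/-- The formal derivative as a `ℤ`-derivation. -/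
noncomputable def derivZ (S : Type*) [CommRing S] :=
  derivOfAdd (G := PowerSeries S) ((PowerSeries.derivative S).toLinearMap.toAddMonoidHom)
    (fun a b => (PowerSeries.derivative S).leibniz a b)

theorem derivZ_apply (S : Type*) [CommRing S] (f : PowerSeries S) :
    derivZ S f = PowerSeries.derivative S f := rfl

theorem map_derivative (f : PowerSeries D₀) :
    PowerSeries.map (algebraMap D₀ D) (PowerSeries.derivative D₀ f) =
      PowerSeries.derivative D (PowerSeries.map (algebraMap D₀ D) f) := by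
  ext n
  rw [PowerSeries.coeff_map, PowerSeries.coeff_derivative, PowerSeries.coeff_derivative,
    PowerSeries.coeff_map, map_mul, map_add, map_natCast, map_one]

theorem exists_map_eq_C_mul (c : D₀)
    (hc : ∀ d : D, ∃ d₀ : D₀, algebraMap D₀ D d₀ = algebraMap D₀ D c * d) (g : PowerSeries D) :
    ∃ g₀ : PowerSeries D₀, PowerSeries.map (algebraMap D₀ D) g₀ =
      PowerSeries.map (algebraMap D₀ D) (PowerSeries.C c) * g := by
  choose f hf using hc
  refine ⟨PowerSeries.mk fun n => f (PowerSeries.coeff n g), ?_⟩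
  ext n
  rw [PowerSeries.coeff_map, PowerSeries.coeff_mk, PowerSeries.map_C, PowerSeries.coeff_C_mul, hf]

theorem map_injective (h : Function.Injective (algebraMap D₀ D)) :
    Function.Injective (PowerSeries.map (algebraMap D₀ D)) := by
  intro f g hfg
  ext n
  apply h
  rw [← PowerSeries.coeff_map, ← PowerSeries.coeff_map, hfg]

end ps

section main

variable (D₀ : Type u) [CommRing D₀] [IsDomain D₀] [IsNoetherianRing D₀] [IsLocalRing D₀]
  [IsAdicComplete (maximalIdeal D₀) D₀]

/-- The key reducedness statement: `D₀[[X]] ⧸ Q D₀[[X]]` is reduced where `Q = ker (X ↦ y)`. -/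
theorem isReduced_C1 (y : FractionRing D₀) :
    IsReduced (MvPowerSeries Unit D₀ ⧸
      (RingHom.ker (MvPolynomial.aeval (fun _ : Unit => y) :
        MvPolynomial Unit D₀ →ₐ[D₀] FractionRing D₀)).map
        (algebraMap (MvPolynomial Unit D₀) (MvPowerSeries Unit D₀))) := by
  classical
  set φ₀ : MvPolynomial Unit D₀ →ₐ[D₀] FractionRing D₀ :=
    MvPolynomial.aeval (fun _ : Unit => y) with hφ₀
  haveI : (RingHom.ker φ₀).IsPrime := RingHom.ker_isPrime φ₀
  haveI := flat_mvPowerSeries Unit D₀
  have hfin : Module.Finite D₀ (integralClosure D₀ (FractionRing D₀)) :=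
    (Groth.Agent.Lib.Helper27.NagCompl.isN2_of_complete_domain D₀) (FractionRing D₀) inferInstance
  obtain ⟨c, hc0, hc⟩ := exists_conductor D₀ hfin
  haveI : IsNoetherianRing (integralClosure D₀ (FractionRing D₀)) :=
    IsNoetherianRing.of_finite D₀ _
  haveI : IsIntegrallyClosed (integralClosure D₀ (FractionRing D₀)) :=
    integralClosure.isIntegrallyClosedOfFiniteExtension (FractionRing D₀)
  obtain ⟨hGic, -⟩ := Groth.Agent.S6299.result (integralClosure D₀ (FractionRing D₀))
  haveI := hGic
  have hinjD : Function.Injective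
      (algebraMap D₀ (integralClosure D₀ (FractionRing D₀))) := by
    intro a b hab
    apply IsFractionRing.injective D₀ (FractionRing D₀)
    exact congrArg Subtype.val hab
  obtain ⟨a, b, hb, hab⟩ := IsFractionRing.div_surjective (A := D₀) y
  have hb0 : b ≠ 0 := nonZeroDivisors.ne_zero hb
  have hbK : algebraMap D₀ (FractionRing D₀) b ≠ 0 := by
    rw [Ne, map_eq_zero_iff _ (IsFractionRing.injective D₀ (FractionRing D₀))]; exact hb0
  have hcK : algebraMap D₀ (FractionRing D₀) c ≠ 0 := by
    rw [Ne, map_eq_zero_iff _ (IsFractionRing.injective D₀ (FractionRing D₀))]; exact hc0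
  have hy : algebraMap D₀ (FractionRing D₀) b * y = algebraMap D₀ (FractionRing D₀) a := by
    rw [← hab]; field_simp
  have hwQ : MvPolynomial.C b * MvPolynomial.X () - MvPolynomial.C a ∈ RingHom.ker φ₀ := by
    rw [RingHom.mem_ker, hφ₀, map_sub, map_mul, MvPolynomial.aeval_C, MvPolynomial.aeval_C,
      MvPolynomial.aeval_X, hy, sub_self]
  have hbQ : (MvPolynomial.C b : MvPolynomial Unit D₀) ∉ RingHom.ker φ₀ := by
    rw [RingHom.mem_ker, hφ₀, MvPolynomial.aeval_C]; exact hbK
  have heQ : (MvPolynomial.C c * MvPolynomial.C b : MvPolynomial Unit D₀) ∉ RingHom.ker φ₀ := by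
    rw [RingHom.mem_ker, hφ₀, map_mul, MvPolynomial.aeval_C, MvPolynomial.aeval_C]
    exact mul_ne_zero hcK hbK
  have hQ : ∀ q ∈ RingHom.ker φ₀, ∃ N : ℕ, (MvPolynomial.C b : MvPolynomial Unit D₀) ^ N * q ∈
      Ideal.span {MvPolynomial.C b * MvPolynomial.X () - MvPolynomial.C a} := by
    intro q hq
    have hq' : Polynomial.aeval y (MvPolynomial.uniqueAlgEquiv D₀ Unit q) = 0 := by
      rw [Polynomial.aeval_def, MvPolynomial.eval₂_const_uniqueAlgEquiv]
      exact hq
    obtain ⟨g, hg⟩ := exists_pow_mul_eq (IsFractionRing.injective D₀ (FractionRing D₀)) a b y hy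
      _ hq'
    refine ⟨(MvPolynomial.uniqueAlgEquiv D₀ Unit q).natDegree,
      Ideal.mem_span_singleton'.mpr ⟨(MvPolynomial.uniqueAlgEquiv D₀ Unit).symm g, ?_⟩⟩
    apply (MvPolynomial.uniqueAlgEquiv D₀ Unit).injective
    have h1 : ∀ r : D₀, MvPolynomial.uniqueAlgEquiv D₀ Unit (MvPolynomial.C r) = Polynomial.C r := by
      intro r
      rw [← MvPolynomial.algebraMap_eq, AlgEquiv.commutes]; rfl
    have h2 : MvPolynomial.uniqueAlgEquiv D₀ Unit (MvPolynomial.X ()) = Polynomial.X := by
      have := MvPolynomial.uniqueAlgEquiv_monomial (R := D₀) (σ := Unit)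
        (d := Finsupp.single () 1) (r := 1)
      simpa [MvPolynomial.X, Polynomial.X] using this
    rw [map_mul, map_mul, map_pow, AlgEquiv.apply_symm_apply, map_sub, map_mul, h1, h1, h2, hg]
    ring
  refine isReduced_quotient_map (RingHom.ker φ₀)
    (MvPolynomial.C b * MvPolynomial.X () - MvPolynomial.C a) (MvPolynomial.C b)
    (MvPolynomial.C c * MvPolynomial.C b) hwQ hbQ heQ hQ ?_
  intro z u hzu
  have hcoe : ∀ p : MvPolynomial Unit D₀,
      algebraMap (MvPolynomial Unit D₀) (MvPowerSeries Unit D₀) p = (p : MvPowerSeries Unit D₀) := by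
    intro p
    rw [MvPowerSeries.algebraMap_apply', Algebra.algebraMap_self, MvPowerSeries.map_id,
      RingHom.id_apply]
  have hw : algebraMap (MvPolynomial Unit D₀) (MvPowerSeries Unit D₀)
      (MvPolynomial.C b * MvPolynomial.X () - MvPolynomial.C a) =
      (PowerSeries.C b * PowerSeries.X - PowerSeries.C a : PowerSeries D₀) := by
    rw [map_sub, map_mul, hcoe, hcoe, hcoe, MvPolynomial.coe_C, MvPolynomial.coe_C,
      MvPolynomial.coe_X]
    rfl
  have he : algebraMap (MvPolynomial Unit D₀) (MvPowerSeries Unit D₀)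
      (MvPolynomial.C c * MvPolynomial.C b) = (PowerSeries.C c * PowerSeries.C b : PowerSeries D₀) := by
    rw [map_mul, hcoe, hcoe, MvPolynomial.coe_C, MvPolynomial.coe_C]
    rfl
  rw [hw] at hzu ⊢
  rw [he]
  have hwne : (PowerSeries.C b * PowerSeries.X - PowerSeries.C a : PowerSeries D₀) ≠ 0 := by
    intro h0
    have := congrArg (PowerSeries.coeff 1) h0
    rw [map_sub, PowerSeries.coeff_C_mul, PowerSeries.coeff_one_X, mul_one, PowerSeries.coeff_C,
      if_neg one_ne_zero, sub_zero, map_zero] at this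
    exact hb0 this
  have hder : (PowerSeries.derivative D₀)
      (PowerSeries.C b * PowerSeries.X - PowerSeries.C a : PowerSeries D₀) = PowerSeries.C b := by
    rw [map_sub, Derivation.leibniz, PowerSeries.derivative_X, PowerSeries.derivative_C,
      PowerSeries.derivative_C]
    simp
  exact exists_mul_eq_of_sq_conductor
    (PowerSeries.map (algebraMap D₀ (integralClosure D₀ (FractionRing D₀))))
    (map_injective hinjD) (fun g => PowerSeries.derivative D₀ g)
    (derivZ (integralClosure D₀ (FractionRing D₀)))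
    (fun g => map_derivative g) (PowerSeries.C c) (exists_map_eq_C_mul c hc) hwne hder hzu

end main

end Groth.Agent.Lib.Helper26.NagStage1
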