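import Mathlib
import Groth.Prelude.Def_Found
import Groth.Agent.Lib.Helper26.NagStage1
import Groth.Agent.Lib.Helper26.NagLN1

/-!
# Nagata's theorem, complete local case: local N-1 data (helper26)

For a complete Noetherian local domain `D₀` with fraction field `K`, `x ∈ K`, and any ring `R` mapping
onto `D₀[x] ⊆ K`, `LN1 R K M.primeCompl` holds for every prime `M ⊇ 𝔪`.
-/

set_option autoImplicit false
universe u

open IsLocalRing TensorProduct

namespace Groth.Agent.Lib.Helper26.NagStage1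

open Groth.Agent.Lib.Helper26.NagDeriv Groth.Agent.Lib.Helper26.NagLN1

section defs

variable (D₀ : Type u) [CommRing D₀] [IsDomain D₀] (y : FractionRing D₀)

/-- Evaluation at `y`. -/
noncomputable abbrev ev : MvPolynomial Unit D₀ →ₐ[D₀] FractionRing D₀ :=
  MvPolynomial.aeval (fun _ : Unit => y)

/-- The kernel of evaluation at `y`. -/
noncomputable abbrev Qy : Ideal (MvPolynomial Unit D₀) := RingHom.ker (ev D₀ y)

instance Qy_isPrime : (Qy D₀ y).IsPrime := RingHom.ker_isPrime (ev D₀ y)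

/-- `D₀[X]/Q ≅ D₀[y]`. -/
abbrev Sq : Type u := MvPolynomial Unit D₀ ⧸ Qy D₀ y

/-- `D₀[[X]]/Q D₀[[X]]`. -/
abbrev C1 : Type u := MvPowerSeries Unit D₀ ⧸
  (Qy D₀ y).map (algebraMap (MvPolynomial Unit D₀) (MvPowerSeries Unit D₀))

/-- The algebra structure `D₀[X]/Q → K`. -/
@[reducible] noncomputable def algSqK : Algebra (Sq D₀ y) (FractionRing D₀) :=
  (Ideal.Quotient.lift (Qy D₀ y) (ev D₀ y).toRingHom
    (fun _ ha => RingHom.mem_ker.1 ha)).toAlgebra

attribute [local instance] algSqK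

theorem algebraMap_Sq_mk (p : MvPolynomial Unit D₀) :
    algebraMap (Sq D₀ y) (FractionRing D₀) (Ideal.Quotient.mk (Qy D₀ y) p) = ev D₀ y p := rfl

theorem algebraMap_Sq_injective :
    Function.Injective (algebraMap (Sq D₀ y) (FractionRing D₀)) := by
  rw [injective_iff_map_eq_zero]
  intro s hs
  obtain ⟨p, rfl⟩ := Ideal.Quotient.mk_surjective s
  rw [algebraMap_Sq_mk] at hs
  exact Ideal.Quotient.eq_zero_iff_mem.2 (RingHom.mem_ker.2 hs)

instance isScalarTower_Sq : IsScalarTower D₀ (Sq D₀ y) (FractionRing D₀) := by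
  refine IsScalarTower.of_algebraMap_eq (R := D₀) (S := Sq D₀ y) (A := FractionRing D₀)
    (fun d => ?_)
  show algebraMap D₀ (FractionRing D₀) d = ev D₀ y (algebraMap D₀ (MvPolynomial Unit D₀) d)
  rw [AlgHom.commutes]

theorem isFractionRing_Sq : IsFractionRing (Sq D₀ y) (FractionRing D₀) := by
  haveI : FaithfulSMul (Sq D₀ y) (FractionRing D₀) :=
    (faithfulSMul_iff_algebraMap_injective _ _).2 (algebraMap_Sq_injective D₀ y)
  refine IsFractionRing.of_field _ _ (fun z => ?_)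
  obtain ⟨a, b, -, hab⟩ := IsFractionRing.div_surjective (A := D₀) z
  refine ⟨Ideal.Quotient.mk _ (MvPolynomial.C a), Ideal.Quotient.mk _ (MvPolynomial.C b), ?_⟩
  rw [algebraMap_Sq_mk, algebraMap_Sq_mk, MvPolynomial.aeval_C, MvPolynomial.aeval_C, hab]

theorem constantCoeff_algebraMap (p : MvPolynomial Unit D₀) :
    MvPowerSeries.constantCoeff
      (algebraMap (MvPolynomial Unit D₀) (MvPowerSeries Unit D₀) p) =
      MvPolynomial.constantCoeff p := by
  rw [MvPowerSeries.algebraMap_apply', Algebra.algebraMap_self, MvPowerSeries.map_id,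
    RingHom.id_apply, ← MvPowerSeries.coeff_zero_eq_constantCoeff_apply, MvPolynomial.coeff_coe]
  rfl

end defs

section core

variable (D₀ : Type u) [CommRing D₀] [IsDomain D₀] [IsNoetherianRing D₀] [IsLocalRing D₀]
  [IsAdicComplete (maximalIdeal D₀) D₀] (y : FractionRing D₀)

attribute [local instance] algSqK

omit [IsNoetherianRing D₀] [IsAdicComplete (maximalIdeal D₀) D₀] in
/-- Membership in a prime of `D₀[y]` containing `𝔪` and `y` is detected by the constant
coefficient. -/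
theorem mk_mem_iff (M : Ideal (Sq D₀ y)) [M.IsPrime]
    (h𝔪 : ∀ d ∈ maximalIdeal D₀, Ideal.Quotient.mk (Qy D₀ y) (MvPolynomial.C d) ∈ M)
    (hX : Ideal.Quotient.mk (Qy D₀ y) (MvPolynomial.X ()) ∈ M) (p : MvPolynomial Unit D₀) :
    Ideal.Quotient.mk (Qy D₀ y) p ∈ M ↔ MvPolynomial.constantCoeff p ∈ maximalIdeal D₀ := by
  let α : MvPolynomial Unit D₀ →ₐ[D₀] (Sq D₀ y ⧸ M) :=
    (Ideal.Quotient.mkₐ D₀ M).comp (Ideal.Quotient.mkₐ D₀ (Qy D₀ y))
  let β : MvPolynomial Unit D₀ →ₐ[D₀] (Sq D₀ y ⧸ M) :=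
    α.comp ((Algebra.ofId D₀ (MvPolynomial Unit D₀)).comp
      (MvPolynomial.aeval (fun _ : Unit => (0 : D₀))))
  have hαβ : α = β := by
    apply MvPolynomial.algHom_ext
    intro i
    show Ideal.Quotient.mk M (Ideal.Quotient.mk (Qy D₀ y) (MvPolynomial.X i)) =
      α (Algebra.ofId D₀ (MvPolynomial Unit D₀)
        (MvPolynomial.aeval (fun _ : Unit => (0 : D₀)) (MvPolynomial.X i)))
    rw [MvPolynomial.aeval_X, map_zero, map_zero]
    exact Ideal.Quotient.eq_zero_iff_mem.2 hX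
  have hker : ∀ d : D₀, Ideal.Quotient.mk M (Ideal.Quotient.mk (Qy D₀ y) (MvPolynomial.C d)) = 0 ↔
      d ∈ maximalIdeal D₀ := by
    intro d
    constructor
    · intro hd
      by_contra hdm
      have hu : IsUnit d := by
        rwa [IsLocalRing.mem_maximalIdeal, mem_nonunits_iff, not_not] at hdm
      have hu' : IsUnit (Ideal.Quotient.mk M (Ideal.Quotient.mk (Qy D₀ y) (MvPolynomial.C d))) :=
        ((hu.map MvPolynomial.C).map (Ideal.Quotient.mk (Qy D₀ y))).map (Ideal.Quotient.mk M)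
      rw [hd] at hu'
      exact not_isUnit_zero (M₀ := Sq D₀ y ⧸ M) hu'
    · intro hd
      exact Ideal.Quotient.eq_zero_iff_mem.2 (h𝔪 d hd)
  have hβ : ∀ p, β p = Ideal.Quotient.mk M (Ideal.Quotient.mk (Qy D₀ y)
      (MvPolynomial.C (MvPolynomial.constantCoeff p))) := by
    intro p
    show α (Algebra.ofId D₀ (MvPolynomial Unit D₀)
      (MvPolynomial.aeval (fun _ : Unit => (0 : D₀)) p)) = _
    rw [MvPolynomial.aeval_zero']
    rfl
  have h1 : Ideal.Quotient.mk (Qy D₀ y) p ∈ M ↔ α p = 0 :=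
    (Ideal.Quotient.eq_zero_iff_mem (I := M)).symm
  rw [h1, hαβ, hβ, hker]

/-- **Stage 1 core**: the local ring of `D₀[y]` at a prime containing `𝔪` and `y` is N-1. -/
theorem isN1_core (M : Ideal (Sq D₀ y)) [M.IsPrime]
    (h𝔪 : ∀ d ∈ maximalIdeal D₀, Ideal.Quotient.mk (Qy D₀ y) (MvPolynomial.C d) ∈ M)
    (hX : Ideal.Quotient.mk (Qy D₀ y) (MvPolynomial.X ()) ∈ M) :
    CAlg.IsN1 (Localization.AtPrime M) := by
  classical
  have hA := mk_mem_iff D₀ y M h𝔪 hX
  have hQle : (Qy D₀ y).map (algebraMap (MvPolynomial Unit D₀) (MvPowerSeries Unit D₀)) ≤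
      maximalIdeal (MvPowerSeries Unit D₀) := by
    rw [Ideal.map_le_iff_le_comap]
    intro p hp
    rw [Ideal.mem_comap, Groth.Agent.Lib.Helper7.PowSerCRing.mem_maximalIdeal_iff,
      constantCoeff_algebraMap]
    have hp0 : Ideal.Quotient.mk (Qy D₀ y) p = 0 := Ideal.Quotient.eq_zero_iff_mem.2 hp
    exact (hA p).1 (by rw [hp0]; exact M.zero_mem)
  haveI : Nontrivial (C1 D₀ y) :=
    Ideal.Quotient.nontrivial_iff.2 (fun h =>
      (maximalIdeal.isMaximal (MvPowerSeries Unit D₀)).ne_top (top_le_iff.1 (h ▸ hQle)))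
  haveI : IsLocalRing (C1 D₀ y) :=
    IsLocalRing.of_surjective' (Ideal.Quotient.mk _) Ideal.Quotient.mk_surjective
  haveI : IsAdicComplete (maximalIdeal (MvPowerSeries Unit D₀)) (MvPowerSeries Unit D₀) :=
    Groth.Agent.Lib.Helper7.PowSerCRing.isAdicComplete
  haveI : IsAdicComplete (maximalIdeal (C1 D₀ y)) (C1 D₀ y) := by
    have h := Groth.Agent.Lib.Helper15.CS.isAdicComplete_quotient
      (maximalIdeal (MvPowerSeries Unit D₀))
      ((Qy D₀ y).map (algebraMap (MvPolynomial Unit D₀) (MvPowerSeries Unit D₀)))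
    have e : (maximalIdeal (MvPowerSeries Unit D₀)).map
        (algebraMap (MvPowerSeries Unit D₀) (C1 D₀ y)) = maximalIdeal (C1 D₀ y) :=
      IsLocalRing.map_maximalIdeal_of_surjective (Ideal.Quotient.mk _)
        Ideal.Quotient.mk_surjective
    rwa [e] at h
  obtain ⟨-, hN2⟩ := Groth.Agent.Lib.Helper27.NagCompl.isNagata_of_complete (C1 D₀ y)
  haveI : IsReduced (C1 D₀ y) := isReduced_C1 D₀ y
  haveI := flat_mvPowerSeries Unit D₀
  haveI : Module.Flat (Sq D₀ y) (C1 D₀ y) :=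
    Module.Flat.of_linearEquiv
      (Algebra.TensorProduct.quotIdealMapEquivQuotTensor (MvPowerSeries Unit D₀)
        (Qy D₀ y)).toLinearEquiv
  have hunit : ∀ s : M.primeCompl, IsUnit (algebraMap (Sq D₀ y) (C1 D₀ y) s) := by
    rintro ⟨s, hs⟩
    obtain ⟨p, rfl⟩ := Ideal.Quotient.mk_surjective s
    have hp : MvPolynomial.constantCoeff p ∉ maximalIdeal D₀ := fun h => hs ((hA p).2 h)
    show IsUnit (Ideal.Quotient.mk _
      (algebraMap (MvPolynomial Unit D₀) (MvPowerSeries Unit D₀) p))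
    apply IsUnit.map
    rw [MvPowerSeries.isUnit_iff_constantCoeff, constantCoeff_algebraMap]
    rwa [IsLocalRing.mem_maximalIdeal, mem_nonunits_iff, not_not] at hp
  letI algE : Algebra (Localization.AtPrime M) (C1 D₀ y) :=
    (IsLocalization.lift (M := M.primeCompl) (g := algebraMap (Sq D₀ y) (C1 D₀ y))
      hunit).toAlgebra
  haveI : IsScalarTower (Sq D₀ y) (Localization.AtPrime M) (C1 D₀ y) :=
    IsScalarTower.of_algebraMap_eq (fun x => (IsLocalization.lift_eq hunit x).symm)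
  haveI : Module.Flat (Localization.AtPrime M) (C1 D₀ y) :=
    (Module.flat_iff_of_isLocalization (Localization.AtPrime M) M.primeCompl (C1 D₀ y)).2
      inferInstance
  haveI : IsLocalHom (algebraMap (Localization.AtPrime M) (C1 D₀ y)) := by
    refine ((IsLocalRing.local_hom_TFAE
      (algebraMap (Localization.AtPrime M) (C1 D₀ y))).out 0 2).2 ?_
    have hmax : maximalIdeal (Localization.AtPrime M) =
        M.map (algebraMap (Sq D₀ y) (Localization.AtPrime M)) :=
      Localization.AtPrime.map_eq_maximalIdeal.symm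
    rw [hmax, Ideal.map_map, ← IsScalarTower.algebraMap_eq, Ideal.map_le_iff_le_comap]
    intro s hs
    obtain ⟨p, rfl⟩ := Ideal.Quotient.mk_surjective s
    have hp : MvPolynomial.constantCoeff p ∈ maximalIdeal D₀ := (hA p).1 hs
    rw [Ideal.mem_comap]
    show Ideal.Quotient.mk _
      (algebraMap (MvPolynomial Unit D₀) (MvPowerSeries Unit D₀) p) ∈ maximalIdeal (C1 D₀ y)
    rw [← IsLocalRing.map_maximalIdeal_of_surjective (Ideal.Quotient.mk
      ((Qy D₀ y).map (algebraMap (MvPolynomial Unit D₀) (MvPowerSeries Unit D₀))))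
      Ideal.Quotient.mk_surjective]
    apply Ideal.mem_map_of_mem
    rw [Groth.Agent.Lib.Helper7.PowSerCRing.mem_maximalIdeal_iff, constantCoeff_algebraMap]
    exact hp
  haveI : Module.FaithfullyFlat (Localization.AtPrime M) (C1 D₀ y) :=
    Module.FaithfullyFlat.of_flat_of_isLocalHom
  exact Groth.Agent.Lib.Helper26.NagFF.isN1_of_faithfullyFlat (Localization.AtPrime M) (C1 D₀ y)
    (fun q _ _ => hN2 q (FractionRing (C1 D₀ y ⧸ q)) inferInstance)

end core

section wrapper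

variable (D₀ : Type u) [CommRing D₀] [IsDomain D₀] [IsNoetherianRing D₀] [IsLocalRing D₀]
  [IsAdicComplete (maximalIdeal D₀) D₀] (x : FractionRing D₀)

attribute [local instance] algSqK

set_option quotPrecheck false in
local notation "𝒮" => (Algebra.adjoin D₀ ({x} : Set (FractionRing D₀)))

/-- **Stage 1** for the subalgebra `D₀[x] ⊆ K`. -/
theorem ln1_adjoin (M : Ideal 𝒮) [M.IsPrime]
    (h𝔪 : ∀ d ∈ maximalIdeal D₀, algebraMap D₀ 𝒮 d ∈ M) :
    LN1 𝒮 (FractionRing D₀) M.primeCompl := by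
  classical
  obtain ⟨M₁, hM₁, hMM₁⟩ := Ideal.exists_le_maximal M (Ideal.IsPrime.ne_top inferInstance)
  haveI := hM₁
  refine LN1.mono ?_ (show M₁.primeCompl ≤ M.primeCompl from fun s hs hsM => hs (hMM₁ hsM))
  have h𝔪₁ : ∀ d ∈ maximalIdeal D₀, algebraMap D₀ 𝒮 d ∈ M₁ := fun d hd => hMM₁ (h𝔪 d hd)
  -- Zariski's lemma: the residue field extension is finite
  letI : Field (𝒮 ⧸ M₁) := Ideal.Quotient.field M₁
  letI : Field (D₀ ⧸ maximalIdeal D₀) := Ideal.Quotient.field _
  have hle : maximalIdeal D₀ ≤ M₁.comap (algebraMap D₀ 𝒮) := fun d hd => h𝔪₁ d hd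
  letI : Algebra (D₀ ⧸ maximalIdeal D₀) (𝒮 ⧸ M₁) := Ideal.Quotient.algebraQuotientOfLEComap hle
  haveI : IsScalarTower D₀ (D₀ ⧸ maximalIdeal D₀) (𝒮 ⧸ M₁) :=
    IsScalarTower.of_algebraMap_eq (fun d => rfl)
  haveI : Algebra.FiniteType D₀ 𝒮 := (Subalgebra.fg_iff_finiteType _).1 (by
    have := Subalgebra.fg_adjoin_finset (R := D₀) ({x} : Finset (FractionRing D₀))
    rwa [Finset.coe_singleton] at this)
  haveI : Algebra.FiniteType D₀ (𝒮 ⧸ M₁) :=
    Algebra.FiniteType.of_surjective (Ideal.Quotient.mkₐ D₀ M₁)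
      (Ideal.Quotient.mkₐ_surjective D₀ M₁)
  haveI : Algebra.FiniteType (D₀ ⧸ maximalIdeal D₀) (𝒮 ⧸ M₁) :=
    Algebra.FiniteType.of_restrictScalars_finiteType D₀ _ _
  haveI : Module.Finite (D₀ ⧸ maximalIdeal D₀) (𝒮 ⧸ M₁) :=
    finite_of_finite_type_of_isJacobsonRing _ _
  let xS : 𝒮 := ⟨x, Algebra.subset_adjoin (Set.mem_singleton x)⟩
  obtain ⟨hbar, hmonic, hroot⟩ :=
    Algebra.IsIntegral.isIntegral (R := D₀ ⧸ maximalIdeal D₀) (Ideal.Quotient.mk M₁ xS)
  have hl : hbar ∈ Polynomial.lifts (Ideal.Quotient.mk (maximalIdeal D₀)) :=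
    (Polynomial.lifts_iff_coeff_lifts _).2 (fun n => Ideal.Quotient.mk_surjective _)
  obtain ⟨h, hh, -, hhm⟩ := Polynomial.lifts_and_natDegree_eq_and_monic hl hmonic
  have hh'm : (Polynomial.X * h).Monic := Polynomial.monic_X.mul hhm
  have hh'deg : 0 < (Polynomial.X * h).natDegree := by
    rw [Polynomial.natDegree_X_mul hhm.ne_zero]
    exact Nat.succ_pos _
  let yS : 𝒮 := Polynomial.aeval xS (Polynomial.X * h)
  have hyS_mem : yS ∈ M₁ := by
    rw [← Ideal.Quotient.eq_zero_iff_mem]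
    show Ideal.Quotient.mk M₁ (Polynomial.aeval xS (Polynomial.X * h)) = 0
    rw [Polynomial.aeval_def, Polynomial.hom_eval₂, Polynomial.eval₂_mul, Polynomial.eval₂_X]
    have e : Polynomial.eval₂ ((Ideal.Quotient.mk M₁).comp (algebraMap D₀ 𝒮))
        (Ideal.Quotient.mk M₁ xS) h =
        Polynomial.eval₂ (algebraMap (D₀ ⧸ maximalIdeal D₀) (𝒮 ⧸ M₁))
          (Ideal.Quotient.mk M₁ xS) hbar := by
      rw [← hh, Polynomial.eval₂_map]
      rfl
    rw [e, hroot, mul_zero]
  have hy : (yS : FractionRing D₀) = Polynomial.aeval x (Polynomial.X * h) :=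
    (Polynomial.aeval_algHom_apply (Subalgebra.val 𝒮) xS (Polynomial.X * h)).symm
  let gP : MvPolynomial Unit D₀ →ₐ[D₀] 𝒮 := MvPolynomial.aeval (fun _ : Unit => yS)
  have hgP : ∀ p, ((gP p : 𝒮) : FractionRing D₀) = ev D₀ (yS : FractionRing D₀) p := fun p =>
    MvPolynomial.comp_aeval_apply (fun _ : Unit => yS) (Subalgebra.val 𝒮) p
  let g : Sq D₀ (yS : FractionRing D₀) →+* 𝒮 :=
    Ideal.Quotient.lift (Qy D₀ (yS : FractionRing D₀)) gP.toRingHom (fun p hp => by
      apply Subtype.ext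
      show ((gP p : 𝒮) : FractionRing D₀) = ((0 : 𝒮) : FractionRing D₀)
      rw [hgP p]
      exact RingHom.mem_ker.1 hp)
  have hg : ∀ r : Sq D₀ (yS : FractionRing D₀), ((g r : 𝒮) : FractionRing D₀) =
      algebraMap (Sq D₀ (yS : FractionRing D₀)) (FractionRing D₀) r := by
    intro r
    obtain ⟨p, rfl⟩ := Ideal.Quotient.mk_surjective r
    exact hgP p
  haveI hMbar : (M₁.comap g).IsPrime := Ideal.comap_isPrime g M₁
  have h1 : ∀ d ∈ maximalIdeal D₀,
      Ideal.Quotient.mk (Qy D₀ (yS : FractionRing D₀)) (MvPolynomial.C d) ∈ M₁.comap g := by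
    intro d hd
    show g (Ideal.Quotient.mk _ (MvPolynomial.C d)) ∈ M₁
    have : g (Ideal.Quotient.mk _ (MvPolynomial.C d)) = algebraMap D₀ 𝒮 d := by
      show gP (MvPolynomial.C d) = _
      rw [MvPolynomial.aeval_C]
    rw [this]
    exact h𝔪₁ d hd
  have h2 : Ideal.Quotient.mk (Qy D₀ (yS : FractionRing D₀)) (MvPolynomial.X ()) ∈
      M₁.comap g := by
    show g (Ideal.Quotient.mk _ (MvPolynomial.X ())) ∈ M₁
    have : g (Ideal.Quotient.mk _ (MvPolynomial.X ())) = yS := by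
      show gP (MvPolynomial.X ()) = _
      rw [MvPolynomial.aeval_X]
    rw [this]
    exact hyS_mem
  have hcore : LN1 (Sq D₀ (yS : FractionRing D₀)) (FractionRing D₀) (M₁.comap g).primeCompl := by
    haveI := isFractionRing_Sq D₀ (yS : FractionRing D₀)
    exact LN1.of_isN1_atPrime (Sq D₀ (yS : FractionRing D₀)) (FractionRing D₀) (M₁.comap g)
      (isN1_core D₀ (yS : FractionRing D₀) (M₁.comap g) h1 h2)
  refine LN1.of_integral (R := Sq D₀ (yS : FractionRing D₀)) (R' := 𝒮)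
    (T := (M₁.comap g).primeCompl) ?_ ?_ ?_ hcore
  · intro r
    exact ⟨g r, hg r⟩
  · intro s
    have hx_int : IsIntegral (Sq D₀ (yS : FractionRing D₀)) x := by
      refine ⟨((Polynomial.X * h).map (algebraMap D₀ (Sq D₀ (yS : FractionRing D₀)))) -
        Polynomial.C (Ideal.Quotient.mk _ (MvPolynomial.X ())), ?_, ?_⟩
      · apply Polynomial.Monic.sub_of_left (hh'm.map _)
        refine lt_of_le_of_lt Polynomial.degree_C_le
          (Polynomial.natDegree_pos_iff_degree_pos.1 ?_)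
        rw [hh'm.natDegree_map]
        exact hh'deg
      · rw [Polynomial.eval₂_sub, Polynomial.eval₂_map, Polynomial.eval₂_C,
          ← IsScalarTower.algebraMap_eq, algebraMap_Sq_mk, MvPolynomial.aeval_X,
          ← Polynomial.aeval_def, ← hy]
        exact sub_self _
    have hle' : 𝒮 ≤ (integralClosure (Sq D₀ (yS : FractionRing D₀))
        (FractionRing D₀)).restrictScalars D₀ := by
      apply Algebra.adjoin_le
      intro z hz
      rw [Set.mem_singleton_iff] at hz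
      rw [hz]
      exact hx_int
    exact hle' s.2
  · intro t ht
    exact ⟨g t, fun hgt => ht hgt, hg t⟩

/-- **Stage 1**, flexible form: any ring `R` mapping onto `D₀[x] ⊆ K`. -/
theorem ln1_wrapper (R : Type*) [CommRing R] [Algebra R (FractionRing D₀)]
    (hR₁ : ∀ r : R, algebraMap R (FractionRing D₀) r ∈ 𝒮)
    (hR₂ : ∀ s ∈ 𝒮, ∃ r : R, algebraMap R (FractionRing D₀) r = s)
    (M : Ideal R) [M.IsPrime] (hker : RingHom.ker (algebraMap R (FractionRing D₀)) ≤ M)
    (h𝔪 : ∀ r : R, (∃ d ∈ maximalIdeal D₀,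
      algebraMap R (FractionRing D₀) r = algebraMap D₀ (FractionRing D₀) d) → r ∈ M) :
    LN1 R (FractionRing D₀) M.primeCompl := by
  classical
  let f : R →+* 𝒮 := (algebraMap R (FractionRing D₀)).codRestrict 𝒮 hR₁
  have hf : ∀ r, ((f r : 𝒮) : FractionRing D₀) = algebraMap R _ r := fun r => rfl
  have hfs : Function.Surjective f := by
    intro s
    obtain ⟨r, hr⟩ := hR₂ s.1 s.2
    exact ⟨r, Subtype.ext hr⟩
  have hkerf : RingHom.ker f ≤ M := by
    intro r hr
    apply hker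
    rw [RingHom.mem_ker] at hr ⊢
    rw [← hf r, hr]
    rfl
  haveI : (M.map f).IsPrime := Ideal.map_isPrime_of_surjective hfs hkerf
  have hmem : ∀ r, f r ∈ M.map f → r ∈ M := by
    intro r hr
    obtain ⟨r', hr', hrr'⟩ := (Ideal.mem_map_iff_of_surjective f hfs).1 hr
    have h1 : r - r' ∈ M := hkerf (by rw [RingHom.mem_ker, map_sub, hrr', sub_self])
    have h2 := M.add_mem h1 hr'
    rwa [sub_add_cancel] at h2
  have hS := ln1_adjoin D₀ x (M.map f) (by
    intro d hd
    obtain ⟨r, hr⟩ := hfs (algebraMap D₀ 𝒮 d)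
    rw [← hr]
    apply Ideal.mem_map_of_mem
    apply h𝔪
    refine ⟨d, hd, ?_⟩
    rw [← hf r, hr]
    rfl)
  refine LN1.of_integral (R := 𝒮) (R' := R) (T := (M.map f).primeCompl) ?_ ?_ ?_ hS
  · intro s
    obtain ⟨r, hr⟩ := hfs s
    exact ⟨r, by rw [← hf r, hr]; rfl⟩
  · intro r
    rw [← hf r]
    exact (isIntegral_algebraMap : IsIntegral 𝒮 (algebraMap 𝒮 (FractionRing D₀) (f r)))
  · intro t ht
    obtain ⟨r, hr⟩ := hfs t
    refine ⟨r, fun hrM => ht ?_, ?_⟩
    · rw [← hr]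
      exact Ideal.mem_map_of_mem f hrM
    · rw [← hf r, hr]
      rfl

end wrapper

end Groth.Agent.Lib.Helper26.NagStage1
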