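import Mathlib
import Groth.Prelude.Def_Found
import Groth.Agent.S2072
import Groth.Agent.Lib.Helper26.NagStage1b
import Groth.Agent.Lib.Helper14.ComplEtale

/-!
# Nagata's theorem: passing to the completion of the base (helper26), part a
-/

set_option autoImplicit false
universe u

open IsLocalRing TensorProduct

namespace Groth.Agent.Lib.Helper26.NagStage2

open Groth.Agent.Lib.Helper26.NagLN1

/-- A nonzero element of a domain stays outside any minimal prime of a flat algebra. -/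
theorem algebraMap_notMem_of_mem_minimalPrimes {B C : Type*} [CommRing B] [IsDomain B]
    [CommRing C] [Algebra B C] [Module.Flat B C] (Q : Ideal C) (hQ : Q ∈ minimalPrimes C) {b : B}
    (hb : b ≠ 0) : algebraMap B C b ∉ Q := by
  intro hmem
  have hreg : IsSMulRegular C b :=
    Module.Flat.isSMulRegular_of_nonZeroDivisors (mem_nonZeroDivisors_of_ne_zero hb)
  have hnzd : algebraMap B C b ∈ nonZeroDivisors C := by
    rw [mem_nonZeroDivisors_iff_right]
    intro x hx
    exact hreg (by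
      show b • x = b • (0 : C)
      rw [smul_zero, Algebra.smul_def, mul_comm]; exact hx)
  exact Set.disjoint_left.mp (Ideal.disjoint_nonZeroDivisors_of_mem_minimalPrimes hQ) hmem hnzd

section abstract

variable (B : Type u) [CommRing B] [IsDomain B] [IsLocalRing B] [IsNoetherianRing B]
  (E : Type u) [CommRing E] [Algebra B E] (xE : E)

local notation "B̂" => AdicCompletion (maximalIdeal B) B
local notation "𝒞" => E ⊗[B] AdicCompletion (maximalIdeal B) B

/-- The evaluation map `B̂[X] → E ⊗ B̂`. -/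
noncomputable def psi : Polynomial B̂ →+* 𝒞 :=
  Polynomial.eval₂RingHom
    ((Algebra.TensorProduct.includeRight : B̂ →ₐ[B] 𝒞) : B̂ →+* 𝒞) (xE ⊗ₜ[B] (1 : B̂))

theorem psi_C (b : B̂) : psi B E xE (Polynomial.C b) = (1 : E) ⊗ₜ[B] b := by
  show Polynomial.eval₂ _ _ (Polynomial.C b) = _
  rw [Polynomial.eval₂_C]
  rfl

theorem psi_map (p : Polynomial B) :
    psi B E xE (p.map (algebraMap B B̂)) = (Polynomial.aeval xE p) ⊗ₜ[B] (1 : B̂) := by
  show Polynomial.eval₂ _ _ (p.map (algebraMap B B̂)) = _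
  rw [Polynomial.eval₂_map]
  have h : (((Algebra.TensorProduct.includeRight : B̂ →ₐ[B] 𝒞) : B̂ →+* 𝒞).comp
      (algebraMap B B̂)) =
      ((Algebra.TensorProduct.includeLeft : E →ₐ[B] 𝒞) : E →+* 𝒞).comp (algebraMap B E) := by
    ext b
    show (Algebra.TensorProduct.includeRight : B̂ →ₐ[B] 𝒞) (algebraMap B B̂ b) =
      (Algebra.TensorProduct.includeLeft : E →ₐ[B] 𝒞) (algebraMap B E b)
    rw [AlgHom.commutes, AlgHom.commutes]
  rw [h]
  have h2 : xE ⊗ₜ[B] (1 : B̂) =
      ((Algebra.TensorProduct.includeLeft : E →ₐ[B] 𝒞) : E →+* 𝒞) xE := rfl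
  rw [h2, ← Polynomial.hom_eval₂, ← Polynomial.aeval_def]
  rfl

/-- Every element of `E ⊗ B̂` is a "fraction" of images of polynomials. -/
theorem exists_psi_mul
    (hE : ∀ e : E, ∃ p g : Polynomial B, IsUnit (Polynomial.aeval xE g) ∧
      e * Polynomial.aeval xE g = Polynomial.aeval xE p) (c : 𝒞) :
    ∃ r t : Polynomial B̂, IsUnit (psi B E xE t) ∧ c * psi B E xE t = psi B E xE r := by
  induction c using TensorProduct.induction_on with
  | zero => exact ⟨0, 1, by rw [map_one]; exact isUnit_one, by rw [map_zero, zero_mul]⟩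
  | tmul e b =>
    obtain ⟨p, g, hg, hpg⟩ := hE e
    refine ⟨p.map (algebraMap B B̂) * Polynomial.C b, g.map (algebraMap B B̂), ?_, ?_⟩
    · rw [psi_map]
      exact hg.map (Algebra.TensorProduct.includeLeft : E →ₐ[B] 𝒞)
    · rw [psi_map, map_mul, psi_map, psi_C, Algebra.TensorProduct.tmul_mul_tmul,
        Algebra.TensorProduct.tmul_mul_tmul, hpg]
      simp only [mul_one, one_mul]
  | add c₁ c₂ h₁ h₂ =>
    obtain ⟨r₁, t₁, hu₁, e₁⟩ := h₁
    obtain ⟨r₂, t₂, hu₂, e₂⟩ := h₂
    refine ⟨r₁ * t₂ + r₂ * t₁, t₁ * t₂, ?_, ?_⟩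
    · rw [map_mul]
      exact hu₁.mul hu₂
    · rw [map_mul, map_add, map_mul, map_mul, ← e₁, ← e₂]
      ring

/-- Clearing denominators in `E ⊗ B̂` when `E` sits inside the fraction field of `B`. -/
theorem exists_smul_eq_one_tmul (L : Type u) [Field L] [Algebra B L] [IsFractionRing B L]
    [Algebra E L] [IsScalarTower B E L] (hEL : Function.Injective (algebraMap E L)) (c : 𝒞) :
    ∃ d : B, d ≠ 0 ∧ ∃ b : B̂, d • c = (1 : E) ⊗ₜ[B] b := by
  induction c using TensorProduct.induction_on with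
  | zero => exact ⟨1, one_ne_zero, 0, by rw [smul_zero, TensorProduct.tmul_zero]⟩
  | tmul e b =>
    obtain ⟨⟨a₁, d⟩, had⟩ := IsLocalization.surj (nonZeroDivisors B) (algebraMap E L e)
    have hde : (d : B) • e = algebraMap B E a₁ := by
      apply hEL
      rw [Algebra.smul_def, map_mul, ← IsScalarTower.algebraMap_apply B E L,
        ← IsScalarTower.algebraMap_apply B E L, mul_comm]
      exact had
    refine ⟨d, nonZeroDivisors.coe_ne_zero d, a₁ • b, ?_⟩
    rw [TensorProduct.smul_tmul', hde, Algebra.algebraMap_eq_smul_one, TensorProduct.smul_tmul]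
  | add c₁ c₂ h₁ h₂ =>
    obtain ⟨d₁, hd₁, b₁, e₁⟩ := h₁
    obtain ⟨d₂, hd₂, b₂, e₂⟩ := h₂
    refine ⟨d₁ * d₂, mul_ne_zero hd₁ hd₂, d₂ • b₁ + d₁ • b₂, ?_⟩
    rw [smul_add, mul_comm d₁ d₂, mul_smul, e₁, mul_comm d₂ d₁, mul_smul, e₂,
      TensorProduct.tmul_add, TensorProduct.tmul_smul, TensorProduct.tmul_smul]

/-- `E ⊗ B̂` is torsion free over `B` when `E` is a domain containing `B`. -/
theorem eq_zero_of_smul_eq_zero [IsDomain E] (hBE : Function.Injective (algebraMap B E))
    {d : B} (hd : d ≠ 0) {c : 𝒞} (h : d • c = 0) : c = 0 := by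
  have hne : algebraMap B E d ≠ 0 := (map_ne_zero_iff _ hBE).2 hd
  have hreg : IsSMulRegular 𝒞 (algebraMap B E d) :=
    Module.Flat.isSMulRegular_of_nonZeroDivisors (R := E) (M := 𝒞)
      (mem_nonZeroDivisors_of_ne_zero hne)
  apply hreg
  show algebraMap B E d • c = algebraMap B E d • (0 : 𝒞)
  rw [smul_zero, algebraMap_smul]
  exact h

/-- The fields attached to minimal primes of `B̂`. -/
theorem exists_field_of_minimalPrime [IsDomain E] [IsLocalRing E] [IsLocalHom (algebraMap B E)]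
    (L : Type u) [Field L] [Algebra B L] [IsFractionRing B L] [Algebra E L] [IsScalarTower B E L]
    (hEL : Function.Injective (algebraMap E L))
    (hCD : ∀ c : 𝒞, ∃ r t : Polynomial B̂, IsUnit (psi B E xE t) ∧
      c * psi B E xE t = psi B E xE r)
    (MC : Ideal 𝒞) [MC.IsPrime] (hMC : ∀ e ∈ maximalIdeal E, e ⊗ₜ[B] (1 : B̂) ∈ MC)
    (Q : Ideal B̂) [Q.IsPrime] (hQ : Q ∈ minimalPrimes B̂) :
    ∃ (F : Type u) (_ : Field F) (ρ : 𝒞 →+* F),
      (∀ b : B̂, ρ ((1 : E) ⊗ₜ[B] b) = 0 → b ∈ Q) ∧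
      (∀ e : E, e ≠ 0 → ρ (e ⊗ₜ[B] (1 : B̂)) ≠ 0) ∧
      (RingHom.ker ρ ≤ MC → ∀ [Algebra (Localization.AtPrime MC) F],
        (∀ c, algebraMap (Localization.AtPrime MC) F
          (algebraMap 𝒞 (Localization.AtPrime MC) c) = ρ c) →
        Module.Finite (Localization.AtPrime MC) (integralClosure (Localization.AtPrime MC) F)) := by
  classical
  haveI : IsNoetherianRing B̂ := Groth.Agent.Lib.Helper14.ComplEtale.isNoetherianRing_completion B
  haveI : IsAdicComplete (maximalIdeal B̂) B̂ :=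
    AdicCompletion.isAdicComplete_of_fg (maximalIdeal B).fg_of_isNoetherianRing
  haveI : IsLocalRing (B̂ ⧸ Q) :=
    IsLocalRing.of_surjective' (Ideal.Quotient.mk Q) Ideal.Quotient.mk_surjective
  haveI : IsAdicComplete (maximalIdeal (B̂ ⧸ Q)) (B̂ ⧸ Q) := by
    have h := Groth.Agent.Lib.Helper15.CS.isAdicComplete_quotient (maximalIdeal B̂) Q
    have e : (maximalIdeal B̂).map (algebraMap B̂ (B̂ ⧸ Q)) = maximalIdeal (B̂ ⧸ Q) :=
      IsLocalRing.map_maximalIdeal_of_surjective (Ideal.Quotient.mk _)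
        Ideal.Quotient.mk_surjective
    rwa [e] at h
  have hBF : Function.Injective (algebraMap B (FractionRing (B̂ ⧸ Q))) := by
    rw [injective_iff_map_eq_zero]
    intro b hb
    by_contra hb0
    apply algebraMap_notMem_of_mem_minimalPrimes Q hQ hb0
    rw [IsScalarTower.algebraMap_apply B B̂ (FractionRing (B̂ ⧸ Q)),
      IsScalarTower.algebraMap_apply B̂ (B̂ ⧸ Q) (FractionRing (B̂ ⧸ Q)),
      map_eq_zero_iff _ (IsFractionRing.injective (B̂ ⧸ Q) (FractionRing (B̂ ⧸ Q))),
      Ideal.Quotient.algebraMap_eq] at hb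
    exact Ideal.Quotient.eq_zero_iff_mem.1 hb
  let lam : L →+* FractionRing (B̂ ⧸ Q) := IsFractionRing.lift hBF
  have hlam : ∀ b : B, lam (algebraMap B L b) = algebraMap B (FractionRing (B̂ ⧸ Q)) b :=
    fun b => IsFractionRing.lift_algebraMap hBF b
  letI algEF : Algebra E (FractionRing (B̂ ⧸ Q)) := (lam.comp (algebraMap E L)).toAlgebra
  haveI : IsScalarTower B E (FractionRing (B̂ ⧸ Q)) := IsScalarTower.of_algebraMap_eq (fun b => by
    show algebraMap B (FractionRing (B̂ ⧸ Q)) b = lam (algebraMap E L (algebraMap B E b))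
    rw [← IsScalarTower.algebraMap_apply B E L, hlam])
  let ρA : 𝒞 →ₐ[B] FractionRing (B̂ ⧸ Q) :=
    Algebra.TensorProduct.lift (IsScalarTower.toAlgHom B E (FractionRing (B̂ ⧸ Q)))
      (IsScalarTower.toAlgHom B B̂ (FractionRing (B̂ ⧸ Q))) (fun _ _ => Commute.all _ _)
  have hρ : ∀ (e : E) (b : B̂), ρA (e ⊗ₜ[B] b) =
      algebraMap E (FractionRing (B̂ ⧸ Q)) e * algebraMap B̂ (FractionRing (B̂ ⧸ Q)) b :=
    fun e b => Algebra.TensorProduct.lift_tmul _ _ _ e b
  refine ⟨FractionRing (B̂ ⧸ Q), inferInstance, (ρA : 𝒞 →+* FractionRing (B̂ ⧸ Q)), ?_, ?_, ?_⟩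
  · intro b hb
    have hb' : ρA ((1 : E) ⊗ₜ[B] b) = 0 := hb
    rw [hρ, map_one, one_mul,
      IsScalarTower.algebraMap_apply B̂ (B̂ ⧸ Q) (FractionRing (B̂ ⧸ Q)),
      map_eq_zero_iff _ (IsFractionRing.injective (B̂ ⧸ Q) (FractionRing (B̂ ⧸ Q))),
      Ideal.Quotient.algebraMap_eq] at hb'
    exact Ideal.Quotient.eq_zero_iff_mem.1 hb'
  · intro e he h0
    have h0' : ρA (e ⊗ₜ[B] (1 : B̂)) = 0 := h0
    rw [hρ, map_one, mul_one] at h0'
    have h1 : lam (algebraMap E L e) = 0 := h0'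
    rw [map_eq_zero_iff _ lam.injective, map_eq_zero_iff _ hEL] at h1
    exact he h1
  · intro hker algC' hcompat
    letI algR₁C' : Algebra (Polynomial B̂) (Localization.AtPrime MC) :=
      ((algebraMap 𝒞 (Localization.AtPrime MC)).comp (psi B E xE)).toAlgebra
    letI algR₁F : Algebra (Polynomial B̂) (FractionRing (B̂ ⧸ Q)) :=
      ((ρA : 𝒞 →+* FractionRing (B̂ ⧸ Q)).comp (psi B E xE)).toAlgebra
    haveI : IsScalarTower (Polynomial B̂) (Localization.AtPrime MC) (FractionRing (B̂ ⧸ Q)) :=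
      IsScalarTower.of_algebraMap_eq (fun r => (hcompat (psi B E xE r)).symm)
    have hev : ∀ r : Polynomial B̂, algebraMap (Polynomial B̂) (FractionRing (B̂ ⧸ Q)) r =
        Polynomial.aeval (ρA (xE ⊗ₜ[B] (1 : B̂))) (r.map (Ideal.Quotient.mk Q)) := by
      intro r
      show (ρA : 𝒞 →+* FractionRing (B̂ ⧸ Q)) (Polynomial.eval₂ _ _ r) = _
      rw [Polynomial.hom_eval₂, Polynomial.aeval_def, Polynomial.eval₂_map]
      congr 1
      ext b
      show ρA ((1 : E) ⊗ₜ[B] b) = algebraMap (B̂ ⧸ Q) _ (Ideal.Quotient.mk Q b)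
      rw [hρ, map_one, one_mul,
        IsScalarTower.algebraMap_apply B̂ (B̂ ⧸ Q) (FractionRing (B̂ ⧸ Q))]
      rfl
    let MR : Ideal (Polynomial B̂) := (maximalIdeal (Localization.AtPrime MC)).comap
      (algebraMap (Polynomial B̂) (Localization.AtPrime MC))
    haveI : MR.IsPrime := Ideal.comap_isPrime _ _
    have hMR : ∀ r, r ∈ MR ↔ psi B E xE r ∈ MC := fun r =>
      IsLocalization.AtPrime.to_map_mem_maximal_iff (Localization.AtPrime MC) MC (psi B E xE r)
    have hmB : ∀ b ∈ maximalIdeal B̂, (1 : E) ⊗ₜ[B] b ∈ MC := by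
      intro b hb
      rw [AdicCompletion.maximalIdeal_eq_map] at hb
      have hle : (maximalIdeal B).map (algebraMap B B̂) ≤
          MC.comap ((Algebra.TensorProduct.includeRight : B̂ →ₐ[B] 𝒞) : B̂ →+* 𝒞) := by
        rw [Ideal.map_le_iff_le_comap]
        intro b₀ hb₀
        show (Algebra.TensorProduct.includeRight : B̂ →ₐ[B] 𝒞) (algebraMap B B̂ b₀) ∈ MC
        rw [AlgHom.commutes, ← (Algebra.TensorProduct.includeLeft : E →ₐ[B] 𝒞).commutes b₀]
        have hloc : IsLocalHom (algebraMap B E) := inferInstance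
        have hle3 : maximalIdeal B ≤ (maximalIdeal E).comap (algebraMap B E) :=
          ((IsLocalRing.local_hom_TFAE (algebraMap B E)).out 0 3).1 hloc
        exact hMC _ (hle3 hb₀)
      exact hle hb
    have hLN : LN1 (Polynomial B̂) (FractionRing (B̂ ⧸ Q)) MR.primeCompl := by
      refine Groth.Agent.Lib.Helper26.NagStage1.ln1_wrapper (B̂ ⧸ Q) (ρA (xE ⊗ₜ[B] (1 : B̂)))
        (Polynomial B̂) ?_ ?_ MR ?_ ?_
      · intro r
        rw [hev]
        exact Polynomial.aeval_mem_adjoin_singleton _ _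
      · intro s hs
        rw [Algebra.adjoin_singleton_eq_range_aeval] at hs
        obtain ⟨pbar, rfl⟩ := hs
        obtain ⟨p, rfl⟩ := Polynomial.map_surjective (Ideal.Quotient.mk Q)
          Ideal.Quotient.mk_surjective pbar
        exact ⟨p, hev p⟩
      · intro r hr
        rw [hMR]
        exact hker (RingHom.mem_ker.2 (RingHom.mem_ker.1 hr))
      · rintro r ⟨d, hd, hrd⟩
        obtain ⟨b, rfl⟩ := Ideal.Quotient.mk_surjective d
        have hb : b ∈ maximalIdeal B̂ := by
          by_contra hb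
          have hu : IsUnit b := by
            rwa [IsLocalRing.mem_maximalIdeal, mem_nonunits_iff, not_not] at hb
          exact ((IsLocalRing.mem_maximalIdeal _).1 hd) (hu.map (Ideal.Quotient.mk Q))
        have h1 : r - Polynomial.C b ∈ MR := by
          rw [hMR]
          apply hker
          have h0 : algebraMap (Polynomial B̂) (FractionRing (B̂ ⧸ Q)) (r - Polynomial.C b) = 0 := by
            rw [map_sub, hrd, hev (Polynomial.C b), Polynomial.map_C, Polynomial.aeval_C, sub_self]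
          exact RingHom.mem_ker.2 h0
        have h2 : Polynomial.C b ∈ MR := by
          rw [hMR, psi_C]
          exact hmB b hb
        have h3 := MR.add_mem h1 h2
        rwa [sub_add_cancel] at h3
    refine finite_integralClosure_of_LN1 (R := Polynomial B̂) (C := Localization.AtPrime MC)
      (F := FractionRing (B̂ ⧸ Q)) MR.primeCompl ?_ ?_ hLN
    · intro t ht
      have h1 : algebraMap (Polynomial B̂) (Localization.AtPrime MC) t ∉
          maximalIdeal (Localization.AtPrime MC) := ht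
      rwa [IsLocalRing.mem_maximalIdeal, mem_nonunits_iff, not_not] at h1
    · intro c'
      obtain ⟨⟨c, s⟩, hcs⟩ := IsLocalization.surj MC.primeCompl c'
      have hcs' : c' * algebraMap 𝒞 (Localization.AtPrime MC) (s : 𝒞) =
          algebraMap 𝒞 (Localization.AtPrime MC) c := hcs
      obtain ⟨r₁, t₁, hu₁, e₁⟩ := hCD c
      obtain ⟨r₂, t₂, hu₂, e₂⟩ := hCD (s : 𝒞)
      have h1 : psi B E xE (r₂ * t₁) = (s : 𝒞) * psi B E xE t₂ * psi B E xE t₁ := by
        rw [map_mul, e₂]
      have h2 : psi B E xE (r₁ * t₂) = c * psi B E xE t₁ * psi B E xE t₂ := by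
        rw [map_mul, e₁]
      refine ⟨r₁ * t₂, r₂ * t₁, ?_, ?_⟩
      · show r₂ * t₁ ∉ MR
        rw [hMR, h1]
        intro hmem
        rcases (Ideal.IsPrime.mem_or_mem ‹MC.IsPrime› hmem) with h | h
        · rcases (Ideal.IsPrime.mem_or_mem ‹MC.IsPrime› h) with h | h
          · exact s.2 h
          · exact (Ideal.IsPrime.ne_top ‹MC.IsPrime›) (Ideal.eq_top_of_isUnit_mem _ h hu₂)
        · exact (Ideal.IsPrime.ne_top ‹MC.IsPrime›) (Ideal.eq_top_of_isUnit_mem _ h hu₁)
      · have hC' : c' * algebraMap 𝒞 (Localization.AtPrime MC) (psi B E xE (r₂ * t₁)) =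
            algebraMap 𝒞 (Localization.AtPrime MC) (psi B E xE (r₁ * t₂)) := by
          rw [h1, h2]
          simp only [map_mul]
          rw [← hcs']
          ring
        rw [IsScalarTower.algebraMap_apply (Polynomial B̂) (Localization.AtPrime MC)
            (FractionRing (B̂ ⧸ Q)) (r₂ * t₁),
          IsScalarTower.algebraMap_apply (Polynomial B̂) (Localization.AtPrime MC)
            (FractionRing (B̂ ⧸ Q)) (r₁ * t₂), ← map_mul]
        exact congrArg _ hC'

end abstract

end Groth.Agent.Lib.Helper26.NagStage2
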