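import Mathlib
import Groth.Prelude.Def_Found
import Groth.Agent.S2072
import Groth.Agent.S0576
import Groth.Agent.S4710
import Groth.Agent.Lib.Helper26.NagStage2a

/-!
# Nagata's theorem: local rings of `A[x]`, `x ∈ Frac A`, are N-1 (helper26), part b
-/

set_option autoImplicit false
universe u

open IsLocalRing TensorProduct

namespace Groth.Agent.Lib.Helper26.NagStage2

open Groth.Agent.Lib.Helper26.NagLN1

section abstract

variable (B : Type u) [CommRing B] [IsDomain B] [IsLocalRing B] [IsNoetherianRing B]
  (E : Type u) [CommRing E] [Algebra B E] (xE : E)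

local notation "B̂" => AdicCompletion (maximalIdeal B) B
local notation "𝒞" => E ⊗[B] AdicCompletion (maximalIdeal B) B

/-- Abstract form: `E` a local domain between `B` and its fraction field, essentially generated by
one element, `B` analytically unramified.  Then `E` is N-1. -/
theorem isN1_of_adjoin_local [IsDomain E] [IsLocalRing E] [IsLocalHom (algebraMap B E)]
    [Algebra.EssFiniteType B E] (hred : IsReduced B̂)
    (L : Type u) [Field L] [Algebra B L] [IsFractionRing B L] [Algebra E L] [IsScalarTower B E L]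
    (hEL : Function.Injective (algebraMap E L))
    (hE : ∀ e : E, ∃ p g : Polynomial B, IsUnit (Polynomial.aeval xE g) ∧
      e * Polynomial.aeval xE g = Polynomial.aeval xE p) :
    CAlg.IsN1 E := by
  classical
  haveI := hred
  haveI : IsNoetherianRing B̂ := Groth.Agent.Lib.Helper14.ComplEtale.isNoetherianRing_completion B
  haveI : Module.FaithfullyFlat B B̂ := Module.FaithfullyFlat.of_flat_of_isLocalHom
  have hBE : Function.Injective (algebraMap B E) := by
    have h : Function.Injective (algebraMap B L) := IsFractionRing.injective B L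
    rw [IsScalarTower.algebraMap_eq B E L, RingHom.coe_comp] at h
    exact Function.Injective.of_comp h
  haveI : IsNoetherianRing (B̂ ⊗[B] E) := Algebra.EssFiniteType.isNoetherianRing B̂ (B̂ ⊗[B] E)
  haveI : IsNoetherianRing 𝒞 :=
    isNoetherianRing_of_ringEquiv (B̂ ⊗[B] E) (Algebra.TensorProduct.comm B B̂ E).toRingEquiv
  have hCD := exists_psi_mul B E xE hE
  obtain ⟨MC, hMCp, hMCover⟩ :=
    Ideal.exists_isPrime_liesOver_of_faithfullyFlat (A := E) (B := 𝒞) (maximalIdeal E)
  haveI := hMCp
  have hMC : ∀ e ∈ maximalIdeal E, e ⊗ₜ[B] (1 : B̂) ∈ MC := by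
    intro e he
    have h1 : maximalIdeal E = MC.comap (algebraMap E 𝒞) := hMCover.over
    rw [h1] at he
    exact he
  haveI : IsNoetherianRing (Localization.AtPrime MC) :=
    IsLocalization.isNoetherianRing MC.primeCompl _ inferInstance
  haveI : IsLocalHom (algebraMap E (Localization.AtPrime MC)) := by
    refine ((IsLocalRing.local_hom_TFAE (algebraMap E (Localization.AtPrime MC))).out 0 3).2 ?_
    intro e he
    rw [Ideal.mem_comap, IsScalarTower.algebraMap_apply E 𝒞 (Localization.AtPrime MC),
      IsLocalization.AtPrime.to_map_mem_maximal_iff (Localization.AtPrime MC) MC]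
    exact hMC e he
  haveI : Module.FaithfullyFlat E (Localization.AtPrime MC) :=
    Module.FaithfullyFlat.of_flat_of_isLocalHom (A := E) (B := Localization.AtPrime MC)
  haveI hfinQ : Finite {Q : Ideal B̂ // Q ∈ minimalPrimes B̂} :=
    (minimalPrimes.finite_of_isNoetherianRing B̂).to_subtype
  have hch : ∀ Q : {Q : Ideal B̂ // Q ∈ minimalPrimes B̂},
      ∃ (F : Type u) (_ : Field F) (ρ : 𝒞 →+* F),
        (∀ b : B̂, ρ ((1 : E) ⊗ₜ[B] b) = 0 → b ∈ Q.1) ∧
        (∀ e : E, e ≠ 0 → ρ (e ⊗ₜ[B] (1 : B̂)) ≠ 0) ∧
        (RingHom.ker ρ ≤ MC → ∀ [Algebra (Localization.AtPrime MC) F],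
          (∀ c, algebraMap (Localization.AtPrime MC) F
            (algebraMap 𝒞 (Localization.AtPrime MC) c) = ρ c) →
          Module.Finite (Localization.AtPrime MC)
            (integralClosure (Localization.AtPrime MC) F)) := fun Q => by
    haveI : Q.1.IsPrime := Ideal.IsMinimalPrime.isPrime Q.2
    exact exists_field_of_minimalPrime B E xE L hEL hCD MC hMC Q.1 Q.2
  choose F hField ρ hk1 hk2 hk3 using hch
  letI := hField
  have hJ : ∀ c : 𝒞, (∀ Q, ρ Q c = 0) → c = 0 := by
    intro c hc
    obtain ⟨d, hd, b, hdb⟩ := exists_smul_eq_one_tmul B E L hEL c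
    have hb : b = 0 := by
      have h1 : b ∈ sInf (minimalPrimes B̂) := by
        rw [Submodule.mem_sInf]
        intro Q hQ
        apply hk1 ⟨Q, hQ⟩
        have hsm : d • c = algebraMap B 𝒞 d * c := Algebra.smul_def d c
        rw [← hdb, hsm, map_mul, hc, mul_zero]
      have h2 : sInf (minimalPrimes B̂) = ⊥ := by
        rw [minimalPrimes, Ideal.sInf_minimalPrimes]
        exact nilradical_eq_zero _
      rw [h2] at h1
      exact h1
    rw [hb, TensorProduct.tmul_zero] at hdb
    exact eq_zero_of_smul_eq_zero B E hBE hd hdb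
  haveI : Finite {Q : {Q : Ideal B̂ // Q ∈ minimalPrimes B̂} // RingHom.ker (ρ Q) ≤ MC} :=
    Subtype.finite
  have hunitQ : ∀ (i : {Q : {Q : Ideal B̂ // Q ∈ minimalPrimes B̂} // RingHom.ker (ρ Q) ≤ MC})
      (s : MC.primeCompl), IsUnit (ρ i.1 s) := fun i s =>
    IsUnit.mk0 _ (fun h0 => s.2 (i.2 (RingHom.mem_ker.2 h0)))
  letI algF : ∀ i : {Q : {Q : Ideal B̂ // Q ∈ minimalPrimes B̂} // RingHom.ker (ρ Q) ≤ MC},
      Algebra (Localization.AtPrime MC) (F i.1) := fun i =>
    (IsLocalization.lift (M := MC.primeCompl) (g := ρ i.1) (hunitQ i)).toAlgebra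
  have hcompat : ∀ (i : {Q : {Q : Ideal B̂ // Q ∈ minimalPrimes B̂} // RingHom.ker (ρ Q) ≤ MC})
      (c : 𝒞), algebraMap (Localization.AtPrime MC) (F i.1)
        (algebraMap 𝒞 (Localization.AtPrime MC) c) = ρ i.1 c :=
    fun i c => IsLocalization.lift_eq (hunitQ i) c
  refine Groth.Agent.S2072.finite_integralClosure_of_flat_embedding E (Localization.AtPrime MC)
    {Q : {Q : Ideal B̂ // Q ∈ minimalPrimes B̂} // RingHom.ker (ρ Q) ≤ MC} (fun i => F i.1)
    ?_ ?_ ?_
  · intro c' hc'
    obtain ⟨⟨c, s⟩, hcs⟩ := IsLocalization.surj MC.primeCompl c'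
    have hcs' : c' * algebraMap 𝒞 (Localization.AtPrime MC) (s : 𝒞) =
        algebraMap 𝒞 (Localization.AtPrime MC) c := hcs
    have hci : ∀ i : {Q : {Q : Ideal B̂ // Q ∈ minimalPrimes B̂} // RingHom.ker (ρ Q) ≤ MC},
        ρ i.1 c = 0 := by
      intro i
      rw [← hcompat i c, ← hcs', map_mul, hc' i, zero_mul]
    have hσ : ∀ Q : {Q : Ideal B̂ // Q ∈ minimalPrimes B̂},
        ∃ σ : 𝒞, σ ∉ MC ∧ ρ Q (c * σ) = 0 := by
      intro Q
      by_cases hQ : RingHom.ker (ρ Q) ≤ MC
      · exact ⟨1, fun h1 => (Ideal.IsPrime.ne_top ‹MC.IsPrime›) ((Ideal.eq_top_iff_one _).2 h1),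
          by rw [mul_one]; exact hci ⟨Q, hQ⟩⟩
      · obtain ⟨σ, hσker, hσM⟩ := SetLike.not_le_iff_exists.1 hQ
        exact ⟨σ, hσM, by rw [map_mul, RingHom.mem_ker.1 hσker, mul_zero]⟩
    choose σ hσM hσ0 using hσ
    haveI : Fintype {Q : Ideal B̂ // Q ∈ minimalPrimes B̂} := Fintype.ofFinite _
    have hs'M : (∏ Q, σ Q) ∉ MC := by
      intro h
      obtain ⟨Q, -, hQ⟩ := Ideal.IsPrime.prod_mem_iff.1 h
      exact hσM Q hQ
    have hcs0 : c * (∏ Q, σ Q) = 0 := by
      apply hJ
      intro Q
      obtain ⟨w, hw⟩ := Finset.dvd_prod_of_mem σ (Finset.mem_univ Q)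
      rw [hw, ← mul_assoc, map_mul, hσ0 Q, zero_mul]
    have hu1 : IsUnit (algebraMap 𝒞 (Localization.AtPrime MC) (∏ Q, σ Q)) :=
      IsLocalization.map_units (Localization.AtPrime MC) (⟨∏ Q, σ Q, hs'M⟩ : MC.primeCompl)
    have hu2 : IsUnit (algebraMap 𝒞 (Localization.AtPrime MC) (s : 𝒞)) :=
      IsLocalization.map_units _ s
    have h1 : algebraMap 𝒞 (Localization.AtPrime MC) c = 0 := by
      have h := congrArg (algebraMap 𝒞 (Localization.AtPrime MC)) hcs0
      rw [map_mul, map_zero] at h
      exact (hu1.mul_left_eq_zero).1 h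
    rw [h1] at hcs'
    exact (hu2.mul_left_eq_zero).1 hcs'
  · intro b hb i
    rw [IsScalarTower.algebraMap_apply E 𝒞 (Localization.AtPrime MC), hcompat i]
    exact hk2 i.1 b hb
  · intro i
    exact @hk3 i.1 i.2 (algF i) (hcompat i)

end abstract

section concrete

variable (A : Type u) [CommRing A] [IsDomain A] (hA : CAlg.IsNagata A)
  (L : Type u) [Field L] [Algebra A L] [IsFractionRing A L] (x : L)

set_option quotPrecheck false in
local notation "S₀" => (Algebra.adjoin A ({x} : Set L))

include hA in
/-- **Stage 2**: for a Nagata domain `A` with fraction field `L` and `x ∈ L`, the local rings of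
`A[x]` are N-1. -/
theorem isN1_atPrime_adjoin (m : Ideal S₀) [m.IsPrime] : CAlg.IsN1 (Localization.AtPrime m) := by
  classical
  haveI : (m.comap (algebraMap A S₀)).IsPrime := Ideal.comap_isPrime _ _
  have hB : CAlg.IsNagata (Localization.AtPrime (m.comap (algebraMap A S₀))) :=
    Groth.Agent.S4710.result A hA (m.comap (algebraMap A S₀)).primeCompl
  haveI : IsNoetherianRing (Localization.AtPrime (m.comap (algebraMap A S₀))) := hB.1
  have hred : IsReduced (AdicCompletion
      (maximalIdeal (Localization.AtPrime (m.comap (algebraMap A S₀))))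
      (Localization.AtPrime (m.comap (algebraMap A S₀)))) := Groth.Agent.S0576.result _ hB
  letI algBE : Algebra (Localization.AtPrime (m.comap (algebraMap A S₀)))
      (Localization.AtPrime m) :=
    (Localization.localRingHom (m.comap (algebraMap A S₀)) m (algebraMap A S₀) rfl).toAlgebra
  haveI : IsLocalHom (algebraMap (Localization.AtPrime (m.comap (algebraMap A S₀)))
      (Localization.AtPrime m)) :=
    Localization.isLocalHom_localRingHom (m.comap (algebraMap A S₀)) m (algebraMap A S₀) rfl
  haveI : IsScalarTower A (Localization.AtPrime (m.comap (algebraMap A S₀)))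
      (Localization.AtPrime m) :=
    IsScalarTower.of_algebraMap_eq (fun a => by
      show algebraMap A (Localization.AtPrime m) a =
        Localization.localRingHom (m.comap (algebraMap A S₀)) m (algebraMap A S₀) rfl
          (algebraMap A (Localization.AtPrime (m.comap (algebraMap A S₀))) a)
      rw [Localization.localRingHom_to_map, ← IsScalarTower.algebraMap_apply])
  haveI : Algebra.FiniteType A S₀ := (Subalgebra.fg_iff_finiteType _).1 (by
    have := Subalgebra.fg_adjoin_finset (R := A) ({x} : Finset L)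
    rwa [Finset.coe_singleton] at this)
  haveI : Algebra.EssFiniteType A (Localization.AtPrime m) := inferInstance
  haveI : Algebra.EssFiniteType (Localization.AtPrime (m.comap (algebraMap A S₀)))
      (Localization.AtPrime m) := Algebra.EssFiniteType.of_comp A _ _
  have hunitsB : ∀ s : (m.comap (algebraMap A S₀)).primeCompl, IsUnit (algebraMap A L s) :=
    fun s => IsUnit.mk0 _ ((map_ne_zero_iff _ (IsFractionRing.injective A L)).2
      (nonZeroDivisors.ne_zero ((m.comap (algebraMap A S₀)).primeCompl_le_nonZeroDivisors s.2)))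
  letI algBL : Algebra (Localization.AtPrime (m.comap (algebraMap A S₀))) L :=
    (IsLocalization.lift (M := (m.comap (algebraMap A S₀)).primeCompl) (g := algebraMap A L)
      hunitsB).toAlgebra
  haveI : IsScalarTower A (Localization.AtPrime (m.comap (algebraMap A S₀))) L :=
    IsScalarTower.of_algebraMap_eq (fun a => (IsLocalization.lift_eq hunitsB a).symm)
  haveI : IsFractionRing (Localization.AtPrime (m.comap (algebraMap A S₀))) L :=
    IsFractionRing.isFractionRing_of_isDomain_of_isLocalization
      (m.comap (algebraMap A S₀)).primeCompl _ L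
  have hunitsE : ∀ s : m.primeCompl, IsUnit (algebraMap S₀ L s) := fun s =>
    IsUnit.mk0 _ ((map_ne_zero_iff _ (IsFractionRing.injective S₀ L)).2
      (nonZeroDivisors.ne_zero (m.primeCompl_le_nonZeroDivisors s.2)))
  letI algEL : Algebra (Localization.AtPrime m) L :=
    (IsLocalization.lift (M := m.primeCompl) (g := algebraMap S₀ L) hunitsE).toAlgebra
  haveI : IsScalarTower S₀ (Localization.AtPrime m) L :=
    IsScalarTower.of_algebraMap_eq (fun a => (IsLocalization.lift_eq hunitsE a).symm)
  haveI : IsFractionRing (Localization.AtPrime m) L :=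
    IsFractionRing.isFractionRing_of_isDomain_of_isLocalization m.primeCompl _ L
  have hEL : Function.Injective (algebraMap (Localization.AtPrime m) L) :=
    IsFractionRing.injective _ _
  haveI : IsScalarTower (Localization.AtPrime (m.comap (algebraMap A S₀)))
      (Localization.AtPrime m) L := by
    refine IsScalarTower.of_algebraMap_eq' ?_
    refine IsLocalization.ringHom_ext (m.comap (algebraMap A S₀)).primeCompl ?_
    ext a
    show algebraMap (Localization.AtPrime (m.comap (algebraMap A S₀))) L (algebraMap A _ a) =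
      algebraMap (Localization.AtPrime m) L
        (algebraMap (Localization.AtPrime (m.comap (algebraMap A S₀))) (Localization.AtPrime m)
          (algebraMap A _ a))
    rw [← IsScalarTower.algebraMap_apply A (Localization.AtPrime (m.comap (algebraMap A S₀))) L,
      ← IsScalarTower.algebraMap_apply A (Localization.AtPrime (m.comap (algebraMap A S₀)))
        (Localization.AtPrime m),
      IsScalarTower.algebraMap_apply A S₀ (Localization.AtPrime m),
      ← IsScalarTower.algebraMap_apply S₀ (Localization.AtPrime m) L,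
      ← IsScalarTower.algebraMap_apply A S₀ L]
  have hpoly : ∀ s : S₀, ∃ p : Polynomial A,
      Polynomial.aeval (⟨x, Algebra.subset_adjoin (Set.mem_singleton x)⟩ : S₀) p = s := by
    intro s
    have hs : (s : L) ∈ (Polynomial.aeval x : Polynomial A →ₐ[A] L).range := by
      rw [← Algebra.adjoin_singleton_eq_range_aeval]
      exact s.2
    obtain ⟨p, hp⟩ := hs
    refine ⟨p, Subtype.ext ?_⟩
    rw [← hp]
    exact (Polynomial.aeval_algHom_apply (Subalgebra.val S₀)
      (⟨x, Algebra.subset_adjoin (Set.mem_singleton x)⟩ : S₀) p).symm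
  have key : ∀ q : Polynomial A,
      Polynomial.aeval (algebraMap S₀ (Localization.AtPrime m)
        (⟨x, Algebra.subset_adjoin (Set.mem_singleton x)⟩ : S₀))
        (q.map (algebraMap A (Localization.AtPrime (m.comap (algebraMap A S₀))))) =
      algebraMap S₀ (Localization.AtPrime m)
        (Polynomial.aeval (⟨x, Algebra.subset_adjoin (Set.mem_singleton x)⟩ : S₀) q) := by
    intro q
    rw [Polynomial.aeval_map_algebraMap, Polynomial.aeval_algebraMap_apply]
  have hE : ∀ e : Localization.AtPrime m,
      ∃ p g : Polynomial (Localization.AtPrime (m.comap (algebraMap A S₀))),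
        IsUnit (Polynomial.aeval (algebraMap S₀ (Localization.AtPrime m)
          (⟨x, Algebra.subset_adjoin (Set.mem_singleton x)⟩ : S₀)) g) ∧
        e * Polynomial.aeval (algebraMap S₀ (Localization.AtPrime m)
          (⟨x, Algebra.subset_adjoin (Set.mem_singleton x)⟩ : S₀)) g =
        Polynomial.aeval (algebraMap S₀ (Localization.AtPrime m)
          (⟨x, Algebra.subset_adjoin (Set.mem_singleton x)⟩ : S₀)) p := by
    intro e
    obtain ⟨⟨s₀, u⟩, hsu⟩ := IsLocalization.surj m.primeCompl e
    obtain ⟨p₀, hp₀⟩ := hpoly s₀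
    obtain ⟨g₀, hg₀⟩ := hpoly (u : S₀)
    refine ⟨p₀.map (algebraMap A _), g₀.map (algebraMap A _), ?_, ?_⟩
    · rw [key, hg₀]
      exact IsLocalization.map_units _ u
    · rw [key, key, hg₀, hp₀]
      exact hsu
  exact isN1_of_adjoin_local (Localization.AtPrime (m.comap (algebraMap A S₀)))
    (Localization.AtPrime m) (algebraMap S₀ (Localization.AtPrime m)
      (⟨x, Algebra.subset_adjoin (Set.mem_singleton x)⟩ : S₀)) hred L hEL hE

end concrete

end Groth.Agent.Lib.Helper26.NagStage2
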