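import Mathlib
import Groth.Prelude.Def_Found
import Groth.Agent.Lib.Helper12.N2Field
import Groth.Agent.Lib.Helper12.NagataLoc
import Groth.Agent.Lib.Helper12.N2Insep
import Groth.Agent.Lib.Helper26.NagStage2b

/-!
# Nagata's theorem: algebras of finite type over Nagata rings are Nagata (helper26)
-/

set_option autoImplicit false
universe u

open IsLocalRing TensorProduct

namespace Groth.Agent.Lib.Helper26.NagThmA

open Groth.Agent.Lib.Helper26 Groth.Agent.Lib.Helper12.N2 Groth.Agent.Lib.Helper12

/-- **Theorem A**: for a normal Nagata domain `A` with fraction field `L` and `x ∈ L`, the ring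
`A[x]` is N-1. -/
theorem finite_integralClosure_adjoin (A : Type u) [CommRing A] [IsDomain A]
    [IsIntegrallyClosed A] (hA : CAlg.IsNagata A) (L : Type u) [Field L] [Algebra A L]
    [IsFractionRing A L] (x : L) :
    Module.Finite (Algebra.adjoin A ({x} : Set L))
      (integralClosure (Algebra.adjoin A ({x} : Set L)) L) := by
  classical
  haveI : IsNoetherianRing A := hA.1
  haveI : Algebra.FiniteType A (Algebra.adjoin A ({x} : Set L)) :=
    (Subalgebra.fg_iff_finiteType _).1 (by
      have := Subalgebra.fg_adjoin_finset (R := A) ({x} : Finset L)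
      rwa [Finset.coe_singleton] at this)
  haveI : IsNoetherianRing (Algebra.adjoin A ({x} : Set L)) :=
    Algebra.FiniteType.isNoetherianRing A _
  obtain ⟨a, b, hb, hab⟩ := IsFractionRing.div_surjective (A := A) x
  have hb0 : b ≠ 0 := nonZeroDivisors.ne_zero hb
  have hbL : algebraMap A L b ≠ 0 := (map_ne_zero_iff _ (IsFractionRing.injective A L)).2 hb0
  have hxb : algebraMap A L a = algebraMap A L b * x := by
    rw [← hab]; field_simp
  have hunits : ∀ y : Submonoid.powers b, IsUnit (algebraMap A L y) := by
    rintro ⟨_, n, rfl⟩
    rw [map_pow]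
    exact (IsUnit.mk0 _ hbL).pow n
  letI : Algebra (Localization.Away b) L :=
    (IsLocalization.lift (M := Submonoid.powers b) (g := algebraMap A L) hunits).toAlgebra
  haveI : IsScalarTower A (Localization.Away b) L :=
    IsScalarTower.of_algebraMap_eq (fun a => (IsLocalization.lift_eq hunits a).symm)
  have hS₀le : Algebra.adjoin A ({x} : Set L) ≤
      (IsScalarTower.toAlgHom A (Localization.Away b) L).range := by
    apply Algebra.adjoin_le
    intro z hz
    rw [Set.mem_singleton_iff] at hz
    rw [hz]
    refine ⟨IsLocalization.mk' (Localization.Away b) a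
      (⟨b, Submonoid.mem_powers b⟩ : Submonoid.powers b), ?_⟩
    show IsLocalization.lift hunits (IsLocalization.mk' _ a _) = x
    rw [IsLocalization.lift_mk'_spec]
    exact hxb
  refine NagLN1.finite_integralClosure_of_local (Algebra.adjoin A ({x} : Set L)) L
    (algebraMap A _ b) ?_ ?_ ?_
  · intro h0
    apply hbL
    exact congrArg Subtype.val h0
  · intro z hz
    have hz' : IsIntegral (Localization.Away b) z := by
      refine NagLN1.isIntegral_of_range_le (R₁ := Algebra.adjoin A ({x} : Set L)) ?_ hz
      intro c
      obtain ⟨w, hw⟩ := hS₀le c.2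
      exact ⟨w, hw⟩
    obtain ⟨⟨_, n, rfl⟩, hmz⟩ :=
      IsIntegral.exists_multiple_integral_of_isLocalization (Submonoid.powers b) z hz'
    obtain ⟨a', ha'⟩ := (IsIntegrallyClosed.isIntegral_iff (R := A) (K := L)).1 hmz
    refine ⟨n, algebraMap A _ a', ?_⟩
    show z * ((algebraMap A (Algebra.adjoin A ({x} : Set L)) b ^ n :
      Algebra.adjoin A ({x} : Set L)) : L) = algebraMap A L a'
    have e1 : ((algebraMap A (Algebra.adjoin A ({x} : Set L)) b ^ n :
        Algebra.adjoin A ({x} : Set L)) : L) = algebraMap A L (b ^ n) := by
      rw [Subalgebra.coe_pow, map_pow]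
      rfl
    have e2 : algebraMap A L a' = algebraMap A L (b ^ n) * z := by
      rw [ha', Submonoid.smul_def, Algebra.smul_def]
    rw [e1, e2, mul_comm]
  · intro m hm
    exact NagLN1.LN1.of_isN1_atPrime _ L m (NagStage2.isN1_atPrime_adjoin A hA L x m)

/-- Nagata rings are stable under surjections. -/
theorem isNagata_of_surjective {R R' : Type u} [CommRing R] [CommRing R'] (f : R →+* R')
    (hf : Function.Surjective f) (hR : CAlg.IsNagata R) : CAlg.IsNagata R' := by
  haveI := hR.1
  refine ⟨isNoetherianRing_of_surjective R R' f hf, fun P hP => ?_⟩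
  have hg : Function.Surjective ((Ideal.Quotient.mk P).comp f) :=
    Ideal.Quotient.mk_surjective.comp hf
  haveI : (RingHom.ker ((Ideal.Quotient.mk P).comp f)).IsPrime := RingHom.ker_isPrime _
  rw [NagataLoc.isN2_iff_N2']
  exact N2'_of_ringEquiv (RingHom.quotientKerEquivOfSurjective hg)
    ((NagataLoc.isN2_iff_N2' _).1 (hR.2 (RingHom.ker ((Ideal.Quotient.mk P).comp f))))

/-- A Nagata domain is N-2. -/
theorem N2'_of_isNagata_domain (R : Type u) [CommRing R] [IsDomain R] (hR : CAlg.IsNagata R) :
    N2' R :=
  N2'_of_ringEquiv (RingEquiv.quotientBot R) ((NagataLoc.isN2_iff_N2' _).1 (hR.2 ⊥))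

/-- Finite algebras over Nagata rings are Nagata. -/
theorem isNagata_of_finite (R A : Type u) [CommRing R] [CommRing A] [Algebra R A]
    [Module.Finite R A] (hR : CAlg.IsNagata R) : CAlg.IsNagata A := by
  haveI : IsNoetherianRing R := hR.1
  refine ⟨IsNoetherianRing.of_finite R A, fun q hq => ?_⟩
  haveI : (q.comap (algebraMap R A)).IsPrime := Ideal.comap_isPrime _ _
  rw [NagataLoc.isN2_iff_N2']
  have h1 : N2' (R ⧸ q.comap (algebraMap R A)) := (NagataLoc.isN2_iff_N2' _).1 (hR.2 _)
  haveI : IsScalarTower R (R ⧸ q.comap (algebraMap R A)) (A ⧸ q) :=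
    IsScalarTower.of_algebraMap_eq (fun r => rfl)
  haveI : Module.Finite (R ⧸ q.comap (algebraMap R A)) (A ⧸ q) :=
    Module.Finite.of_restrictScalars_finite R _ _
  exact N2'_of_finite_injective (R ⧸ q.comap (algebraMap R A)) (A ⧸ q)
    Ideal.algebraMap_quotient_injective h1

/-- **Theorem B**: a domain generated by one element over a Nagata domain is N-2. -/
theorem N2'_of_adjoin_singleton (R S : Type u) [CommRing R] [IsDomain R] [CommRing S] [IsDomain S]
    [Algebra R S] (hinj : Function.Injective (algebraMap R S)) (hR : CAlg.IsNagata R) (x : S)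
    (hx : Algebra.adjoin R ({x} : Set S) = ⊤) : N2' S := by
  classical
  haveI : IsNoetherianRing R := hR.1
  have hRN2 : N2' R := N2'_of_isNagata_domain R hR
  by_cases halg : IsAlgebraic R x
  · intro M _ _ hinjM hfg
    letI algRM : Algebra R M := ((algebraMap S M).comp (algebraMap R S)).toAlgebra
    haveI : IsScalarTower R S M := IsScalarTower.of_algebraMap_eq (fun _ => rfl)
    have hinjRM : Function.Injective (algebraMap R M) := hinjM.comp hinj
    letI : Algebra (FractionRing R) M := (IsFractionRing.lift hinjRM).toAlgebra
    haveI : IsScalarTower R (FractionRing R) M :=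
      IsScalarTower.of_algebraMap_eq (fun r => (IsFractionRing.lift_algebraMap hinjRM r).symm)
    letI : Algebra (FractionRing S) M := (IsFractionRing.lift hinjM).toAlgebra
    haveI : IsScalarTower S (FractionRing S) M :=
      IsScalarTower.of_algebraMap_eq (fun r => (IsFractionRing.lift_algebraMap hinjM r).symm)
    haveI : FiniteDimensional (FractionRing S) M :=
      finiteDimensional_of_finGen S (FractionRing S) M hfg
    haveI hfd : FiniteDimensional (FractionRing R) M := by
      haveI : Algebra.FiniteType R S := ⟨⟨{x}, by rw [Finset.coe_singleton]; exact hx⟩⟩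
      haveI : Algebra.EssFiniteType S (FractionRing S) :=
        Algebra.EssFiniteType.of_isLocalization (FractionRing S) (nonZeroDivisors S)
      haveI : IsScalarTower R (FractionRing S) M := IsScalarTower.of_algebraMap_eq (fun r => by
        rw [IsScalarTower.algebraMap_apply R S (FractionRing S),
          ← IsScalarTower.algebraMap_apply S (FractionRing S) M]
        rfl)
      haveI : Algebra.EssFiniteType R (FractionRing S) :=
        Algebra.EssFiniteType.comp R S (FractionRing S)
      haveI : Algebra.EssFiniteType R M := Algebra.EssFiniteType.comp R (FractionRing S) M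
      haveI : Algebra.EssFiniteType (FractionRing R) M :=
        Algebra.EssFiniteType.of_comp R (FractionRing R) M
      haveI : Algebra.IsAlgebraic R S := ⟨fun s => by
        have h := (Algebra.isAlgebraic_adjoin_singleton_iff (R := R)).2 halg
        rw [hx] at h
        exact h s Algebra.mem_top⟩
      haveI : Algebra.IsAlgebraic S M :=
        IsFractionRing.comap_isAlgebraic_iff.2
          (inferInstance : Algebra.IsAlgebraic (FractionRing S) M)
      haveI : Algebra.IsAlgebraic R M := Algebra.IsAlgebraic.trans R S M
      haveI : Algebra.IsAlgebraic (FractionRing R) M :=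
        IsFractionRing.comap_isAlgebraic_iff.1 (inferInstance : Algebra.IsAlgebraic R M)
      exact Algebra.finite_of_essFiniteType_of_isAlgebraic
    have hAfin : Module.Finite R (integralClosure R M) :=
      hRN2 M hinjRM (finGen_of_finiteDimensional R (FractionRing R) M)
    haveI := hAfin
    haveI : IsIntegrallyClosed (integralClosure R M) :=
      integralClosure.isIntegrallyClosedOfFiniteExtension (FractionRing R)
    haveI : IsFractionRing (integralClosure R M) M :=
      integralClosure.isFractionRing_of_finite_extension (FractionRing R) M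
    have hANag : CAlg.IsNagata (integralClosure R M) := isNagata_of_finite R _ hR
    have hThmA := finite_integralClosure_adjoin (integralClosure R M) hANag M (algebraMap S M x)
    -- the map `S → A[x]`
    have hST : ∀ s : S, algebraMap S M s ∈
        Algebra.adjoin (integralClosure R M) ({algebraMap S M x} : Set M) := by
      intro s
      have hs : s ∈ Algebra.adjoin R ({x} : Set S) := hx ▸ Algebra.mem_top
      refine Algebra.adjoin_induction
        (p := fun s _ => algebraMap S M s ∈
          Algebra.adjoin (integralClosure R M) ({algebraMap S M x} : Set M)) ?_ ?_ ?_ ?_ hs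
      · intro z hz
        rw [Set.mem_singleton_iff] at hz
        rw [hz]
        exact Algebra.subset_adjoin (Set.mem_singleton _)
      · intro r
        rw [← IsScalarTower.algebraMap_apply R S M,
          IsScalarTower.algebraMap_apply R (integralClosure R M) M]
        exact Subalgebra.algebraMap_mem _ _
      · intro a b _ _ ha hb
        rw [map_add]
        exact Subalgebra.add_mem _ ha hb
      · intro a b _ _ ha hb
        rw [map_mul]
        exact Subalgebra.mul_mem _ ha hb
    letI algST : Algebra S (Algebra.adjoin (integralClosure R M) ({algebraMap S M x} : Set M)) :=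
      ((algebraMap S M).codRestrict
        (Algebra.adjoin (integralClosure R M) ({algebraMap S M x} : Set M)) hST).toAlgebra
    haveI : IsScalarTower S (Algebra.adjoin (integralClosure R M) ({algebraMap S M x} : Set M))
        M := IsScalarTower.of_algebraMap_eq (fun _ => rfl)
    haveI : IsScalarTower R S (Algebra.adjoin (integralClosure R M) ({algebraMap S M x} : Set M)) :=
      IsScalarTower.of_algebraMap_eq (fun r => Subtype.ext (by
        show algebraMap R M r = algebraMap S M (algebraMap R S r)
        rfl))
    haveI : Algebra.FiniteType (integralClosure R M)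
        (Algebra.adjoin (integralClosure R M) ({algebraMap S M x} : Set M)) :=
      (Subalgebra.fg_iff_finiteType _).1 (by
        have := Subalgebra.fg_adjoin_finset (R := integralClosure R M)
          ({algebraMap S M x} : Finset M)
        rwa [Finset.coe_singleton] at this)
    haveI : Algebra.FiniteType R
        (Algebra.adjoin (integralClosure R M) ({algebraMap S M x} : Set M)) :=
      Algebra.FiniteType.trans (S := integralClosure R M) inferInstance inferInstance
    haveI : Algebra.FiniteType S
        (Algebra.adjoin (integralClosure R M) ({algebraMap S M x} : Set M)) :=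
      Algebra.FiniteType.of_restrictScalars_finiteType R S _
    haveI : Algebra.IsIntegral S
        (Algebra.adjoin (integralClosure R M) ({algebraMap S M x} : Set M)) := by
      refine ⟨fun t => ?_⟩
      have hinjT : Function.Injective (algebraMap
          (Algebra.adjoin (integralClosure R M) ({algebraMap S M x} : Set M)) M) :=
        Subtype.val_injective
      rw [← isIntegral_algebraMap_iff hinjT]
      obtain ⟨t, ht⟩ := t
      show IsIntegral S t
      refine Algebra.adjoin_induction (p := fun t _ => IsIntegral S t) ?_ ?_ ?_ ?_ ht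
      · intro z hz
        rw [Set.mem_singleton_iff] at hz
        rw [hz]
        exact isIntegral_algebraMap
      · intro a
        exact (a.2 : IsIntegral R (a : M)).tower_top
      · intro _ _ _ _ h1 h2
        exact h1.add h2
      · intro _ _ _ _ h1 h2
        exact h1.mul h2
    haveI : Module.Finite S
        (Algebra.adjoin (integralClosure R M) ({algebraMap S M x} : Set M)) :=
      Algebra.IsIntegral.finite
    exact N2Insep.finite_integralClosure_trans S
      (Algebra.adjoin (integralClosure R M) ({algebraMap S M x} : Set M)) M hThmA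
  · have hφinj : Function.Injective (Polynomial.aeval x : Polynomial R →ₐ[R] S) :=
      transcendental_iff_injective.1 halg
    have hφsurj : Function.Surjective (Polynomial.aeval x : Polynomial R →ₐ[R] S) := by
      intro s
      have hs : s ∈ (Polynomial.aeval x : Polynomial R →ₐ[R] S).range := by
        rw [← Algebra.adjoin_singleton_eq_range_aeval, hx]
        exact Algebra.mem_top
      exact hs
    exact N2'_of_ringEquiv
      (RingEquiv.ofBijective (Polynomial.aeval x : Polynomial R →ₐ[R] S) ⟨hφinj, hφsurj⟩)
      (N2'_polynomial R hRN2)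

/-- A ring generated by one element over a Nagata ring is Nagata. -/
theorem isNagata_of_adjoin_singleton (R S : Type u) [CommRing R] [CommRing S] [Algebra R S]
    (hR : CAlg.IsNagata R) (x : S) (hx : Algebra.adjoin R ({x} : Set S) = ⊤) :
    CAlg.IsNagata S := by
  haveI := hR.1
  haveI : Algebra.FiniteType R S := ⟨⟨{x}, by rw [Finset.coe_singleton]; exact hx⟩⟩
  refine ⟨Algebra.FiniteType.isNoetherianRing R S, fun q hq => ?_⟩
  haveI : (q.comap (algebraMap R S)).IsPrime := Ideal.comap_isPrime _ _
  rw [NagataLoc.isN2_iff_N2']
  have hRp : CAlg.IsNagata (R ⧸ q.comap (algebraMap R S)) :=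
    isNagata_of_surjective (Ideal.Quotient.mk _) Ideal.Quotient.mk_surjective hR
  refine N2'_of_adjoin_singleton (R ⧸ q.comap (algebraMap R S)) (S ⧸ q)
    Ideal.algebraMap_quotient_injective hRp (Ideal.Quotient.mk q x) ?_
  rw [eq_top_iff]
  rintro s -
  obtain ⟨s, rfl⟩ := Ideal.Quotient.mk_surjective s
  have hs : s ∈ Algebra.adjoin R ({x} : Set S) := hx ▸ Algebra.mem_top
  refine Algebra.adjoin_induction
    (p := fun s _ => Ideal.Quotient.mk q s ∈
      Algebra.adjoin (R ⧸ q.comap (algebraMap R S)) ({Ideal.Quotient.mk q x} : Set (S ⧸ q)))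
    ?_ ?_ ?_ ?_ hs
  · intro z hz
    rw [Set.mem_singleton_iff] at hz
    rw [hz]
    exact Algebra.subset_adjoin (Set.mem_singleton _)
  · intro r
    have h : Ideal.Quotient.mk q (algebraMap R S r) =
        algebraMap (R ⧸ q.comap (algebraMap R S)) (S ⧸ q) (Ideal.Quotient.mk _ r) := rfl
    rw [h]
    exact Subalgebra.algebraMap_mem _ _
  · intro a b _ _ ha hb
    rw [map_add]
    exact Subalgebra.add_mem _ ha hb
  · intro a b _ _ ha hb
    rw [map_mul]
    exact Subalgebra.mul_mem _ ha hb

/-- Polynomial rings in finitely many variables over Nagata rings are Nagata. -/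
theorem isNagata_mvPolynomial (R : Type u) [CommRing R] (hR : CAlg.IsNagata R) (n : ℕ) :
    CAlg.IsNagata (MvPolynomial (Fin n) R) := by
  induction n with
  | zero =>
    exact isNagata_of_surjective (MvPolynomial.C : R →+* MvPolynomial (Fin 0) R)
      (MvPolynomial.C_surjective (Fin 0)) hR
  | succ n ih =>
    have h1 : CAlg.IsNagata (Polynomial (MvPolynomial (Fin n) R)) :=
      isNagata_of_adjoin_singleton (MvPolynomial (Fin n) R) _ ih Polynomial.X Polynomial.adjoin_X
    exact isNagata_of_surjective
      ((MvPolynomial.finSuccEquiv R n).symm : Polynomial (MvPolynomial (Fin n) R) →+*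
        MvPolynomial (Fin (n + 1)) R)
      (MvPolynomial.finSuccEquiv R n).symm.surjective h1

/-- **Nagata's theorem**: algebras of finite type over Nagata rings are Nagata. -/
theorem isNagata_of_finiteType (R : Type u) [CommRing R] (hR : CAlg.IsNagata R) (S : Type u)
    [CommRing S] [Algebra R S] [Algebra.FiniteType R S] : CAlg.IsNagata S := by
  obtain ⟨n, f, hf⟩ := Algebra.FiniteType.iff_quotient_mvPolynomial''.1
    (inferInstance : Algebra.FiniteType R S)
  exact isNagata_of_surjective (f : MvPolynomial (Fin n) R →+* S) hf (isNagata_mvPolynomial R hR n)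

end Groth.Agent.Lib.Helper26.NagThmA
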