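import Mathlib

/-!
# Scheme-theoretically dominant morphisms and separated targets (helper26)

* `ext_of_isSchemeTheoreticallyDominant_of_isSeparated` : two morphisms `f g : X ⟶ Y` agreeing over
  a separated `s : Y ⟶ Z` and after precomposition with a scheme-theoretically dominant `ι : W ⟶ X`
  are equal (no reducedness needed).
* `isSchemeTheoreticallyDominant_SpecMap` : `Spec.map φ` is scheme-theoretically dominant for
  injective `φ`.
* `over_hom_ext_of_pullback_map_eq` : for `η : S' ⟶ S` scheme-theoretically dominant and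
  quasi-compact, `X` flat over `S`, `Y` separated over `S`, two `S`-morphisms `X ⟶ Y` with equal base
  change along `η` are equal.
-/

set_option autoImplicit false
universe u
open CategoryTheory CategoryTheory.Limits AlgebraicGeometry

namespace Groth.Agent.Lib.Helper26.SchDominant

set_option backward.isDefEq.respectTransparency false in
lemma ext_of_isSchemeTheoreticallyDominant_of_isSeparated {W X Y Z : Scheme.{u}} {f g : X ⟶ Y}
    (s : Y ⟶ Z) [IsSeparated s] (h : f ≫ s = g ≫ s)
    (ι : W ⟶ X) [IsSchemeTheoreticallyDominant ι] (hU : ι ≫ f = ι ≫ g) : f = g := by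
  let X' : Over Z := Over.mk (f ≫ s)
  let Y' : Over Z := Over.mk s
  let U' : Over Z := Over.mk (ι ≫ f ≫ s)
  let f' : X' ⟶ Y' := Over.homMk f
  let g' : X' ⟶ Y' := Over.homMk g
  let ι' : U' ⟶ X' := Over.homMk ι
  have : IsSeparated Y'.hom := ‹_›
  have hι : ι' ≫ f' = ι' ≫ g' := by ext1; exact hU
  have hfac : ι = (equalizer.lift ι' hι).left ≫ (equalizer.ι f' g').left := by
    rw [← Over.comp_left, equalizer.lift_ι]; rfl
  have hker : (equalizer.ι f' g').left.ker = ⊥ := by
    have := Scheme.Hom.le_ker_comp (equalizer.lift ι' hι).left (equalizer.ι f' g').left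
    rw [← hfac, ι.ker_eq_bot] at this
    exact le_bot_iff.mp this
  have := IsClosedImmersion.isIso_iff_ker_eq_bot.mpr hker
  rw [← cancel_epi (equalizer.ι f' g').left]
  exact congr($(equalizer.condition f' g').left)

lemma isSchemeTheoreticallyDominant_SpecMap {R S : CommRingCat.{u}} (φ : R ⟶ S)
    (hφ : Function.Injective φ.hom) : IsSchemeTheoreticallyDominant (Spec.map φ) := by
  have hinj : Function.Injective ((Spec.map φ).app ⊤).hom := by
    show Function.Injective (Spec.map φ).appTop.hom
    have h1 : (Spec.map φ).appTop = (Scheme.ΓSpecIso R).hom ≫ φ ≫ (Scheme.ΓSpecIso S).inv := by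
      rw [← Scheme.ΓSpecIso_naturality_assoc, Iso.hom_inv_id, Category.comp_id]
    rw [h1]
    simp only [CommRingCat.hom_comp, RingHom.coe_comp]
    exact ((ConcreteCategory.bijective_of_isIso (Scheme.ΓSpecIso S).inv).1.comp hφ).comp
      (ConcreteCategory.bijective_of_isIso (Scheme.ΓSpecIso R).hom).1
  constructor
  refine Scheme.IdealSheafData.ext_of_isAffine ?_
  rw [(Spec.map φ).ker_apply ⟨⊤, isAffineOpen_top (Spec R)⟩]
  simp only [Scheme.IdealSheafData.ideal_bot, Pi.bot_apply]
  exact (RingHom.injective_iff_ker_eq_bot _).mp hinj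

lemma over_hom_ext_of_pullback_map_eq {S S' : Scheme.{u}} (η : S' ⟶ S)
    [IsSchemeTheoreticallyDominant η] [QuasiCompact η]
    {X Y : Over S} [Flat X.hom] [IsSeparated Y.hom] (f g : X ⟶ Y)
    (h : (Over.pullback η).map f = (Over.pullback η).map g) : f = g := by
  ext1
  refine ext_of_isSchemeTheoreticallyDominant_of_isSeparated Y.hom (by simp)
    (pullback.fst X.hom η) ?_
  have h1 := congrArg (fun t => t.left ≫ pullback.fst Y.hom η) h
  simp only [Over.pullback_obj_left, Over.pullback_map_left] at h1
  rw [pullback.lift_fst, pullback.lift_fst] at h1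
  exact h1

end Groth.Agent.Lib.Helper26.SchDominant
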