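import Groth.Agent.Lib.Helper26.RegularSch
import Mathlib

/-!
# Smooth algebras over regular rings are regular.
-/

set_option autoImplicit false
universe u

namespace Groth.Agent.Lib.Helper26.RegularSmooth

open Groth.Agent.Lib.Helper26.RegularSch

/-- If `S` is a localization of `R` at `M`, `P` is a prime of `R` disjoint from `M`, and `S` is
regular at the extension of `P`, then `R` is regular at `P`. -/
theorem isRegularLocalRing_atPrime_of_isLocalization {R : Type u} [CommRing R] (M : Submonoid R)
    (S : Type u) [CommRing S] [Algebra R S] [IsLocalization M S] (P : Ideal R) [hP : P.IsPrime]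
    (hdisj : Disjoint (M : Set R) (P : Set R))
    (h : ∀ (Q : Ideal S) [Q.IsPrime], IsRegularLocalRing (Localization.AtPrime Q)) :
    IsRegularLocalRing (Localization.AtPrime P) := by
  let P' : Ideal S := P.map (algebraMap R S)
  haveI hP' : P'.IsPrime := IsLocalization.isPrime_of_isPrime_disjoint M _ P hP hdisj
  have hcomap : P'.comap (algebraMap R S) = P :=
    IsLocalization.comap_map_of_isPrime_disjoint M _ hP hdisj
  haveI := h P'
  haveI h1 : IsLocalization.AtPrime (Localization.AtPrime P') (P'.comap (algebraMap R S)) :=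
    IsLocalization.isLocalization_isLocalization_atPrime_isLocalization M _ P'
  haveI h2 : IsLocalization.AtPrime (Localization.AtPrime P') P :=
    isLocalization_atPrime_congr _ P hcomap
  exact IsRegularLocalRing.of_ringEquiv (R := Localization.AtPrime P')
    (IsLocalization.algEquiv P.primeCompl (Localization.AtPrime P')
      (Localization.AtPrime P)).toRingEquiv

/-- A smooth algebra over a regular ring is a regular ring. -/
theorem isRegularRing_of_smooth (A B : Type u) [CommRing A] [CommRing B] [Algebra A B]
    [IsRegularRing A] [Algebra.Smooth A B] : IsRegularRing B := by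
  haveI : IsNoetherianRing B := Algebra.FiniteType.isNoetherianRing A B
  refine ⟨fun q hq => ?_⟩
  have hsm : (algebraMap A B).Smooth := RingHom.smooth_algebraMap.mpr inferInstance
  obtain ⟨s, hs, hP⟩ := RingHom.smooth_iff_locally_isStandardSmooth.mp hsm
  obtain ⟨t, hts, htq⟩ : ∃ t ∈ s, t ∉ q := by
    by_contra hcon
    push_neg at hcon
    have : Ideal.span s ≤ q := Ideal.span_le.mpr hcon
    rw [hs] at this
    exact hq.ne_top (top_le_iff.mp this)
  have hdisj : Disjoint ((Submonoid.powers t : Submonoid B) : Set B) (q : Set B) := by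
    rw [Set.disjoint_left]
    rintro _ ⟨n, rfl⟩ hmem
    exact htq (hq.mem_of_pow_mem n hmem)
  apply isRegularLocalRing_atPrime_of_isLocalization (Submonoid.powers t) (Localization.Away t) q
    hdisj
  intro Q _
  exact isRegularLocalRing_atPrime_of_isStandardSmooth _ (hP t hts) Q

open TensorProduct in
/-- Base change: if `A ⊗[k] k'` is regular and `B` is smooth over `A` then `B ⊗[k] k'` is
regular. -/
theorem isRegularRing_tensor_of_smooth (k k' A B : Type u) [CommRing k] [CommRing k'] [CommRing A]
    [CommRing B] [Algebra k k'] [Algebra k A] [Algebra k B] [Algebra A B] [IsScalarTower k A B]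
    [Algebra.Smooth A B] [IsRegularRing (A ⊗[k] k')] : IsRegularRing (B ⊗[k] k') := by
  letI alg : Algebra (A ⊗[k] k') (B ⊗[k] k') :=
    (Algebra.TensorProduct.map (IsScalarTower.toAlgHom k A B) (AlgHom.id k k')).toRingHom.toAlgebra
  haveI st : IsScalarTower A (A ⊗[k] k') (B ⊗[k] k') := by
    refine IsScalarTower.of_algebraMap_eq (fun a => ?_)
    show algebraMap A (B ⊗[k] k') a = (Algebra.TensorProduct.map (IsScalarTower.toAlgHom k A B)
      (AlgHom.id k k')) (algebraMap A (A ⊗[k] k') a)
    rw [Algebra.TensorProduct.algebraMap_apply, Algebra.TensorProduct.algebraMap_apply,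
      Algebra.TensorProduct.map_tmul]
    simp
  have H : (algebraMap (A ⊗[k] k') (B ⊗[k] k')).comp
      (Algebra.TensorProduct.includeRight (R := k) (A := A) (B := k')).toRingHom =
      (Algebra.TensorProduct.includeRight (R := k) (A := B) (B := k')).toRingHom := by
    ext x
    show (Algebra.TensorProduct.map (IsScalarTower.toAlgHom k A B) (AlgHom.id k k'))
      ((1 : A) ⊗ₜ[k] x) = (1 : B) ⊗ₜ[k] x
    rw [Algebra.TensorProduct.map_tmul]
    simp
  have hpo : Algebra.IsPushout A B (A ⊗[k] k') (B ⊗[k] k') :=
    Algebra.IsPushout.tensorProduct_tensorProduct k k' A B H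
  haveI hpo' : Algebra.IsPushout A (A ⊗[k] k') B (B ⊗[k] k') := hpo.symm
  haveI : Algebra.Smooth (A ⊗[k] k') (B ⊗[k] k') :=
    Algebra.Smooth.of_equiv (Algebra.IsPushout.equiv A (A ⊗[k] k') B (B ⊗[k] k'))
  exact isRegularRing_of_smooth (A ⊗[k] k') (B ⊗[k] k')

end Groth.Agent.Lib.Helper26.RegularSmooth
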