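import Groth.Agent.Lib.Helper26.RegularSmooth
import Groth.Agent.Lib.Helper26.RegularAscent
import Groth.Prelude
import Mathlib

/-!
# Tools for regular ring maps (`CAlg.IsRegularHom`) and geometric regularity.
-/

set_option autoImplicit false
universe u

namespace Groth.Agent.Lib.Helper26.RegularHom

open TensorProduct

/-- Flatness descends: if `A → C` is flat and `B → C` is faithfully flat then `A → B` is flat. -/
theorem flat_of_faithfullyFlat_comp (A B C : Type u) [CommRing A] [CommRing B] [CommRing C]
    [Algebra A B] [Algebra B C] [Algebra A C] [IsScalarTower A B C] [Module.Flat A C]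
    [Module.FaithfullyFlat B C] : Module.Flat A B := by
  rw [Module.Flat.iff_lTensor_preserves_injective_linearMap]
  intro N P _ _ _ _ f hf
  have h1 : Function.Injective (f.lTensor C) :=
    Module.Flat.lTensor_preserves_injective_linearMap f hf
  let g : B ⊗[A] N →ₗ[B] B ⊗[A] P := f.baseChange B
  have hcomm : ∀ x, (AlgebraTensorModule.cancelBaseChange A B C C P) (g.lTensor C x) =
      f.lTensor C (AlgebraTensorModule.cancelBaseChange A B C C N x) := by
    intro x
    induction x using TensorProduct.induction_on with
    | zero => simp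
    | add x y hx hy => simp only [map_add, hx, hy]
    | tmul c y =>
      induction y using TensorProduct.induction_on with
      | zero => simp
      | add x y hx hy => simp only [tmul_add, map_add, hx, hy]
      | tmul b n => simp [g]
  have hg : Function.Injective g := by
    rw [← Module.FaithfullyFlat.lTensor_injective_iff_injective B C]
    intro x y hxy
    apply (AlgebraTensorModule.cancelBaseChange A B C C N).injective
    apply h1
    rw [← hcomm, ← hcomm, hxy]
  exact hg

/-- The natural algebra structure on `C ⊗[A] K` over `B ⊗[A] K`. -/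
noncomputable abbrev tensorRightAlgebra (A K B C : Type u) [CommRing A] [CommRing K] [CommRing B]
    [CommRing C] [Algebra A K] [Algebra A B] [Algebra B C] [Algebra A C] [IsScalarTower A B C] :
    Algebra (B ⊗[A] K) (C ⊗[A] K) :=
  (Algebra.TensorProduct.map (IsScalarTower.toAlgHom A B C) (AlgHom.id A K)).toRingHom.toAlgebra

/-- Base change of a faithfully flat map `B → C` of `A`-algebras along `A → K`. -/
theorem faithfullyFlat_tensor_right (A K B C : Type u) [CommRing A] [CommRing K] [CommRing B]
    [CommRing C] [Algebra A K] [Algebra A B] [Algebra B C] [Algebra A C] [IsScalarTower A B C]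
    [Module.FaithfullyFlat B C] :
    letI := tensorRightAlgebra A K B C
    Module.FaithfullyFlat (B ⊗[A] K) (C ⊗[A] K) := by
  letI alg := tensorRightAlgebra A K B C
  haveI st : IsScalarTower B (B ⊗[A] K) (C ⊗[A] K) := by
    refine IsScalarTower.of_algebraMap_eq (fun a => ?_)
    show algebraMap B (C ⊗[A] K) a = (Algebra.TensorProduct.map (IsScalarTower.toAlgHom A B C)
      (AlgHom.id A K)) (algebraMap B (B ⊗[A] K) a)
    rw [Algebra.TensorProduct.algebraMap_apply, Algebra.TensorProduct.algebraMap_apply,
      Algebra.TensorProduct.map_tmul]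
    simp
  have H : (algebraMap (B ⊗[A] K) (C ⊗[A] K)).comp
      (Algebra.TensorProduct.includeRight (R := A) (A := B) (B := K)).toRingHom =
      (Algebra.TensorProduct.includeRight (R := A) (A := C) (B := K)).toRingHom := by
    ext x
    show (Algebra.TensorProduct.map (IsScalarTower.toAlgHom A B C) (AlgHom.id A K))
      ((1 : B) ⊗ₜ[A] x) = (1 : C) ⊗ₜ[A] x
    rw [Algebra.TensorProduct.map_tmul]
    simp
  haveI hpo : Algebra.IsPushout B C (B ⊗[A] K) (C ⊗[A] K) :=
    Algebra.IsPushout.tensorProduct_tensorProduct A K B C H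
  have h1 : (algebraMap B C).FaithfullyFlat :=
    RingHom.faithfullyFlat_algebraMap_iff.mpr inferInstance
  have h2 := RingHom.FaithfullyFlat.isStableUnderBaseChange B C (B ⊗[A] K) (C ⊗[A] K) h1
  exact RingHom.faithfullyFlat_algebraMap_iff.mp h2

/-- Regularity of `C ⊗[A] K` descends to `B ⊗[A] K` along a faithfully flat `B → C`. -/
theorem isRegularRing_tensor_of_faithfullyFlat (A K B C : Type u) [CommRing A] [CommRing K]
    [CommRing B] [CommRing C] [Algebra A K] [Algebra A B] [Algebra B C] [Algebra A C]
    [IsScalarTower A B C] [Module.FaithfullyFlat B C] [IsRegularRing (C ⊗[A] K)] :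
    IsRegularRing (B ⊗[A] K) := by
  letI alg := tensorRightAlgebra A K B C
  haveI := faithfullyFlat_tensor_right A K B C
  exact Groth.Agent.Lib.Helper26.RegularRing.isRegularRing_of_faithfullyFlat (B ⊗[A] K) (C ⊗[A] K)

/-- Noetherianity of `C ⊗[A] K` descends to `B ⊗[A] K` along a faithfully flat `B → C`. -/
theorem isNoetherianRing_tensor_of_faithfullyFlat (A K B C : Type u) [CommRing A] [CommRing K]
    [CommRing B] [CommRing C] [Algebra A K] [Algebra A B] [Algebra B C] [Algebra A C]
    [IsScalarTower A B C] [Module.FaithfullyFlat B C] [IsNoetherianRing (C ⊗[A] K)] :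
    IsNoetherianRing (B ⊗[A] K) := by
  letI alg := tensorRightAlgebra A K B C
  haveI := faithfullyFlat_tensor_right A K B C
  exact Groth.Agent.Lib.Helper26.RegularRing.isNoetherianRing_of_faithfullyFlat (B ⊗[A] K)
    (C ⊗[A] K)

/-- For a tower `A → κ → k'`, the ring `k' ⊗[κ] (κ ⊗[A] B)` is isomorphic to `B ⊗[A] k'`. -/
noncomputable def fiberTensorEquiv (A κ k' B : Type u) [CommRing A] [CommRing κ] [CommRing k']
    [CommRing B] [Algebra A κ] [Algebra κ k'] [Algebra A k'] [IsScalarTower A κ k'] [Algebra A B] :
    k' ⊗[κ] (κ ⊗[A] B) ≃+* B ⊗[A] k' :=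
  (Algebra.TensorProduct.cancelBaseChange A κ k' k' B).toRingEquiv.trans
    (Algebra.TensorProduct.comm A k' B).toRingEquiv

/-- Geometric regularity is invariant under algebra isomorphisms. -/
theorem isGeometricallyRegular_of_algEquiv {k S S' : Type u} [Field k] [CommRing S] [CommRing S']
    [Algebra k S] [Algebra k S'] (e : S ≃ₐ[k] S') (h : CAlg.IsGeometricallyRegular k S) :
    CAlg.IsGeometricallyRegular k S' := by
  intro k' _ _ hfin
  haveI := h k' hfin
  exact IsRegularRing.of_ringEquiv (R := k' ⊗[k] S)
    (Algebra.TensorProduct.congr (AlgEquiv.refl : k' ≃ₐ[k] k') e).toRingEquiv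

/-- Geometric regularity is preserved under finite extension of the base field. -/
theorem isGeometricallyRegular_tensor_of_finite (k K S : Type u) [Field k] [Field K] [CommRing S]
    [Algebra k K] [Module.Finite k K] [Algebra k S] (h : CAlg.IsGeometricallyRegular k S) :
    CAlg.IsGeometricallyRegular K (K ⊗[k] S) := by
  intro k' _ _ hfin
  letI : Algebra k k' := ((algebraMap K k').comp (algebraMap k K)).toAlgebra
  haveI : IsScalarTower k K k' := IsScalarTower.of_algebraMap_eq (fun _ => rfl)
  haveI : Module.Finite k k' := Module.Finite.trans K k'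
  haveI := h k' inferInstance
  exact IsRegularRing.of_ringEquiv (R := k' ⊗[k] S)
    (Algebra.TensorProduct.cancelBaseChange k K k' k' S).symm.toRingEquiv

/-- Regularity of a ring map is invariant under isomorphisms of the target. -/
theorem isRegularHom_of_algEquiv {R S S' : Type u} [CommRing R] [CommRing S] [CommRing S']
    [Algebra R S] [Algebra R S'] (e : S ≃ₐ[R] S') (h : CAlg.IsRegularHom R S) :
    CAlg.IsRegularHom R S' := by
  haveI := h.1
  refine ⟨Module.Flat.of_linearEquiv e.toLinearEquiv.symm, fun p hp => ?_⟩
  obtain ⟨hN, hG⟩ := h.2 p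
  let e' : p.Fiber S ≃ₐ[p.ResidueField] p.Fiber S' :=
    Algebra.TensorProduct.congr (AlgEquiv.refl : p.ResidueField ≃ₐ[p.ResidueField] p.ResidueField)
      e
  exact ⟨isNoetherianRing_of_ringEquiv _ e'.toRingEquiv, isGeometricallyRegular_of_algEquiv e' hG⟩

/-- Base change of a regular ring map along a quasi-finite map (e.g. a localization, a quotient
or a finite algebra) is regular. -/
theorem isRegularHom_baseChange_of_quasiFinite (A B A' : Type u) [CommRing A] [CommRing B]
    [CommRing A'] [Algebra A B] [Algebra A A'] [Algebra.QuasiFinite A A']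
    (h : CAlg.IsRegularHom A B) : CAlg.IsRegularHom A' (A' ⊗[A] B) := by
  haveI := h.1
  refine ⟨inferInstance, fun P hP => ?_⟩
  let p := P.under A
  letI := Localization.AtPrime.algebraOfLiesOver p P
  let e : P.Fiber (A' ⊗[A] B) ≃ₐ[P.ResidueField] P.ResidueField ⊗[p.ResidueField] (p.Fiber B) :=
    (Algebra.TensorProduct.cancelBaseChange _ _ _ _ _).trans
      (Algebra.TensorProduct.cancelBaseChange _ _ _ _ _).symm
  haveI hfin : Module.Finite p.ResidueField P.ResidueField := inferInstance
  obtain ⟨hN, hG⟩ := h.2 p
  haveI hN1 : IsNoetherianRing ((p.Fiber B) ⊗[p.ResidueField] P.ResidueField) := by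
    have := Algebra.FiniteType.isNoetherianRing (p.Fiber B)
      ((p.Fiber B) ⊗[p.ResidueField] P.ResidueField)
    convert this
  haveI hN2 : IsNoetherianRing (P.ResidueField ⊗[p.ResidueField] (p.Fiber B)) :=
    isNoetherianRing_of_ringEquiv _
      (Algebra.TensorProduct.comm p.ResidueField (p.Fiber B) P.ResidueField).toRingEquiv
  exact ⟨isNoetherianRing_of_ringEquiv _ e.symm.toRingEquiv,
    isGeometricallyRegular_of_algEquiv e.symm
      (isGeometricallyRegular_tensor_of_finite p.ResidueField P.ResidueField _ hG)⟩

end Groth.Agent.Lib.Helper26.RegularHom
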