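import Mathlib

/-!
# Length of the base change of a module killed by the maximal ideal (helper10's request T1)
-/

universe u
open IsLocalRing

namespace Groth.Agent.Lib.Helper26.LenBC

/-- (T1) -/
theorem length_baseChange_of_flat {A C : Type u} [CommRing A] [CommRing C] [IsLocalRing A]
    [IsLocalRing C] [Algebra A C] [Module.Flat A C]
    (hm : (maximalIdeal A).map (algebraMap A C) = maximalIdeal C)
    (M : Type u) [AddCommGroup M] [Module A M] [Module.Finite A M]
    (hM : ∀ a ∈ maximalIdeal A, ∀ z : M, a • z = 0) :
    Module.length C (TensorProduct A C M) = Module.length A M := by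
  haveI : IsLocalHom (algebraMap A C) :=
    ((IsLocalRing.local_hom_TFAE (algebraMap A C)).out 2 0).mp hm.le
  rw [IsLocalRing.length_baseChange A C M, hm]
  have h1 : Module.length C (C ⧸ maximalIdeal C) = 1 := by
    rw [Module.length_eq_one_iff, isSimpleModule_iff_isCoatom, ← Ideal.isMaximal_def]
    exact IsLocalRing.maximalIdeal.isMaximal C
  rw [h1, mul_one]

end Groth.Agent.Lib.Helper26.LenBC
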