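import Mathlib
import Groth.Prelude.Def_AlgSpInf

/-!
# Helper26: formal smoothness / unramifiedness / etaleness of morphisms of fppf sheaves: formal
consequences of the lifting definitions (composition, permanence, base change).
-/

set_option autoImplicit false
universe u

open CategoryTheory CategoryTheory.Limits AlgebraicGeometry Opposite

namespace Groth.Agent.Lib.Helper26.AlgSpFormal

open AlgSp

variable {S : Scheme.{u}}

theorem isFormallyEtaleMor_iff {F G : Sp S} (f : F ⟶ G) :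
    IsFormallyEtaleMor f ↔ IsFormallySmoothMor f ∧ IsFormallyUnramifiedMor f := by
  constructor
  · intro h
    refine ⟨fun sq => ?_, fun sq => ?_⟩
    · obtain ⟨l, hl, -⟩ := h sq
      exact ⟨l, hl⟩
    · intro l l' h1 h2 h3 h4
      obtain ⟨m, -, hm⟩ := h sq
      rw [hm l ⟨h1, h2⟩, hm l' ⟨h3, h4⟩]
  · rintro ⟨h1, h2⟩ sq
    obtain ⟨l, hl⟩ := h1 sq
    exact ⟨l, hl, fun l' hl' => h2 sq l' l hl'.1 hl'.2 hl.1 hl.2⟩

/-- the lifting square for `b` obtained from one for `a ≫ b` -/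
noncomputable def sqSnd {F G H : Sp S} (a : F ⟶ G) (b : G ⟶ H) (sq : InfSq (a ≫ b)) : InfSq b where
  A := sq.A
  I := sq.I
  sq_zero := sq.sq_zero
  str := sq.str
  top := sq.top ≫ a
  bot := sq.bot
  comm := by rw [Category.assoc]; exact sq.comm

/-- the lifting square for `a` obtained from one for `a ≫ b` and a partial lift to `G` -/
noncomputable def sqFst {F G H : Sp S} (a : F ⟶ G) (b : G ⟶ H) (sq : InfSq (a ≫ b))
    (m : (yon S).obj sq.ptT' ⟶ G) (hm : (yon S).map sq.j ≫ m = sq.top ≫ a) : InfSq a where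
  A := sq.A
  I := sq.I
  sq_zero := sq.sq_zero
  str := sq.str
  top := sq.top
  bot := m
  comm := hm.symm

/-- the lifting square for `a ≫ b` obtained from one for `a` -/
noncomputable def sqComp {F G H : Sp S} (a : F ⟶ G) (b : G ⟶ H) (sq : InfSq a) : InfSq (a ≫ b) where
  A := sq.A
  I := sq.I
  sq_zero := sq.sq_zero
  str := sq.str
  top := sq.top
  bot := sq.bot ≫ b
  comm := by rw [← Category.assoc, sq.comm, Category.assoc]

theorem smooth_comp {F G H : Sp S} {a : F ⟶ G} {b : G ⟶ H} (ha : IsFormallySmoothMor a)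
    (hb : IsFormallySmoothMor b) : IsFormallySmoothMor (a ≫ b) := by
  intro sq
  obtain ⟨m₀, hm1₀, hm2₀⟩ := hb (sqSnd a b sq)
  let m : (yon S).obj sq.ptT' ⟶ G := m₀
  have hm1 : (yon S).map sq.j ≫ m = sq.top ≫ a := hm1₀
  have hm2 : m ≫ b = sq.bot := hm2₀
  obtain ⟨l₀, hl1₀, hl2₀⟩ := ha (sqFst a b sq m hm1)
  let l : (yon S).obj sq.ptT' ⟶ F := l₀
  have hl1 : (yon S).map sq.j ≫ l = sq.top := hl1₀
  have hl2 : l ≫ a = m := hl2₀
  exact ⟨l, hl1, by rw [← Category.assoc, hl2]; exact hm2⟩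

theorem unramified_comp {F G H : Sp S} {a : F ⟶ G} {b : G ⟶ H} (ha : IsFormallyUnramifiedMor a)
    (hb : IsFormallyUnramifiedMor b) : IsFormallyUnramifiedMor (a ≫ b) := by
  intro sq l l' h1 h2 h3 h4
  have hm : l ≫ a = l' ≫ a := by
    apply hb (sqSnd a b sq) (l ≫ a) (l' ≫ a)
    · show (yon S).map sq.j ≫ l ≫ a = sq.top ≫ a
      rw [← Category.assoc, h1]
    · show (l ≫ a) ≫ b = sq.bot
      rw [Category.assoc]; exact h2
    · show (yon S).map sq.j ≫ l' ≫ a = sq.top ≫ a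
      rw [← Category.assoc, h3]
    · show (l' ≫ a) ≫ b = sq.bot
      rw [Category.assoc]; exact h4
  have hm1 : (yon S).map sq.j ≫ (l ≫ a) = sq.top ≫ a := by rw [← Category.assoc, h1]
  exact ha (sqFst a b sq (l ≫ a) hm1) l l' h1 rfl h3 hm.symm

theorem etale_comp {F G H : Sp S} {a : F ⟶ G} {b : G ⟶ H} (ha : IsFormallyEtaleMor a)
    (hb : IsFormallyEtaleMor b) : IsFormallyEtaleMor (a ≫ b) := by
  rw [isFormallyEtaleMor_iff] at ha hb ⊢
  exact ⟨smooth_comp ha.1 hb.1, unramified_comp ha.2 hb.2⟩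

theorem unramified_of_comp {F G H : Sp S} {a : F ⟶ G} {b : G ⟶ H}
    (h : IsFormallyUnramifiedMor (a ≫ b)) : IsFormallyUnramifiedMor a := by
  intro sq l l' h1 h2 h3 h4
  apply h (sqComp a b sq) l l' h1 _ h3 _
  · show l ≫ a ≫ b = sq.bot ≫ b
    rw [← Category.assoc, h2]
  · show l' ≫ a ≫ b = sq.bot ≫ b
    rw [← Category.assoc, h4]

theorem smooth_of_comp {F G H : Sp S} {a : F ⟶ G} {b : G ⟶ H} (hb : IsFormallyUnramifiedMor b)
    (h : IsFormallySmoothMor (a ≫ b)) : IsFormallySmoothMor a := by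
  intro sq
  obtain ⟨l, hl1, hl2⟩ := h (sqComp a b sq)
  have hl1' : (yon S).map sq.j ≫ l = sq.top := hl1
  have hl2' : l ≫ a ≫ b = sq.bot ≫ b := hl2
  refine ⟨l, hl1, ?_⟩
  -- both `l ≫ a` and `sq.bot` are lifts in the square for `b`
  let sqb : InfSq b :=
    { A := sq.A, I := sq.I, sq_zero := sq.sq_zero, str := sq.str, top := sq.top ≫ a,
      bot := sq.bot ≫ b, comm := by rw [← Category.assoc, ← sq.comm] }
  apply hb sqb (l ≫ a) sq.bot
  · show (yon S).map sq.j ≫ l ≫ a = sq.top ≫ a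
    rw [← Category.assoc, hl1']
  · show (l ≫ a) ≫ b = sq.bot ≫ b
    rw [Category.assoc]; exact hl2'
  · exact sq.comm.symm
  · rfl

theorem etale_of_comp {F G H : Sp S} {a : F ⟶ G} {b : G ⟶ H} (hb : IsFormallyUnramifiedMor b)
    (h : IsFormallyEtaleMor (a ≫ b)) : IsFormallyEtaleMor a := by
  rw [isFormallyEtaleMor_iff] at h ⊢
  exact ⟨smooth_of_comp hb h.1, unramified_of_comp h.2⟩

section BaseChange

variable {F G H P : Sp S} {a : F ⟶ G} {b : H ⟶ G} {b' : P ⟶ F} {a' : P ⟶ H}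

/-- the lifting square for `a` induced by one for its base change `a'` -/
noncomputable def sqBase (hP : IsPullback b' a' a b) (sq : InfSq a') : InfSq a where
  A := sq.A
  I := sq.I
  sq_zero := sq.sq_zero
  str := sq.str
  top := sq.top ≫ b'
  bot := sq.bot ≫ b
  comm := by rw [Category.assoc, hP.w, ← Category.assoc, sq.comm, Category.assoc]

theorem smooth_baseChange (hP : IsPullback b' a' a b) (ha : IsFormallySmoothMor a) :
    IsFormallySmoothMor a' := by
  intro sq
  obtain ⟨l, hl1, hl2⟩ := ha (sqBase hP sq)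
  have hl1' : (yon S).map sq.j ≫ l = sq.top ≫ b' := hl1
  have hl2' : l ≫ a = sq.bot ≫ b := hl2
  refine ⟨hP.lift l sq.bot hl2', ?_, hP.lift_snd _ _ _⟩
  apply hP.hom_ext
  · rw [Category.assoc, hP.lift_fst, hl1']
  · rw [Category.assoc, hP.lift_snd, sq.comm]

theorem unramified_baseChange (hP : IsPullback b' a' a b) (ha : IsFormallyUnramifiedMor a) :
    IsFormallyUnramifiedMor a' := by
  intro sq m m' h1 h2 h3 h4
  apply hP.hom_ext
  · apply ha (sqBase hP sq) (m ≫ b') (m' ≫ b')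
    · show (yon S).map sq.j ≫ m ≫ b' = sq.top ≫ b'
      rw [← Category.assoc, h1]
    · show (m ≫ b') ≫ a = sq.bot ≫ b
      rw [Category.assoc, hP.w, ← Category.assoc, h2]
    · show (yon S).map sq.j ≫ m' ≫ b' = sq.top ≫ b'
      rw [← Category.assoc, h3]
    · show (m' ≫ b') ≫ a = sq.bot ≫ b
      rw [Category.assoc, hP.w, ← Category.assoc, h4]
  · rw [h2, h4]

theorem etale_baseChange (hP : IsPullback b' a' a b) (ha : IsFormallyEtaleMor a) :
    IsFormallyEtaleMor a' := by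
  rw [isFormallyEtaleMor_iff] at ha ⊢
  exact ⟨smooth_baseChange hP ha.1, unramified_baseChange hP ha.2⟩

end BaseChange

end Groth.Agent.Lib.Helper26.AlgSpFormal
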