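import Mathlib
import Groth.Agent.Lib.Helper26.SpreadOut

/-!
# Spreading out, part 2: uniqueness up to further localization
-/

universe u

namespace Groth.Agent.Lib.Helper26.SpreadOut

open IsLocalization

theorem isUnit_away_of_dvd {T : Type*} [CommRing T] (d x : T) (h : d ∣ x) :
    IsUnit (algebraMap T (Localization.Away x) d) :=
  isUnit_of_dvd_unit (map_dvd _ h) (IsLocalization.Away.algebraMap_isUnit x)

theorem algHom_away_ext {R T A : Type*} [CommRing R] [CommRing T] [CommRing A] [Algebra R T]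
    [Algebra R A] (d : T) {f g : Localization.Away d →ₐ[R] A}
    (h : ∀ s : T, f (algebraMap T (Localization.Away d) s) =
      g (algebraMap T (Localization.Away d) s)) : f = g :=
  AlgHom.coe_ringHom_injective
    (IsLocalization.ringHom_ext (Submonoid.powers d) (RingHom.ext h))

/-- Two maps from a finite type algebra into `T_t` which agree in `M⁻¹T` agree in `T_{tm}`
for some `m ∈ M`. -/
theorem exists_forall_eq_of_map_eq {R P T L : Type u} [CommRing R] [CommRing P] [CommRing T]
    [CommRing L] [Algebra R P] [Algebra R T] [Algebra T L] [Algebra.FiniteType R P]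
    (M : Submonoid T) [IsLocalization M L] (t : T)
    (ψ₁ ψ₂ : P →ₐ[R] Localization.Away t) (ρ : Localization.Away t →ₐ[T] L)
    (h : ∀ x, ρ (ψ₁ x) = ρ (ψ₂ x)) :
    ∃ m ∈ M, ∀ (A : Type u) [CommRing A] [Algebra T A]
      (τ : Localization.Away t →ₐ[T] A), IsUnit (algebraMap T A m) →
        ∀ x, τ (ψ₁ x) = τ (ψ₂ x) := by
  classical
  obtain ⟨X, hX⟩ := (Algebra.FiniteType.out : (⊤ : Subalgebra R P).FG)
  have key : ∀ x : P, ∃ m ∈ M, ∀ (A : Type u) [CommRing A] [Algebra T A]
      (τ : Localization.Away t →ₐ[T] A), IsUnit (algebraMap T A m) → τ (ψ₁ x) = τ (ψ₂ x) := by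
    intro x
    obtain ⟨y, ⟨_, k, rfl⟩, hy⟩ :=
      IsLocalization.exists_mk'_eq (Submonoid.powers t) (ψ₁ x - ψ₂ x)
    have h1 := algHom_mk'_mul (Submonoid.powers t) ρ y ⟨t ^ k, k, rfl⟩
    rw [hy, map_sub, h x, sub_self, zero_mul] at h1
    obtain ⟨⟨m, hm⟩, hmy⟩ := (IsLocalization.map_eq_zero_iff M L y).mp h1.symm
    refine ⟨m, hm, fun A _ _ τ hmu => ?_⟩
    have h2 := algHom_mk'_mul (Submonoid.powers t) τ y ⟨t ^ k, k, rfl⟩
    rw [hy] at h2
    have hy0 : algebraMap T A y = 0 := by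
      apply hmu.mul_left_cancel
      rw [← map_mul, hmy, map_zero, mul_zero]
    rw [hy0] at h2
    have htu : IsUnit (algebraMap T A (t ^ k)) := by
      rw [← τ.commutes]
      exact (IsLocalization.map_units (Localization.Away t)
        (⟨t ^ k, k, rfl⟩ : Submonoid.powers t)).map τ
    have h3 := htu.mul_left_eq_zero.mp h2
    rwa [map_sub, sub_eq_zero] at h3
  have keyX : ∀ Y : Finset P, ∃ m ∈ M, ∀ (A : Type u) [CommRing A] [Algebra T A]
      (τ : Localization.Away t →ₐ[T] A), IsUnit (algebraMap T A m) →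
        ∀ x ∈ Y, τ (ψ₁ x) = τ (ψ₂ x) := by
    intro Y
    induction Y using Finset.induction_on with
    | empty => exact ⟨1, Submonoid.one_mem _, fun A _ _ τ _ x hx => by simp at hx⟩
    | insert x Y hx ih =>
      obtain ⟨m₁, hm₁, h₁⟩ := ih
      obtain ⟨m₂, hm₂, h₂⟩ := key x
      refine ⟨m₁ * m₂, mul_mem hm₁ hm₂, fun A _ _ τ hu y hy => ?_⟩
      rw [map_mul, IsUnit.mul_iff] at hu
      rcases Finset.mem_insert.mp hy with rfl | hy
      · exact h₂ A τ hu.2
      · exact h₁ A τ hu.1 y hy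
  obtain ⟨m, hm, hmX⟩ := keyX X
  refine ⟨m, hm, fun A _ _ τ hu x => ?_⟩
  have hx : x ∈ Algebra.adjoin R (X : Set P) := hX ▸ Algebra.mem_top
  induction hx using Algebra.adjoin_induction with
  | mem x hx => exact hmX A τ hu x hx
  | algebraMap r => rw [ψ₁.commutes, ψ₂.commutes]
  | add x y _ _ hx hy => rw [map_add, map_add, map_add, map_add, hx, hy]
  | mul x y _ _ hx hy => rw [map_mul, map_mul, map_mul, map_mul, hx, hy]

end Groth.Agent.Lib.Helper26.SpreadOut
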