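import Groth.Agent.Lib.Helper7.FreeHomExact
import Groth.Agent.Lib.Helper3.QCOpen
import Groth.Agent.Lib.Helper3.QCLim
import Groth.Agent.Lib.Helper3.QCProps
import Groth.Agent.Lib.Helper1.GenCoverGeo
import Mathlib

/-!
# Local structure of the internal hom out of a finite locally free module (helper26)

For `A` finite locally free on a scheme `X` and any module `N`, the internal hom
`Hom_{O_X}(A, N)` is locally a finite direct sum of copies of `N`.  Consequences:

* `isQuasicoherent_sheafHom`, `isFiniteType_sheafHom`;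
* `epi_counit`: if `A` has positive rank everywhere then the evaluation map
  `A ⊗ Hom(A, N) ⟶ N` is an epimorphism.
-/

set_option autoImplicit false
set_option linter.style.haveILetI false
universe u v
open CategoryTheory CategoryTheory.Limits Opposite

noncomputable section

namespace Groth.Agent.Lib.Helper26.HomLF

open Groth.Agent.Lib.Helper13 Groth.Agent.Lib.Helper7.FreeHomExact Groth.Agent.Lib.Helper3

attribute [local instance] Abelian.hasFiniteBiproducts

section Site

variable {C : Type u} [SmallCategory C] {J : GrothendieckTopology C} (O : Sheaf J CommRingCat.{u})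

/-- `Hom_O(M, -) ≅ (-)^n` for `M` free of rank `n`. -/
def sheafHomFreeIso (n : ℕ) (M : ModSite.Mod O)
    (e : M ≅ ∐ fun _ : Fin n => ModSite.unit O) [ModSite.HasSheafHom M] :
    ModSite.sheafHom M ≅ Pn (A := ModSite.Mod O) n :=
  let e' : M ≅ ⨁ fun _ : Fin n => ModSite.unit O := e ≪≫ (biproduct.isoCoproduct _).symm
  let isoL : (ModSite.tensorBi O).flip.obj M ≅ Pn n :=
    (ModSite.tensorBi O).flip.mapIso e' ≪≫ tensorFreeIso O n
  Adjunction.rightAdjointUniq (ModSite.sheafHomAdj M) ((adjP n).ofNatIsoLeft isoL.symm)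

end Site

section Scheme

open AlgebraicGeometry AlgebraicGeometry.Scheme.Modules

variable {X : Scheme.{u}}

set_option backward.isDefEq.respectTransparency false in
/-- local structure of the internal hom (slice site form) -/
def restrSheafHomFreeIso (A N : X.Modules) [ModSite.HasSheafHom (O := X.sheaf) A]
    (V : X.Opens) (n : ℕ) (φ : A.restrict V.ι ≅ FlatMod.freeMod (↑V) n) :
    (ModSite.restr X.sheaf V).obj ((ModSite.sheafHom (O := X.sheaf) A).obj N) ≅
      (Pn n).obj ((ModSite.restr X.sheaf V).obj N) := by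
  haveI : ModSite.HasSheafHom ((ModSite.restr X.sheaf V).obj A) := ModSiteTensor.hasSheafHom _ _
  exact (ModSiteHomRestr.restrSheafHomIso X.sheaf V A).app N ≪≫
    (sheafHomFreeIso (X.sheaf.over V) n _ (restrFreeIso V A n φ)).app _

set_option backward.isDefEq.respectTransparency false in
/-- local structure of the internal hom (open subscheme form) -/
def restrictSheafHomIso (A N : X.Modules) [ModSite.HasSheafHom (O := X.sheaf) A]
    (V : X.Opens) (n : ℕ) (φ : A.restrict V.ι ≅ FlatMod.freeMod (↑V) n) :
    (restrictFunctor V.ι).obj ((ModSite.sheafHom (O := X.sheaf) A).obj N) ≅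
      ⨁ fun _ : Fin n => (restrictFunctor V.ι).obj N := by
  let E := overEquiv V
  haveI : E.functor.Additive := Functor.additive_of_preserves_binary_products _
  exact ((overFunctorEquiv V).app _).symm ≪≫
    E.functor.mapIso (restrSheafHomFreeIso A N V n φ) ≪≫
    E.functor.mapBiproduct _ ≪≫ biproduct.mapIso (fun _ => (overFunctorEquiv V).app N)

/-- comparison of the two internal homs -/
def sheafHomCompIso (A : X.Modules) [DCoh.HasSheafHom A]
    [ModSite.HasSheafHom (O := X.sheaf) A] :
    DCoh.sheafHom A ≅ ModSite.sheafHom (O := X.sheaf) A :=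
  Adjunction.rightAdjointUniq
    ((DCoh.sheafHomAdj A).ofNatIsoLeft (ProjFormulaLF.braidIso A))
    (ModSite.sheafHomAdj (O := X.sheaf) A)

/-- local structure of `DCoh.sheafHom` -/
def locIso (A N : X.Modules) [DCoh.HasSheafHom A]
    (V : X.Opens) (n : ℕ) (φ : A.restrict V.ι ≅ FlatMod.freeMod (↑V) n) :
    (restrictFunctor V.ι).obj ((DCoh.sheafHom A).obj N) ≅
      ⨁ fun _ : Fin n => (restrictFunctor V.ι).obj N := by
  haveI : ModSite.HasSheafHom (O := X.sheaf) A := ModSiteTensor.hasSheafHom X.sheaf A
  exact (restrictFunctor V.ι).mapIso ((sheafHomCompIso A).app N) ≪≫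
    restrictSheafHomIso A N V n φ

/-- a finite direct sum of copies of a quasi-coherent module is quasi-coherent -/
theorem isQuasicoherent_biproduct_fin (n : ℕ) (T : X.Modules) [T.IsQuasicoherent] :
    SheafOfModules.IsQuasicoherent (R := X.ringCatSheaf)
      (⨁ fun _ : Fin n => T) := by
  have h := QCLim.isQuasicoherent_finite_colimit (Discrete.functor fun _ : Fin n => T)
    (fun _ => (inferInstance : T.IsQuasicoherent))
  exact (SheafOfModules.isQuasicoherent X.ringCatSheaf).prop_of_iso
    (biproduct.isoCoproduct _).symm h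

/-- sections of a finite direct sum of copies of a module with finite sections are finite -/
theorem finite_sections_biproduct_fin (n : ℕ) (T : X.Modules) (U : X.Opens)
    [Module.Finite Γ(X, U) Γ(T, U)] :
    Module.Finite Γ(X, U) Γ((⨁ fun _ : Fin n => T), U) := by
  let L : (Fin n → Γ(T, U)) →ₗ[Γ(X, U)] Γ((⨁ fun _ : Fin n => T), U) :=
    ∑ i : Fin n, (QCProps.appₗ (biproduct.ι (fun _ : Fin n => T) i) U) ∘ₗ (LinearMap.proj i)
  refine Module.Finite.of_surjective L ?_
  intro s
  refine ⟨fun i => (biproduct.π (fun _ : Fin n => T) i).app U s, ?_⟩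
  have h1 : L (fun i => (biproduct.π (fun _ : Fin n => T) i).app U s) =
      ∑ i : Fin n, (biproduct.π (fun _ : Fin n => T) i ≫
        biproduct.ι (fun _ : Fin n => T) i).app U s := by
    simp only [L, LinearMap.sum_apply, LinearMap.comp_apply, LinearMap.proj_apply,
      QCProps.appₗ_apply]
    rfl
  rw [h1, ← Groth.Agent.Lib.Helper1.GenCover.sum_app, biproduct.total]
  rfl

/-- a finite direct sum of copies of a quasi-coherent module of finite type is of finite type -/
theorem isFiniteType_biproduct_fin (n : ℕ) (T : X.Modules) [T.IsQuasicoherent]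
    [T.IsFiniteType] :
    SheafOfModules.IsFiniteType (R := X.ringCatSheaf) (⨁ fun _ : Fin n => T) := by
  haveI := isQuasicoherent_biproduct_fin n T
  rw [QCProps.isFiniteType_iff_finite_sections]
  intro U hU
  haveI := QCProps.finite_sections T hU
  exact finite_sections_biproduct_fin n T U

theorem isQuasicoherent_sheafHom (A N : X.Modules) (hA : FlatMod.IsFinLocFree A)
    [N.IsQuasicoherent] [DCoh.HasSheafHom A] :
    SheafOfModules.IsQuasicoherent (R := X.ringCatSheaf) ((DCoh.sheafHom A).obj N) := by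
  apply QCOpen.isQuasicoherent_of_open_cover
  intro x
  obtain ⟨V, n, hxV, ⟨φ⟩⟩ := hA x
  refine ⟨V, hxV, ?_⟩
  haveI : ((restrictFunctor V.ι).obj N).IsQuasicoherent :=
    Scheme.Modules.isQuasicoherent_restrictFunctor V.ι N
  have hq := isQuasicoherent_biproduct_fin n ((restrictFunctor V.ι).obj N)
  exact (SheafOfModules.isQuasicoherent ((V : X.Opens) : Scheme.{u}).ringCatSheaf).prop_of_iso
      (locIso A N V n φ).symm hq

theorem isFiniteType_sheafHom (A N : X.Modules) (hA : FlatMod.IsFinLocFree A)
    [N.IsQuasicoherent] [N.IsFiniteType] [DCoh.HasSheafHom A] :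
    SheafOfModules.IsFiniteType (R := X.ringCatSheaf) ((DCoh.sheafHom A).obj N) := by
  apply QCOpen.isFiniteType_of_open_cover
  intro x
  obtain ⟨V, n, hxV, ⟨φ⟩⟩ := hA x
  haveI : ((restrictFunctor V.ι).obj N).IsQuasicoherent :=
    Scheme.Modules.isQuasicoherent_restrictFunctor V.ι N
  haveI : ((restrictFunctor V.ι).obj N).IsFiniteType := QCProps.isFiniteType_restrict V.ι N
  have hq := isQuasicoherent_biproduct_fin n ((restrictFunctor V.ι).obj N)
  haveI hf := isFiniteType_biproduct_fin n ((restrictFunctor V.ι).obj N)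
  refine ⟨V, hxV, ?_, ?_⟩
  · exact (SheafOfModules.isQuasicoherent ((V : X.Opens) : Scheme.{u}).ringCatSheaf).prop_of_iso
      (locIso A N V n φ).symm hq
  · exact @QCProps.isFiniteType_of_iso _ _ _ (locIso A N V n φ).symm hf

/-- `A` is finite locally free of positive rank everywhere -/
def IsPosLocFree (A : X.Modules) : Prop :=
  ∀ x : X, ∃ (U : X.Opens) (n : ℕ), x ∈ U ∧ 0 < n ∧
    Nonempty (A.restrict U.ι ≅ FlatMod.freeMod (↑U) n)

theorem IsPosLocFree.isFinLocFree {A : X.Modules} (hA : IsPosLocFree A) :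
    FlatMod.IsFinLocFree A := by
  intro x
  obtain ⟨U, n, hxU, -, h⟩ := hA x
  exact ⟨U, n, hxU, h⟩

/-- the internal hom out of a module of positive rank reflects zero objects -/
theorem isZero_of_isZero_sheafHom (A C : X.Modules) (hA : IsPosLocFree A) [DCoh.HasSheafHom A]
    (h : IsZero ((DCoh.sheafHom A).obj C)) : IsZero C := by
  apply PCohNoeth.isZero_of_locally
  intro x
  obtain ⟨V, n, hxV, hn, ⟨φ⟩⟩ := hA x
  refine ⟨V, hxV, ?_⟩
  have h1 : IsZero ((restrictFunctor V.ι).obj ((DCoh.sheafHom A).obj C)) :=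
    Functor.map_isZero _ h
  have h2 : IsZero (⨁ fun _ : Fin n => (restrictFunctor V.ι).obj C) :=
    IsZero.of_iso h1 (locIso A C V n φ).symm
  rw [IsZero.iff_id_eq_zero]
  have h3 : biproduct.ι (fun _ : Fin n => (restrictFunctor V.ι).obj C) ⟨0, hn⟩ = 0 :=
    h2.eq_of_tgt _ _
  have h4 := biproduct.ι_π_self (fun _ : Fin n => (restrictFunctor V.ι).obj C) ⟨0, hn⟩
  rw [h3, zero_comp] at h4
  exact h4.symm

/-- evaluation `A ⊗ Hom(A, N) ⟶ N` is an epimorphism when `A` has positive rank everywhere -/
theorem epi_counit (A N : X.Modules) (hA : IsPosLocFree A) [DCoh.HasSheafHom A] :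
    Epi ((DCoh.sheafHomAdj A).counit.app N) := by
  haveI := preservesFiniteColimits_sheafHom A hA.isFinLocFree
  haveI : (DCoh.sheafHom A).Additive := (DCoh.sheafHomAdj A).right_adjoint_additive
  set ε := (DCoh.sheafHomAdj A).counit.app N with hε
  apply Preadditive.epi_of_isZero_cokernel
  apply isZero_of_isZero_sheafHom A _ hA
  have hsplit : (DCoh.sheafHomAdj A).unit.app ((DCoh.sheafHom A).obj N) ≫
      (DCoh.sheafHom A).map ε = 𝟙 _ := (DCoh.sheafHomAdj A).right_triangle_components N
  haveI : Epi ((DCoh.sheafHom A).map ε) := (SplitEpi.mk _ hsplit).epi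
  have h0 : (DCoh.sheafHom A).map ε ≫ (DCoh.sheafHom A).map (cokernel.π ε) = 0 := by
    rw [← Functor.map_comp, cokernel.condition, Functor.map_zero]
  have h1 : (DCoh.sheafHom A).map (cokernel.π ε) = 0 := by
    rw [← cancel_epi ((DCoh.sheafHom A).map ε), h0, comp_zero]
  exact IsZero.of_epi_eq_zero _ h1

end Scheme

end Groth.Agent.Lib.Helper26.HomLF
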