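import Groth.Agent.Lib.Helper26.AffProj
import Groth.Agent.Lib.Helper26.HomLF
import Groth.Agent.Lib.Helper17.FinLocFreeSec
import Groth.Agent.Lib.Helper17.FinPushFP
import Groth.Agent.Lib.Helper17.CoprodSec
import Groth.Agent.Lib.Helper17.PbFinite
import Mathlib

/-!
# Pushforward along finite locally free morphisms (helper26)

* `epi_pushforward_map`: pushforward along an affine morphism preserves epimorphisms of
  quasi-coherent modules.
* `isFinLocFree_pushforward`: the pushforward of a finite locally free module along a finite flat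
  finitely presented morphism is finite locally free.
* `isPosLocFree_pushforward_structure`: `f_*O_X` has positive rank everywhere when `f` is moreover
  surjective.
* `exists_epi_pushforward`: for `f` finite locally free and surjective, every quasi-coherent `N`
  on `Y` receives an epimorphism from `f_*(O_X ⊗ f^* Hom(f_*O_X, N))`.
-/

set_option autoImplicit false
set_option linter.style.haveILetI false
universe u
open CategoryTheory CategoryTheory.Limits AlgebraicGeometry Opposite TopologicalSpace

namespace Groth.Agent.Lib.Helper26.FinPush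

open Groth.Agent.Lib.Helper3 Groth.Agent.Lib.Helper17 Groth.Agent.Lib.Helper13
open Groth.Agent.Lib.Helper2.Mon
open Scheme.Modules

variable {X Y : Scheme.{u}}

/-- pushforward along an affine morphism preserves epimorphisms of quasi-coherent modules -/
theorem epi_pushforward_map (f : X ⟶ Y) [IsAffineHom f] {M N : X.Modules} [M.IsQuasicoherent]
    [N.IsQuasicoherent] (φ : M ⟶ N) [Epi φ] : Epi ((pushforward f).map φ) := by
  haveI : ((pushforward f).obj N).IsQuasicoherent := QCSec.isQuasicoherent_pushforward f N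
  apply QCExact.epi_of_surjective_on_affine_cover
  intro y
  obtain ⟨V, hV, hyV⟩ := QCProps.exists_affine_nbhd y
  refine ⟨V, hV, hyV, ?_⟩
  exact (QCExact.epi_iff_surjective_on_affines φ).mp inferInstance (f ⁻¹ᵁ V) (hV.preimage f)

theorem isFinLocFree_structureModule (X : Scheme.{u}) :
    FlatMod.IsFinLocFree (Coh.structureModule X) := by
  apply FinLocFreeSec.isFinLocFree_of_sections
  intro U hU
  let e : Γ(X, U) ≃ₗ[Γ(X, U)] Γ(Coh.structureModule X, U) :=
    { toFun := fun a => InvGen.ofFun U a
      invFun := fun a => InvGen.toFun U a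
      map_add' := fun _ _ => rfl
      map_smul' := fun _ _ => rfl
      left_inv := fun _ => rfl
      right_inv := fun _ => rfl }
  exact ⟨Module.FinitePresentation.of_equiv e, Module.Projective.of_equiv e⟩

/-- the pushforward of a finite locally free module along a finite locally free morphism is
finite locally free -/
theorem isFinLocFree_pushforward (f : X ⟶ Y) [IsFinite f] [Flat f]
    [LocallyOfFinitePresentation f] (E : X.Modules) (hE : FlatMod.IsFinLocFree E) :
    FlatMod.IsFinLocFree ((pushforward f).obj E) := by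
  haveI : E.IsQuasicoherent := LocFreeCrit.isQuasicoherent_of_isFinLocFree hE
  haveI : ((pushforward f).obj E).IsQuasicoherent := QCSec.isQuasicoherent_pushforward f E
  apply FinLocFreeSec.isFinLocFree_of_sections
  intro V hV
  have hU : IsAffineOpen (f ⁻¹ᵁ V) := hV.preimage f
  obtain ⟨hfin, hproj⟩ := LocFreeCrit.finite_projective_sections hE hU
  have hfp : Module.FinitePresentation Γ(X, f ⁻¹ᵁ V) Γ(E, f ⁻¹ᵁ V) :=
    Module.finitePresentation_of_projective _ _
  have hfpY : Module.FinitePresentation Γ(Y, V) Γ((pushforward f).obj E, V) :=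
    (FinPushFP.fp_sections_push_iff f E hV).mpr hfp
  have hflat : Module.Flat Γ(Y, V) Γ((pushforward f).obj E, V) := by
    letI alg : Algebra Γ(Y, V) Γ(X, f ⁻¹ᵁ V) := (f.app V).hom.toAlgebra
    letI mod : Module Γ(Y, V) Γ(E, f ⁻¹ᵁ V) := Module.compHom _ (f.app V).hom
    haveI : IsScalarTower Γ(Y, V) Γ(X, f ⁻¹ᵁ V) Γ(E, f ⁻¹ᵁ V) :=
      IsScalarTower.of_algebraMap_smul fun _ _ => rfl
    have hfl : (f.app V).hom.Flat := by
      have := HasRingHomProperty.appLE (P := @Flat) f inferInstance ⟨V, hV⟩ ⟨f ⁻¹ᵁ V, hU⟩ le_rfl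
      rwa [← Scheme.Hom.app_eq_appLE] at this
    haveI : Module.Flat Γ(Y, V) Γ(X, f ⁻¹ᵁ V) := hfl
    haveI : Module.Flat Γ(X, f ⁻¹ᵁ V) Γ(E, f ⁻¹ᵁ V) := inferInstance
    haveI : Module.Flat Γ(Y, V) Γ(E, f ⁻¹ᵁ V) :=
      Module.Flat.trans Γ(Y, V) Γ(X, f ⁻¹ᵁ V) Γ(E, f ⁻¹ᵁ V)
    let e : Γ((pushforward f).obj E, V) ≃ₗ[Γ(Y, V)] Γ(E, f ⁻¹ᵁ V) :=
      { toFun := fun m => m
        invFun := fun m => m
        map_add' := fun _ _ => rfl
        map_smul' := fun _ _ => rfl
        left_inv := fun _ => rfl
        right_inv := fun _ => rfl }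
    exact Module.Flat.of_linearEquiv e
  exact ⟨hfpY, Module.Flat.projective_of_finitePresentation⟩

/-- a module all of whose sections vanish -/
theorem subsingleton_sections_of_isZero {M : X.Modules} (h : IsZero M) (U : X.Opens) :
    Subsingleton Γ(M, U) := by
  have h1 : (𝟙 M : M ⟶ M) = 0 := (IsZero.iff_id_eq_zero M).mp h
  refine ⟨fun a b => ?_⟩
  have ha : a = 0 := by
    have := congrArg (fun φ : M ⟶ M => φ.app U a) h1
    exact this
  have hb : b = 0 := by
    have := congrArg (fun φ : M ⟶ M => φ.app U b) h1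
    exact this
  rw [ha, hb]

theorem isZero_freeMod_zero (X : Scheme.{u}) : IsZero (FlatMod.freeMod X 0) := by
  rw [IsZero.iff_id_eq_zero]
  apply Sigma.hom_ext
  intro i
  exact i.elim0

/-- `f_*O_X` has positive rank everywhere for `f` finite locally free and surjective -/
theorem isPosLocFree_pushforward_structure (f : X ⟶ Y) [IsFinite f] [Flat f]
    [LocallyOfFinitePresentation f] [Surjective f] :
    HomLF.IsPosLocFree ((pushforward f).obj (Coh.structureModule X)) := by
  have hA := isFinLocFree_pushforward f _ (isFinLocFree_structureModule X)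
  intro y
  obtain ⟨U, n, hyU, ⟨φ⟩⟩ := hA y
  refine ⟨U, n, hyU, ?_, ⟨φ⟩⟩
  by_contra hn
  have hn0 : n = 0 := by omega
  subst hn0
  have hz : IsZero (((pushforward f).obj (Coh.structureModule X)).restrict U.ι) :=
    IsZero.of_iso (isZero_freeMod_zero _) φ
  have hss := subsingleton_sections_of_isZero hz ⊤
  have hss' : Subsingleton Γ(X, f ⁻¹ᵁ (U.ι ''ᵁ ⊤)) := hss
  obtain ⟨x, rfl⟩ := f.surjective y
  have hx : x ∈ f ⁻¹ᵁ (U.ι ''ᵁ ⊤) := by
    rw [Scheme.Opens.ι_image_top]
    exact hyU
  have h1 : X.basicOpen (1 : Γ(X, f ⁻¹ᵁ (U.ι ''ᵁ ⊤))) = f ⁻¹ᵁ (U.ι ''ᵁ ⊤) :=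
    X.basicOpen_of_isUnit isUnit_one
  have h0 : X.basicOpen (0 : Γ(X, f ⁻¹ᵁ (U.ι ''ᵁ ⊤))) = ⊥ := X.basicOpen_zero _
  rw [← h1, Subsingleton.elim (1 : Γ(X, f ⁻¹ᵁ (U.ι ''ᵁ ⊤))) 0, h0] at hx
  exact hx

theorem hasSheafHom_dcoh (A : Y.Modules) : DCoh.HasSheafHom A := by
  haveI : (ProjFormulaLF.TR A).IsLeftAdjoint := ModSiteTensor.hasSheafHom Y.sheaf A
  exact Functor.isLeftAdjoint_of_iso (ProjFormulaLF.braidIso A).symm

/-- For `f` finite locally free and surjective, every quasi-coherent module `N` on `Y` receives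
an epimorphism from the pushforward of a quasi-coherent module `M'` on `X`, of finite type if `N`
is. -/
theorem exists_epi_pushforward (f : X ⟶ Y) [IsFinite f] [Flat f]
    [LocallyOfFinitePresentation f] [Surjective f] (N : Y.Modules) [N.IsQuasicoherent] :
    ∃ (M' : X.Modules) (p : (pushforward f).obj M' ⟶ N), M'.IsQuasicoherent ∧ Epi p ∧
      (N.IsFiniteType → M'.IsFiniteType) := by
  let OX := Coh.structureModule X
  let A : Y.Modules := (pushforward f).obj OX
  have hA : HomLF.IsPosLocFree A := isPosLocFree_pushforward_structure f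
  haveI hsh : DCoh.HasSheafHom A := hasSheafHom_dcoh A
  let H : Y.Modules := (DCoh.sheafHom A).obj N
  haveI hHq : H.IsQuasicoherent := HomLF.isQuasicoherent_sheafHom A N hA.isFinLocFree
  let ev : CohB1.tensorMod A H ⟶ N := (DCoh.sheafHomAdj A).counit.app N
  haveI : Epi ev := HomLF.epi_counit A N hA
  let fH : X.Modules := (Scheme.Modules.pullback f).obj H
  haveI : fH.IsQuasicoherent := PbStalk.isQuasicoherent_pullback f H
  let M' : X.Modules := CohB1.tensorMod OX fH
  haveI hM'q : M'.IsQuasicoherent := TensorSec.isQuasicoherent_tensorMod OX fH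
  haveI : IsIso (projHom f OX H) := AffProj.isIso_projHom_of_isAffineHom f OX H
  refine ⟨M', inv (projHom f OX H) ≫ ev, hM'q, inferInstance, ?_⟩
  intro hN
  haveI : N.IsFiniteType := hN
  haveI hHf : H.IsFiniteType := HomLF.isFiniteType_sheafHom A N hA.isFinLocFree
  haveI : fH.IsFiniteType := PbFinite.isFiniteType_pullback f H
  haveI : OX.IsFinitePresentation :=
    FinLocFreeSec.isFinitePresentation_of_isFinLocFree OX (isFinLocFree_structureModule X)
  haveI : OX.IsFiniteType := inferInstance
  exact TensorSec.isFiniteType_tensorMod OX fH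

end Groth.Agent.Lib.Helper26.FinPush
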