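import Mathlib
import Groth.Agent.Lib.Helper4.Rees
import Groth.Agent.Lib.Helper4.GorRing
import Groth.Agent.Lib.Helper4.CMLoc
import Groth.Agent.Lib.Helper4.DSeq
import Groth.Agent.Lib.Helper22.CMGlue
import Groth.Agent.Lib.Helper28.Reflexive

/-!
# Cohen–Macaulay / Gorenstein rings, a regular element and a localization (helper26)

General lemmas:
* `nonempty_atPrime_comap_equiv`, `nonempty_atPrime_equiv_of_disjoint`: local rings of a
  localization;
* `gor_atPrime_of_disjoint`, `cm_atPrime_of_disjoint`, `gor_atPrime_of_le`, `cm_atPrime_of_le`;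
* `cmRing_of_cmLocal`: a Cohen–Macaulay local ring is a Cohen–Macaulay ring;
* `cm_quotient_span_iff`: `T` CM iff `T/x` CM for `x` regular in the maximal ideal;
* `gor_atPrime_iff_quot`, `cm_atPrime_iff_quot`: `R_P` vs `(R/x)_{P/x}`;
* `gorRing_quot`, `gor_atPrime_of_mem`, `gorRing_of_quot` and the CM analogues.
-/

set_option autoImplicit false
set_option linter.unusedSectionVars false
set_option linter.unusedVariables false

universe u

open IsLocalRing

namespace Groth.Agent.Lib.Helper26.RegQuotLoc

open Groth.Agent.Lib.Helper4 Groth.Agent.Lib.Helper4.GorRing Groth.Agent.Lib.Helper4.GorFlat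
  Groth.Agent.Lib.Helper22.CMG

section congr

variable {R : Type u} [CommRing R]

theorem cm_atPrime_congr (P P' : Ideal R) [P.IsPrime] [P'.IsPrime] (h : P = P') :
    LocCoh.IsCohenMacaulayLocalRing (Localization.AtPrime P) ↔
      LocCoh.IsCohenMacaulayLocalRing (Localization.AtPrime P') := by
  subst h
  exact Iff.rfl

lemma cm_congr_ideal {I J : Ideal R} (h : I = J) :
    LocCoh.IsCohenMacaulayLocalRing (R ⧸ I) ↔ LocCoh.IsCohenMacaulayLocalRing (R ⧸ J) := by
  subst h
  exact Iff.rfl

end congr

section loc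

variable {R : Type u} [CommRing R] (M : Submonoid R) (S : Type u) [CommRing S] [Algebra R S]
  [IsLocalization M S]

include M in
theorem nonempty_atPrime_comap_equiv (Q : Ideal S) [Q.IsPrime] :
    Nonempty (Localization.AtPrime (Q.comap (algebraMap R S)) ≃+* Localization.AtPrime Q) := by
  haveI : IsLocalization.AtPrime (Localization.AtPrime Q) (Q.comap (algebraMap R S)) :=
    IsLocalization.isLocalization_isLocalization_atPrime_isLocalization M
      (Localization.AtPrime Q) Q
  exact ⟨(IsLocalization.algEquiv (Q.comap (algebraMap R S)).primeCompl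
    (Localization.AtPrime (Q.comap (algebraMap R S))) (Localization.AtPrime Q)).toRingEquiv⟩

theorem nonempty_atPrime_equiv_of_disjoint (P : Ideal R) [hP : P.IsPrime]
    (hd : Disjoint (M : Set R) (P : Set R)) :
    ∃ (Q : Ideal S) (_ : Q.IsPrime), Q.comap (algebraMap R S) = P ∧
      Nonempty (Localization.AtPrime P ≃+* Localization.AtPrime Q) := by
  obtain ⟨Q, hQdef⟩ : ∃ Q : Ideal S, Q = P.map (algebraMap R S) := ⟨_, rfl⟩
  haveI hQp : Q.IsPrime := by
    rw [hQdef]; exact IsLocalization.isPrime_of_isPrime_disjoint M S P hP hd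
  have hQ : Q.comap (algebraMap R S) = P := by
    rw [hQdef]; exact IsLocalization.under_map_of_isPrime_disjoint M S hP hd
  obtain ⟨e⟩ := nonempty_atPrime_comap_equiv M S Q
  have key : ∀ (P₁ : Ideal R) [P₁.IsPrime], P₁ = P →
      Nonempty (Localization.AtPrime P₁ ≃+* Localization.AtPrime Q) →
      Nonempty (Localization.AtPrime P ≃+* Localization.AtPrime Q) := by
    intro P₁ _ h
    subst h
    exact id
  exact ⟨Q, hQp, hQ, key _ hQ ⟨e⟩⟩

theorem gor_atPrime_of_disjoint (hS : LocCoh.IsGorensteinRing S) (P : Ideal R) [P.IsPrime]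
    (hd : Disjoint (M : Set R) (P : Set R)) :
    LocCoh.IsGorensteinLocalRing (Localization.AtPrime P) := by
  obtain ⟨Q, hQ, -, ⟨e⟩⟩ := nonempty_atPrime_equiv_of_disjoint M S P hd
  haveI := hQ
  exact gor_of_ringEquiv e.symm (hS.isGorensteinLocalRing_localization Q)

theorem cm_atPrime_of_disjoint (hS : LocCoh.IsCohenMacaulayRing S) (P : Ideal R) [P.IsPrime]
    (hd : Disjoint (M : Set R) (P : Set R)) :
    LocCoh.IsCohenMacaulayLocalRing (Localization.AtPrime P) := by
  obtain ⟨Q, hQ, -, ⟨e⟩⟩ := nonempty_atPrime_equiv_of_disjoint M S P hd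
  haveI := hQ
  haveI := hS.isCohenMacaulayLocalRing_localization Q
  exact isCMLocalRing_of_ringEquiv e.symm

end loc

section cmlocal

/-- a Cohen–Macaulay local ring is a Cohen–Macaulay ring. -/
theorem cmRing_of_cmLocal (T : Type u) [CommRing T] [hT : LocCoh.IsCohenMacaulayLocalRing T] :
    LocCoh.IsCohenMacaulayRing T := by
  refine { isCohenMacaulayLocalRing_localization := fun p hp => ?_ }
  have hM : LocCoh.IsCohenMacaulayModule T T := hT.supportDim_eq_depth
  have hsupp : (⟨p, hp⟩ : PrimeSpectrum T) ∈ Module.support T T := by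
    rw [DSeq.support_self_eq_univ]; trivial
  have h1 := cm_localizedModule hM ⟨p, hp⟩ hsupp
  have h2 := (cm_congr (Groth.Agent.Lib.Helper28.localizedSelfEquiv p.primeCompl)).1 h1
  exact { supportDim_eq_depth := h2 }

end cmlocal

section le

variable {R : Type u} [CommRing R]

theorem gor_atPrime_of_le (P M : Ideal R) [P.IsPrime] [M.IsPrime] (h : P ≤ M)
    (hM : LocCoh.IsGorensteinLocalRing (Localization.AtPrime M)) :
    LocCoh.IsGorensteinLocalRing (Localization.AtPrime P) :=
  gor_atPrime_of_disjoint M.primeCompl (Localization.AtPrime M) (gorRing_of_gor _ hM) P (by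
    rw [Set.disjoint_left]
    intro a ha haP
    exact ha (h haP))

theorem cm_atPrime_of_le (P M : Ideal R) [P.IsPrime] [M.IsPrime] (h : P ≤ M)
    (hM : LocCoh.IsCohenMacaulayLocalRing (Localization.AtPrime M)) :
    LocCoh.IsCohenMacaulayLocalRing (Localization.AtPrime P) :=
  cm_atPrime_of_disjoint M.primeCompl (Localization.AtPrime M)
    (haveI := hM; cmRing_of_cmLocal _) P (by
    rw [Set.disjoint_left]
    intro a ha haP
    exact ha (h haP))

end le

section quotlocal

variable (T : Type u) [CommRing T] [IsLocalRing T] [IsNoetherianRing T]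

/-- `T` is Cohen–Macaulay iff `T/x` is, for `x` a regular element of the maximal ideal. -/
theorem cm_quotient_span_iff (x : T) (hx : x ∈ maximalIdeal T) (hreg : IsSMulRegular T x) :
    LocCoh.IsCohenMacaulayLocalRing T ↔ LocCoh.IsCohenMacaulayLocalRing (T ⧸ Ideal.span {x}) := by
  have hne : Ideal.span {x} ≠ (⊤ : Ideal T) := by
    intro h
    have h1 : Ideal.span {x} ≤ maximalIdeal T := (Ideal.span_singleton_le_iff_mem _).2 hx
    exact (maximalIdeal.isMaximal T).ne_top (top_le_iff.1 (h ▸ h1))
  rw [← cmModule_quotient_iff T (Ideal.span {x}) hne]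
  constructor
  · intro hT
    have hM : LocCoh.IsCohenMacaulayModule T T := hT.supportDim_eq_depth
    have h1 := cm_quotSMulTop hM hx hreg
    have e : QuotSMulTop x T ≃ₗ[T] T ⧸ Ideal.span {x} :=
      (quotSMulTopEquivSpan (R := T) (M := T) x) ≪≫ₗ
        (Submodule.quotEquivOfEq _ _ (by rw [smul_eq_mul, Ideal.mul_top]))
    exact (cm_congr e).1 h1
  · intro hQ
    have hbot : (⊥ : Ideal T) ⊔ Ideal.span {x} = Ideal.span {x} := bot_sup_eq _
    have hreg' : IsSMulRegular (T ⧸ (⊥ : Ideal T)) x :=
      ((Submodule.quotEquivOfEqBot (⊥ : Ideal T) rfl).isSMulRegular_congr x).2 hreg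
    have hcm : LocCoh.IsCohenMacaulayModule T (T ⧸ ((⊥ : Ideal T) ⊔ Ideal.span {x})) := by
      rw [hbot]; exact hQ
    have h1 := (cm_of_cm_sup_span ⊥ x hx hreg' hcm).1
    have h2 : LocCoh.IsCohenMacaulayModule T T :=
      (cm_congr (Submodule.quotEquivOfEqBot (⊥ : Ideal T) rfl)).1 h1
    exact { supportDim_eq_depth := h2 }

end quotlocal

section quot

variable {R : Type u} [CommRing R] [IsNoetherianRing R] (x : R) (hx : IsSMulRegular R x)

include hx

theorem gor_atPrime_iff_quot (Q : Ideal (R ⧸ Ideal.span {x})) [Q.IsPrime] (P : Ideal R)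
    [P.IsPrime] (hP : P = Q.comap (Ideal.Quotient.mk (Ideal.span {x}))) :
    LocCoh.IsGorensteinLocalRing (Localization.AtPrime P) ↔
      LocCoh.IsGorensteinLocalRing (Localization.AtPrime Q) := by
  obtain ⟨e⟩ := nonempty_quotLocEquiv (Ideal.span {x}) Q P hP
  have hxP : x ∈ P := by
    rw [hP, Ideal.mem_comap, Ideal.Quotient.eq_zero_iff_mem.2 (Ideal.mem_span_singleton_self x)]
    exact zero_mem _
  have hmap : (Ideal.span {x}).map (algebraMap R (Localization.AtPrime P)) =
      Ideal.span {algebraMap R (Localization.AtPrime P) x} := by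
    rw [Ideal.map_span, Set.image_singleton]
  have hm : algebraMap R (Localization.AtPrime P) x ∈ maximalIdeal (Localization.AtPrime P) := by
    rw [IsLocalization.AtPrime.to_map_mem_maximal_iff (Localization.AtPrime P) P]
    exact hxP
  have hreg : IsSMulRegular (Localization.AtPrime P) (algebraMap R (Localization.AtPrime P) x) :=
    hx.of_flat
  rw [Rees.gorenstein_quotient_iff (Localization.AtPrime P) _ hm hreg, ← gor_congr_ideal hmap]
  exact (gor_ringEquiv_iff e).symm

theorem cm_atPrime_iff_quot (Q : Ideal (R ⧸ Ideal.span {x})) [Q.IsPrime] (P : Ideal R)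
    [P.IsPrime] (hP : P = Q.comap (Ideal.Quotient.mk (Ideal.span {x}))) :
    LocCoh.IsCohenMacaulayLocalRing (Localization.AtPrime P) ↔
      LocCoh.IsCohenMacaulayLocalRing (Localization.AtPrime Q) := by
  obtain ⟨e⟩ := nonempty_quotLocEquiv (Ideal.span {x}) Q P hP
  have hxP : x ∈ P := by
    rw [hP, Ideal.mem_comap, Ideal.Quotient.eq_zero_iff_mem.2 (Ideal.mem_span_singleton_self x)]
    exact zero_mem _
  have hmap : (Ideal.span {x}).map (algebraMap R (Localization.AtPrime P)) =
      Ideal.span {algebraMap R (Localization.AtPrime P) x} := by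
    rw [Ideal.map_span, Set.image_singleton]
  have hm : algebraMap R (Localization.AtPrime P) x ∈ maximalIdeal (Localization.AtPrime P) := by
    rw [IsLocalization.AtPrime.to_map_mem_maximal_iff (Localization.AtPrime P) P]
    exact hxP
  have hreg : IsSMulRegular (Localization.AtPrime P) (algebraMap R (Localization.AtPrime P) x) :=
    hx.of_flat
  rw [cm_quotient_span_iff (Localization.AtPrime P) _ hm hreg, ← cm_congr_ideal hmap]
  constructor
  · intro h
    haveI := h
    exact isCMLocalRing_of_ringEquiv e.symm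
  · intro h
    haveI := h
    exact isCMLocalRing_of_ringEquiv e

/-- auxiliary: the prime of `R/x` below a prime `P ∋ x`. -/
theorem exists_prime_quot (P : Ideal R) [P.IsPrime] (hxP : x ∈ P) :
    ∃ (Q : Ideal (R ⧸ Ideal.span {x})) (_ : Q.IsPrime),
      P = Q.comap (Ideal.Quotient.mk (Ideal.span {x})) ∧
      Q = P.map (Ideal.Quotient.mk (Ideal.span {x})) := by
  have hle : Ideal.span {x} ≤ P := (Ideal.span_singleton_le_iff_mem P).2 hxP
  refine ⟨P.map (Ideal.Quotient.mk (Ideal.span {x})), ?_, ?_, rfl⟩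
  · exact Ideal.map_isPrime_of_surjective Ideal.Quotient.mk_surjective
      (by rw [Ideal.mk_ker]; exact hle)
  · rw [Ideal.comap_map_of_surjective _ Ideal.Quotient.mk_surjective,
      ← RingHom.ker_eq_comap_bot, Ideal.mk_ker, sup_eq_left.mpr hle]

theorem gorRing_quot (hR : LocCoh.IsGorensteinRing R) :
    LocCoh.IsGorensteinRing (R ⧸ Ideal.span {x}) := by
  refine { isGorensteinLocalRing_localization := fun Q _ => ?_ }
  exact (gor_atPrime_iff_quot x hx Q (Q.comap (Ideal.Quotient.mk _)) rfl).1
    (hR.isGorensteinLocalRing_localization _)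

theorem cmRing_quot (hR : LocCoh.IsCohenMacaulayRing R) :
    LocCoh.IsCohenMacaulayRing (R ⧸ Ideal.span {x}) := by
  refine { isCohenMacaulayLocalRing_localization := fun Q _ => ?_ }
  exact (cm_atPrime_iff_quot x hx Q (Q.comap (Ideal.Quotient.mk _)) rfl).1
    (hR.isCohenMacaulayLocalRing_localization _)

theorem gor_atPrime_of_mem (hQ : LocCoh.IsGorensteinRing (R ⧸ Ideal.span {x})) (P : Ideal R)
    [P.IsPrime] (hxP : x ∈ P) : LocCoh.IsGorensteinLocalRing (Localization.AtPrime P) := by
  obtain ⟨Q, hQp, hcomap, -⟩ := exists_prime_quot x hx P hxP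
  haveI := hQp
  exact (gor_atPrime_iff_quot x hx Q P hcomap).2 (hQ.isGorensteinLocalRing_localization Q)

theorem cm_atPrime_of_mem (hQ : LocCoh.IsCohenMacaulayRing (R ⧸ Ideal.span {x})) (P : Ideal R)
    [P.IsPrime] (hxP : x ∈ P) : LocCoh.IsCohenMacaulayLocalRing (Localization.AtPrime P) := by
  obtain ⟨Q, hQp, hcomap, -⟩ := exists_prime_quot x hx P hxP
  haveI := hQp
  exact (cm_atPrime_iff_quot x hx Q P hcomap).2 (hQ.isCohenMacaulayLocalRing_localization Q)

theorem gorRing_of_quot (hQ : LocCoh.IsGorensteinRing (R ⧸ Ideal.span {x}))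
    (hL : ∀ (P : Ideal R) [P.IsPrime], x ∉ P →
      LocCoh.IsGorensteinLocalRing (Localization.AtPrime P)) :
    LocCoh.IsGorensteinRing R :=
  { isGorensteinLocalRing_localization := fun P _ => by
      by_cases h : x ∈ P
      · exact gor_atPrime_of_mem x hx hQ P h
      · exact hL P h }

theorem cmRing_of_quot (hQ : LocCoh.IsCohenMacaulayRing (R ⧸ Ideal.span {x}))
    (hL : ∀ (P : Ideal R) [P.IsPrime], x ∉ P →
      LocCoh.IsCohenMacaulayLocalRing (Localization.AtPrime P)) :
    LocCoh.IsCohenMacaulayRing R :=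
  { isCohenMacaulayLocalRing_localization := fun P _ => by
      by_cases h : x ∈ P
      · exact cm_atPrime_of_mem x hx hQ P h
      · exact hL P h }

end quot

end Groth.Agent.Lib.Helper26.RegQuotLoc
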