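import Groth.Agent.Lib.Helper26.RefShA
import Groth.Agent.Lib.Helper3.SecLoc

/-!
# The sheaf Hom of coherent modules is coherent (helper26)
-/

set_option autoImplicit false
set_option linter.style.haveILetI false
set_option linter.unusedSectionVars false
universe u
open CategoryTheory CategoryTheory.Limits AlgebraicGeometry TopologicalSpace Opposite

namespace Groth.Agent.Lib.Helper26.RefSh

open Groth.Agent.Lib.Helper3 Groth.Agent.Lib.Helper3.QCSec Groth.Agent.Lib.Helper17

attribute [local instance] SecLoc.modBasicOpen

variable {X : Scheme.{u}} (F G : X.Modules)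

/-- on a locally Noetherian scheme coherent modules are finitely presented -/
theorem isFP_of_isCoh [IsLocallyNoetherian X] [F.IsQuasicoherent] [F.IsFiniteType] :
    SheafOfModules.IsFinitePresentation (R := X.ringCatSheaf) F := by
  rw [QCProps.isFinitePresentation_iff_finitePresentation_sections]
  intro U hU
  haveI : IsNoetherianRing Γ(X, U) := IsLocallyNoetherian.component_noetherian ⟨U, hU⟩
  haveI := QCProps.finite_sections F hU
  exact Module.finitePresentation_of_finite _ _

theorem isLocSec_homSh [SheafOfModules.IsFinitePresentation (R := X.ringCatSheaf) F]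
    [G.IsQuasicoherent] {U : X.Opens} (hU : IsAffineOpen U) (g : Γ(X, U)) (W : X.Opens)
    (hW : W = X.basicOpen g) (hWU : W ≤ U) :
    IsLocSec (RefHull.homSh F G) U W hWU g := by
  subst hW
  haveI : F.IsQuasicoherent := inferInstance
  haveI : Module.FinitePresentation Γ(X, U) Γ(F, U) := QCProps.finitePresentation_sections F hU
  have hG := isLocSec_of_isQuasicoherent G hU g (X.basicOpen g) rfl hWU
  constructor
  · intro t
    haveI := SecLoc.isLocalizedModule_resLin G hU g
    let φ : Γ(F, U) →ₗ[Γ(X, U)] Γ(G, X.basicOpen g) :=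
      { toFun := fun m => ev t le_rfl (res F hWU m)
        map_add' := fun m m' => by
          have hadd : res F hWU (m + m') = res F hWU m + res F hWU m' := map_add _ m m'
          rw [hadd, ev_add]
        map_smul' := fun a m =>
          (congrArg (ev t le_rfl) (res_smul F hWU a m)).trans (ev_smul t le_rfl _ _) }
    obtain ⟨ψ, ⟨c, hc⟩, hψ⟩ :=
      Module.FinitePresentation.exists_lift_of_isLocalizedModule (Submonoid.powers g)
        (SecLoc.resLin G g) φ
    obtain ⟨n, rfl⟩ := (Submonoid.mem_powers_iff c g).mp hc
    obtain ⟨s, hs⟩ := exists_ofLin hU ψ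
    refine ⟨n, s, ?_⟩
    apply ext_of_ev hU hWU
    intro m
    have h1 : res G hWU (ψ m) = rres X hWU (g ^ n) • ev t le_rfl (res F hWU m) :=
      LinearMap.congr_fun hψ m
    have e1 : ev (res (RefHull.homSh F G) hWU s) le_rfl (res F hWU m) =
        res G hWU (ev s le_rfl m) :=
      (ev_res_left hWU s le_rfl (res F hWU m)).trans (res_ev s le_rfl hWU m).symm
    have e2 : ev ((rres X hWU g) ^ n • t) le_rfl (res F hWU m) =
        (rres X hWU g) ^ n • ev t le_rfl (res F hWU m) := by
      rw [ev_smul_left, rres_self]
    rw [e1, e2, hs, h1, rres_pow]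
  · intro s hs
    have h1 : ∀ m : Γ(F, U), ∃ n : ℕ, g ^ n • ev s le_rfl m = 0 := by
      intro m
      apply hG.inj
      have e1 : res G hWU (ev s le_rfl m) =
          ev (res (RefHull.homSh F G) hWU s) le_rfl (res F hWU m) :=
        (res_ev s le_rfl hWU m).trans (ev_res_left hWU s le_rfl (res F hWU m)).symm
      rw [e1, hs]
      exact ev_zero_left _ _
    obtain ⟨k, e, he⟩ := Module.Finite.exists_fin (R := Γ(X, U)) (M := Γ(F, U))
    choose n hn using fun i => h1 (e i)
    refine ⟨Finset.univ.sup n, ?_⟩
    apply ext_of_ev_self hU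
    intro m
    rw [ev_smul_left, rres_self, ev_zero_left]
    have hL : (g ^ Finset.univ.sup n) • evLin s = 0 := by
      apply LinearMap.ext_on_range he
      intro i
      rw [LinearMap.smul_apply, LinearMap.zero_apply, evLin_apply]
      have hle : n i ≤ Finset.univ.sup n := Finset.le_sup (Finset.mem_univ i)
      rw [← pow_sub_mul_pow g hle, mul_smul, hn i, smul_zero]
    exact LinearMap.congr_fun hL m

/-- The sheaf Hom out of a finitely presented module into a quasi-coherent module is
quasi-coherent. -/
theorem isQuasicoherent_homSh [SheafOfModules.IsFinitePresentation (R := X.ringCatSheaf) F]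
    [G.IsQuasicoherent] : (RefHull.homSh F G).IsQuasicoherent := by
  apply QCProps.isQuasicoherent_of_charts
  intro x
  obtain ⟨U, hU, hxU⟩ := QCProps.exists_affine_nbhd x
  refine ⟨U, hU, hxU, ?_⟩
  apply QCSec.isQuasicoherent_chart_of_isLocSec
  intro g
  exact isLocSec_homSh F G hU g _ (hU.fromSpec_image_basicOpen g) _

theorem finite_sections_homSh [IsLocallyNoetherian X] [F.IsQuasicoherent] [F.IsFiniteType]
    [G.IsQuasicoherent] [G.IsFiniteType] {U : X.Opens} (hU : IsAffineOpen U) :
    Module.Finite Γ(X, U) Γ(RefHull.homSh F G, U) := by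
  haveI : IsNoetherianRing Γ(X, U) := IsLocallyNoetherian.component_noetherian ⟨U, hU⟩
  haveI : Module.Finite Γ(X, U) Γ(F, U) := QCProps.finite_sections F hU
  haveI : Module.Finite Γ(X, U) Γ(G, U) := QCProps.finite_sections G hU
  haveI : IsNoetherian Γ(X, U) Γ(G, U) := isNoetherian_of_isNoetherianRing_of_finite _ _
  obtain ⟨k, e, he⟩ := Module.Finite.exists_fin (R := Γ(X, U)) (M := Γ(F, U))
  let L : Γ(RefHull.homSh F G, U) →ₗ[Γ(X, U)] (Fin k → Γ(G, U)) :=
    { toFun := fun s i => ev s le_rfl (e i)
      map_add' := fun s s' => funext fun i => ev_add_left s s' le_rfl (e i)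
      map_smul' := fun r s => funext fun i => by
        change ev (r • s) le_rfl (e i) = r • ev s le_rfl (e i)
        rw [ev_smul_left, rres_self] }
  have hL : Function.Injective L := by
    intro s s' hss'
    apply ext_of_ev_self hU
    intro m
    have h2 : evLin s = evLin s' := LinearMap.ext_on_range he (fun i => congrFun hss' i)
    exact LinearMap.congr_fun h2 m
  exact Module.Finite.of_injective L hL

/-- The sheaf Hom of two coherent modules on a locally Noetherian scheme is coherent. -/
theorem isCoh_homSh [IsLocallyNoetherian X] (hF : Coh.IsCoh F) (hG : Coh.IsCoh G) :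
    Coh.IsCoh (RefHull.homSh F G) := by
  haveI : F.IsQuasicoherent := hF.1
  haveI : F.IsFiniteType := hF.2
  haveI : G.IsQuasicoherent := hG.1
  haveI : G.IsFiniteType := hG.2
  haveI : SheafOfModules.IsFinitePresentation (R := X.ringCatSheaf) F := isFP_of_isCoh F
  have hq : (RefHull.homSh F G).IsQuasicoherent := isQuasicoherent_homSh F G
  refine ⟨hq, ?_⟩
  haveI := hq
  apply QCProps.isFiniteType_of_charts
  intro x
  obtain ⟨U, hU, hxU⟩ := QCProps.exists_affine_nbhd x
  exact ⟨U, hU, hxU, Scheme.Modules.isQuasicoherent_restrictFunctor _ _,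
    finite_sections_homSh F G hU⟩

end Groth.Agent.Lib.Helper26.RefSh
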