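import Mathlib

/-!
# Units of localizations `R[1/f]` of a UFD inside the fraction field, and vanishing of the
multiplicative Čech `H¹` (helper26)

`IsFU f x`: `x ∈ K = Frac R` is a unit of `R[1/f]`.

Main result `exists_coboundary`: for a UFD `R`, nonzero `f i ∈ R` and a cocycle `g i j ∈ K` with
`g i j` a unit of `R[1/(f i * f j)]`, there are units `h i` of `R[1/f i]` with
`h j * g i j = h i`.
-/

set_option autoImplicit false
universe u v

namespace Groth.Agent.Lib.Helper26.UFDUnits

variable {R : Type u} [CommRing R] [IsDomain R] [UniqueFactorizationMonoid R]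
variable {K : Type v} [Field K] [Algebra R K] [IsFractionRing R K]

/-- `x ∈ K` is a unit of `R[1/f]`. -/
def IsFU (f : R) (x : K) : Prop :=
  ∃ a b : R, (∃ N : ℕ, a ∣ f ^ N) ∧ (∃ N : ℕ, b ∣ f ^ N) ∧
    x * algebraMap R K b = algebraMap R K a

omit [UniqueFactorizationMonoid R] in
theorem IsFU.ne_zero {f : R} (hf : f ≠ 0) {x : K} (h : IsFU f x) : x ≠ 0 := by
  obtain ⟨a, b, ⟨N, hN⟩, -, hab⟩ := h
  have ha : a ≠ 0 := ne_zero_of_dvd_ne_zero (pow_ne_zero N hf) hN
  intro hx
  rw [hx, zero_mul] at hab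
  exact ha ((map_eq_zero_iff _ (IsFractionRing.injective R K)).mp hab.symm)

variable (R) in
/-- the `π`-adic valuation on `K` (junk at `0`). -/
noncomputable def v (π : R) (x : K) : ℤ :=
  (multiplicity π (IsFractionRing.num R x) : ℤ) -
    (multiplicity π (IsFractionRing.den R x : R) : ℤ)

theorem v_eq {π : R} (hπ : Prime π) {x : K} {a b : R} (ha : a ≠ 0) (hb : b ≠ 0)
    (h : x * algebraMap R K b = algebraMap R K a) :
    v R π x = (multiplicity π a : ℤ) - (multiplicity π b : ℤ) := by
  have hd : (IsFractionRing.den R x : R) ≠ 0 := nonZeroDivisors.coe_ne_zero _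
  have h1 : x * algebraMap R K (IsFractionRing.den R x : R) =
      algebraMap R K (IsFractionRing.num R x) := by
    have := IsLocalization.mk'_spec K (IsFractionRing.num R x) (IsFractionRing.den R x)
    rwa [IsFractionRing.mk'_num_den] at this
  have h2 : IsFractionRing.num R x * b = a * (IsFractionRing.den R x : R) := by
    apply IsFractionRing.injective R K
    rw [map_mul, map_mul, ← h1, ← h]
    ring
  have hne : a * (IsFractionRing.den R x : R) ≠ 0 := mul_ne_zero ha hd
  have hne' : IsFractionRing.num R x * b ≠ 0 := h2 ▸ hne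
  have e1 := multiplicity_mul hπ (FiniteMultiplicity.of_prime_left hπ hne)
  have e2 := multiplicity_mul hπ (FiniteMultiplicity.of_prime_left hπ hne')
  rw [h2, e1] at e2
  unfold v
  have e3 := congrArg (Nat.cast : ℕ → ℤ) e2
  push_cast at e3
  linarith

theorem exists_rep (x : K) (hx : x ≠ 0) :
    ∃ a b : R, a ≠ 0 ∧ b ≠ 0 ∧ x * algebraMap R K b = algebraMap R K a := by
  refine ⟨IsFractionRing.num R x, (IsFractionRing.den R x : R), ?_,
    nonZeroDivisors.coe_ne_zero _, ?_⟩
  · intro h
    exact hx ((IsFractionRing.num_eq_zero x).mp h)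
  · have := IsLocalization.mk'_spec K (IsFractionRing.num R x) (IsFractionRing.den R x)
    rwa [IsFractionRing.mk'_num_den] at this

theorem v_mul {π : R} (hπ : Prime π) {x y : K} (hx : x ≠ 0) (hy : y ≠ 0) :
    v R π (x * y) = v R π x + v R π y := by
  obtain ⟨a, b, ha, hb, hab⟩ := exists_rep (R := R) x hx
  obtain ⟨c, d, hc, hd, hcd⟩ := exists_rep (R := R) y hy
  have h3 : x * y * algebraMap R K (b * d) = algebraMap R K (a * c) := by
    rw [map_mul, map_mul, ← hab, ← hcd]; ring
  rw [v_eq hπ (mul_ne_zero ha hc) (mul_ne_zero hb hd) h3, v_eq hπ ha hb hab, v_eq hπ hc hd hcd,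
    multiplicity_mul hπ (FiniteMultiplicity.of_prime_left hπ (mul_ne_zero ha hc)),
    multiplicity_mul hπ (FiniteMultiplicity.of_prime_left hπ (mul_ne_zero hb hd))]
  push_cast
  ring

theorem v_algebraMap {π : R} (hπ : Prime π) {a : R} (ha : a ≠ 0) :
    v R π (algebraMap R K a) = (multiplicity π a : ℤ) := by
  have h : algebraMap R K a * algebraMap R K (1 : R) = algebraMap R K a := by
    rw [map_one, mul_one]
  rw [v_eq hπ ha one_ne_zero h, multiplicity_eq_zero.mpr hπ.not_dvd_one]
  simp

theorem v_one {π : R} (hπ : Prime π) : v R π (1 : K) = 0 := by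
  have := v_algebraMap (K := K) hπ (one_ne_zero : (1 : R) ≠ 0)
  rw [map_one, multiplicity_eq_zero.mpr hπ.not_dvd_one] at this
  simpa using this

theorem v_inv {π : R} (hπ : Prime π) {x : K} (hx : x ≠ 0) : v R π x⁻¹ = - v R π x := by
  have h := v_mul hπ hx (inv_ne_zero hx)
  rw [mul_inv_cancel₀ hx, v_one hπ] at h
  linarith

theorem v_pow {π : R} (hπ : Prime π) {x : K} (hx : x ≠ 0) (n : ℕ) :
    v R π (x ^ n) = n * v R π x := by
  induction n with
  | zero => simp [v_one hπ]
  | succ n ih =>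
    rw [pow_succ, v_mul hπ (pow_ne_zero n hx) hx, ih]
    push_cast
    ring

theorem v_zpow {π : R} (hπ : Prime π) {x : K} (hx : x ≠ 0) (n : ℤ) :
    v R π (x ^ n) = n * v R π x := by
  obtain ⟨m, rfl | rfl⟩ := n.eq_nat_or_neg
  · rw [zpow_natCast, v_pow hπ hx]
  · rw [zpow_neg, zpow_natCast, v_inv hπ (pow_ne_zero m hx), v_pow hπ hx]
    ring

theorem v_prod {π : R} (hπ : Prime π) {α : Type*} (s : Finset α) (x : α → K)
    (hx : ∀ i ∈ s, x i ≠ 0) : v R π (∏ i ∈ s, x i) = ∑ i ∈ s, v R π (x i) := by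
  classical
  induction s using Finset.induction_on with
  | empty => simp [v_one hπ]
  | insert a s ha ih =>
    rw [Finset.prod_insert ha, Finset.sum_insert ha,
      v_mul hπ (hx a (Finset.mem_insert_self a s))
        (Finset.prod_ne_zero_iff.mpr fun i hi => hx i (Finset.mem_insert_of_mem hi)),
      ih fun i hi => hx i (Finset.mem_insert_of_mem hi)]

theorem v_congr {π π' : R} (h : Associated π π') (x : K) : v R π x = v R π' x := by
  unfold v
  rw [multiplicity_eq_of_associated_left h, multiplicity_eq_of_associated_left h]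

open Classical in
theorem v_prime {π π' : R} (hπ : Prime π) (hπ' : Prime π') :
    v R π (algebraMap R K π') = if Associated π π' then 1 else 0 := by
  rw [v_algebraMap hπ hπ'.ne_zero]
  split_ifs with h
  · rw [← multiplicity_eq_of_associated_left h, multiplicity_self]
    simp
  · rw [multiplicity_eq_zero.mpr (fun hd => h ((hπ.dvd_prime_iff_associated hπ').mp hd))]
    simp

theorem v_eq_zero_of_isFU {π : R} (hπ : Prime π) {f : R} (hf : f ≠ 0) {x : K} (hx : IsFU f x)
    (hπf : ¬ π ∣ f) : v R π x = 0 := by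
  obtain ⟨a, b, ⟨N, hN⟩, ⟨M, hM⟩, hab⟩ := hx
  have ha : a ≠ 0 := ne_zero_of_dvd_ne_zero (pow_ne_zero N hf) hN
  have hb : b ≠ 0 := ne_zero_of_dvd_ne_zero (pow_ne_zero M hf) hM
  have h1 : ¬ π ∣ a := fun h => hπf (hπ.dvd_of_dvd_pow (h.trans hN))
  have h2 : ¬ π ∣ b := fun h => hπf (hπ.dvd_of_dvd_pow (h.trans hM))
  rw [v_eq hπ ha hb hab, multiplicity_eq_zero.mpr h1, multiplicity_eq_zero.mpr h2]
  simp

theorem exists_dvd_pow {f a : R} (ha : a ≠ 0) (h : ∀ π : R, Prime π → π ∣ a → π ∣ f) :
    ∃ N : ℕ, a ∣ f ^ N := by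
  induction a using UniqueFactorizationMonoid.induction_on_prime with
  | h₁ => exact absurd rfl ha
  | h₂ x hx => exact ⟨0, hx.dvd⟩
  | h₃ a p ha0 hp ih =>
    obtain ⟨N, hN⟩ := ih ha0 (fun π hπ hd => h π hπ (hd.mul_left p))
    refine ⟨N + 1, ?_⟩
    rw [pow_succ']
    exact mul_dvd_mul (h p hp (dvd_mul_right p a)) hN

theorem isFU_of_v_eq_zero {f : R} {x : K} (hx : x ≠ 0)
    (h : ∀ π : R, Prime π → ¬ π ∣ f → v R π x = 0) : IsFU f x := by
  have hd : (IsFractionRing.den R x : R) ≠ 0 := nonZeroDivisors.coe_ne_zero _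
  have hn : IsFractionRing.num R x ≠ 0 := fun h0 => hx ((IsFractionRing.num_eq_zero x).mp h0)
  have hrel := IsFractionRing.num_den_reduced R x
  have hspec : x * algebraMap R K (IsFractionRing.den R x : R) =
      algebraMap R K (IsFractionRing.num R x) := by
    have := IsLocalization.mk'_spec K (IsFractionRing.num R x) (IsFractionRing.den R x)
    rwa [IsFractionRing.mk'_num_den] at this
  refine ⟨IsFractionRing.num R x, (IsFractionRing.den R x : R), ?_, ?_, hspec⟩
  · apply exists_dvd_pow hn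
    intro π hπ hdvd
    by_contra hπf
    have h0 := h π hπ hπf
    have hnd : ¬ π ∣ (IsFractionRing.den R x : R) := fun h' => hπ.not_unit (hrel hdvd h')
    unfold v at h0
    rw [multiplicity_eq_zero.mpr hnd] at h0
    have : multiplicity π (IsFractionRing.num R x) = 0 := by
      have : (multiplicity π (IsFractionRing.num R x) : ℤ) = 0 := by simpa using h0
      exact_mod_cast this
    exact (multiplicity_eq_zero.mp this) hdvd
  · apply exists_dvd_pow hd
    intro π hπ hdvd
    by_contra hπf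
    have h0 := h π hπ hπf
    have hnd : ¬ π ∣ IsFractionRing.num R x := fun h' => hπ.not_unit (hrel h' hdvd)
    unfold v at h0
    rw [multiplicity_eq_zero.mpr hnd] at h0
    have : multiplicity π (IsFractionRing.den R x : R) = 0 := by
      have : (multiplicity π (IsFractionRing.den R x : R) : ℤ) = 0 := by
        have h0' : -(multiplicity π (IsFractionRing.den R x : R) : ℤ) = 0 := by simpa using h0
        linarith
      exact_mod_cast this
    exact (multiplicity_eq_zero.mp this) hdvd

/-- **Vanishing of the multiplicative Čech `H¹` for basic opens of the spectrum of a UFD.** -/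
theorem exists_coboundary {ι : Type*} (f : ι → R) (hf : ∀ i, f i ≠ 0) (g : ι → ι → K)
    (hg : ∀ i j, IsFU (f i * f j) (g i j)) (hc : ∀ i j k, g i j * g j k = g i k) :
    ∃ h : ι → K, (∀ i, IsFU (f i) (h i)) ∧ ∀ i j, h j * g i j = h i := by
  classical
  rcases isEmpty_or_nonempty ι with hι | ⟨⟨o⟩⟩
  · exact ⟨fun _ => 1, fun i => isEmptyElim i, fun i => isEmptyElim i⟩
  letI : StrongNormalizationMonoid R := UniqueFactorizationMonoid.strongNormalizationMonoid
  have hg0 : ∀ i j, g i j ≠ 0 := fun i j => (hg i j).ne_zero (mul_ne_zero (hf i) (hf j))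
  -- independence
  have hind : ∀ π : R, Prime π → ∀ i j, ¬ π ∣ f i → ¬ π ∣ f j →
      v R π (g o i) = v R π (g o j) := by
    intro π hπ i j hi hj
    have h1 : v R π (g i j) = 0 :=
      v_eq_zero_of_isFU hπ (mul_ne_zero (hf i) (hf j)) (hg i j)
        (fun hd => (hπ.dvd_or_dvd hd).elim hi hj)
    rw [← hc o i j, v_mul hπ (hg0 o i) (hg0 i j), h1, add_zero]
  let n : R → ℤ := fun π => if h : ∃ i, ¬ π ∣ f i then v R π (g o (Classical.choose h)) else 0
  have n_spec : ∀ π : R, Prime π → ∀ i, ¬ π ∣ f i → n π = v R π (g o i) := by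
    intro π hπ i hi
    have hex : ∃ i, ¬ π ∣ f i := ⟨i, hi⟩
    simp only [n, dif_pos hex]
    exact hind π hπ _ _ (Classical.choose_spec hex) hi
  have n_zero : ∀ π : R, Prime π → ¬ π ∣ f o → n π = 0 := by
    intro π hπ ho
    rw [n_spec π hπ o ho]
    exact v_eq_zero_of_isFU hπ (mul_ne_zero (hf o) (hf o)) (hg o o)
      (fun hd => (hπ.dvd_or_dvd hd).elim ho ho)
  have n_assoc : ∀ π π' : R, Prime π → Prime π' → Associated π π' → n π = n π' := by
    intro π π' hπ hπ' has
    by_cases hex : ∃ i, ¬ π ∣ f i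
    · obtain ⟨i, hi⟩ := hex
      have hi' : ¬ π' ∣ f i := fun hd => hi (has.dvd.trans hd)
      rw [n_spec π hπ i hi, n_spec π' hπ' i hi', v_congr has]
    · have hex' : ¬ ∃ i, ¬ π' ∣ f i := by
        rintro ⟨i, hi⟩
        exact hex ⟨i, fun hd => hi (has.symm.dvd.trans hd)⟩
      simp only [n, dif_neg hex, dif_neg hex']
  set P : Finset R := (UniqueFactorizationMonoid.normalizedFactors (f o)).toFinset with hP
  have hPprime : ∀ π ∈ P, Prime π := fun π hπ =>
    UniqueFactorizationMonoid.prime_of_normalized_factor π (Multiset.mem_toFinset.mp hπ)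
  have hPdvd : ∀ π ∈ P, π ∣ f o := fun π hπ =>
    UniqueFactorizationMonoid.dvd_of_mem_normalizedFactors (Multiset.mem_toFinset.mp hπ)
  have hPnorm : ∀ π ∈ P, normalize π = π := fun π hπ =>
    UniqueFactorizationMonoid.normalize_normalized_factor π (Multiset.mem_toFinset.mp hπ)
  set c : K := ∏ π ∈ P, (algebraMap R K π) ^ (n π) with hcdef
  have hterm0 : ∀ π ∈ P, (algebraMap R K π) ^ (n π) ≠ 0 := fun π hπ =>
    zpow_ne_zero _ ((map_ne_zero_iff _ (IsFractionRing.injective R K)).mpr (hPprime π hπ).ne_zero)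
  have hc0 : c ≠ 0 := Finset.prod_ne_zero_iff.mpr hterm0
  have v_c : ∀ π' : R, Prime π' → v R π' c = n π' := by
    intro π' hπ'
    rw [hcdef, v_prod hπ' P _ hterm0]
    have hterm : ∀ π ∈ P, v R π' ((algebraMap R K π) ^ (n π)) =
        if Associated π' π then n π else 0 := by
      intro π hπ
      rw [v_zpow hπ' ((map_ne_zero_iff _ (IsFractionRing.injective R K)).mpr
        (hPprime π hπ).ne_zero), v_prime hπ' (hPprime π hπ)]
      split_ifs with h
      · rw [mul_one]
      · rw [mul_zero]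
    rw [Finset.sum_congr rfl hterm]
    by_cases hdo : π' ∣ f o
    · obtain ⟨π, hπmem, hass⟩ :=
        UniqueFactorizationMonoid.exists_mem_normalizedFactors_of_dvd (hf o) hπ'.irreducible hdo
      have hπP : π ∈ P := Multiset.mem_toFinset.mpr hπmem
      rw [Finset.sum_eq_single π]
      · rw [if_pos hass]
        exact (n_assoc π' π hπ' (hPprime π hπP) hass).symm
      · intro π₂ hπ₂ hne
        rw [if_neg]
        intro hass₂
        apply hne
        have : Associated π₂ π := hass₂.symm.trans hass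
        exact this.eq_of_normalized (hPnorm π₂ hπ₂) (hPnorm π hπP)
      · intro hn; exact absurd hπP hn
    · rw [n_zero π' hπ' hdo]
      apply Finset.sum_eq_zero
      intro π hπ
      rw [if_neg]
      intro hass
      exact hdo (hass.dvd.trans (hPdvd π hπ))
  refine ⟨fun i => c * (g o i)⁻¹, fun i => ?_, fun i j => ?_⟩
  · apply isFU_of_v_eq_zero (mul_ne_zero hc0 (inv_ne_zero (hg0 o i)))
    intro π hπ hπi
    rw [v_mul hπ hc0 (inv_ne_zero (hg0 o i)), v_inv hπ (hg0 o i), v_c π hπ, n_spec π hπ i hπi]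
    ring
  · have h1 := hc o i j
    have h2 := hg0 o i
    have h3 := hg0 o j
    show c * (g o j)⁻¹ * g i j = c * (g o i)⁻¹
    rw [← h1, mul_inv, mul_assoc c, mul_assoc ((g o i)⁻¹), inv_mul_cancel₀ (hg0 i j), mul_one]

section Loc

variable {A : Type*} [CommRing A] [Algebra R A] (f : R) [IsLocalization.Away f A]
  (ρ : A →+* K) (hρ : ∀ r, ρ (algebraMap R A r) = algebraMap R K r)

include hρ in
omit [UniqueFactorizationMonoid R] in
theorem isFU_map_of_isUnit {g : A} (hg : IsUnit g) : IsFU f (ρ g) := by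
  obtain ⟨g', hgg'⟩ := hg.exists_right_inv
  obtain ⟨n, a, ha⟩ := IsLocalization.Away.surj f g
  obtain ⟨m, b, hb⟩ := IsLocalization.Away.surj f g'
  have hab : a * b = f ^ (n + m) := by
    apply IsFractionRing.injective R K
    rw [map_mul, ← hρ a, ← hρ b, ← ha, ← hb, ← map_mul]
    have : g * algebraMap R A f ^ n * (g' * algebraMap R A f ^ m) =
        algebraMap R A (f ^ (n + m)) := by
      rw [map_pow, pow_add]
      calc g * algebraMap R A f ^ n * (g' * algebraMap R A f ^ m)
          = (g * g') * (algebraMap R A f ^ n * algebraMap R A f ^ m) := by ring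
        _ = algebraMap R A f ^ n * algebraMap R A f ^ m := by rw [hgg', one_mul]
    rw [this, hρ]
  refine ⟨a, f ^ n, ⟨n + m, Dvd.intro b hab⟩, ⟨n, dvd_rfl⟩, ?_⟩
  rw [← hρ a, ← ha, map_mul, map_pow ρ, hρ, map_pow]

include hρ in
omit [UniqueFactorizationMonoid R] in
theorem exists_isUnit_map_eq (hf : f ≠ 0) {x : K} (hx : IsFU f x) :
    ∃ g : A, IsUnit g ∧ ρ g = x := by
  obtain ⟨a, b, hN, hM, hab⟩ := hx
  have hb0 : b ≠ 0 := by
    obtain ⟨M, hM'⟩ := hM
    exact ne_zero_of_dvd_ne_zero (pow_ne_zero M hf) hM'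
  have hua : IsUnit (algebraMap R A a) := (IsLocalization.Away.algebraMap_isUnit_iff f).mpr hN
  have hub : IsUnit (algebraMap R A b) := (IsLocalization.Away.algebraMap_isUnit_iff f).mpr hM
  refine ⟨algebraMap R A a * ((hub.unit⁻¹ : Aˣ) : A), hua.mul (Units.isUnit _), ?_⟩
  have hb0' : algebraMap R K b ≠ 0 :=
    (map_ne_zero_iff _ (IsFractionRing.injective R K)).mpr hb0
  apply mul_right_cancel₀ hb0'
  rw [hab, ← hρ b, ← map_mul, mul_assoc, IsUnit.val_inv_mul, mul_one, hρ]

end Loc

end Groth.Agent.Lib.Helper26.UFDUnits
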