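import Mathlib
import Groth.Agent.Lib.Helper3.InvAmple
import Groth.Agent.Lib.Helper26.UFDUnits

/-!
# Invertible modules on open subschemes of the spectrum of a UFD are trivial (helper26)
-/

set_option autoImplicit false
set_option linter.style.haveILetI false
set_option linter.unusedSectionVars false
universe u
open CategoryTheory CategoryTheory.Limits AlgebraicGeometry TopologicalSpace Opposite
open Scheme.Modules

namespace Groth.Agent.Lib.Helper26.PicUFD

open Groth.Agent.Lib.Helper3 Groth.Agent.Lib.Helper3.QCSec Groth.Agent.Lib.Helper3.InvGen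
open Groth.Agent.Lib.Helper26.UFDUnits

/-- Gluing local generators which agree on overlaps gives a trivialization. -/
theorem nonempty_iso_of_glue {X : Scheme.{u}} (L : X.Modules) {ι : Type u} (V : ι → X.Opens)
    (hcov : (⊤ : X.Opens) ≤ ⨆ i, V i) (s : ∀ i, Γ(L, V i)) (hs : ∀ i, IsGen L (V i) (s i))
    (hcompat : ∀ i j, res L (inf_le_left : V i ⊓ V j ≤ V i) (s i) =
      res L (inf_le_right : V i ⊓ V j ≤ V j) (s j)) :
    Nonempty (L ≅ Coh.structureModule X) := by
  obtain ⟨σ, hσ⟩ := sec_glue L V ⊤ (fun i => le_top) hcov s hcompat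
  have hgen : IsGen L ⊤ σ := by
    apply isGen_of_local
    intro x _
    obtain ⟨i, hi⟩ := Opens.mem_iSup.mp (hcov (show x ∈ (⊤ : X.Opens) from trivial))
    exact ⟨V i, le_top, hi, by rw [hσ i]; exact hs i⟩
  let φ : Coh.structureModule X ⟶ L := InvAmple.globalHom L σ
  haveI : IsIso φ := by
    rw [Scheme.Modules.Hom.isIso_iff_isIso_app]
    intro W
    apply (ConcreteCategory.isIso_iff_bijective (φ.app W)).mpr
    rw [bijective_app_iff, InvAmple.sec_globalHom]
    exact hgen W le_top
  exact ⟨(asIso φ).symm⟩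

section Integral

variable {S : Scheme.{u}} [IsIntegral S]

/-- germ at the generic point -/
noncomputable def rho (W : S.Opens) (hW : genericPoint S ∈ W) : Γ(S, W) →+* S.functionField :=
  (S.presheaf.germ W (genericPoint S) hW).hom

theorem rho_map {W W' : S.Opens} (i : W' ⟶ W) (hW' : genericPoint S ∈ W') (x : Γ(S, W)) :
    rho W' hW' (S.presheaf.map i.op x) = rho W (i.le hW') x :=
  TopCat.Presheaf.germ_res_apply S.presheaf i (genericPoint S) hW' x

theorem rho_injective (W : S.Opens) (hW : genericPoint S ∈ W) : Function.Injective (rho W hW) :=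
  germ_injective_of_isIntegral S (genericPoint S) hW

theorem generic_mem_of_mem {W : S.Opens} {x : S} (hx : x ∈ W) : genericPoint S ∈ W :=
  ((genericPoint_spec S).mem_open_set_iff W.isOpen).mpr ⟨x, trivial, hx⟩

instance : Nonempty (⊤ : S.Opens) := ⟨⟨genericPoint S, trivial⟩⟩

theorem algebraMap_eq_rho (r : Γ(S, ⊤)) :
    algebraMap Γ(S, ⊤) S.functionField r = rho ⊤ trivial r := rfl

variable [IsAffine S]

instance : IsFractionRing Γ(S, ⊤) S.functionField :=
  functionField_isFractionRing_of_isAffineOpen S ⊤ (isAffineOpen_top S)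

theorem isFU_rho_of_isUnit {W : S.Opens} {f : Γ(S, ⊤)}
    (e : W = S.basicOpen f) (hW : genericPoint S ∈ W) {g : Γ(S, W)} (hg : IsUnit g) :
    IsFU f (rho W hW g) := by
  letI : Algebra Γ(S, ⊤) Γ(S, W) := (S.presheaf.map (homOfLE le_top).op).hom.toAlgebra
  haveI : IsLocalization.Away f Γ(S, W) :=
    (isAffineOpen_top S).isLocalization_of_eq_basicOpen f (homOfLE le_top) e
  exact isFU_map_of_isUnit f (rho W hW) (fun r => by
    show rho W hW (S.presheaf.map (homOfLE le_top).op r) = _
    rw [rho_map, algebraMap_eq_rho]) hg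

theorem exists_isUnit_rho_eq {W : S.Opens} {f : Γ(S, ⊤)} (hf : f ≠ 0)
    (e : W = S.basicOpen f) (hW : genericPoint S ∈ W) {x : S.functionField} (hx : IsFU f x) :
    ∃ g : Γ(S, W), IsUnit g ∧ rho W hW g = x := by
  letI : Algebra Γ(S, ⊤) Γ(S, W) := (S.presheaf.map (homOfLE le_top).op).hom.toAlgebra
  haveI : IsLocalization.Away f Γ(S, W) :=
    (isAffineOpen_top S).isLocalization_of_eq_basicOpen f (homOfLE le_top) e
  exact exists_isUnit_map_eq f (rho W hW) (fun r => by
    show rho W hW (S.presheaf.map (homOfLE le_top).op r) = _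
    rw [rho_map, algebraMap_eq_rho]) hf hx

end Integral

end Groth.Agent.Lib.Helper26.PicUFD
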