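import Mathlib
import Groth.Agent.Lib.Helper26.PicUFD

/-!
# Invertible modules on open subschemes of an integral affine scheme with factorial coordinate
ring are trivial (helper26)
-/

set_option autoImplicit false
set_option linter.style.haveILetI false
set_option linter.unusedSectionVars false
universe u
open CategoryTheory CategoryTheory.Limits AlgebraicGeometry TopologicalSpace Opposite
open Scheme.Modules

namespace Groth.Agent.Lib.Helper26.PicUFD

open Groth.Agent.Lib.Helper3 Groth.Agent.Lib.Helper3.QCSec Groth.Agent.Lib.Helper3.InvGen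
open Groth.Agent.Lib.Helper26.UFDUnits

variable {S : Scheme.{u}} [IsIntegral S]

/-- germ at the generic point of `S`, for sections over opens of an open subscheme `U`. -/
noncomputable def rhoU (U : S.Opens) (V : (U : Scheme.{u}).Opens)
    (hη : genericPoint S ∈ U.ι ''ᵁ V) : Γ((U : Scheme.{u}), V) →+* S.functionField :=
  rho (U.ι ''ᵁ V) hη

theorem rhoU_rres (U : S.Opens) {V' V : (U : Scheme.{u}).Opens} (h : V' ≤ V)
    (hη' : genericPoint S ∈ U.ι ''ᵁ V') (x : Γ((U : Scheme.{u}), V)) :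
    rhoU U V' hη' (rres (U : Scheme.{u}) h x) = rhoU U V (U.ι.image_mono h hη') x :=
  rho_map (U.ι.opensFunctor.map (homOfLE h)) hη' x

theorem rhoU_injective (U : S.Opens) (V : (U : Scheme.{u}).Opens)
    (hη : genericPoint S ∈ U.ι ''ᵁ V) : Function.Injective (rhoU U V hη) :=
  rho_injective (U.ι ''ᵁ V) hη

theorem image_inf (U : S.Opens) (V V' : (U : Scheme.{u}).Opens) :
    U.ι ''ᵁ (V ⊓ V') = U.ι ''ᵁ V ⊓ U.ι ''ᵁ V' := by
  ext x
  simp only [SetLike.mem_coe]
  show x ∈ (U.ι '' ((V : Set _) ∩ (V' : Set _))) ↔ x ∈ (U.ι '' (V : Set _)) ∩ (U.ι '' (V' : Set _))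
  rw [Set.image_inter U.ι.injective]

variable [IsAffine S]

theorem isFU_rhoU_of_isUnit (U : S.Opens) {V : (U : Scheme.{u}).Opens} {f : Γ(S, ⊤)}
    (e : U.ι ''ᵁ V = S.basicOpen f) (hη : genericPoint S ∈ U.ι ''ᵁ V)
    {g : Γ((U : Scheme.{u}), V)} (hg : IsUnit g) : IsFU f (rhoU U V hη g) :=
  isFU_rho_of_isUnit e hη hg

theorem exists_isUnit_rhoU_eq (U : S.Opens) {V : (U : Scheme.{u}).Opens} {f : Γ(S, ⊤)}
    (hf : f ≠ 0) (e : U.ι ''ᵁ V = S.basicOpen f) (hη : genericPoint S ∈ U.ι ''ᵁ V)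
    {x : S.functionField} (hx : IsFU f x) :
    ∃ g : Γ((U : Scheme.{u}), V), IsUnit g ∧ rhoU U V hη g = x :=
  exists_isUnit_rho_eq hf e hη hx

theorem picTrivial (hufd : UniqueFactorizationMonoid Γ(S, ⊤)) (U : S.Opens)
    (L : (U : Scheme.{u}).Modules) (hL : PicF.IsInvertible L) :
    Nonempty (L ≅ Coh.structureModule (U : Scheme.{u})) := by
  classical
  have key : ∀ x : (U : Scheme.{u}), ∃ (f : Γ(S, ⊤)) (V : (U : Scheme.{u}).Opens)
      (e : Γ(L, V)), x ∈ V ∧ U.ι ''ᵁ V = S.basicOpen f ∧ IsGen L V e := by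
    intro x
    obtain ⟨V0, e0, hx, hgen⟩ := exists_isGen hL x
    have hmem : U.ι x ∈ U.ι ''ᵁ V0 := ⟨x, hx, rfl⟩
    obtain ⟨_, ⟨f, rfl⟩, hxf, hfle⟩ := Opens.isBasis_iff_nbhd.mp (isBasis_basicOpen S) hmem
    have hle : U.ι ⁻¹ᵁ (S.basicOpen f) ≤ V0 := by
      intro y hy
      obtain ⟨z, hz, hzy⟩ := hfle hy
      have : z = y := U.ι.injective hzy
      exact this ▸ hz
    exact ⟨f, U.ι ⁻¹ᵁ (S.basicOpen f), res L hle e0, hxf,
      ι_image_preimage_of_le (hfle.trans (U.ι_image_le V0)), hgen.mono hle⟩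
  choose f V e hxV hV hgen using key
  -- generic point memberships
  have hη : ∀ i, genericPoint S ∈ U.ι ''ᵁ V i := fun i =>
    generic_mem_of_mem (x := U.ι i) ⟨i, hxV i, rfl⟩
  have hη2 : ∀ i j, genericPoint S ∈ U.ι ''ᵁ (V i ⊓ V j) := fun i j => by
    rw [image_inf]; exact ⟨hη i, hη j⟩
  have hf : ∀ i, f i ≠ 0 := by
    intro i h0
    have h1 := hη i
    rw [hV i, h0, Scheme.basicOpen_zero] at h1
    exact h1
  have hV2 : ∀ i j, U.ι ''ᵁ (V i ⊓ V j) = S.basicOpen (f i * f j) := fun i j => by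
    rw [image_inf, hV i, hV j, Scheme.basicOpen_mul]
  -- transition units
  have hu : ∀ i j, ∃ u : Γ((U : Scheme.{u}), V i ⊓ V j), IsUnit u ∧
      res L (inf_le_right : V i ⊓ V j ≤ V j) (e j) =
        u • res L (inf_le_left : V i ⊓ V j ≤ V i) (e i) :=
    fun i j => (hgen i (V i ⊓ V j) inf_le_left).exists_unit (hgen j (V i ⊓ V j) inf_le_right)
  choose u hu_unit hu_eq using hu
  let g : ↥(U : Scheme.{u}) → ↥(U : Scheme.{u}) → S.functionField := fun i j =>
    rhoU U (V i ⊓ V j) (hη2 i j) (u i j)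
  have hgFU : ∀ i j, IsFU (f i * f j) (g i j) := fun i j =>
    isFU_rhoU_of_isUnit U (hV2 i j) (hη2 i j) (hu_unit i j)
  -- cocycle
  have hcoc : ∀ i j k, g i j * g j k = g i k := by
    intro i j k
    have hT1 : V i ⊓ V j ⊓ V k ≤ V i ⊓ V j := inf_le_left
    have hT2 : V i ⊓ V j ⊓ V k ≤ V j ⊓ V k := le_inf (inf_le_left.trans inf_le_right) inf_le_right
    have hT3 : V i ⊓ V j ⊓ V k ≤ V i ⊓ V k := le_inf (inf_le_left.trans inf_le_left) inf_le_right
    have hηT : genericPoint S ∈ U.ι ''ᵁ (V i ⊓ V j ⊓ V k) := by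
      rw [image_inf, image_inf]; exact ⟨⟨hη i, hη j⟩, hη k⟩
    have e1 := congrArg (res L hT1) (hu_eq i j)
    have e2 := congrArg (res L hT2) (hu_eq j k)
    have e3 := congrArg (res L hT3) (hu_eq i k)
    rw [res_smul, res_res, res_res] at e1 e2 e3
    have hgenT : IsGenAt L (V i ⊓ V j ⊓ V k)
        (res L (hT1.trans inf_le_left) (e i)) := hgen i _ _
    have e4 : rres (U : Scheme.{u}) hT3 (u i k) =
        rres (U : Scheme.{u}) hT2 (u j k) * rres (U : Scheme.{u}) hT1 (u i j) := by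
      apply hgenT.smul_inj
      rw [mul_smul]
      exact e3.symm.trans (e2.trans (congrArg _ e1))
    have e5 := congrArg (rhoU U (V i ⊓ V j ⊓ V k) hηT) e4
    rw [map_mul, rhoU_rres, rhoU_rres, rhoU_rres] at e5
    show g i j * g j k = g i k
    rw [mul_comm]
    exact e5.symm
  obtain ⟨h, hFU, hrel⟩ := exists_coboundary f hf g hgFU hcoc
  have hlift : ∀ i, ∃ a : Γ((U : Scheme.{u}), V i), IsUnit a ∧
      rhoU U (V i) (hη i) a = h i := fun i =>
    exists_isUnit_rhoU_eq U (hf i) (hV i) (hη i) (hFU i)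
  choose a ha_unit ha_eq using hlift
  refine nonempty_iso_of_glue L V ?_ (fun i => a i • e i)
    (fun i => (hgen i).smul_unit (ha_unit i)) ?_
  · intro x _
    exact Opens.mem_iSup.mpr ⟨x, hxV x⟩
  · intro i j
    rw [res_smul, res_smul, hu_eq i j, ← mul_smul]
    congr 1
    apply rhoU_injective U (V i ⊓ V j) (hη2 i j)
    rw [map_mul, rhoU_rres, rhoU_rres, ha_eq, ha_eq]
    exact (hrel i j).symm

end Groth.Agent.Lib.Helper26.PicUFD
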