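import Mathlib
import Groth.Agent.Lib.Helper28.DepthLoc
import Groth.Agent.Lib.Helper28.Reflexive
import Groth.Agent.Lib.Helper4.Reflexive2
import Groth.Agent.Lib.Helper4.SkFlatMod
import Groth.Agent.Lib.Helper4.FlatRing
import Groth.Agent.Lib.Helper14.ComplQuot

/-!
# Depth along flat maps via fibre depth; a reflexivity criterion (helper26)

* `map_fib_eq`: `q · (B_q / p B_q)` is the maximal ideal of the fibre local ring;
* `le_depth_ring`, `le_depth_module`: `depth B_q ≥ depth (B_q/pB_q)` for `A → B` flat, and the same
  for a finite `B`-module flat over `A`;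
* `one_le_idealDepth_of_injective`: submodules of modules of positive `J`-depth have positive `J`-depth;
* `isReflexive_of_depth`: `depth_J R ≥ 1`, `M_p` reflexive off `V(J)`, `depth_J M ≥ 2` ⇒ `M` reflexive;
* `two_le_idealDepth_ker`: kernel of a map from a module of `J`-depth `≥ 2` to one of `J`-depth `≥ 1`.
-/

set_option autoImplicit false
set_option linter.unusedSectionVars false
set_option linter.unusedVariables false

universe u

open Module IsLocalRing

namespace Groth.Agent.Lib.Helper26.KollarDepth

open Groth.Agent.Lib.Helper4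

section fib

variable (A B : Type u) [CommRing A] [CommRing B] [IsNoetherianRing A] [IsNoetherianRing B]
  [Algebra A B]

theorem map_fib_eq (q : Ideal B) [q.IsPrime] :
    q.map (algebraMap B (EGA4.FibLocRing A B q)) = maximalIdeal (EGA4.FibLocRing A B q) := by
  have h1 : algebraMap B (EGA4.FibLocRing A B q) =
      (algebraMap (Localization.AtPrime q) (EGA4.FibLocRing A B q)).comp
        (algebraMap B (Localization.AtPrime q)) :=
    IsScalarTower.algebraMap_eq _ _ _
  rw [h1, ← Ideal.map_map, Localization.AtPrime.map_eq_maximalIdeal]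
  exact Groth.Agent.Lib.Helper14.ComplQuot.map_maximalIdeal_quotient _ _

theorem le_depth_ring [Module.Flat A B] (q : Ideal B) [q.IsPrime] (k : ℕ∞)
    (h : k ≤ LocCoh.idealDepth (q.map (algebraMap B (EGA4.FibLocRing A B q)))
      (EGA4.FibLocRing A B q)) :
    k ≤ LocCoh.depth (Localization.AtPrime q) (LocalizedModule q.primeCompl B) := by
  rw [map_fib_eq] at h
  have h2 := (Groth.Agent.Lib.Helper4.FlatRing.exists_local_data A B q).2.1
  have h3 : LocCoh.depth (Localization.AtPrime q) (LocalizedModule q.primeCompl B) =
      LocCoh.depth (Localization.AtPrime q) (Localization.AtPrime q) := by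
    unfold LocCoh.depth
    exact Groth.Agent.Lib.Helper28.idealDepth_congr
      (Groth.Agent.Lib.Helper28.localizedSelfEquiv q.primeCompl) _
  rw [h3, h2]
  exact le_trans h le_add_self

theorem le_depth_module (E : Type u) [AddCommGroup E] [Module B E] [Module A E]
    [IsScalarTower A B E] [Module.Finite B E] [Module.Flat A E] (q : Ideal B) [q.IsPrime] (k : ℕ∞)
    (h : k ≤ LocCoh.idealDepth (q.map (algebraMap B (EGA4.FibLocRing A B q)))
      (EGA4.FibLocMod A B q E)) :
    k ≤ LocCoh.depth (Localization.AtPrime q) (LocalizedModule q.primeCompl E) := by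
  rw [map_fib_eq] at h
  have h2 := (Groth.Agent.Lib.Helper4.SkFlatMod.local_formulas A B A E q).1
  let e0 : TensorProduct A E A ≃ₗ[B] E := TensorProduct.AlgebraTensorModule.rid A B E
  let e : LocalizedModule q.primeCompl (TensorProduct A E A) ≃ₗ[Localization.AtPrime q]
      LocalizedModule q.primeCompl E :=
    IsLocalizedModule.mapEquiv q.primeCompl (LocalizedModule.mkLinearMap q.primeCompl _)
      (LocalizedModule.mkLinearMap q.primeCompl _) (Localization.AtPrime q) e0
  have h3 : LocCoh.depth (Localization.AtPrime q) (LocalizedModule q.primeCompl E) =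
      LocCoh.depth (Localization.AtPrime q)
        (LocalizedModule q.primeCompl (TensorProduct A E A)) := by
    unfold LocCoh.depth
    exact (Groth.Agent.Lib.Helper28.idealDepth_congr e _).symm
  rw [h3, h2]
  exact le_trans h le_add_self

end fib

section gen

variable {R : Type u} [CommRing R]

theorem one_le_idealDepth_of_injective (J : Ideal R) {X Y : Type u} [AddCommGroup X] [Module R X]
    [AddCommGroup Y] [Module R Y] [Module.Finite R Y]
    (g : X →ₗ[R] Y) (hg : Function.Injective g) (h : 1 ≤ LocCoh.idealDepth J Y) :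
    1 ≤ LocCoh.idealDepth J X := by
  by_cases hX : J • (⊤ : Submodule R X) = ⊤
  · rw [idealDepth_of_smul_top_eq J hX]; exact le_top
  · obtain ⟨x, hxJ, hx⟩ : ∃ x ∈ J, IsSMulRegular Y x := by
      by_cases hY : J • (⊤ : Submodule R Y) = ⊤
      · obtain ⟨r, hr1, hr⟩ := Submodule.exists_sub_one_mem_and_smul_eq_zero_of_fg_of_le_smul J
          (⊤ : Submodule R Y) Module.Finite.fg_top (by rw [hY])
        refine ⟨1 - r, ?_, ?_⟩
        · have : 1 - r = -(r - 1) := by ring
          rw [this]; exact J.neg_mem hr1
        · intro a b hab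
          have ha : (1 - r) • a = a := by rw [sub_smul, one_smul, hr a trivial, sub_zero]
          have hb : (1 - r) • b = b := by rw [sub_smul, one_smul, hr b trivial, sub_zero]
          change (1 - r) • a = (1 - r) • b at hab
          rwa [ha, hb] at hab
      · exact (one_le_idealDepth_iff J hY).mp h
    refine (one_le_idealDepth_iff J hX).mpr ⟨x, hxJ, fun a b hab => hg (hx ?_)⟩
    change x • g a = x • g b
    rw [← map_smul, ← map_smul]
    exact congrArg g hab

variable [IsNoetherianRing R]

/-- kernel of a map `E0 → E1` with `depth_J E0 ≥ 2`, `depth_J E1 ≥ 1` has `depth_J ≥ 2`. -/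
theorem two_le_idealDepth_ker (J : Ideal R) {F E0 E1 : Type u} [AddCommGroup F] [Module R F]
    [Module.Finite R F] [AddCommGroup E0] [Module R E0] [Module.Finite R E0]
    [AddCommGroup E1] [Module R E1] [Module.Finite R E1]
    (f : F →ₗ[R] E0) (u : E0 →ₗ[R] E1) (hf : Function.Injective f) (hfu : Function.Exact f u)
    (hE0 : 2 ≤ LocCoh.idealDepth J E0) (hE1 : 1 ≤ LocCoh.idealDepth J E1) :
    2 ≤ LocCoh.idealDepth J F := by
  have hIm : 1 ≤ LocCoh.idealDepth J (LinearMap.range u) :=
    one_le_idealDepth_of_injective J (LinearMap.range u).subtype (Submodule.subtype_injective _) hE1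
  have hex : Function.Exact f u.rangeRestrict := fun y => by
    rw [← hfu y]
    exact ⟨fun h => congrArg Subtype.val h, fun h => Subtype.ext h⟩
  have key := (idealDepth_shortExact J f u.rangeRestrict hf
    (LinearMap.surjective_rangeRestrict u) hex).2.2
  refine le_trans (le_min hE0 ?_) key
  calc (2 : ℕ∞) = 1 + 1 := by norm_num
    _ ≤ LocCoh.idealDepth J (LinearMap.range u) + 1 := by gcongr

/-- A reflexivity criterion: `J` contains a nonzerodivisor, `M` is reflexive off `V(J)` and
`depth_J M ≥ 2`. -/
theorem isReflexive_of_depth (R : Type u) [CommRing R] [IsNoetherianRing R] (M : Type u)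
    [AddCommGroup M] [Module R M] [Module.Finite R M] (J : Ideal R)
    (hJR : ∃ x ∈ J, IsSMulRegular R x)
    (hrefl : ∀ (p : Ideal R) [p.IsPrime], ¬ J ≤ p →
      IsReflexive (Localization.AtPrime p) (LocalizedModule p.primeCompl M))
    (hd : 2 ≤ LocCoh.idealDepth J M) : IsReflexive R M := by
  obtain ⟨x, hxJ, hxR⟩ := hJR
  have hdp : ∀ (p : Ideal R) [p.IsPrime], J ≤ p →
      2 ≤ LocCoh.depth (Localization.AtPrime p) (LocalizedModule p.primeCompl M) := by
    intro p _ hJp
    rcases subsingleton_or_nontrivial (LocalizedModule p.primeCompl M) with hs | hn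
    · rw [depth_eq_top_of_subsingleton]; exact le_top
    · exact le_trans hd (Groth.Agent.Lib.Helper28.idealDepth_le_depth_localization J p hJp)
  have hinj : Function.Injective (Dual.eval R M) := by
    apply injective_of_localization_or_notMem_ass
    intro p hp
    by_cases hJp : J ≤ p
    · refine Or.inr fun hass => ?_
      have h2 := hdp p hJp
      rw [(depth_localizedModule_eq_zero_iff p).mpr hass] at h2
      exact absurd h2 (by norm_num)
    · exact Or.inl ((isReflexive_localizedModule_iff R M p).mp (hrefl p hJp)).1
  refine ⟨⟨hinj, ?_⟩⟩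
  rw [← LinearMap.range_eq_top]
  by_contra hne
  set Q := Dual R (Dual R M) ⧸ LinearMap.range (Dual.eval R M) with hQ
  haveI : Nontrivial Q := Submodule.Quotient.nontrivial_iff.mpr hne
  obtain ⟨p, hp⟩ := associatedPrimes.nonempty R Q
  haveI : p.IsPrime := hp.isPrime
  have hsupp := mem_support_of_mem_associatedPrimes hp
  have hex : Function.Exact (LocalizedModule.map p.primeCompl (Dual.eval R M))
      (LocalizedModule.map p.primeCompl (LinearMap.range (Dual.eval R M)).mkQ) :=
    LocalizedModule.map_exact p.primeCompl _ _ (LinearMap.exact_map_mkQ_range _)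
  have hsurj : Function.Surjective
      (LocalizedModule.map p.primeCompl (LinearMap.range (Dual.eval R M)).mkQ) :=
    LocalizedModule.map_surjective _ _ (Submodule.mkQ_surjective _)
  by_cases hJp : J ≤ p
  · have hN : p ∉ associatedPrimes R (Dual R (Dual R M)) := by
      intro hass
      obtain ⟨_, y, hy⟩ := (isAssociatedPrime_iff).mp hass
      have hxp : x ∈ p := hJp hxJ
      rw [hy, Submodule.mem_colon_singleton, Submodule.mem_bot] at hxp
      have hreg : IsSMulRegular (Dual R (Dual R M)) x := isSMulRegular_linearMap hxR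
      have hy0 : y = 0 := hreg (by change x • y = x • 0; rw [hxp, smul_zero])
      have h1 : (1 : R) ∈ p := by
        rw [hy, Submodule.mem_colon_singleton, Submodule.mem_bot, hy0, smul_zero]
      exact (Ideal.ne_top_iff_one p).mp (Ideal.IsPrime.ne_top ‹_›) h1
    have hdN : 1 ≤ LocCoh.depth (Localization.AtPrime p)
        (LocalizedModule p.primeCompl (Dual R (Dual R M))) := by
      refine Order.one_le_iff_pos.mpr (pos_iff_ne_zero.mpr fun h0 => ?_)
      exact hN ((depth_localizedModule_eq_zero_iff p).mp h0)
    have hdQ : LocCoh.depth (Localization.AtPrime p) (LocalizedModule p.primeCompl Q) = 0 :=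
      (depth_localizedModule_eq_zero_iff p).mpr hp
    have hlem := (idealDepth_shortExact (IsLocalRing.maximalIdeal (Localization.AtPrime p))
      (LocalizedModule.map p.primeCompl (Dual.eval R M))
      (LocalizedModule.map p.primeCompl (LinearMap.range (Dual.eval R M)).mkQ)
      (LocalizedModule.map_injective _ _ hinj) hsurj hex).2.1
    have hd1 : 1 ≤ LocCoh.idealDepth (IsLocalRing.maximalIdeal (Localization.AtPrime p))
        (LocalizedModule p.primeCompl M) - 1 := by
      refine ENat.le_sub_of_add_le_right ENat.one_ne_top ?_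
      rw [one_add_one_eq_two]
      exact hdp p hJp
    have : (1 : ℕ∞) ≤ LocCoh.depth (Localization.AtPrime p) (LocalizedModule p.primeCompl Q) :=
      le_trans (le_min hdN hd1) hlem
    rw [hdQ] at this
    exact absurd this (by norm_num)
  · have hbij := (isReflexive_localizedModule_iff R M p).mp (hrefl p hJp)
    have hnt : Nontrivial (LocalizedModule p.primeCompl Q) := Module.mem_support_iff.mp hsupp
    obtain ⟨z, hz⟩ := exists_ne (0 : LocalizedModule p.primeCompl Q)
    obtain ⟨w, rfl⟩ := hsurj z
    obtain ⟨v, rfl⟩ := hbij.2 w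
    exact hz (hex.apply_apply_eq_zero v)

end gen

end Groth.Agent.Lib.Helper26.KollarDepth
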