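import Mathlib
import Groth.Prelude.Def_Flat

/-!
# Universal homeomorphisms (helper26)

* `isUnivHomeo_iff` : `FlatMor.IsUnivHomeo f ↔ UniversallyClosed f ∧ UniversallyInjective f ∧ Surjective f`
  (same statement as in `Groth.Agent.S1126`, reproduced here to avoid importing a statement file).
* `isUnivHomeo_SpecMap` : affine criterion: `φ : R ⟶ S` integral, `Spec φ` surjective and every
  `s : S` has a `q^n`-th power in the range of `φ` (`q` the exponential characteristic of `R`)
  ⟹ `Spec φ` is a universal homeomorphism.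
-/

set_option autoImplicit false
universe u
open CategoryTheory AlgebraicGeometry

namespace Groth.Agent.Lib.Helper26.UnivHomeo

theorem isUnivHomeo_iff {X Y : Scheme.{u}} (f : X ⟶ Y) :
    FlatMor.IsUnivHomeo f ↔ UniversallyClosed f ∧ UniversallyInjective f ∧ Surjective f := by
  constructor
  · intro h
    refine ⟨?_, ?_, ?_⟩
    · rw [universallyClosed_eq]
      intro X' Y' i₁ i₂ f' hpb
      exact (h i₁ i₂ f' hpb : IsHomeomorph f').isClosedMap
    · rw [universallyInjective_eq]
      intro X' Y' i₁ i₂ f' hpb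
      exact (h i₁ i₂ f' hpb : IsHomeomorph f').injective
    · have h' : IsHomeomorph f := MorphismProperty.universally_le _ _ h
      exact ⟨h'.surjective⟩
  · rintro ⟨h1, h2, h3⟩ X' Y' i₁ i₂ f' hpb
    have hc : UniversallyClosed f' := MorphismProperty.of_isPullback hpb.flip h1
    have hi : UniversallyInjective f' := MorphismProperty.of_isPullback hpb.flip h2
    have hs : Surjective f' := MorphismProperty.of_isPullback hpb.flip h3
    show IsHomeomorph f'
    rw [isHomeomorph_iff_continuous_isClosedMap_bijective]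
    exact ⟨f'.continuous, f'.isClosedMap, f'.injective, f'.surjective⟩

/-- Two ring homs to a field that agree after precomposition with `φ` agree, if every element of `S`
has a `q^n`-th power in the range of `φ`, `q` the exponential characteristic of `R`. -/
theorem ringHom_ext_of_pow_mem {R S K : Type*} [CommRing R] [CommRing S] [Field K]
    (φ : R →+* S) (q : ℕ) [hq : ExpChar R q]
    (hpow : ∀ s : S, ∃ n : ℕ, s ^ (q ^ n) ∈ φ.range)
    (ψ₁ ψ₂ : S →+* K) (h : ψ₁.comp φ = ψ₂.comp φ) : ψ₁ = ψ₂ := by
  ext s
  obtain ⟨n, r, hr⟩ := hpow s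
  have h12 : ψ₁ s ^ (q ^ n) = ψ₂ s ^ (q ^ n) := by
    rw [← map_pow, ← map_pow, ← hr]
    exact RingHom.congr_fun h r
  rcases hq with _ | hprime
  · simpa using h12
  · haveI : CharP K q := by
      rw [CharP.charP_iff_prime_eq_zero hprime]
      have h2 : (q : K) = ψ₁ (φ (q : R)) := by rw [map_natCast, map_natCast]
      rw [h2, CharP.cast_eq_zero R q, map_zero, map_zero]
    haveI : ExpChar K q := .prime hprime
    exact iterateFrobenius_inj K q n (by simpa [iterateFrobenius_def] using h12)

/-- Affine criterion for universal homeomorphisms. -/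
theorem isUnivHomeo_SpecMap {R S : CommRingCat.{u}} (φ : R ⟶ S) (q : ℕ) [ExpChar R q]
    (hint : φ.hom.IsIntegral) (hsurj : Function.Surjective (PrimeSpectrum.comap φ.hom))
    (hpow : ∀ s : S, ∃ n : ℕ, s ^ (q ^ n) ∈ φ.hom.range) :
    FlatMor.IsUnivHomeo (Spec.map φ) := by
  rw [isUnivHomeo_iff]
  haveI : IsIntegralHom (Spec.map φ) := IsIntegralHom.SpecMap_iff.mpr hint
  refine ⟨inferInstance, ?_, ⟨hsurj⟩⟩
  refine ((tfae_universallyInjective (Spec.map φ)).out 0 1).mpr ?_
  intro K _ g₁ g₂ hg
  simp only at hg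
  rw [← Spec.map_preimage g₁, ← Spec.map_preimage g₂] at hg ⊢
  rw [← Spec.map_comp, ← Spec.map_comp] at hg
  have h := Spec.map_injective hg
  congr 1
  ext1
  apply ringHom_ext_of_pow_mem φ.hom q hpow
  have := congrArg CommRingCat.Hom.hom h
  simpa using this

end Groth.Agent.Lib.Helper26.UnivHomeo
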