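import Groth.Agent.Lib.Helper26.HenselGabber
import Mathlib

/-!
# Gabber's condition implies the étale lifting property

`exists_lift_of_gabber` : if `I ≤ rad A` and `(A, I)` satisfies Gabber's condition, then every
`A`-algebra map `A' → A/I` from an étale `A`-algebra lifts to `A' → A`.
-/

set_option autoImplicit false
universe u

namespace Groth.Agent.Lib.Helper26.HenselEtale

open Polynomial Groth.Agent.Lib.Helper26.HenselBasic Groth.Agent.Lib.Helper3
  Groth.Agent.Lib.Helper26.HenselGabber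

variable {A : Type u} [CommRing A] {I : Ideal A} {A' : Type u} [CommRing A'] [Algebra A A']

/-- For a formally unramified algebra with an `A`-algebra map `σ : A' → A/I`, the kernel `J'` of
`σ` satisfies `J' = J'² + I A'`. -/
theorem ker_le_sq_sup_map [Algebra.FormallyUnramified A A'] (σ : A' →ₐ[A] A ⧸ I) :
    RingHom.ker σ ≤ (RingHom.ker σ) ^ 2 ⊔ I.map (algebraMap A A') := by
  set J' := RingHom.ker σ with hJ'
  set 𝔠 := J' ^ 2 ⊔ I.map (algebraMap A A') with h𝔠
  let T := A' ⧸ 𝔠
  let 𝔟 : Ideal T := J'.map (Ideal.Quotient.mk 𝔠)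
  have h𝔟 : 𝔟 ^ 2 = ⊥ := by
    rw [← Ideal.map_pow, eq_bot_iff, Ideal.map_le_iff_le_comap]
    intro y hy
    rw [Ideal.mem_comap, Ideal.mem_bot, Ideal.Quotient.eq_zero_iff_mem]
    exact le_sup_left (a := J' ^ 2) hy
  let f₁ : A' →ₐ[A] T := Ideal.Quotient.mkₐ A 𝔠
  let ι : A ⧸ I →ₐ[A] T := Ideal.Quotient.liftₐ I (Algebra.ofId A T) (by
    intro a ha
    have : (Algebra.ofId A T) a = Ideal.Quotient.mk 𝔠 (algebraMap A A' a) := rfl
    rw [this, Ideal.Quotient.eq_zero_iff_mem]
    exact le_sup_right (a := J' ^ 2) (Ideal.mem_map_of_mem _ ha))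
  let f₂ : A' →ₐ[A] T := ι.comp σ
  have h12 : f₁ = f₂ := by
    apply Algebra.FormallyUnramified.ext 𝔟 ⟨2, h𝔟⟩
    intro x
    obtain ⟨a, ha⟩ := Ideal.Quotient.mk_surjective (σ x)
    have e2 : f₂ x = f₁ (algebraMap A A' a) := by
      show ι (σ x) = _
      rw [← ha]
      show ι (Ideal.Quotient.mk I a) = _
      simp [ι, f₁]
      rfl
    rw [e2, Ideal.Quotient.eq, ← map_sub]
    apply Ideal.mem_map_of_mem
    rw [hJ', RingHom.mem_ker, map_sub, AlgHom.commutes, ← ha, sub_eq_zero]
    rfl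
  intro y hy
  have e1 : f₁ y = f₂ y := by rw [h12]
  have e3 : f₂ y = 0 := by
    show ι (σ y) = 0
    rw [(RingHom.mem_ker).mp hy, map_zero]
  rw [e3] at e1
  exact Ideal.Quotient.eq_zero_iff_mem.mp e1


/-- `r` is integral and `A'[1/r]` is generated by integral elements. -/
def Good (A : Type u) [CommRing A] {A' : Type u} [CommRing A'] [Algebra A A'] (r : A') : Prop :=
  IsIntegral A r ∧ ∀ x : A', ∃ m : ℕ, IsIntegral A (r ^ m * x)

lemma Good.zero : Good A (0 : A') :=
  ⟨isIntegral_zero, fun x => ⟨1, by rw [pow_one, zero_mul]; exact isIntegral_zero⟩⟩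

lemma Good.smul {r : A'} (h : Good A r) (a : A) : Good A (a • r) := by
  refine ⟨h.1.smul a, fun x => ?_⟩
  obtain ⟨m, hm⟩ := h.2 x
  refine ⟨m, ?_⟩
  have : (a • r) ^ m * x = (a ^ m) • (r ^ m * x) := by
    rw [_root_.smul_pow, smul_mul_assoc]
  rw [this]
  exact hm.smul _

lemma Good.add {r r' : A'} (h : Good A r) (h' : Good A r') : Good A (r + r') := by
  refine ⟨h.1.add h'.1, fun x => ?_⟩
  obtain ⟨m, hm⟩ := h.2 x
  obtain ⟨m', hm'⟩ := h'.2 x
  refine ⟨m + m', ?_⟩
  rw [add_pow, Finset.sum_mul]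
  apply IsIntegral.sum
  intro k _
  rcases Nat.lt_or_ge k m with hk | hk
  · -- then m + m' - k ≥ m'
    have e : r ^ k * r' ^ (m + m' - k) * ((m + m').choose k : A') * x =
        r ^ k * r' ^ (m + m' - k - m') * ((m + m').choose k : A') * (r' ^ m' * x) := by
      have : r' ^ (m + m' - k) = r' ^ (m + m' - k - m') * r' ^ m' := by
        rw [← pow_add]; congr 1; omega
      rw [this]; ring
    rw [e]
    exact (((h.1.pow _).mul (h'.1.pow _)).mul (isIntegral_natCast _)).mul hm'
  · have e : r ^ k * r' ^ (m + m' - k) * ((m + m').choose k : A') * x =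
        r ^ (k - m) * r' ^ (m + m' - k) * ((m + m').choose k : A') * (r ^ m * x) := by
      have : r ^ k = r ^ (k - m) * r ^ m := by
        rw [← pow_add]; congr 1; omega
      rw [this]; ring
    rw [e]
    exact (((h.1.pow _).mul (h'.1.pow _)).mul (isIntegral_natCast _)).mul hm

/-- Zariski's main theorem gives a good element `r` with `σ r = 1`. -/
theorem exists_good [Algebra.FiniteType A A'] [Algebra.QuasiFinite A A'] (σ : A' →ₐ[A] A ⧸ I) :
    ∃ r : A', Good A r ∧ σ r = 1 := by
  let 𝔰 : Ideal (A ⧸ I) :=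
    { carrier := {y | ∃ r : A', Good A r ∧ σ r = y}
      add_mem' := by
        rintro _ _ ⟨r, hr, rfl⟩ ⟨r', hr', rfl⟩
        exact ⟨r + r', hr.add hr', map_add _ _ _⟩
      zero_mem' := ⟨0, Good.zero, map_zero _⟩
      smul_mem' := by
        rintro c _ ⟨r, hr, rfl⟩
        obtain ⟨a, rfl⟩ := Ideal.Quotient.mk_surjective c
        refine ⟨a • r, hr.smul a, ?_⟩
        rw [map_smul, smul_eq_mul, Algebra.smul_def]
        rfl }
  suffices h : 𝔰 = ⊤ by
    have : (1 : A ⧸ I) ∈ 𝔰 := by rw [h]; trivial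
    exact this
  by_contra hne
  obtain ⟨n, hn, hle⟩ := Ideal.exists_le_maximal 𝔰 hne
  let q : Ideal A' := n.comap σ.toRingHom
  haveI : q.IsPrime := Ideal.comap_isPrime _ _
  obtain ⟨r, hrq, hr1, hr2⟩ :=
    Algebra.zariskisMainProperty_iff.mp (Algebra.ZariskisMainProperty.of_finiteType (R := A) q)
  apply hrq
  show σ r ∈ n
  exact hle ⟨r, ⟨hr1, hr2⟩, rfl⟩

/-- A finite subalgebra witnessing goodness. -/
theorem exists_finite_subalgebra [Algebra.FiniteType A A'] {r : A'} (hr : Good A r) :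
    ∃ B : Subalgebra A A', B.toSubmodule.FG ∧ r ∈ B ∧ ∀ x : A', ∃ m : ℕ, r ^ m * x ∈ B := by
  classical
  obtain ⟨s, hs⟩ := Algebra.FiniteType.out (R := A) (A := A')
  choose m hm using hr.2
  let t : Set A' := insert r { r ^ m x * x | x ∈ s }
  have hrt : r ∈ Algebra.adjoin A t := Algebra.subset_adjoin (by simp [t])
  refine ⟨Algebra.adjoin A t, fg_adjoin_of_finite ?_ ?_, hrt, ?_⟩
  · simp only [t, Set.finite_insert]
    exact s.finite_toSet.image (fun x ↦ r ^ m x * x)
  · rintro a (rfl | ⟨x, hx, rfl⟩)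
    exacts [hr.1, hm _]
  · intro x
    have hx : x ∈ Algebra.adjoin A (s : Set A') := by rw [hs]; trivial
    induction hx using Algebra.adjoin_induction with
    | mem x hx =>
      exact ⟨m x, Algebra.subset_adjoin (Set.mem_insert_of_mem _ ⟨x, hx, rfl⟩)⟩
    | algebraMap a =>
      exact ⟨0, by rw [pow_zero, one_mul]; exact Subalgebra.algebraMap_mem _ a⟩
    | add x y _ _ hx hy =>
      obtain ⟨k₁, h₁⟩ := hx
      obtain ⟨k₂, h₂⟩ := hy
      refine ⟨k₁ + k₂, ?_⟩
      have : r ^ (k₁ + k₂) * (x + y) = r ^ k₂ * (r ^ k₁ * x) + r ^ k₁ * (r ^ k₂ * y) := by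
        rw [pow_add]; ring
      rw [this]
      exact Subalgebra.add_mem _ (Subalgebra.mul_mem _ (Subalgebra.pow_mem _ hrt _) h₁)
        (Subalgebra.mul_mem _ (Subalgebra.pow_mem _ hrt _) h₂)
    | mul x y _ _ hx hy =>
      obtain ⟨k₁, h₁⟩ := hx
      obtain ⟨k₂, h₂⟩ := hy
      refine ⟨k₁ + k₂, ?_⟩
      have : r ^ (k₁ + k₂) * (x * y) = (r ^ k₁ * x) * (r ^ k₂ * y) := by
        rw [pow_add]; ring
      rw [this]
      exact Subalgebra.mul_mem _ h₁ h₂


section Core

variable (σ : A' →ₐ[A] A ⧸ I) (B : Subalgebra A A')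

/-- The restriction of `σ` to `B`, modulo `IB`. -/
noncomputable def sigmaBar : (B ⧸ I.map (algebraMap A B)) →ₐ[A] A ⧸ I :=
  Ideal.Quotient.liftₐ (I.map (algebraMap A B)) (σ.comp B.val) (by
    have : I.map (algebraMap A B) ≤ RingHom.ker (σ.comp B.val).toRingHom := by
      rw [Ideal.map_le_iff_le_comap]
      intro a ha
      rw [Ideal.mem_comap, RingHom.mem_ker]
      show (σ.comp B.val) (algebraMap A B a) = 0
      rw [AlgHom.commutes]
      exact Ideal.Quotient.eq_zero_iff_mem.mpr ha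
    exact fun z hz => this hz)

@[simp] lemma sigmaBar_mk (z : B) :
    sigmaBar σ B (Ideal.Quotient.mk (I.map (algebraMap A B)) z) = σ (z : A') := rfl

lemma sigmaBar_smul_one (a : A) :
    sigmaBar σ B (a • (1 : B ⧸ I.map (algebraMap A B))) = Ideal.Quotient.mk I a := by
  rw [map_smul, map_one, Algebra.smul_def, mul_one]
  rfl

/-- The kernel of `sigmaBar` is a finitely generated ideal. -/
theorem ker_sigmaBar_fg (hB : B.toSubmodule.FG) :
    (RingHom.ker (sigmaBar σ B).toRingHom).FG := by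
  classical
  haveI : Module.Finite A B := ⟨(Submodule.fg_top _).mpr hB⟩
  haveI : Module.Finite A (B ⧸ I.map (algebraMap A B)) :=
    Module.Finite.of_surjective (Ideal.Quotient.mkₐ A (I.map (algebraMap A B))).toLinearMap
      (Ideal.Quotient.mkₐ_surjective A _)
  obtain ⟨k, y, hy⟩ := Module.Finite.exists_fin (R := A) (M := B ⧸ I.map (algebraMap A B))
  have hsurj : ∀ c : A ⧸ I, ∃ a : A, Ideal.Quotient.mk I a = c := Ideal.Quotient.mk_surjective
  choose a ha using fun i => hsurj (sigmaBar σ B (y i))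
  refine ⟨Finset.univ.image (fun i => y i - a i • (1 : B ⧸ I.map (algebraMap A B))), ?_⟩
  apply le_antisymm
  · rw [Ideal.span_le]
    intro z hz
    simp only [Finset.coe_image, Finset.coe_univ, Set.image_univ, Set.mem_range] at hz
    obtain ⟨i, rfl⟩ := hz
    show _ ∈ RingHom.ker _
    rw [RingHom.mem_ker]
    show sigmaBar σ B _ = 0
    rw [map_sub, sigmaBar_smul_one, ha, sub_self]
  · intro z hz
    rw [RingHom.mem_ker] at hz
    have hz' : sigmaBar σ B z = 0 := hz
    have hzt : z ∈ Submodule.span A (Set.range y) := by rw [hy]; trivial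
    obtain ⟨c, rfl⟩ := (Submodule.mem_span_range_iff_exists_fun A).mp hzt
    have h1 : ∑ i, c i • y i = ∑ i, c i • (y i - a i • (1 : B ⧸ I.map (algebraMap A B))) +
        (∑ i, c i * a i) • (1 : B ⧸ I.map (algebraMap A B)) := by
      rw [Finset.sum_smul, ← Finset.sum_add_distrib]
      apply Finset.sum_congr rfl
      intro i _
      rw [smul_sub, mul_smul]; abel
    have h2 : (∑ i, c i * a i) ∈ I := by
      rw [← Ideal.Quotient.eq_zero_iff_mem, map_sum]
      rw [map_sum] at hz'
      rw [← hz']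
      apply Finset.sum_congr rfl
      intro i _
      rw [map_smul, map_mul, ha, Algebra.smul_def]
      rfl
    rw [h1, smul_mk_eq_zero I h2, add_zero]
    apply Ideal.sum_mem
    intro i _
    apply Submodule.smul_of_tower_mem
    apply Ideal.subset_span
    simp only [Finset.coe_image, Finset.coe_univ, Set.image_univ, Set.mem_range]
    exact ⟨i, rfl⟩


/-- The kernel of `sigmaBar` is an idempotent ideal. -/
theorem ker_sigmaBar_isIdempotentElem [Algebra.FormallyUnramified A A'] (r : A') (hrB : r ∈ B)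
    (hσr : σ r = 1) (hr : ∀ x : A', ∃ m : ℕ, r ^ m * x ∈ B) :
    IsIdempotentElem (RingHom.ker (sigmaBar σ B).toRingHom) := by
  set IB := I.map (algebraMap A B) with hIB
  set Jbar := RingHom.ker (sigmaBar σ B).toRingHom with hJbar
  let rB : B := ⟨r, hrB⟩
  set rbar : B ⧸ IB := Ideal.Quotient.mk IB rB with hrbar
  have hmemJ : ∀ b : B, σ (b : A') = 0 → Ideal.Quotient.mk IB b ∈ Jbar := by
    intro b hb
    rw [hJbar, RingHom.mem_ker]
    exact hb
  -- the predicate
  let P : A' → Prop := fun u => ∃ (M : ℕ) (b : B), (b : A') = r ^ M * u ∧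
    Ideal.Quotient.mk IB b ∈ Jbar ^ 2
  have hPadd : ∀ u u', P u → P u' → P (u + u') := by
    rintro u u' ⟨M, b, hb, hbJ⟩ ⟨M', b', hb', hbJ'⟩
    refine ⟨M + M', rB ^ M' * b + rB ^ M * b', ?_, ?_⟩
    · simp only [Subalgebra.coe_add, Subalgebra.coe_mul, Subalgebra.coe_pow, hb, hb', rB]
      rw [pow_add]; ring
    · rw [map_add, map_mul, map_mul]
      exact Ideal.add_mem _ (Ideal.mul_mem_left _ _ hbJ) (Ideal.mul_mem_left _ _ hbJ')
  have hPmul : ∀ (x u : A'), P u → P (x * u) := by
    rintro x u ⟨M, b, hb, hbJ⟩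
    obtain ⟨Mx, hx⟩ := hr x
    refine ⟨Mx + M, ⟨r ^ Mx * x, hx⟩ * b, ?_, ?_⟩
    · simp only [Subalgebra.coe_mul, hb]
      rw [pow_add]; ring
    · rw [map_mul]
      exact Ideal.mul_mem_left _ _ hbJ
  have hP0 : P 0 := ⟨0, 0, by simp, by simp⟩
  have hPsq : ∀ u ∈ (RingHom.ker σ) ^ 2, P u := by
    intro u hu
    rw [pow_two] at hu
    induction hu using Submodule.mul_induction_on' with
    | mem_mul_mem u₁ h₁ u₂ h₂ =>
      obtain ⟨M₁, hb₁⟩ := hr u₁
      obtain ⟨M₂, hb₂⟩ := hr u₂
      refine ⟨M₁ + M₂, ⟨r ^ M₁ * u₁, hb₁⟩ * ⟨r ^ M₂ * u₂, hb₂⟩, ?_, ?_⟩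
      · simp only [Subalgebra.coe_mul, smul_eq_mul]
        rw [pow_add]; ring
      · rw [map_mul, pow_two]
        apply Ideal.mul_mem_mul
        · apply hmemJ
          show σ (r ^ M₁ * u₁) = 0
          rw [map_mul, (RingHom.mem_ker).mp h₁, mul_zero]
        · apply hmemJ
          show σ (r ^ M₂ * u₂) = 0
          rw [map_mul, (RingHom.mem_ker).mp h₂, mul_zero]
    | add x _ y _ hx hy => exact hPadd _ _ hx hy
  have hPI : ∀ w ∈ I.map (algebraMap A A'), P w := by
    intro w hw
    induction hw using Submodule.span_induction with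
    | mem w hw =>
      obtain ⟨i, hi, rfl⟩ := hw
      refine ⟨0, algebraMap A B i, by simp, ?_⟩
      have : Ideal.Quotient.mk IB (algebraMap A B i) = 0 :=
        Ideal.Quotient.eq_zero_iff_mem.mpr (Ideal.mem_map_of_mem _ hi)
      rw [this]; exact zero_mem _
    | zero => exact hP0
    | add x y _ _ hx hy => exact hPadd _ _ hx hy
    | smul x w _ hw => exact hPmul x w hw
  have hker := ker_le_sq_sup_map σ
  -- 1 - rbar ^ M ∈ Jbar
  have hone : ∀ M : ℕ, 1 - rbar ^ M ∈ Jbar := by
    intro M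
    rw [hJbar, RingHom.mem_ker]
    show sigmaBar σ B (1 - rbar ^ M) = 0
    rw [map_sub, map_one, map_pow, hrbar, sigmaBar_mk]
    show 1 - σ r ^ M = 0
    rw [hσr, one_pow, sub_self]
  show Jbar * Jbar = Jbar
  apply le_antisymm Ideal.mul_le_right
  intro j hj
  obtain ⟨y, rfl⟩ := Ideal.Quotient.mk_surjective j
  have hy : (y : A') ∈ RingHom.ker σ := by
    rw [RingHom.mem_ker]
    rw [hJbar, RingHom.mem_ker] at hj
    exact hj
  have hPy : P (y : A') := by
    obtain ⟨u, hu, w, hw, huw⟩ := Submodule.mem_sup.mp (hker hy)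
    rw [← huw]
    exact hPadd _ _ (hPsq u hu) (hPI w hw)
  obtain ⟨M, b, hb, hbJ⟩ := hPy
  have hbeq : b = rB ^ M * y := by
    apply Subtype.ext
    simp only [Subalgebra.coe_mul, Subalgebra.coe_pow, hb, rB]
  rw [hbeq, map_mul, map_pow, pow_two] at hbJ
  have : Ideal.Quotient.mk IB y = rbar ^ M * Ideal.Quotient.mk IB y +
      (1 - rbar ^ M) * Ideal.Quotient.mk IB y := by ring
  rw [this]
  exact Ideal.add_mem _ hbJ (Ideal.mul_mem_mul (hone M) hj)


/-- The core of the étale lifting theorem, given the finite subalgebra `B`. -/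
theorem exists_lift_aux (hI : I ≤ Ideal.jacobson ⊥) (hG : Gabber I)
    [Algebra.FormallyUnramified A A'] [Module.Flat A A'] (hB : B.toSubmodule.FG) (r : A')
    (hrB : r ∈ B) (hσr : σ r = 1) (hr : ∀ x : A', ∃ m : ℕ, r ^ m * x ∈ B) :
    ∃ τ : A' →ₐ[A] A, (Ideal.Quotient.mkₐ A I).comp τ = σ := by
  classical
  haveI : Module.Finite A B := ⟨(Submodule.fg_top _).mpr hB⟩
  set IB := I.map (algebraMap A B) with hIB
  set Jbar := RingHom.ker (sigmaBar σ B).toRingHom with hJbar
  -- the idempotent of `B/IB`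
  obtain ⟨ε₀, hε₀, hJε₀⟩ := (Ideal.isIdempotentElem_iff_of_fg Jbar (ker_sigmaBar_fg σ B hB)).mp
    (ker_sigmaBar_isIdempotentElem σ B r hrB hσr hr)
  set ε := 1 - ε₀ with hεdef
  have hε : IsIdempotentElem ε := hε₀.one_sub
  have hεJ : ∀ j ∈ Jbar, ε * j = 0 := by
    intro j hj
    rw [hJε₀, Ideal.mem_span_singleton'] at hj
    obtain ⟨c, rfl⟩ := hj
    rw [hεdef]
    have : (1 - ε₀) * (c * ε₀) = c * (ε₀ - ε₀ * ε₀) := by ring
    rw [this, hε₀.eq, sub_self, mul_zero]
  have hσε : sigmaBar σ B ε = 1 := by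
    have h0 : ε₀ ∈ Jbar := by rw [hJε₀]; exact Ideal.mem_span_singleton_self _
    rw [hJbar, RingHom.mem_ker] at h0
    have h0' : sigmaBar σ B ε₀ = 0 := h0
    rw [hεdef, map_sub, map_one, h0', sub_zero]
  have hrank : ∀ z : B ⧸ IB, ∃ a : A, ε * z = a • ε := by
    intro z
    obtain ⟨a, ha⟩ := Ideal.Quotient.mk_surjective (sigmaBar σ B z)
    refine ⟨a, ?_⟩
    have hz : z - a • (1 : B ⧸ IB) ∈ Jbar := by
      rw [hJbar, RingHom.mem_ker]
      show sigmaBar σ B (z - a • (1 : B ⧸ IB)) = 0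
      rw [map_sub, sigmaBar_smul_one, ha, sub_self]
    have := hεJ _ hz
    rw [mul_sub, sub_eq_zero] at this
    rw [this, mul_smul_comm, mul_one]
  -- lift the idempotent
  obtain ⟨e, he, hmke⟩ := exists_idempotent_of_gabber I hI hG ε hε hrank
  have hσe : σ (e : A') = 1 := by
    rw [← sigmaBar_mk σ B e, hmke, hσε]
  -- Nakayama: `e B = A e`
  have hNak : ∀ z : B, ∃ a : A, e * z = a • e := by
    let N : Submodule A B := LinearMap.range (LinearMap.mulLeft A e)
    have hNfg : N.FG := by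
      show (LinearMap.range (LinearMap.mulLeft A e)).FG
      rw [LinearMap.range_eq_map]
      exact (Module.Finite.fg_top).map _
    have hle : N ≤ Submodule.span A {e} ⊔ I • N := by
      rintro _ ⟨z, rfl⟩
      rw [LinearMap.mulLeft_apply]
      obtain ⟨a, ha⟩ := hrank (Ideal.Quotient.mk IB z)
      have hw : e * z - a • e ∈ I • (⊤ : Submodule A B) := by
        rw [Ideal.smul_top_eq_map]
        show e * z - a • e ∈ IB
        rw [← Ideal.Quotient.eq_zero_iff_mem, map_sub, map_mul, hmke, ha]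
        have : Ideal.Quotient.mk IB (a • e) = a • Ideal.Quotient.mk IB e := rfl
        rw [this, hmke, sub_self]
      have hw' : e * (e * z - a • e) ∈ I • N := by
        have : I • N = Submodule.map (LinearMap.mulLeft A e) (I • ⊤) := by
          rw [Submodule.map_smul'', Submodule.map_top]
        rw [this]
        exact ⟨_, hw, rfl⟩
      have hee : e * (e * z - a • e) = e * z - a • e := by
        rw [mul_sub, ← mul_assoc, he.eq, mul_smul_comm, he.eq]
      rw [hee] at hw'
      have : e * z = a • e + (e * z - a • e) := by abel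
      rw [this]
      exact Submodule.add_mem_sup (Submodule.smul_mem _ _ (Submodule.mem_span_singleton_self e)) hw'
    have hN := Submodule.le_of_le_smul_of_le_jacobson_bot hNfg hI hle
    intro z
    have : e * z ∈ Submodule.span A {e} := hN ⟨z, rfl⟩
    obtain ⟨a, ha⟩ := Submodule.mem_span_singleton.mp this
    exact ⟨a, ha.symm⟩
  -- `e r = u e` with `u` a unit
  let rB : B := ⟨r, hrB⟩
  obtain ⟨u, hu⟩ := hNak rB
  have hu' : (e : A') * r = u • (e : A') := by
    have := congrArg (Subtype.val) hu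
    simpa [rB] using this
  have hmku : Ideal.Quotient.mk I u = 1 := by
    have := congrArg σ hu'
    rw [map_mul, hσe, hσr, mul_one, map_smul, hσe, Algebra.smul_def, mul_one] at this
    exact this.symm
  have huu : IsUnit u := by
    apply isUnit_of_isUnit_mk hI
    rw [hmku]; exact isUnit_one
  obtain ⟨u', hu'u⟩ := huu.exists_left_inv
  have hpow : ∀ M : ℕ, (e : A') * r ^ M = u ^ M • (e : A') := by
    intro M
    induction M with
    | zero => simp
    | succ M ih =>
      rw [pow_succ, ← mul_assoc, ih, smul_mul_assoc, hu', smul_smul, ← pow_succ]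
  -- every `e x` is a multiple of `e`
  have hall : ∀ x : A', ∃ a : A, (e : A') * x = a • (e : A') := by
    intro x
    obtain ⟨M, hM⟩ := hr x
    obtain ⟨a, ha⟩ := hNak ⟨r ^ M * x, hM⟩
    have ha' : (e : A') * (r ^ M * x) = a • (e : A') := by
      have := congrArg (Subtype.val) ha
      simpa using this
    refine ⟨u' ^ M * a, ?_⟩
    rw [← mul_assoc, hpow, smul_mul_assoc] at ha'
    have : (u' ^ M * a) • (e : A') = u' ^ M • (u ^ M • ((e : A') * x)) := by
      rw [ha', smul_smul]
    rw [this, smul_smul, ← mul_pow, hu'u, one_pow, one_smul]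
  -- injectivity
  have hinj : ∀ a : A, a • (e : A') = 0 → a = 0 := by
    intro a ha
    obtain ⟨k, c, y, hy, hc⟩ := Module.Flat.isTrivialRelation_of_sum_smul_eq_zero
      (R := A) (M := A') (ι := Unit) (f := fun _ => a) (x := fun _ => (e : A')) (by
        simpa using ha)
    have hy' : (e : A') = ∑ j, c () j • y j := hy ()
    have hc' : ∀ j, a * c () j = 0 := by
      intro j
      have := hc j
      simpa using this
    choose b hb using fun j => hall (y j)
    have hκ : (e : A') = (∑ j, c () j * b j) • (e : A') := by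
      have h1 : (e : A') * (e : A') = (e : A') := by
        have := congrArg Subtype.val he.eq
        simpa using this
      have h2 : (e : A') * (e : A') = (e : A') * ∑ j, c () j • y j :=
        congrArg (fun t => (e : A') * t) hy'
      rw [h1] at h2
      rw [Finset.sum_smul]
      refine h2.trans ?_
      rw [Finset.mul_sum]
      apply Finset.sum_congr rfl
      intro j _
      rw [mul_smul_comm, hb j, smul_smul]
    have hκ1 : Ideal.Quotient.mk I (∑ j, c () j * b j) = 1 := by
      have := congrArg σ hκ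
      rw [map_smul, hσe, Algebra.smul_def, mul_one] at this
      exact this.symm
    have hκu : IsUnit (∑ j, c () j * b j) := by
      apply isUnit_of_isUnit_mk hI
      rw [hκ1]; exact isUnit_one
    have haκ : a * (∑ j, c () j * b j) = 0 := by
      rw [Finset.mul_sum]
      apply Finset.sum_eq_zero
      intro j _
      rw [← mul_assoc, hc' j, zero_mul]
    exact (hκu.mul_left_eq_zero).mp haκ
  have huniq : ∀ a a' : A, a • (e : A') = a' • (e : A') → a = a' := by
    intro a a' h
    have : (a - a') • (e : A') = 0 := by rw [sub_smul, h, sub_self]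
    exact sub_eq_zero.mp (hinj _ this)
  choose τ hτ using hall
  have hτ1 : τ 1 = 1 := huniq _ _ (by rw [← hτ, mul_one, one_smul])
  have hτmul : ∀ x y, τ (x * y) = τ x * τ y := by
    intro x y
    apply huniq
    rw [← hτ, ← mul_assoc, hτ x, smul_mul_assoc, hτ y, smul_smul]
  have hτadd : ∀ x y, τ (x + y) = τ x + τ y := by
    intro x y
    apply huniq
    rw [← hτ, mul_add, hτ x, hτ y, add_smul]
  have hτalg : ∀ a : A, τ (algebraMap A A' a) = a := by
    intro a
    apply huniq
    rw [← hτ, mul_comm, Algebra.smul_def]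
  have hτ0 : τ 0 = 0 := by
    apply huniq
    rw [← hτ, mul_zero, zero_smul]
  let τh : A' →ₐ[A] A :=
    { toFun := τ
      map_one' := hτ1
      map_mul' := hτmul
      map_zero' := hτ0
      map_add' := hτadd
      commutes' := hτalg }
  refine ⟨τh, ?_⟩
  ext x
  show Ideal.Quotient.mk I (τ x) = σ x
  have := congrArg σ (hτ x)
  rw [map_mul, hσe, one_mul, map_smul, hσe, Algebra.smul_def, mul_one] at this
  exact this.symm

end Core

/-- **Gabber's condition implies étale lifting.** -/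
theorem exists_lift_of_gabber (hI : I ≤ Ideal.jacobson ⊥) (hG : Gabber I)
    [Algebra.Etale A A'] (σ : A' →ₐ[A] A ⧸ I) :
    ∃ τ : A' →ₐ[A] A, (Ideal.Quotient.mkₐ A I).comp τ = σ := by
  obtain ⟨r, hr, hσr⟩ := exists_good σ
  obtain ⟨B, hB, hrB, hr'⟩ := exists_finite_subalgebra hr
  exact exists_lift_aux σ B hI hG hB r hrB hσr hr'

end Groth.Agent.Lib.Helper26.HenselEtale
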