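import Groth.Agent.Lib.Helper26.HenselFEt
import Groth.Agent.Lib.Helper26.HenselEtale

/-!
# Lifting finite étale algebras along a Henselian pair

* `exists_etale_lift`: an étale `A/I`-algebra is the reduction of an étale `A`-algebra.
* `exists_finite_etale`: for a Henselian pair, an étale `A`-algebra whose reduction is finite
  has a finite étale localization with the same reduction.
-/

set_option autoImplicit false
universe u

namespace Groth.Agent.Lib.Helper26.HenselFEtLift

open TensorProduct MvPolynomial Algebra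
open Groth.Agent.Lib.Helper26.HenselTFAE Groth.Agent.Lib.Helper26.HenselIdem
  Groth.Agent.Lib.Helper26.HenselEtale Groth.Agent.Lib.Helper26.HenselFEt

section PartA

variable (A : Type u) [CommRing A] (I : Ideal A) (C : Type u) [CommRing C] [Algebra (A ⧸ I) C]
  [Algebra.Etale (A ⧸ I) C] [Algebra A C] [IsScalarTower A (A ⧸ I) C]

/-- An étale `A/I`-algebra lifts to an étale `A`-algebra. -/
theorem exists_etale_lift :
    ∃ (B' : Type u) (_ : CommRing B') (_ : Algebra A B') (_ : Algebra.Etale A B')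
      (π : B' →ₐ[A] C), Function.Surjective π ∧ RingHom.ker π = I.map (algebraMap A B') := by
  classical
  obtain ⟨ι, σ, hσ, hι, P, hP⟩ :=
    (Algebra.Etale.iff_isStandardSmoothOfRelativeDimension_zero.mp
      (inferInstance : Algebra.Etale (A ⧸ I) C)).out
  haveI := hσ
  haveI := hι
  cases nonempty_fintype σ
  let φ : MvPolynomial ι A →+* MvPolynomial ι (A ⧸ I) := MvPolynomial.map (Ideal.Quotient.mk I)
  have hφ : Function.Surjective φ := MvPolynomial.map_surjective _ Ideal.Quotient.mk_surjective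
  choose f hf using fun s => hφ (P.relation s)
  let Q₀ : PreSubmersivePresentation A (MvPolynomial ι A ⧸ Ideal.span (Set.range f)) ι σ :=
    PreSubmersivePresentation.naive (v := f) P.map P.map_inj
  set B'' := MvPolynomial ι A ⧸ Ideal.span (Set.range f) with hB''
  let Δ : B'' := Q₀.jacobian
  -- the evaluation map to `C`
  let evC : MvPolynomial ι A →ₐ[A] C := aeval P.val
  have hev : ∀ g : MvPolynomial ι A, evC g = aeval (R := A ⧸ I) P.val (φ g) := by
    intro g
    show aeval P.val g = aeval (R := A ⧸ I) P.val (MvPolynomial.map (Ideal.Quotient.mk I) g)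
    rw [← Ideal.Quotient.algebraMap_eq, MvPolynomial.aeval_map_algebraMap]
  have hevf : ∀ s, evC (f s) = 0 := by
    intro s
    rw [hev, hf, P.aeval_val_relation]
  let ψ'' : B'' →ₐ[A] C := Ideal.Quotient.liftₐ _ evC (by
    intro a ha
    have hle : Ideal.span (Set.range f) ≤ RingHom.ker evC := by
      rw [Ideal.span_le]
      rintro _ ⟨s, rfl⟩
      exact hevf s
    exact hle ha)
  have hψ''mk : ∀ g : MvPolynomial ι A, ψ'' (Ideal.Quotient.mk _ g) = evC g := fun g => rfl
  -- the Jacobian maps to the Jacobian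
  have hΔ : ψ'' Δ = P.jacobian := by
    show ψ'' Q₀.jacobian = P.jacobian
    rw [PreSubmersivePresentation.jacobian_eq_jacobiMatrix_det,
      PreSubmersivePresentation.jacobian_eq_jacobiMatrix_det]
    have h1 : algebraMap Q₀.Ring B'' Q₀.jacobiMatrix.det =
        Ideal.Quotient.mk _ Q₀.jacobiMatrix.det := rfl
    rw [h1, hψ''mk, hev, Generators.algebraMap_apply]
    congr 1
    rw [RingHom.map_det]
    congr 1
    refine Matrix.ext (fun i j => ?_)
    rw [RingHom.mapMatrix_apply, Matrix.map_apply,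
      PreSubmersivePresentation.jacobiMatrix_apply, PreSubmersivePresentation.jacobiMatrix_apply]
    show MvPolynomial.map (Ideal.Quotient.mk I) (pderiv (P.map i) (f j)) =
      pderiv (P.map i) (P.relation j)
    rw [← MvPolynomial.pderiv_map, ← hf j]
  have hΔu : IsUnit (ψ'' Δ) := by rw [hΔ]; exact P.jacobian_isUnit
  -- the étale algebra
  let B' := Localization.Away Δ
  have hΔ' : IsUnit (algebraMap B'' B' Δ) := IsLocalization.Away.algebraMap_isUnit _
  let P' : Algebra.SubmersivePresentation A B' _ _ :=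
    { toPreSubmersivePresentation :=
        .comp (.localizationAway B' Δ) Q₀
      jacobian_isUnit := by
        rw [PreSubmersivePresentation.comp_jacobian_eq_jacobian_smul_jacobian,
          PreSubmersivePresentation.localizationAway_jacobian, Algebra.smul_def]
        exact hΔ'.mul hΔ' }
  have hdim : Q₀.dimension = 0 := by
    have : Q₀.dimension = P.dimension := rfl
    rw [this, hP]
  haveI : Algebra.IsStandardSmoothOfRelativeDimension 0 A B' :=
    ⟨_, _, _, inferInstance, P', by
      simp only [P', PreSubmersivePresentation.dimension_comp_eq_dimension_add_dimension]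
      rw [hdim]
      show (Presentation.localizationAway B' Δ).dimension + 0 = 0
      rw [Presentation.localizationAway_dimension_zero]⟩
  haveI hEt : Algebra.Etale A B' :=
    Algebra.Etale.iff_isStandardSmoothOfRelativeDimension_zero.mpr inferInstance
  let π : B' →ₐ[A] C := IsLocalization.liftAlgHom (M := Submonoid.powers Δ) (f := ψ'') (by
    rintro ⟨_, n, rfl⟩
    rw [map_pow]
    exact hΔu.pow n)
  have hπ : ∀ b : B'', π (algebraMap B'' B' b) = ψ'' b := by
    intro b
    simp [π]
  refine ⟨B', inferInstance, inferInstance, hEt, π, ?_, ?_⟩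
  · intro c
    obtain ⟨g, rfl⟩ := P.algebraMap_surjective c
    obtain ⟨g', rfl⟩ := hφ g
    refine ⟨algebraMap B'' B' (Ideal.Quotient.mk _ g'), ?_⟩
    rw [hπ, hψ''mk, hev, Generators.algebraMap_apply]
  · apply le_antisymm
    · -- build the inverse map `C → B' / I B'`
      set T := B' ⧸ I.map (algebraMap A B') with hT
      let g₀ : (A ⧸ I) →+* T := Ideal.Quotient.lift I (algebraMap A T) (by
        intro a ha
        rw [IsScalarTower.algebraMap_apply A B' T, Ideal.Quotient.algebraMap_eq,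
          Ideal.Quotient.eq_zero_iff_mem]
        exact Ideal.mem_map_of_mem _ ha)
      let x : ι → T := fun i =>
        Ideal.Quotient.mk _ (algebraMap B'' B' (Ideal.Quotient.mk _ (X i)))
      let χ₀ : MvPolynomial ι (A ⧸ I) →+* T := MvPolynomial.eval₂Hom g₀ x
      let ρ : MvPolynomial ι A →+* T :=
        ((Ideal.Quotient.mk (I.map (algebraMap A B'))).comp (algebraMap B'' B')).comp
          (Ideal.Quotient.mk (Ideal.span (Set.range f)))
      have hχφ : χ₀.comp φ = ρ := by
        apply MvPolynomial.ringHom_ext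
        · intro a
          simp only [RingHom.comp_apply, φ, χ₀, ρ, MvPolynomial.map_C, MvPolynomial.coe_eval₂Hom,
            MvPolynomial.eval₂_C]
          show g₀ (Ideal.Quotient.mk I a) = _
          rw [Ideal.Quotient.lift_mk]
          rw [IsScalarTower.algebraMap_apply A B' T, IsScalarTower.algebraMap_apply A B'' B']
          rfl
        · intro i
          simp only [RingHom.comp_apply, φ, χ₀, ρ, MvPolynomial.map_X, MvPolynomial.coe_eval₂Hom,
            MvPolynomial.eval₂_X, x]
      have hχker : RingHom.ker (algebraMap P.Ring C) ≤ RingHom.ker χ₀ := by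
        have : RingHom.ker (algebraMap P.Ring C) = P.ker := rfl
        rw [this, ← P.span_range_relation_eq_ker, Ideal.span_le]
        rintro _ ⟨s, rfl⟩
        show χ₀ (P.relation s) = 0
        rw [← hf s]
        show (χ₀.comp φ) (f s) = 0
        rw [hχφ]
        show Ideal.Quotient.mk _ (algebraMap B'' B' (Ideal.Quotient.mk _ (f s))) = 0
        have : Ideal.Quotient.mk (Ideal.span (Set.range f)) (f s) = 0 :=
          Ideal.Quotient.eq_zero_iff_mem.mpr (Ideal.subset_span ⟨s, rfl⟩)
        rw [this, map_zero, map_zero]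
      let χ : C →+* T := RingHom.liftOfSurjective (algebraMap P.Ring C) P.algebraMap_surjective
        ⟨χ₀, hχker⟩
      have hχ : ∀ g, χ (algebraMap P.Ring C g) = χ₀ g := by
        intro g
        exact RingHom.liftOfRightInverse_comp_apply _ _ _ _ g
      have hcomp : χ.comp π.toRingHom = Ideal.Quotient.mk (I.map (algebraMap A B')) := by
        apply IsLocalization.ringHom_ext (Submonoid.powers Δ)
        apply Ideal.Quotient.ringHom_ext
        apply MvPolynomial.ringHom_ext
        · intro a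
          simp only [RingHom.comp_apply]
          show χ (π (algebraMap B'' B' (Ideal.Quotient.mk _ (MvPolynomial.C a)))) = _
          rw [hπ, hψ''mk, hev]
          have : φ (MvPolynomial.C a) = MvPolynomial.C (Ideal.Quotient.mk I a) :=
            MvPolynomial.map_C _ _
          rw [this, ← Generators.algebraMap_apply, hχ]
          show MvPolynomial.eval₂ g₀ x (MvPolynomial.C (Ideal.Quotient.mk I a)) = _
          rw [MvPolynomial.eval₂_C]
          show g₀ (Ideal.Quotient.mk I a) = _
          rw [Ideal.Quotient.lift_mk]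
          rw [IsScalarTower.algebraMap_apply A B' T, IsScalarTower.algebraMap_apply A B'' B']
          rfl
        · intro i
          simp only [RingHom.comp_apply]
          show χ (π (algebraMap B'' B' (Ideal.Quotient.mk _ (X i)))) = _
          rw [hπ, hψ''mk, hev]
          have : φ (X i) = X i := MvPolynomial.map_X _ _
          rw [this, ← Generators.algebraMap_apply, hχ]
          show MvPolynomial.eval₂ g₀ x (X i) = _
          rw [MvPolynomial.eval₂_X]
      intro b hb
      rw [RingHom.mem_ker] at hb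
      have h1 : Ideal.Quotient.mk (I.map (algebraMap A B')) b = χ (π b) := by
        rw [← hcomp]; rfl
      rw [hb, map_zero] at h1
      exact Ideal.Quotient.eq_zero_iff_mem.mp h1
    · rw [Ideal.map_le_iff_le_comap]
      intro a ha
      rw [Ideal.mem_comap, RingHom.mem_ker, AlgHom.commutes,
        IsScalarTower.algebraMap_apply A (A ⧸ I) C]
      have : algebraMap A (A ⧸ I) a = 0 := Ideal.Quotient.eq_zero_iff_mem.mpr ha
      rw [this, map_zero]

end PartA

section PartB

variable {A : Type u} [CommRing A] {I : Ideal A} {A' : Type u} [CommRing A'] [Algebra A A']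

lemma Good.mul_of_isIntegral {r b : A'} (hr : Good A r) (hb : IsIntegral A b) :
    Good A (b * r) := by
  refine ⟨hb.mul hr.1, fun x => ?_⟩
  obtain ⟨m, hm⟩ := hr.2 x
  refine ⟨m, ?_⟩
  have : (b * r) ^ m * x = b ^ m * (r ^ m * x) := by rw [mul_pow]; ring
  rw [this]
  exact (hb.pow m).mul hm

/-- Zariski's main theorem: a good element mapping to `1` in an integral quotient. -/
theorem exists_good_of_isIntegral [Algebra.FiniteType A A'] [Algebra.QuasiFinite A A']
    {C : Type u} [CommRing C] [Algebra A C] [Algebra.IsIntegral A C] (π : A' →ₐ[A] C) :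
    ∃ r : A', Good A r ∧ π r = 1 := by
  let B₀ := integralClosure A A'
  let D' : Subalgebra A C := (π.comp B₀.val).range
  let 𝔰 : Ideal D' :=
    { carrier := {d | ∃ r : A', Good A r ∧ π r = d.1}
      add_mem' := by
        rintro _ _ ⟨r, hr, h1⟩ ⟨r', hr', h2⟩
        exact ⟨r + r', hr.add hr', by rw [map_add, h1, h2]; rfl⟩
      zero_mem' := ⟨0, Good.zero, by simp⟩
      smul_mem' := by
        rintro ⟨c, b, rfl⟩ d ⟨r, hr, h1⟩
        refine ⟨b.1 * r, Good.mul_of_isIntegral hr b.2, ?_⟩
        rw [map_mul, h1]; rfl }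
  suffices h : 𝔰 = ⊤ by
    have : (1 : D') ∈ 𝔰 := by rw [h]; trivial
    obtain ⟨r, hr, h1⟩ := this
    exact ⟨r, hr, h1⟩
  by_contra hne
  obtain ⟨n', hn', hle⟩ := Ideal.exists_le_maximal 𝔰 hne
  haveI := hn'
  haveI : Algebra.IsIntegral D' C := Algebra.IsIntegral.tower_top (R := A)
  obtain ⟨n, hn, hcomap⟩ := Ideal.exists_ideal_over_maximal_of_isIntegral (S := C) n' (by
    intro x hx
    rw [RingHom.mem_ker] at hx
    have : x = 0 := Subtype.ext hx
    rw [this]; exact zero_mem _)
  haveI := hn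
  let q : Ideal A' := n.comap π.toRingHom
  haveI : q.IsPrime := Ideal.comap_isPrime _ _
  obtain ⟨r, hrq, hr1, hr2⟩ :=
    Algebra.zariskisMainProperty_iff.mp (Algebra.ZariskisMainProperty.of_finiteType (R := A) q)
  apply hrq
  show π r ∈ n
  have hmem : (⟨π r, ⟨⟨r, hr1⟩, rfl⟩⟩ : D') ∈ 𝔰 := ⟨r, ⟨hr1, hr2⟩, rfl⟩
  have := hle hmem
  rw [← hcomap] at this
  exact this

theorem tmul_eq_zero_of_mem (I : Ideal A) {B : Type*} [CommRing B] [Algebra A B] (x : B)
    (hx : x ∈ I.map (algebraMap A B)) : (1 : A ⧸ I) ⊗ₜ[A] x = 0 := by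
  apply (TensorProduct.quotTensorEquivQuotSMul B I).injective
  rw [TensorProduct.quotTensorEquivQuotSMul_mk_one_tmul, map_zero,
    Submodule.Quotient.mk_eq_zero, Ideal.smul_top_eq_map]
  exact hx

theorem exists_one_tmul (I : Ideal A) {B : Type*} [CommRing B] [Algebra A B]
    (t : (A ⧸ I) ⊗[A] B) : ∃ b : B, t = (1 : A ⧸ I) ⊗ₜ[A] b := by
  induction t using TensorProduct.induction_on with
  | zero => exact ⟨0, by simp⟩
  | tmul a b =>
    obtain ⟨a, rfl⟩ := Ideal.Quotient.mk_surjective a
    refine ⟨a • b, ?_⟩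
    have : (Ideal.Quotient.mk I a) = a • (1 : A ⧸ I) := by
      rw [Algebra.smul_def, mul_one]; rfl
    rw [this, TensorProduct.smul_tmul]
  | add x y hx hy =>
    obtain ⟨b, rfl⟩ := hx
    obtain ⟨b', rfl⟩ := hy
    exact ⟨b + b', by rw [TensorProduct.tmul_add]⟩

/-- The finite étale part of an étale algebra with finite reduction over a Henselian pair. -/
theorem exists_finite_etale (hI : I ≤ Ideal.jacobson ⊥) (hF : LiftsFactorizations I)
    (B' : Type u) [CommRing B'] [Algebra A B'] [Algebra.Etale A B']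
    (C : Type u) [CommRing C] [Algebra A C] [Algebra (A ⧸ I) C] [IsScalarTower A (A ⧸ I) C]
    [Module.Finite (A ⧸ I) C] [Module.FinitePresentation (A ⧸ I) C]
    (π : B' →ₐ[A] C) (hπ : Function.Surjective π)
    (hker : RingHom.ker π = I.map (algebraMap A B')) :
    ∃ (B : Type u) (_ : CommRing B) (_ : Algebra A B) (_ : Module.Finite A B)
      (_ : Algebra.Etale A B) (φ : B →ₐ[A] C), Function.Surjective φ ∧
        RingHom.ker φ = I.map (algebraMap A B) := by
  classical
  haveI : Module.Finite A C := Module.Finite.trans (A ⧸ I) C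
  haveI : Algebra.IsIntegral A C := Algebra.IsIntegral.of_finite A C
  obtain ⟨r, hr, hπr⟩ := exists_good_of_isIntegral π
  obtain ⟨B₁, hB₁, hrB, hr'⟩ := exists_finite_subalgebra hr
  haveI : Module.Finite A B₁ := ⟨(Submodule.fg_top _).mpr hB₁⟩
  let rB : B₁ := ⟨r, hrB⟩
  let ψ : (A ⧸ I) ⊗[A] B₁ →ₐ[A ⧸ I] C :=
    Algebra.TensorProduct.lift (Algebra.ofId (A ⧸ I) C) (π.comp B₁.val)
      (fun _ _ => Commute.all _ _)
  have hψ1 : ∀ b : B₁, ψ ((1 : A ⧸ I) ⊗ₜ[A] b) = π (b : B') := by
    intro b; simp [ψ]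
  set rbar : (A ⧸ I) ⊗[A] B₁ := (1 : A ⧸ I) ⊗ₜ[A] rB with hrbar
  have hrbarpow : ∀ (m : ℕ) (b : B₁),
      rbar ^ m * ((1 : A ⧸ I) ⊗ₜ[A] b) = (1 : A ⧸ I) ⊗ₜ[A] (rB ^ m * b) := by
    intro m b
    rw [hrbar, Algebra.TensorProduct.tmul_pow, one_pow, Algebra.TensorProduct.tmul_mul_tmul,
      one_mul]
  -- `ψ` is surjective
  have hψsurj : Function.Surjective ψ := by
    intro c
    obtain ⟨x, rfl⟩ := hπ c
    obtain ⟨m, hm⟩ := hr' x
    refine ⟨(1 : A ⧸ I) ⊗ₜ[A] ⟨r ^ m * x, hm⟩, ?_⟩
    rw [hψ1]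
    show π (r ^ m * x) = π x
    rw [map_mul, map_pow, hπr, one_pow, one_mul]
  -- torsion of the kernel
  have hIB' : ∀ x ∈ I.map (algebraMap A B'), ∃ m : ℕ, ∀ k, m ≤ k →
      ∃ hk : r ^ k * x ∈ B₁, (⟨r ^ k * x, hk⟩ : B₁) ∈ I.map (algebraMap A B₁) := by
    intro x hx
    have hx' : x ∈ I • (⊤ : Submodule A B') := by
      rw [Ideal.smul_top_eq_map]; exact hx
    refine Submodule.smul_induction_on hx' ?_ ?_
    · intro a ha n _
      obtain ⟨m₀, hm₀⟩ := hr' n
      refine ⟨m₀, fun k hk => ?_⟩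
      have e1 : r ^ k * (a • n) = ((algebraMap A B₁ a * (rB ^ (k - m₀) * ⟨r ^ m₀ * n, hm₀⟩) : B₁) : B') := by
        have : k = (k - m₀) + m₀ := by omega
        conv_lhs => rw [this, pow_add]
        simp only [Subalgebra.coe_mul, Subalgebra.coe_pow, Subalgebra.coe_algebraMap, rB]
        rw [Algebra.smul_def]; ring
      refine ⟨e1 ▸ Subtype.coe_prop _, ?_⟩
      have : (⟨r ^ k * (a • n), e1 ▸ Subtype.coe_prop _⟩ : B₁) =
          algebraMap A B₁ a * (rB ^ (k - m₀) * ⟨r ^ m₀ * n, hm₀⟩) := Subtype.ext e1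
      rw [this]
      exact Ideal.mul_mem_right _ _ (Ideal.mem_map_of_mem _ ha)
    · rintro x y ⟨m, hm⟩ ⟨m', hm'⟩
      refine ⟨max m m', fun k hk => ?_⟩
      obtain ⟨h1, h1'⟩ := hm k (le_trans (le_max_left _ _) hk)
      obtain ⟨h2, h2'⟩ := hm' k (le_trans (le_max_right _ _) hk)
      have e : r ^ k * (x + y) = r ^ k * x + r ^ k * y := mul_add _ _ _
      refine ⟨e ▸ B₁.add_mem h1 h2, ?_⟩
      have : (⟨r ^ k * (x + y), e ▸ B₁.add_mem h1 h2⟩ : B₁) =
          ⟨r ^ k * x, h1⟩ + ⟨r ^ k * y, h2⟩ := Subtype.ext e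
      rw [this]
      exact Ideal.add_mem _ h1' h2'
  set Jbar : Ideal ((A ⧸ I) ⊗[A] B₁) := RingHom.ker ψ.toRingHom with hJbar
  have hmemJ : ∀ y, y ∈ Jbar ↔ ψ y = 0 := fun y => Iff.rfl
  have h1r : 1 - rbar ∈ Jbar := by
    rw [hmemJ, map_sub, map_one, hrbar, hψ1]
    show 1 - π r = 0
    rw [hπr, sub_self]
  have htors : ∀ y ∈ Jbar, ∃ m : ℕ, rbar ^ m * y = 0 := by
    intro y hy
    obtain ⟨b, rfl⟩ := exists_one_tmul I y
    rw [hmemJ, hψ1] at hy
    have hb : (b : B') ∈ I.map (algebraMap A B') := by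
      rw [← hker]; exact hy
    obtain ⟨m, hm⟩ := hIB' _ hb
    obtain ⟨hk, hk'⟩ := hm m le_rfl
    refine ⟨m, ?_⟩
    rw [hrbarpow]
    have : rB ^ m * b = ⟨r ^ m * (b : B'), hk⟩ := Subtype.ext (by simp [rB])
    rw [this]
    exact tmul_eq_zero_of_mem I _ hk'
  have hidem : IsIdempotentElem Jbar := by
    apply le_antisymm Ideal.mul_le_right
    intro y hy
    obtain ⟨m, hm⟩ := htors y hy
    have h1 : 1 - rbar ^ m ∈ Jbar := by
      obtain ⟨c, hc⟩ := sub_dvd_pow_sub_pow (1 : (A ⧸ I) ⊗[A] B₁) rbar m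
      rw [one_pow] at hc
      rw [hc]
      exact Ideal.mul_mem_right _ _ h1r
    have : y = (1 - rbar ^ m) * y := by rw [sub_mul, one_mul, hm, sub_zero]
    rw [this]
    exact Ideal.mul_mem_mul h1 hy
  have hfg : Jbar.FG := by
    apply Submodule.FG.of_restrictScalars (A ⧸ I)
    have : Jbar.restrictScalars (A ⧸ I) = LinearMap.ker ψ.toLinearMap := by
      ext y; rfl
    rw [this]
    exact Module.FinitePresentation.fg_ker ψ.toLinearMap hψsurj
  obtain ⟨ε₀, hε₀, hJε₀⟩ := (Ideal.isIdempotentElem_iff_of_fg Jbar hfg).mp hidem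
  set ε := 1 - ε₀ with hεdef
  have hε : IsIdempotentElem ε := hε₀.one_sub
  have hε₀J : ε₀ ∈ Jbar := by rw [hJε₀]; exact Ideal.mem_span_singleton_self _
  have hψε : ψ ε = 1 := by
    rw [hεdef, map_sub, map_one, (hmemJ ε₀).mp hε₀J, sub_zero]
  have hεJ : ∀ j ∈ Jbar, j * ε = 0 := by
    intro j hj
    rw [hJε₀, Ideal.mem_span_singleton'] at hj
    obtain ⟨c, rfl⟩ := hj
    rw [hεdef]
    have : c * ε₀ * (1 - ε₀) = c * (ε₀ - ε₀ * ε₀) := by ring
    rw [this, hε₀.eq, sub_self, mul_zero]
  have hrε : rbar * ε = ε := by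
    have h1 : rbar * ε - ε ∈ Jbar := by
      rw [hmemJ, map_sub, map_mul, hψε, hrbar, hψ1]
      show π r * 1 - 1 = 0
      rw [hπr, one_mul, sub_self]
    have h2 := hεJ _ h1
    rw [sub_mul, mul_assoc, hε.eq, sub_eq_zero] at h2
    exact h2
  -- lift the idempotent
  obtain ⟨b₀, hb₀⟩ := exists_one_tmul I ε
  have hb₀' : b₀ * b₀ - b₀ ∈ I.map (algebraMap A B₁) := by
    apply mem_map_of_tmul_eq_zero I
    rw [TensorProduct.tmul_sub, ← one_mul (1 : A ⧸ I), ← Algebra.TensorProduct.tmul_mul_tmul,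
      one_mul, ← hb₀, hε.eq, sub_self]
  obtain ⟨e, he, heb⟩ := exists_idempotent_finite I hI hF b₀ hb₀'
  have hεe : (1 : A ⧸ I) ⊗ₜ[A] e = ε := by
    have := tmul_eq_zero_of_mem I _ heb
    rw [TensorProduct.tmul_sub, sub_eq_zero] at this
    rw [this, hb₀]
  have hπe : π (e : B') = 1 := by rw [← hψ1, hεe, hψε]
  -- the unit `u`
  set u : B₁ := rB * e + (1 - e) with hu
  have hu1 : u - 1 ∈ I.map (algebraMap A B₁) := by
    apply mem_map_of_tmul_eq_zero I
    have : (1 : A ⧸ I) ⊗ₜ[A] (u - 1) = rbar * ε + (1 - ε) - 1 := by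
      rw [hu, TensorProduct.tmul_sub, TensorProduct.tmul_add, TensorProduct.tmul_sub, ← hεe, hrbar,
        Algebra.TensorProduct.tmul_mul_tmul, one_mul]
      rfl
    rw [this, hrε]; ring
  have huu : IsUnit u := by
    have hjac := map_le_jacobson_of_isIntegral I hI (B := B₁) hu1
    have := (Ideal.mem_jacobson_bot.mp hjac) 1
    have e1 : (u - 1) * 1 + 1 = u := by ring
    rwa [e1] at this
  obtain ⟨v, hv⟩ := huu.exists_right_inv
  have hue : u * e = rB * e := by
    rw [hu, add_mul, mul_assoc, he.eq, sub_mul, one_mul, he.eq, sub_self, add_zero]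
  set sB : B₁ := v * e with hsB
  have hres : rB * e * sB = e := by
    rw [hsB, ← hue]
    have : u * e * (v * e) = (u * v) * (e * e) := by ring
    rw [this, hv, he.eq, one_mul]
  -- the finite étale algebra
  obtain ⟨t, ht⟩ : ∃ t : B', t = r * (e : B') := ⟨_, rfl⟩
  let Bf := Localization.Away t
  let w : B' →+* Bf := algebraMap B' Bf
  have hwt : IsUnit (w t) := IsLocalization.Away.algebraMap_isUnit t
  have hwt' : w t = w r * w (e : B') := by
    rw [← map_mul]; exact congrArg w ht
  have hwe : w (e : B') = 1 := by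
    have hidem' : IsIdempotentElem (w (e : B')) := by
      have : IsIdempotentElem (e : B') := he.map B₁.val
      exact this.map w
    have hunit : IsUnit (w (e : B')) := by
      rw [hwt'] at hwt
      exact isUnit_of_mul_isUnit_right hwt
    exact (IsIdempotentElem.iff_eq_one_of_isUnit hunit |>.mp hidem')
  have hwts : w t * w (sB : B') = 1 := by
    have h1 : t * (sB : B') = (e : B') := by
      have := congrArg (fun z : B₁ => (z : B')) hres
      simp only [Subalgebra.coe_mul] at this
      rw [ht]; exact this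
    rw [← map_mul, h1, hwe]
  have hπt : π t = 1 := by rw [ht, map_mul, hπr, hπe, one_mul]
  let φ : Bf →ₐ[A] C := IsLocalization.liftAlgHom (M := Submonoid.powers t) (f := π) (by
    rintro ⟨_, n, rfl⟩
    rw [map_pow, hπt, one_pow]
    exact isUnit_one)
  have hφw : ∀ x : B', φ (w x) = π x := by
    intro x; simp [φ, w]
  have hmapmap : I.map (algebraMap A Bf) = (I.map (algebraMap A B')).map w := by
    rw [Ideal.map_map]; rfl
  refine ⟨Bf, inferInstance, inferInstance, ?_, inferInstance, φ, ?_, ?_⟩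
  · -- finiteness
    let ρ : B₁ →ₗ[A] Bf := ((IsScalarTower.toAlgHom A B' Bf).comp B₁.val).toLinearMap
    apply Module.Finite.of_surjective ρ
    intro z
    obtain ⟨x, ⟨_, n, rfl⟩, rfl⟩ := IsLocalization.exists_mk'_eq (Submonoid.powers t) z
    obtain ⟨m, hm⟩ := hr' x
    refine ⟨⟨r ^ m * x, hm⟩ * sB ^ m * sB ^ n, ?_⟩
    show w ((⟨r ^ m * x, hm⟩ * sB ^ m * sB ^ n : B₁) : B') = _
    rw [IsLocalization.eq_mk'_iff_mul_eq]
    simp only [Subalgebra.coe_mul, Subalgebra.coe_pow, map_mul, map_pow]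
    show w r ^ m * w x * w (sB : B') ^ m * w (sB : B') ^ n * w t ^ n = w x
    have h1 : w r = w t := by rw [hwt', hwe, mul_one]
    rw [h1]
    have h2 : w t ^ m * w x * w (sB : B') ^ m * w (sB : B') ^ n * w t ^ n =
        w x * (w t * w (sB : B')) ^ m * (w t * w (sB : B')) ^ n := by ring
    rw [h2, hwts, one_pow, one_pow, mul_one, mul_one]
  · intro c
    obtain ⟨x, rfl⟩ := hπ c
    exact ⟨w x, hφw x⟩
  · apply le_antisymm
    · intro z hz
      rw [RingHom.mem_ker] at hz
      obtain ⟨x, ⟨_, n, rfl⟩, rfl⟩ := IsLocalization.exists_mk'_eq (Submonoid.powers t) z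
      have h1 : IsLocalization.mk' Bf x (⟨t ^ n, n, rfl⟩ : Submonoid.powers t) * w (t ^ n) = w x :=
        IsLocalization.mk'_spec Bf x _
      have h2 : π x = 0 := by
        have := congrArg φ h1
        rw [map_mul, hz, zero_mul, hφw] at this
        exact this.symm
      have h3 : x ∈ I.map (algebraMap A B') := by rw [← hker]; exact h2
      have h4 : w x ∈ I.map (algebraMap A Bf) := by
        rw [hmapmap]; exact Ideal.mem_map_of_mem _ h3
      rw [← h1] at h4
      have hunit : IsUnit (w (t ^ n)) := by rw [map_pow]; exact hwt.pow n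
      exact (Ideal.mul_unit_mem_iff_mem _ hunit).mp h4
    · rw [Ideal.map_le_iff_le_comap]
      intro a ha
      rw [Ideal.mem_comap, RingHom.mem_ker, AlgHom.commutes,
        IsScalarTower.algebraMap_apply A (A ⧸ I) C]
      have : algebraMap A (A ⧸ I) a = 0 := Ideal.Quotient.eq_zero_iff_mem.mpr ha
      rw [this, map_zero]

end PartB

end Groth.Agent.Lib.Helper26.HenselFEtLift
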