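import Mathlib
import Groth.Prelude.Def_Magnet2

/-!
# Factoring through a closed immersion along a scheme-theoretically dominant map (helper26)

* `exists_factor_of_isSchemeTheoreticallyDominant` : `f : Y ⟶ X` factors through the closed immersion
  `j : Z ⟶ X` as soon as `d ≫ f` does, for `d : Y' ⟶ Y` scheme-theoretically dominant.
* `isPullback_whiskerRight_left` : in `Over S` the square `G ⊗ Z → M ⊗ Z`, `G → M` is cartesian.
* `isSchemeTheoreticallyDominant_whiskerRight_left` : over a field, `(i ▷ T).left` is scheme-theoretically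
  dominant if `i.left` is so and quasi-compact.
* `exists_over_factor` : the `Over (Spec k)` version of the factorisation.
* `exists_monAct_of_mono` : an action of `M` on `X` restricts to a subobject `j : Z ⟶ X` once the action map
  factors.
-/

set_option autoImplicit false
universe u
open CategoryTheory MonoidalCategory CartesianMonoidalCategory MonObj AlgebraicGeometry Opposite
open CategoryTheory.Limits

namespace Groth.Agent.Lib.Helper26.MagnetFactor

/-- A morphism factors through a closed immersion if it does so after precomposition with a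
scheme-theoretically dominant morphism. -/
lemma exists_factor_of_isSchemeTheoreticallyDominant {Y' Y X Z : Scheme.{u}} (f : Y ⟶ X)
    (j : Z ⟶ X) [IsClosedImmersion j] (d : Y' ⟶ Y) [IsSchemeTheoreticallyDominant d]
    (g' : Y' ⟶ Z) (h : d ≫ f = g' ≫ j) : ∃ g : Y ⟶ Z, g ≫ j = f := by
  have hci : IsClosedImmersion (pullback.fst f j) := inferInstance
  have hfac : d = pullback.lift d g' h ≫ pullback.fst f j := (pullback.lift_fst _ _ _).symm
  have hker : (pullback.fst f j).ker = ⊥ := by
    have := Scheme.Hom.le_ker_comp (pullback.lift d g' h) (pullback.fst f j)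
    rw [← hfac, d.ker_eq_bot] at this
    exact le_bot_iff.mp this
  have := IsClosedImmersion.isIso_iff_ker_eq_bot.mpr hker
  exact ⟨inv (pullback.fst f j) ≫ pullback.snd f j, by
    rw [Category.assoc, ← pullback.condition, IsIso.inv_hom_id_assoc]⟩

section Over
variable {S : Scheme.{u}}

lemma isPullback_whiskerRight_left {G M Z : Over S} (i : G ⟶ M) :
    IsPullback (fst G Z).left (i ▷ Z).left i.left (fst M Z).left := by
  have hright : IsPullback (snd M Z).left (fst M Z).left Z.hom M.hom :=
    (IsPullback.of_hasPullback M.hom Z.hom).flip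
  have houter : IsPullback ((i ▷ Z).left ≫ (snd M Z).left) (fst G Z).left Z.hom
      (i.left ≫ M.hom) := by
    have h1 : (i ▷ Z).left ≫ (snd M Z).left = (snd G Z).left := by
      rw [← Over.comp_left, whiskerRight_snd]
    rw [h1, Over.w i]
    exact (IsPullback.of_hasPullback G.hom Z.hom).flip
  have hcomm : (i ▷ Z).left ≫ (fst M Z).left = (fst G Z).left ≫ i.left := by
    rw [← Over.comp_left, ← Over.comp_left, whiskerRight_fst]
  exact (IsPullback.of_right houter hcomm hright).flip

end Over

section Field
variable (k : Type u) [Field k]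

lemma flat_hom_of_field (Z : Over (Spec (CommRingCat.of k))) : Flat Z.hom := by
  haveI : Subsingleton ↥(Spec (CommRingCat.of k)) := by
    change Subsingleton (PrimeSpectrum k)
    infer_instance
  haveI : IsIntegral (Spec (CommRingCat.of k)) := inferInstance
  infer_instance

variable {k}

lemma isSchemeTheoreticallyDominant_whiskerRight_left {G M : Over (Spec (CommRingCat.of k))}
    (i : G ⟶ M) [QuasiCompact i.left] [IsSchemeTheoreticallyDominant i.left]
    (T : Over (Spec (CommRingCat.of k))) : IsSchemeTheoreticallyDominant (i ▷ T).left := by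
  haveI : Flat T.hom := flat_hom_of_field k T
  haveI : Flat (fst M T).left := by
    change Flat (Limits.pullback.fst M.hom T.hom)
    infer_instance
  exact IsSchemeTheoreticallyDominant.of_isPullback (isPullback_whiskerRight_left i)

/-- Over a field: `φ : M ⊗ T ⟶ X` factors through the closed immersion `j` as soon as its restriction
along the scheme-theoretically dominant quasi-compact `i : G ⟶ M` does. -/
lemma exists_over_factor {G M X Z : Over (Spec (CommRingCat.of k))}
    (i : G ⟶ M) [QuasiCompact i.left] [IsSchemeTheoreticallyDominant i.left]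
    (T : Over (Spec (CommRingCat.of k))) (j : Z ⟶ X) [IsClosedImmersion j.left]
    (φ : M ⊗ T ⟶ X) (β : G ⊗ T ⟶ Z) (h : (i ▷ T) ≫ φ = β ≫ j) :
    ∃ ψ : M ⊗ T ⟶ Z, ψ ≫ j = φ := by
  haveI := isSchemeTheoreticallyDominant_whiskerRight_left i T
  have hbl : (i ▷ T).left ≫ φ.left = β.left ≫ j.left := by
    rw [← Over.comp_left, ← Over.comp_left, h]
  obtain ⟨g, hg⟩ := exists_factor_of_isSchemeTheoreticallyDominant φ.left j.left (i ▷ T).left
    β.left hbl
  have hw : g ≫ Z.hom = (M ⊗ T).hom := by
    rw [← Over.w j, ← Category.assoc, hg, Over.w φ]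
  refine ⟨Over.homMk g hw, ?_⟩
  ext1
  exact hg

lemma mono_of_isClosedImmersion_left {S : Scheme.{u}} {Z X : Over S} (j : Z ⟶ X)
    [IsClosedImmersion j.left] : Mono j := by
  haveI : Mono j.left := inferInstance
  exact Over.mono_of_mono_left j

end Field

section General
variable {C : Type*} [Category C] [CartesianMonoidalCategory C]

lemma exists_monAct_of_mono {M X Z : C} [MonObj M] (a : Magnet.MonAct M X) (j : Z ⟶ X) [Mono j]
    (cact : M ⊗ Z ⟶ Z) (hc : cact ≫ j = (M ◁ j) ≫ a.act) :
    ∃ c : Magnet.MonAct M Z, c.act = cact ∧ Magnet.MonAct.IsEquivariant c a j := by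
  refine ⟨Magnet.MonAct.mk' cact ?_ ?_, rfl, hc⟩
  · intro T x
    rw [← cancel_mono j, Category.assoc, hc, lift_whiskerLeft_assoc, a.lift_one_act]
  · intro T g h x
    have e : ∀ (g' : T ⟶ M) (y : T ⟶ Z), (lift g' y ≫ cact) ≫ j = lift g' (y ≫ j) ≫ a.act := by
      intro g' y
      rw [Category.assoc, hc, lift_whiskerLeft_assoc]
    rw [← cancel_mono j, e, e, e, a.lift_mul_act]

end General

end Groth.Agent.Lib.Helper26.MagnetFactor
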