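import Mathlib

/-!
# A Bezout-type lemma in `ℕ` (helper13's request K1 for S19622)
-/

namespace Groth.Agent.Lib.Helper26.BezoutPow

/-- `gcd (m^N) (n^(K+1))` divides `n^K` as soon as `N * m ≤ K`. -/
theorem gcd_pow_dvd_pow (n m N K : ℕ) (hn : 0 < n) (hm : 0 < m) (hK : N * m ≤ K) :
    Nat.gcd (m ^ N) (n ^ (K + 1)) ∣ n ^ K := by
  have hA : m ^ N ≠ 0 := pow_ne_zero _ hm.ne'
  have hB : n ^ (K + 1) ≠ 0 := pow_ne_zero _ hn.ne'
  have hC : n ^ K ≠ 0 := pow_ne_zero _ hn.ne'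
  have hg : Nat.gcd (m ^ N) (n ^ (K + 1)) ≠ 0 := Nat.gcd_ne_zero_left hA
  rw [← Nat.factorization_prime_le_iff_dvd hg hC]
  intro p hp
  have h1 : (Nat.gcd (m ^ N) (n ^ (K + 1))).factorization p ≤ (m ^ N).factorization p :=
    (Nat.factorization_le_iff_dvd hg hA).mpr (Nat.gcd_dvd_left _ _) p
  have h2 : (Nat.gcd (m ^ N) (n ^ (K + 1))).factorization p ≤ (n ^ (K + 1)).factorization p :=
    (Nat.factorization_le_iff_dvd hg hB).mpr (Nat.gcd_dvd_right _ _) p
  simp only [Nat.factorization_pow, Finsupp.smul_apply, smul_eq_mul] at h1 h2 ⊢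
  rcases Nat.eq_zero_or_pos (n.factorization p) with h0 | hpos
  · rw [h0, mul_zero] at h2
    exact le_trans h2 (Nat.zero_le _)
  · have h3 : m.factorization p ≤ m := (Nat.factorization_lt p hm.ne').le
    calc (Nat.gcd (m ^ N) (n ^ (K + 1))).factorization p ≤ N * m.factorization p := h1
      _ ≤ N * m := Nat.mul_le_mul_left _ h3
      _ ≤ K := hK
      _ = K * 1 := (mul_one K).symm
      _ ≤ K * n.factorization p := Nat.mul_le_mul_left _ hpos

/-- (K1) -/
theorem exists_mul_pow_eq (n m N K : ℕ) (hn : 0 < n) (hm : 0 < m) (hK : N * m ≤ K) :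
    ∃ a b : ℕ, a * m ^ N = b * n ^ (K + 1) + n ^ K := by
  set A := m ^ N with hA
  set B := n ^ (K + 1) with hB
  set C := n ^ K with hC
  have hA0 : 0 < A := pow_pos hm _
  have hB0 : 0 < B := pow_pos hn _
  obtain ⟨e, he⟩ := gcd_pow_dvd_pow n m N K hn hm hK
  -- integer Bezout
  have hbez : ((Nat.gcd A B : ℕ) : ℤ) = A * Nat.gcdA A B + B * Nat.gcdB A B := Nat.gcd_eq_gcd_ab A B
  set s : ℤ := (e : ℤ) * Nat.gcdA A B with hs
  set t : ℤ := (e : ℤ) * Nat.gcdB A B with ht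
  have hCst : (C : ℤ) = A * s + B * t := by
    have : (C : ℤ) = ((Nat.gcd A B : ℕ) : ℤ) * e := by exact_mod_cast he
    rw [this, hbez, hs, ht]
    ring
  set lam : ℤ := |s| + |t| with hlam
  have hlam0 : 0 ≤ lam := add_nonneg (abs_nonneg _) (abs_nonneg _)
  have hAz : (1 : ℤ) ≤ A := by exact_mod_cast hA0
  have hBz : (1 : ℤ) ≤ B := by exact_mod_cast hB0
  have ha : 0 ≤ s + lam * B := by
    have h1 : lam ≤ lam * B := le_mul_of_one_le_right hlam0 hBz
    have h2 : -s ≤ |s| := neg_le_abs s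
    have h3 : |s| ≤ lam := le_add_of_nonneg_right (abs_nonneg _)
    linarith
  have hb : 0 ≤ lam * A - t := by
    have h1 : lam ≤ lam * A := le_mul_of_one_le_right hlam0 hAz
    have h2 : t ≤ |t| := le_abs_self t
    have h3 : |t| ≤ lam := le_add_of_nonneg_left (abs_nonneg _)
    linarith
  refine ⟨(s + lam * B).toNat, (lam * A - t).toNat, ?_⟩
  have : ((s + lam * B).toNat : ℤ) * A = ((lam * A - t).toNat : ℤ) * B + C := by
    rw [Int.toNat_of_nonneg ha, Int.toNat_of_nonneg hb, hCst]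
    ring
  exact_mod_cast this

end Groth.Agent.Lib.Helper26.BezoutPow
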