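import Groth.Agent.Lib.Helper26.HenselIdem
import Mathlib

/-!
# Henselian pairs from idempotent lifting in monogenic algebras (helper26)

* `henselianRing_of_surjOn_adjoinRoot`: if `I ≤ rad A` and idempotents lift along
  `A[T]/(f) → (A/I)[T]/(f̄)` for all monic `f`, then `(A, I)` is Henselian.
* `charpoly_mul_charpoly_one_sub`: for an idempotent matrix `M`,
  `χ_M · χ_{1-M} = (T² - T)ⁿ`.
* `surjOn_of_special`: idempotent lifting for the algebras `A[T]/(p)` with
  `p ≡ (T² - T)^m` implies idempotent lifting for all `A[T]/(f)`, `f` monic.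
-/

set_option autoImplicit false
universe u v

namespace Groth.Agent.Lib.Helper26.HenselIdemAdjoin

open Polynomial Groth.Agent.Lib.Helper26.HenselBasic Groth.Agent.Lib.Helper3
  Groth.Agent.Lib.Helper26.HenselGabber Groth.Agent.Lib.Helper26.HenselEtale
  Groth.Agent.Lib.Helper26.HenselTFAE Groth.Agent.Lib.Helper26.HenselIdem

variable {A : Type u} [CommRing A]

theorem henselianRing_of_surjOn_adjoinRoot (I : Ideal A) (hI : I ≤ Ideal.jacobson ⊥)
    (h : ∀ f : A[X], f.Monic →
      Set.SurjOn (Ideal.Quotient.mk (Ideal.map (algebraMap A (AdjoinRoot f)) I))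
        {e : AdjoinRoot f | IsIdempotentElem e} {e | IsIdempotentElem e}) : HenselianRing A I := by
  refine ⟨hI, ?_⟩
  intro f hf a₀ h₁ h₂
  haveI : Module.Finite A (AdjoinRoot f) := hf.finite_adjoinRoot
  set IB := I.map (algebraMap A (AdjoinRoot f)) with hIB
  have hmkC : ∀ a : A, AdjoinRoot.mk f (C a) = algebraMap A (AdjoinRoot f) a := fun a => rfl
  have hIBmem : ∀ i ∈ I, algebraMap A (AdjoinRoot f) i ∈ IB := fun i hi =>
    Ideal.mem_map_of_mem _ hi
  -- division
  set hq := f /ₘ (X - C a₀) with hhq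
  have hdiv : f = (X - C a₀) * hq + C (f.eval a₀) := by
    have := Polynomial.modByMonic_add_div f (X - C a₀)
    rw [Polynomial.modByMonic_X_sub_C_eq_C_eval] at this
    rw [← hhq] at this
    conv_lhs => rw [← this]
    ring
  set c := hq.eval a₀ with hc
  have hder : f.derivative.eval a₀ = c := by
    conv_lhs => rw [hdiv]
    simp [hc]
  obtain ⟨c', hc'⟩ := (isUnit_mk_iff_exists I _).mp h₂
  rw [hder] at hc'
  obtain ⟨h₁q, hh₁⟩ := Polynomial.X_sub_C_dvd_sub_C_eval (a := a₀) (p := hq)
  -- elements of B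
  set t : AdjoinRoot f := AdjoinRoot.root f with ht
  set s : AdjoinRoot f := AdjoinRoot.mk f (X - C a₀) with hs
  set H : AdjoinRoot f := AdjoinRoot.mk f hq with hH
  set H₁ : AdjoinRoot f := AdjoinRoot.mk f h₁q with hH₁
  have hst : s = t - algebraMap A (AdjoinRoot f) a₀ := by
    rw [hs, map_sub, AdjoinRoot.mk_X, hmkC]
  have hsH : s * H = - algebraMap A (AdjoinRoot f) (f.eval a₀) := by
    have h0 : AdjoinRoot.mk f f = 0 := AdjoinRoot.mk_self
    have h1 : AdjoinRoot.mk f f = s * H + algebraMap A (AdjoinRoot f) (f.eval a₀) := by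
      refine (congrArg (AdjoinRoot.mk f) hdiv).trans ?_
      rw [map_add, map_mul, hmkC]
    rw [h0] at h1
    exact eq_neg_of_add_eq_zero_left h1.symm
  have hsHmem : s * H ∈ IB := by
    rw [hsH]; exact neg_mem (hIBmem _ h₁)
  have hii : H = s * H₁ + algebraMap A (AdjoinRoot f) c := by
    have : hq = (X - C a₀) * h₁q + C c := by rw [← hh₁]; ring
    rw [hH]
    conv_lhs => rw [this]
    rw [map_add, map_mul, hmkC]
  set b : AdjoinRoot f := algebraMap A (AdjoinRoot f) c' * H with hb
  have hHH : H * H = (s * H) * H₁ + algebraMap A (AdjoinRoot f) c * H := by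
    calc H * H = H * (s * H₁ + algebraMap A (AdjoinRoot f) c) := by rw [← hii]
      _ = (s * H) * H₁ + algebraMap A (AdjoinRoot f) c * H := by ring
  have hbb : b * b - b ∈ IB := by
    have e1 : b * b - b = algebraMap A (AdjoinRoot f) c' * algebraMap A (AdjoinRoot f) c' * H₁ *
        (s * H) + algebraMap A (AdjoinRoot f) c' * H *
          algebraMap A (AdjoinRoot f) (c * c' - 1) := by
      rw [hb]
      have : algebraMap A (AdjoinRoot f) c' * H * (algebraMap A (AdjoinRoot f) c' * H) =
          algebraMap A (AdjoinRoot f) c' * algebraMap A (AdjoinRoot f) c' * (H * H) := by ring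
      rw [this, hHH]
      have h2 : algebraMap A (AdjoinRoot f) (c * c' - 1) =
          algebraMap A (AdjoinRoot f) c * algebraMap A (AdjoinRoot f) c' - 1 := by
        rw [map_sub, map_mul, map_one]
      rw [h2]
      ring
    rw [e1]
    exact Ideal.add_mem _ (Ideal.mul_mem_left _ _ hsHmem) (Ideal.mul_mem_left _ _ (hIBmem _ hc'))
  have hεidem : IsIdempotentElem (Ideal.Quotient.mk IB b) := by
    show _ * _ = _
    rw [← map_mul, Ideal.Quotient.eq]
    exact hbb
  obtain ⟨e, he, hmke⟩ := h f hf hεidem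
  have he : IsIdempotentElem e := he
  have heb : e - b ∈ IB := Ideal.Quotient.eq.mp hmke
  have hes : e * s ∈ IB := by
    have : e * s = (e - b) * s + algebraMap A (AdjoinRoot f) c' * (s * H) := by rw [hb]; ring
    rw [this]
    exact Ideal.add_mem _ (Ideal.mul_mem_right _ _ heb) (Ideal.mul_mem_left _ _ hsHmem)
  have hcong : ∀ z : AdjoinRoot f, ∃ a : A, e * z - a • e ∈ IB := by
    intro z
    obtain ⟨p, rfl⟩ := AdjoinRoot.mk_surjective (g := f) z
    obtain ⟨q, hq'⟩ := Polynomial.X_sub_C_dvd_sub_C_eval (a := a₀) (p := p)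
    refine ⟨p.eval a₀, ?_⟩
    have hp : p = (X - C a₀) * q + C (p.eval a₀) := by rw [← hq']; ring
    have hmkp : AdjoinRoot.mk f p =
        s * AdjoinRoot.mk f q + algebraMap A (AdjoinRoot f) (p.eval a₀) := by
      refine (congrArg (AdjoinRoot.mk f) hp).trans ?_
      rw [map_add, map_mul, hmkC]
    have : e * AdjoinRoot.mk f p - p.eval a₀ • e = (e * s) * AdjoinRoot.mk f q := by
      rw [hmkp, Algebra.smul_def]
      ring
    rw [this]
    exact Ideal.mul_mem_right _ _ hes
  have hNak := exists_smul_eq_of_idempotent I hI e he hcong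
  obtain ⟨a, ha⟩ := hNak t
  -- the linear functional
  let lam : AdjoinRoot f →ₗ[A] A := (Polynomial.leval a₀).comp (AdjoinRoot.modByMonicHom hf)
  have hlam1 : ∀ p : A[X], lam (AdjoinRoot.mk f p) - p.eval a₀ ∈ I := by
    intro p
    have e1 : lam (AdjoinRoot.mk f p) = (p %ₘ f).eval a₀ := rfl
    have e2 := Polynomial.modByMonic_add_div p f
    have e3 : p.eval a₀ = (p %ₘ f).eval a₀ + f.eval a₀ * (p /ₘ f).eval a₀ := by
      conv_lhs => rw [← e2]
      rw [Polynomial.eval_add, Polynomial.eval_mul]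
    rw [e1, e3]
    have : (p %ₘ f).eval a₀ - ((p %ₘ f).eval a₀ + f.eval a₀ * (p /ₘ f).eval a₀) =
        -(f.eval a₀ * (p /ₘ f).eval a₀) := by ring
    rw [this]
    exact neg_mem (Ideal.mul_mem_right _ _ h₁)
  have hlam2 : ∀ z ∈ IB, lam z ∈ I := by
    intro z hz
    have hz' : z ∈ I • (⊤ : Submodule A (AdjoinRoot f)) := by
      rw [Ideal.smul_top_eq_map]; exact hz
    refine Submodule.smul_induction_on hz' ?_ ?_
    · intro i hi y _
      rw [map_smul, smul_eq_mul]
      exact Ideal.mul_mem_right _ _ hi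
    · intro x y hx hy
      rw [map_add]; exact Ideal.add_mem _ hx hy
  have hlam3 : lam e - 1 ∈ I := by
    have hb' : b = AdjoinRoot.mk f (C c' * hq) := by rw [hb, map_mul, hmkC]
    have e1 : lam e - 1 = lam (e - b) + (lam (AdjoinRoot.mk f (C c' * hq)) - (C c' * hq).eval a₀)
        + (c * c' - 1) := by
      rw [map_sub, hb', Polynomial.eval_mul, Polynomial.eval_C, ← hc]
      ring
    rw [e1]
    exact Ideal.add_mem _ (Ideal.add_mem _ (hlam2 _ heb) (hlam1 _)) hc'
  have hlamu : IsUnit (lam e) := by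
    apply isUnit_of_isUnit_mk hI
    have : Ideal.Quotient.mk I (lam e) = 1 := by
      rw [← map_one (Ideal.Quotient.mk I), Ideal.Quotient.eq]; exact hlam3
    rw [this]; exact isUnit_one
  -- the root
  have hroot0 : (t - algebraMap A (AdjoinRoot f) a) * e = 0 := by
    rw [sub_mul, mul_comm t e, ha, Algebra.smul_def, sub_self]
  have hfa := aeval_mul_eq_of_root a hroot0 f
  have haevalf : Polynomial.aeval t f = 0 := by
    rw [ht, AdjoinRoot.aeval_eq, AdjoinRoot.mk_self]
  rw [haevalf, zero_mul] at hfa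
  have hfa' : f.eval a * lam e = 0 := by
    have := congrArg lam hfa
    rw [map_zero, ← Algebra.smul_def, map_smul, smul_eq_mul] at this
    exact this.symm
  refine ⟨a, (hlamu.mul_left_eq_zero).mp hfa', ?_⟩
  have h5 : (a - a₀) • e ∈ IB := by
    have : (a - a₀) • e = e * s := by
      rw [sub_smul, ← ha, hst, Algebra.smul_def]; ring
    rw [this]; exact hes
  have h6 : (a - a₀) * lam e ∈ I := by
    have := hlam2 _ h5
    rwa [map_smul, smul_eq_mul] at this
  have : a - a₀ = (a - a₀) * lam e - (a - a₀) * (lam e - 1) := by ring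
  rw [this]
  exact Ideal.sub_mem _ h6 (Ideal.mul_mem_left _ _ hlam3)

theorem charpoly_mul_charpoly_one_sub {R : Type*} [CommRing R] {n : Type*} [Fintype n]
    [DecidableEq n] (M : Matrix n n R) (hM : M * M = M) :
    M.charpoly * (1 - M).charpoly = (X ^ 2 - X) ^ Fintype.card n := by
  rw [Matrix.charpoly, Matrix.charpoly, ← Matrix.det_mul]
  have : Matrix.charmatrix M * Matrix.charmatrix (1 - M) =
      (X ^ 2 - X : R[X]) • (1 : Matrix n n R[X]) := by
    unfold Matrix.charmatrix
    rw [map_sub, map_one, Matrix.scalar_apply, ← Matrix.smul_one_eq_diagonal]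
    set N := (C : R →+* R[X]).mapMatrix M with hNdef
    have hN : N * N = N := by rw [hNdef, ← map_mul, hM]
    simp only [sub_mul, mul_sub, Matrix.smul_mul, Matrix.mul_smul, one_mul, mul_one, hN, smul_smul,
      sub_smul, pow_two]
    abel
  rw [this, Matrix.det_smul, Matrix.det_one, mul_one]

theorem aeval_mem_map_of_map_eq_zero (I : Ideal A) {P : Type*} [CommRing P] [Algebra A P]
    (q : A[X]) (hq : q.map (Ideal.Quotient.mk I) = 0) (x : P) :
    aeval x q ∈ I.map (algebraMap A P) := by
  rw [Polynomial.aeval_eq_sum_range]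
  apply Ideal.sum_mem
  intro k _
  have hk : q.coeff k ∈ I := by
    have := congrArg (fun r => Polynomial.coeff r k) hq
    simp only [Polynomial.coeff_map, Polynomial.coeff_zero] at this
    exact Ideal.Quotient.eq_zero_iff_mem.mp this
  rw [Algebra.smul_def]
  exact Ideal.mul_mem_right _ _ (Ideal.mem_map_of_mem _ hk)

theorem surjOn_of_special (I : Ideal A)
    (h : ∀ (m : ℕ) (p : A[X]), p.Monic →
      p.map (Ideal.Quotient.mk I) = ((X ^ 2 - X) ^ m : A[X]).map (Ideal.Quotient.mk I) →
      Set.SurjOn (Ideal.Quotient.mk (Ideal.map (algebraMap A (AdjoinRoot p)) I))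
        {e : AdjoinRoot p | IsIdempotentElem e} {e | IsIdempotentElem e})
    (f : A[X]) (hf : f.Monic) :
    Set.SurjOn (Ideal.Quotient.mk (Ideal.map (algebraMap A (AdjoinRoot f)) I))
      {e : AdjoinRoot f | IsIdempotentElem e} {e | IsIdempotentElem e} := by
  classical
  intro ebar hebar
  have hebar' : IsIdempotentElem ebar := hebar
  obtain ⟨b, rfl⟩ := Ideal.Quotient.mk_surjective ebar
  set IB := I.map (algebraMap A (AdjoinRoot f)) with hIB
  have hbb : b * b - b ∈ IB := by
    rw [← Ideal.Quotient.eq, map_mul]; exact hebar'.eq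
  let pb := AdjoinRoot.powerBasis' hf
  let L := Algebra.leftMulMatrix pb.basis
  set M := L b with hM
  let π := Ideal.Quotient.mk I
  have hent : ∀ z ∈ IB, ∀ i j, L z i j ∈ I := by
    intro z hz i j
    have hz' : z ∈ I • (⊤ : Submodule A (AdjoinRoot f)) := by
      rw [Ideal.smul_top_eq_map]; exact hz
    refine Submodule.smul_induction_on hz' ?_ ?_
    · intro a ha y _
      rw [map_smul, Matrix.smul_apply, smul_eq_mul]
      exact Ideal.mul_mem_right _ _ ha
    · intro x y hx hy
      rw [map_add, Matrix.add_apply]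
      exact Ideal.add_mem _ hx hy
  have hMbar : π.mapMatrix M * π.mapMatrix M = π.mapMatrix M := by
    have h0 : π.mapMatrix (M * M - M) = 0 := by
      ext i j
      rw [RingHom.mapMatrix_apply, Matrix.map_apply, Matrix.zero_apply,
        Ideal.Quotient.eq_zero_iff_mem]
      have : M * M - M = L (b * b - b) := by rw [map_sub, map_mul]
      rw [this]; exact hent _ hbb i j
    rw [map_sub, map_mul, sub_eq_zero] at h0
    exact h0
  set m := Fintype.card (Fin pb.dim) with hm
  set p := M.charpoly * (1 - M).charpoly with hp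
  have hp_monic : p.Monic := (Matrix.charpoly_monic M).mul (Matrix.charpoly_monic _)
  have hp_map : p.map π = ((X ^ 2 - X) ^ m : A[X]).map π := by
    rw [hp, Polynomial.map_mul, ← Matrix.charpoly_map, ← Matrix.charpoly_map]
    have e1 : M.map π = π.mapMatrix M := rfl
    have e2 : (1 - M).map π = 1 - π.mapMatrix M := by
      rw [← RingHom.mapMatrix_apply, map_sub, map_one]
    rw [e1, e2, charpoly_mul_charpoly_one_sub _ hMbar]
    simp [Polynomial.map_pow, Polynomial.map_sub, hm]
  have hroot : aeval b p = 0 := by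
    have h1 : aeval b M.charpoly = 0 := by
      apply Algebra.leftMulMatrix_injective pb.basis
      rw [map_zero, ← Polynomial.aeval_algHom_apply]
      exact Matrix.aeval_self_charpoly M
    rw [hp, map_mul, h1, zero_mul]
  let θ : AdjoinRoot p →ₐ[A] AdjoinRoot f :=
    AdjoinRoot.liftAlgHom p (Algebra.ofId A (AdjoinRoot f)) b hroot
  have hθroot : θ (AdjoinRoot.root p) = b := AdjoinRoot.liftAlgHom_root p _ b hroot
  set IP := I.map (algebraMap A (AdjoinRoot p)) with hIP
  set tbar : AdjoinRoot p ⧸ IP := Ideal.Quotient.mk IP (AdjoinRoot.root p) with htbar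
  have hd : (tbar ^ 2 - tbar) ^ m = 0 := by
    have h1 : aeval (AdjoinRoot.root p) ((X ^ 2 - X) ^ m - p : A[X]) ∈ IP :=
      aeval_mem_map_of_map_eq_zero I _ (by rw [Polynomial.map_sub, hp_map, sub_self]) _
    rw [map_sub, AdjoinRoot.aeval_eq p, AdjoinRoot.mk_self, sub_zero] at h1
    have h2 : aeval (AdjoinRoot.root p) ((X ^ 2 - X) ^ m : A[X]) =
        (AdjoinRoot.root p ^ 2 - AdjoinRoot.root p) ^ m := by
      simp
    rw [h2] at h1
    have : (tbar ^ 2 - tbar) ^ m =
        Ideal.Quotient.mk IP ((AdjoinRoot.root p ^ 2 - AdjoinRoot.root p) ^ m) := by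
      rw [htbar, map_pow, map_sub, map_pow]
    rw [this]
    exact Ideal.Quotient.eq_zero_iff_mem.mpr h1
  set N : Ideal (AdjoinRoot p ⧸ IP) := Ideal.span {tbar ^ 2 - tbar} with hN
  have hnil : ∀ x ∈ RingHom.ker (Ideal.Quotient.mk N), IsNilpotent x := by
    intro x hx
    rw [Ideal.mk_ker, hN, Ideal.mem_span_singleton'] at hx
    obtain ⟨c, rfl⟩ := hx
    exact ⟨m, by rw [mul_pow, hd, mul_zero]⟩
  have he0 : IsIdempotentElem (Ideal.Quotient.mk N tbar) := by
    show _ * _ = _
    rw [← map_mul, Ideal.Quotient.eq, ← pow_two]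
    exact Ideal.subset_span rfl
  obtain ⟨εbar, hεidem, hεeq⟩ := exists_isIdempotentElem_eq_of_ker_isNilpotent
    (Ideal.Quotient.mk N) hnil (Ideal.Quotient.mk N tbar) ⟨tbar, rfl⟩ he0
  obtain ⟨ε, hε, hεmk⟩ := h m p hp_monic hp_map hεidem
  have hε' : IsIdempotentElem ε := hε
  refine ⟨θ ε, hε'.map θ, ?_⟩
  have hle : IP ≤ IB.comap θ.toRingHom := by
    rw [hIP, Ideal.map_le_iff_le_comap]
    intro a ha
    rw [Ideal.mem_comap, Ideal.mem_comap]
    show θ (algebraMap A (AdjoinRoot p) a) ∈ IB
    rw [θ.commutes]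
    exact Ideal.mem_map_of_mem _ ha
  let θbar : (AdjoinRoot p ⧸ IP) →+* (AdjoinRoot f ⧸ IB) := Ideal.quotientMap IB θ.toRingHom hle
  have h1 : θbar εbar = Ideal.Quotient.mk IB (θ ε) := by rw [← hεmk]; rfl
  have h2 : θbar tbar = Ideal.Quotient.mk IB b := by
    rw [htbar]
    show Ideal.Quotient.mk IB (θ (AdjoinRoot.root p)) = _
    rw [hθroot]
  have h3 : θbar (εbar - tbar) = 0 := by
    have hmem : εbar - tbar ∈ N := Ideal.Quotient.eq.mp hεeq
    obtain ⟨c, hc⟩ := Ideal.mem_span_singleton'.mp hmem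
    rw [← hc, map_mul, map_sub, map_pow, h2, pow_two, hebar'.eq, sub_self, mul_zero]
  rw [map_sub, h1, h2, sub_eq_zero] at h3
  exact h3

end Groth.Agent.Lib.Helper26.HenselIdemAdjoin
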