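import Mathlib
import Groth.Agent.Lib.Helper14.SepGenSmooth
import Groth.Agent.Lib.Helper22.SmoothNormalLoc

/-!
# Smooth points and geometric reducedness (helper26)

* `isGeometricallyReduced_of_isLocalization`: localizations of geometrically reduced algebras over
  a field are geometrically reduced.
* `isGeometricallyReduced_of_smooth`: a smooth algebra over a field is geometrically reduced.
* `geomRed_of_isSmoothAt`: `A_p` formally smooth over `k` (A of finite type) ⇒ geometrically reduced.
* `isSmoothAt_of_geomRed`: `p` minimal and `A_p` geometrically reduced ⇒ `A` smooth at `p`.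
* `mem_of_dense_of_mem_minimalPrimes`: a dense open of a Noetherian spectrum contains all minimal
  primes.
-/

set_option autoImplicit false
universe u
open scoped TensorProduct

namespace Groth.Agent.Lib.Helper26.GenSmoothRed

theorem isGeometricallyReduced_of_isLocalization (k B B' : Type u) [Field k] [CommRing B]
    [CommRing B'] [Algebra k B] [Algebra B B'] [Algebra k B'] [IsScalarTower k B B']
    (M : Submonoid B) [IsLocalization M B'] [Algebra.IsGeometricallyReduced k B] :
    Algebra.IsGeometricallyReduced k B' := by
  rw [Algebra.isGeometricallyReduced_field_iff]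
  haveI h0 : IsReduced (AlgebraicClosure k ⊗[k] B) := inferInstance
  haveI h1 : IsReduced (B ⊗[k] AlgebraicClosure k) :=
    isReduced_of_injective (Algebra.TensorProduct.comm k B (AlgebraicClosure k)).toRingHom
      (Algebra.TensorProduct.comm k B (AlgebraicClosure k)).injective
  haveI h2 : IsLocalization (Algebra.algebraMapSubmonoid (B ⊗[k] AlgebraicClosure k) M)
      ((B ⊗[k] AlgebraicClosure k) ⊗[B] B') := IsLocalization.tensor B' M
  haveI h3' : IsReduced ((B ⊗[k] AlgebraicClosure k) ⊗[B] B') :=
    isReduced_localizationPreserves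
      (Algebra.algebraMapSubmonoid (B ⊗[k] AlgebraicClosure k) M) _ h1
  haveI h3 : IsReduced (B' ⊗[B] (B ⊗[k] AlgebraicClosure k)) :=
    isReduced_of_injective
      (Algebra.TensorProduct.comm B B' (B ⊗[k] AlgebraicClosure k)).toRingHom
      (Algebra.TensorProduct.comm B B' (B ⊗[k] AlgebraicClosure k)).injective
  let e : B' ⊗[B] (B ⊗[k] AlgebraicClosure k) ≃ₐ[B] B' ⊗[k] AlgebraicClosure k :=
    Algebra.TensorProduct.cancelBaseChange k B B B' (AlgebraicClosure k)
  haveI h4 : IsReduced (B' ⊗[k] AlgebraicClosure k) :=
    isReduced_of_injective e.symm.toRingHom e.symm.injective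
  exact isReduced_of_injective (Algebra.TensorProduct.comm k (AlgebraicClosure k) B').toRingHom
    (Algebra.TensorProduct.comm k (AlgebraicClosure k) B').injective

theorem isGeometricallyReduced_of_smooth (k B : Type u) [Field k] [CommRing B] [Algebra k B]
    [Algebra.Smooth k B] : Algebra.IsGeometricallyReduced k B := by
  rw [Algebra.isGeometricallyReduced_field_iff]
  haveI : Algebra.Smooth (AlgebraicClosure k) (AlgebraicClosure k ⊗[k] B) := inferInstance
  refine isReduced_ofLocalizationMaximal _ (fun J hJ => ?_)
  haveI := hJ.isPrime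
  exact Groth.Agent.Lib.Helper22.SmoothNormalLoc.isReduced_of_smooth (AlgebraicClosure k)
    (AlgebraicClosure k ⊗[k] B) J (Localization.AtPrime J)

theorem geomRed_of_isSmoothAt (k A : Type u) [Field k] [CommRing A] [Algebra k A]
    [Algebra.FiniteType k A] (p : Ideal A) [p.IsPrime] [Algebra.IsSmoothAt k p] :
    Algebra.IsGeometricallyReduced k (Localization.AtPrime p) := by
  haveI : Algebra.FinitePresentation k A :=
    Algebra.FinitePresentation.of_finiteType.mp inferInstance
  obtain ⟨f, hfp, hsm⟩ := Algebra.IsSmoothAt.exists_notMem_smooth k p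
  haveI := hsm
  haveI : Algebra.IsGeometricallyReduced k (Localization.Away f) :=
    isGeometricallyReduced_of_smooth k _
  have hle : Submonoid.powers f ≤ p.primeCompl := Submonoid.powers_le.mpr hfp
  letI : Algebra (Localization.Away f) (Localization.AtPrime p) :=
    IsLocalization.localizationAlgebraOfSubmonoidLe (Localization.Away f)
      (Localization.AtPrime p) (Submonoid.powers f) p.primeCompl hle
  haveI : IsScalarTower A (Localization.Away f) (Localization.AtPrime p) :=
    IsLocalization.localization_isScalarTower_of_submonoid_le _ _ _ _ hle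
  haveI : IsLocalization (p.primeCompl.map (algebraMap A (Localization.Away f)))
      (Localization.AtPrime p) :=
    IsLocalization.isLocalization_of_submonoid_le (Localization.Away f) _
      (Submonoid.powers f) p.primeCompl hle
  haveI : IsScalarTower k (Localization.Away f) (Localization.AtPrime p) :=
    IsScalarTower.of_algebraMap_eq' (by
      rw [IsScalarTower.algebraMap_eq k A (Localization.AtPrime p),
        IsScalarTower.algebraMap_eq A (Localization.Away f) (Localization.AtPrime p),
        RingHom.comp_assoc, ← IsScalarTower.algebraMap_eq k A (Localization.Away f)])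
  exact isGeometricallyReduced_of_isLocalization k (Localization.Away f) (Localization.AtPrime p)
    (p.primeCompl.map (algebraMap A (Localization.Away f)))

theorem isSmoothAt_of_geomRed (k A : Type u) [Field k] [CommRing A] [Algebra k A]
    [Algebra.FiniteType k A] (p : Ideal A) [p.IsPrime] (hp : p ∈ minimalPrimes A)
    [Algebra.IsGeometricallyReduced k (Localization.AtPrime p)] : Algebra.IsSmoothAt k p := by
  haveI : IsReduced (Localization.AtPrime p) := Algebra.isReduced_of_isGeometricallyReduced k
  haveI : Ring.KrullDimLE 0 (Localization.AtPrime p) := .of_isLocalization _ hp _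
  letI : Field (Localization.AtPrime p) := Ring.KrullDimLE.isField_of_isReduced.toField
  haveI : Algebra.EssFiniteType A (Localization.AtPrime p) :=
    Algebra.EssFiniteType.of_isLocalization _ p.primeCompl
  haveI : Algebra.EssFiniteType k (Localization.AtPrime p) :=
    Algebra.EssFiniteType.comp k A _
  exact Groth.Agent.Lib.Helper14.formallySmooth_of_isGeometricallyReduced k
    (Localization.AtPrime p)

theorem mem_of_dense_of_mem_minimalPrimes {A : Type u} [CommRing A] [IsNoetherianRing A]
    (U : TopologicalSpace.Opens (PrimeSpectrum A)) (hU : Dense (U : Set (PrimeSpectrum A)))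
    (p : Ideal A) [hpp : p.IsPrime] (hp : p ∈ minimalPrimes A) :
    (⟨p, hpp⟩ : PrimeSpectrum A) ∈ U := by
  classical
  have hfin : (minimalPrimes A).Finite := minimalPrimes.finite_of_isNoetherianRing A
  set Z : Set (PrimeSpectrum A) :=
    ⋃ q ∈ (minimalPrimes A) \ {p}, PrimeSpectrum.zeroLocus (q : Set A) with hZ
  have hZc : IsClosed Z :=
    (hfin.subset Set.diff_subset).isClosed_biUnion (fun q _ => PrimeSpectrum.isClosed_zeroLocus _)
  have hPZ : (⟨p, hpp⟩ : PrimeSpectrum A) ∈ Zᶜ := by
    intro hmem
    simp only [hZ, Set.mem_iUnion, exists_prop] at hmem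
    obtain ⟨q, ⟨hq, hqp⟩, hle⟩ := hmem
    rw [PrimeSpectrum.mem_zeroLocus] at hle
    have : q = p := le_antisymm hle (hp.2 hq.1 hle)
    exact hqp this
  obtain ⟨x, hxW, hxU⟩ := hU.inter_open_nonempty _ hZc.isOpen_compl ⟨_, hPZ⟩
  obtain ⟨q, hq, hqx⟩ := Ideal.exists_minimalPrimes_le (J := x.asIdeal) (I := ⊥) bot_le
  have hqp : q = p := by
    by_contra hne
    apply hxW
    simp only [hZ, Set.mem_iUnion, exists_prop]
    exact ⟨q, ⟨hq, hne⟩, by rw [PrimeSpectrum.mem_zeroLocus]; exact hqx⟩
  rw [hqp] at hqx
  have hsp : (⟨p, hpp⟩ : PrimeSpectrum A) ⤳ x := (PrimeSpectrum.le_iff_specializes _ _).mp hqx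
  exact hsp.mem_open U.isOpen hxU

end Groth.Agent.Lib.Helper26.GenSmoothRed
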