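import Groth.Agent.Lib.Helper26.HenselTFAE
import Mathlib

/-!
# Henselian pairs and idempotents

* `exists_idempotent_of_liftsFactorizations` : factorization lifting implies idempotent lifting
  along `B → B/IB` for integral `A`-algebras `B`.
* `idempotent_eq_of_sub_mem` : injectivity on idempotents.
* `henselianRing_of_idempotents_finite` : bijectivity on idempotents for finite algebras implies
  Henselian.
-/

set_option autoImplicit false
universe u v

namespace Groth.Agent.Lib.Helper26.HenselIdem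

open Polynomial Groth.Agent.Lib.Helper26.HenselBasic Groth.Agent.Lib.Helper3
  Groth.Agent.Lib.Helper26.HenselGabber Groth.Agent.Lib.Helper26.HenselEtale
  Groth.Agent.Lib.Helper26.HenselTFAE

variable {A : Type u} [CommRing A]

/-- Value of a polynomial at an idempotent. -/
lemma aeval_idempotent {C : Type*} [Ring C] [Algebra A C] (ε : C) (hε : IsIdempotentElem ε)
    (w : A[X]) :
    aeval ε w = algebraMap A C (w.eval 0) * (1 - ε) + algebraMap A C (w.eval 1) * ε := by
  induction w using Polynomial.induction_on' with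
  | add p q hp hq =>
    rw [map_add, hp, hq, Polynomial.eval_add, Polynomial.eval_add, map_add, map_add]
    noncomm_ring
  | monomial n a =>
    rw [Polynomial.aeval_monomial]
    cases n with
    | zero =>
      simp only [pow_zero, mul_one, Polynomial.monomial_zero_left, Polynomial.eval_C]
      noncomm_ring
    | succ n =>
      rw [hε.pow_succ_eq]
      simp [Polynomial.eval_monomial]

/-- Coprimality of monic polynomials can be checked modulo `I ≤ rad A`. -/
lemma isCoprime_of_map (I : Ideal A) (hI : I ≤ Ideal.jacobson ⊥) (P Q : A[X]) (hP : P.Monic)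
    (hQ : Q.Monic)
    (h : IsCoprime (P.map (Ideal.Quotient.mk I)) (Q.map (Ideal.Quotient.mk I))) :
    IsCoprime P Q := by
  rcases subsingleton_or_nontrivial (A ⧸ I) with hs | hnt
  · have h1 : (1 : A) ∈ I := by
      rw [← Ideal.Quotient.eq_zero_iff_mem]; exact Subsingleton.elim _ _
    have h2 := (Ideal.mem_jacobson_bot.mp (hI h1)) (-1)
    have h3 : (1 : A) * -1 + 1 = 0 := by ring
    rw [h3] at h2
    haveI : Subsingleton A := subsingleton_of_zero_eq_one (by
      obtain ⟨u, hu⟩ := h2
      have := u.mul_inv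
      rw [hu, zero_mul] at this
      exact this)
    exact ⟨0, 0, Subsingleton.elim _ _⟩
  rw [← Polynomial.isUnit_resultant_iff_isCoprime hP]
  rw [← Polynomial.isUnit_resultant_iff_isCoprime (hP.map _)] at h
  rw [hP.natDegree_map, hQ.natDegree_map, Polynomial.resultant_map_map] at h
  exact isUnit_of_isUnit_mk hI h

/-- The splitting polynomial: for monic `F ≡ Xʳ (X-1)ʳ` there is `w` with `F ∣ w² - w`,
`w(0) ∈ I` and `w(1) - 1 ∈ I`. -/
theorem exists_splitting (I : Ideal A) (hI : I ≤ Ideal.jacobson ⊥) (hF : LiftsFactorizations I)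
    (r : ℕ) (hr : 0 < r) (F : A[X]) (hFm : F.Monic)
    (hFmap : F.map (Ideal.Quotient.mk I) = X ^ r * (X - 1) ^ r) :
    ∃ w : A[X], F ∣ w * w - w ∧ w.eval 0 ∈ I ∧ w.eval 1 - 1 ∈ I := by
  have hX1 : (X - 1 : (A ⧸ I)[X]) = X - C 1 := by simp
  have hcop : IsCoprime (X ^ r : (A ⧸ I)[X]) ((X - 1) ^ r) := by
    apply IsCoprime.pow
    exact ⟨1, -1, by ring⟩
  obtain ⟨P, Q, hP, hQ, hPQ, hPmap, hQmap⟩ := hF F hFm (X ^ r) ((X - 1) ^ r)
    (Polynomial.monic_X_pow r) (by rw [hX1]; exact (Polynomial.monic_X_sub_C 1).pow r) hcop hFmap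
  have hcop' : IsCoprime P Q := isCoprime_of_map I hI P Q hP hQ (by rw [hPmap, hQmap]; exact hcop)
  obtain ⟨u, v, huv⟩ := hcop'
  refine ⟨u * P, ?_, ?_, ?_⟩
  · refine ⟨-(u * v), ?_⟩
    have : u * P - 1 = -(v * Q) := by rw [← huv]; ring
    calc u * P * (u * P) - u * P = u * P * (u * P - 1) := by ring
      _ = u * P * (-(v * Q)) := by rw [this]
      _ = F * -(u * v) := by rw [hPQ]; ring
  · rw [← Ideal.Quotient.eq_zero_iff_mem, ← Polynomial.eval_map_apply, Polynomial.map_mul, hPmap]
    simp [hr.ne']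
  · have : u * P = 1 - v * Q := by rw [← huv]; ring
    rw [this, ← Ideal.Quotient.eq_zero_iff_mem, map_sub, map_one, ← Polynomial.eval_map_apply,
      Polynomial.map_sub, Polynomial.map_one, Polynomial.map_mul, hQmap]
    simp [hr.ne']


/-- From a monic `g₀ ≡ Yʳ` killing `b² - b` we get an idempotent polynomial expression in `b`. -/
theorem exists_idempotent_aeval (I : Ideal A) (hI : I ≤ Ideal.jacobson ⊥)
    (hF : LiftsFactorizations I) {E : Type*} [Ring E] [Algebra A E] (b : E)
    (g₀ : A[X]) (hg₀ : g₀.Monic) (hcoef : ∀ k < g₀.natDegree, g₀.coeff k ∈ I)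
    (hzero : aeval (b * b - b) g₀ = 0) :
    ∃ w : A[X], IsIdempotentElem (aeval b w) ∧ w.eval 0 ∈ I ∧ w.eval 1 - 1 ∈ I := by
  rcases subsingleton_or_nontrivial A with hs | hnt
  · refine ⟨0, by simp [IsIdempotentElem], ?_, ?_⟩
    · rw [Subsingleton.elim (Polynomial.eval 0 (0 : A[X])) 0]; exact zero_mem _
    · rw [Subsingleton.elim (Polynomial.eval 1 (0 : A[X]) - 1) 0]; exact zero_mem _
  set r := g₀.natDegree + 1 with hr
  have hg₀map : g₀.map (Ideal.Quotient.mk I) = X ^ g₀.natDegree := by
    ext k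
    rw [Polynomial.coeff_map, Polynomial.coeff_X_pow]
    rcases lt_trichotomy k g₀.natDegree with hk | hk | hk
    · rw [if_neg hk.ne, Ideal.Quotient.eq_zero_iff_mem]; exact hcoef k hk
    · rw [if_pos hk, hk, hg₀.coeff_natDegree, map_one]
    · rw [if_neg hk.ne', Polynomial.coeff_eq_zero_of_natDegree_lt hk, map_zero]
  have hq : (X ^ 2 - X : A[X]).Monic := by
    apply Polynomial.monic_X_pow_sub
    exact lt_of_le_of_lt Polynomial.degree_X_le (by norm_num)
  have hqdeg : (X ^ 2 - X : A[X]).natDegree ≠ 0 := by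
    rw [Polynomial.natDegree_sub_eq_left_of_natDegree_lt]
    · simp
    · simp
  set F := (X * g₀).comp (X ^ 2 - X) with hFdef
  have hFm : F.Monic := ((Polynomial.monic_X).mul hg₀).comp hq hqdeg
  have hFmap : F.map (Ideal.Quotient.mk I) = X ^ r * (X - 1) ^ r := by
    rw [hFdef, Polynomial.map_comp, Polynomial.map_mul, hg₀map, Polynomial.map_X,
      ← pow_succ', Polynomial.X_pow_comp, ← mul_pow]
    congr 1
    simp; ring
  have hFb : aeval b F = 0 := by
    rw [hFdef, Polynomial.aeval_comp]
    have : aeval b (X ^ 2 - X : A[X]) = b * b - b := by simp [sq]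
    rw [this, map_mul, hzero, mul_zero]
  obtain ⟨w, ⟨q, hq⟩, h0, h1⟩ := exists_splitting I hI hF r (Nat.succ_pos _) F hFm hFmap
  refine ⟨w, ?_, h0, h1⟩
  have := congrArg (aeval b) hq
  rw [map_sub, map_mul, map_mul, hFb, zero_mul, sub_eq_zero] at this
  exact this

/-- Compatibility of the idempotent with a reduction map killing `I`. -/
lemma map_aeval_eq (I : Ideal A) {E C : Type*} [Ring E] [Ring C] [Algebra A E] [Algebra A C]
    (π : E →ₐ[A] C) (hπI : ∀ i ∈ I, algebraMap A C i = 0) (b : E)
    (hb : IsIdempotentElem (π b)) (w : A[X]) (h0 : w.eval 0 ∈ I) (h1 : w.eval 1 - 1 ∈ I) :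
    π (aeval b w) = π b := by
  rw [← Polynomial.aeval_algHom_apply, aeval_idempotent (π b) hb, hπI _ h0, zero_mul, zero_add]
  have : algebraMap A C (w.eval 1) = 1 := by
    have := hπI _ h1
    rwa [map_sub, map_one, sub_eq_zero] at this
  rw [this, one_mul]

/-- Idempotent lifting for finite algebras. -/
theorem exists_idempotent_finite (I : Ideal A) (hI : I ≤ Ideal.jacobson ⊥)
    (hF : LiftsFactorizations I) {B : Type v} [CommRing B] [Algebra A B] [Module.Finite A B]
    (b : B) (hb : b * b - b ∈ I.map (algebraMap A B)) :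
    ∃ e : B, IsIdempotentElem e ∧ e - b ∈ I.map (algebraMap A B) := by
  set x := b * b - b with hx
  have hrange : LinearMap.range (Algebra.lmul A B x) ≤ I • (⊤ : Submodule A B) := by
    rintro _ ⟨y, rfl⟩
    rw [Ideal.smul_top_eq_map]
    exact Ideal.mul_mem_right _ _ hb
  obtain ⟨g₀, hmonic, -, hcoef, hzero⟩ :=
    LinearMap.exists_monic_and_natDegree_eq_and_coeff_mem_pow_and_aeval_eq_zero A
      (Algebra.lmul A B x) I hrange
  have hcoef' : ∀ k < g₀.natDegree, g₀.coeff k ∈ I := by
    intro k hk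
    exact Ideal.pow_le_self (by omega) (hcoef k)
  have hzero' : aeval x g₀ = 0 := by
    rw [Polynomial.aeval_algHom_apply] at hzero
    have := LinearMap.congr_fun hzero 1
    simpa using this
  obtain ⟨w, hw, h0, h1⟩ := exists_idempotent_aeval I hI hF b g₀ hmonic hcoef' hzero'
  refine ⟨aeval b w, hw, ?_⟩
  rw [← Ideal.Quotient.eq]
  apply map_aeval_eq I (Ideal.Quotient.mkₐ A (I.map (algebraMap A B))) _ b _ w h0 h1
  · intro i hi
    rw [IsScalarTower.algebraMap_apply A B (B ⧸ I.map (algebraMap A B)),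
      Ideal.Quotient.algebraMap_eq, Ideal.Quotient.eq_zero_iff_mem]
    exact Ideal.mem_map_of_mem _ hi
  · show Ideal.Quotient.mk _ b * Ideal.Quotient.mk _ b = Ideal.Quotient.mk _ b
    rw [← map_mul, Ideal.Quotient.eq]
    exact hb


/-- Idempotent lifting for integral algebras. -/
theorem exists_idempotent_integral (I : Ideal A) (hI : I ≤ Ideal.jacobson ⊥)
    (hF : LiftsFactorizations I) {B : Type v} [CommRing B] [Algebra A B] [Algebra.IsIntegral A B]
    (b : B) (hb : b * b - b ∈ I.map (algebraMap A B)) :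
    ∃ e : B, IsIdempotentElem e ∧ e - b ∈ I.map (algebraMap A B) := by
  classical
  have step1 : ∀ x ∈ I • (⊤ : Submodule A B), ∃ T : Finset B,
      x ∈ I • Submodule.span A (T : Set B) := by
    intro x hx
    refine Submodule.smul_induction_on hx ?_ ?_
    · intro i hi c _
      exact ⟨{c}, Submodule.smul_mem_smul hi (Submodule.subset_span (by simp))⟩
    · intro x y hx hy
      obtain ⟨T₁, h₁⟩ := hx
      obtain ⟨T₂, h₂⟩ := hy
      refine ⟨T₁ ∪ T₂, Submodule.add_mem _ ?_ ?_⟩
      · exact Submodule.smul_mono le_rfl (Submodule.span_mono (by simp)) h₁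
      · exact Submodule.smul_mono le_rfl (Submodule.span_mono (by simp)) h₂
  have hb' : b * b - b ∈ I • (⊤ : Submodule A B) := by
    rw [Ideal.smul_top_eq_map]; exact hb
  obtain ⟨T, hT⟩ := step1 _ hb'
  let B' : Subalgebra A B := Algebra.adjoin A (insert b (T : Set B))
  have hB'fg : B'.toSubmodule.FG := by
    apply fg_adjoin_of_finite
    · exact (Finset.finite_toSet T).insert b
    · intro x _; exact Algebra.IsIntegral.isIntegral x
  haveI : Module.Finite A B' := ⟨(Submodule.fg_top _).mpr hB'fg⟩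
  have hbB' : b ∈ B' := Algebra.subset_adjoin (Set.mem_insert _ _)
  let b' : B' := ⟨b, hbB'⟩
  have hx1 : b * b - b ∈ I • B'.toSubmodule := by
    refine Submodule.smul_mono le_rfl ?_ hT
    rw [Submodule.span_le]
    intro t ht
    exact Algebra.subset_adjoin (Set.mem_insert_of_mem _ ht)
  have hx2 : b' * b' - b' ∈ I.map (algebraMap A B') := by
    have h1 : Submodule.map B'.val.toLinearMap (I • (⊤ : Submodule A B')) =
        I • B'.toSubmodule := by
      rw [Submodule.map_smul'', Submodule.map_top]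
      congr 1
      ext y
      simp
    rw [← h1] at hx1
    obtain ⟨z, hz, hzx⟩ := hx1
    have hzeq : z = b' * b' - b' := by
      apply Subtype.ext
      rw [← Subalgebra.coe_val, ← AlgHom.toLinearMap_apply, hzx]
      rfl
    rw [← hzeq]
    rw [Ideal.smul_top_eq_map] at hz
    exact hz
  obtain ⟨e', he', hee'⟩ := exists_idempotent_finite I hI hF b' hx2
  refine ⟨(e' : B), ?_, ?_⟩
  · have := congrArg Subtype.val he'.eq
    exact this
  · have h2 : (I.map (algebraMap A B')).map B'.val.toRingHom = I.map (algebraMap A B) := by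
      rw [Ideal.map_map]
      rfl
    rw [← h2]
    have := Ideal.mem_map_of_mem B'.val.toRingHom hee'
    exact this

/-- `I B ≤ rad B` for an integral `A`-algebra `B` when `I ≤ rad A`. -/
theorem map_le_jacobson_of_isIntegral (I : Ideal A) (hI : I ≤ Ideal.jacobson ⊥) {B : Type v}
    [CommRing B] [Algebra A B] [Algebra.IsIntegral A B] :
    I.map (algebraMap A B) ≤ Ideal.jacobson ⊥ := by
  rw [Ideal.jacobson, le_sInf_iff]
  rintro n ⟨-, hn⟩
  rw [Ideal.map_le_iff_le_comap]
  haveI := hn
  have hmax : (n.comap (algebraMap A B)).IsMaximal :=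
    Ideal.isMaximal_comap_of_isIntegral_of_isMaximal n
  refine hI.trans ?_
  rw [Ideal.jacobson]
  exact sInf_le ⟨bot_le, hmax⟩

/-- Idempotents congruent modulo the Jacobson radical are equal. -/
theorem idempotent_eq_of_sub_mem_jacobson {B : Type v} [CommRing B] (e e' : B)
    (he : IsIdempotentElem e) (he' : IsIdempotentElem e')
    (h : e - e' ∈ Ideal.jacobson (⊥ : Ideal B)) : e = e' := by
  have h3 : (e - e') * (1 - (e - e') * (e - e')) = 0 := by
    have e1 : e * e = e := he.eq
    have e2 : e' * e' = e' := he'.eq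
    have : (e - e') * (1 - (e - e') * (e - e')) =
        (e - e') - (e * e * e - 3 * (e * e) * e' + 3 * e * (e' * e') - e' * e' * e') := by ring
    rw [this, e1, e1, e2, e2]; ring
  have hu : IsUnit (1 - (e - e') * (e - e')) := by
    have := (Ideal.mem_jacobson_bot.mp h) (-(e - e'))
    have e3 : (e - e') * -(e - e') + 1 = 1 - (e - e') * (e - e') := by ring
    rwa [e3] at this
  have := (hu.mul_left_eq_zero).mp h3
  exact sub_eq_zero.mp this

/-- **Bijection on idempotents** for integral algebras over a pair with factorization lifting. -/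
theorem bijOn_idempotents (I : Ideal A) (hI : I ≤ Ideal.jacobson ⊥)
    (hF : LiftsFactorizations I) (B : Type v) [CommRing B] [Algebra A B] [Algebra.IsIntegral A B] :
    Set.BijOn (Ideal.Quotient.mk (Ideal.map (algebraMap A B) I))
      {e : B | IsIdempotentElem e} {e | IsIdempotentElem e} := by
  refine ⟨?_, ?_, ?_⟩
  · intro e he
    exact he.map (Ideal.Quotient.mk _)
  · intro e he e' he' h
    apply idempotent_eq_of_sub_mem_jacobson e e' he he'
    apply map_le_jacobson_of_isIntegral I hI
    exact Ideal.Quotient.eq.mp h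
  · intro ε hε
    obtain ⟨b, rfl⟩ := Ideal.Quotient.mk_surjective ε
    have hb : b * b - b ∈ I.map (algebraMap A B) := by
      rw [← Ideal.Quotient.eq, map_mul]
      exact hε.eq
    obtain ⟨e, he, heb⟩ := exists_idempotent_integral I hI hF b hb
    exact ⟨e, he, Ideal.Quotient.eq.mpr heb⟩


/-- Nakayama for an idempotent of a finite algebra: if `e B ≡ A e` modulo `I B` then `e B = A e`. -/
lemma exists_smul_eq_of_idempotent (I : Ideal A) (hI : I ≤ Ideal.jacobson ⊥) {B : Type v}
    [CommRing B] [Algebra A B] [Module.Finite A B] (e : B) (he : IsIdempotentElem e)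
    (h : ∀ z : B, ∃ a : A, e * z - a • e ∈ I.map (algebraMap A B)) :
    ∀ z : B, ∃ a : A, e * z = a • e := by
  let N : Submodule A B := LinearMap.range (LinearMap.mulLeft A e)
  have hNfg : N.FG := by
    show (LinearMap.range (LinearMap.mulLeft A e)).FG
    rw [LinearMap.range_eq_map]
    exact (Module.Finite.fg_top).map _
  have hle : N ≤ Submodule.span A {e} ⊔ I • N := by
    rintro _ ⟨z, rfl⟩
    rw [LinearMap.mulLeft_apply]
    obtain ⟨a, ha⟩ := h z
    have hw : e * z - a • e ∈ I • (⊤ : Submodule A B) := by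
      rw [Ideal.smul_top_eq_map]; exact ha
    have hw' : e * (e * z - a • e) ∈ I • N := by
      have : I • N = Submodule.map (LinearMap.mulLeft A e) (I • ⊤) := by
        rw [Submodule.map_smul'', Submodule.map_top]
      rw [this]
      exact ⟨_, hw, rfl⟩
    have hee : e * (e * z - a • e) = e * z - a • e := by
      rw [mul_sub, ← mul_assoc, he.eq, mul_smul_comm, he.eq]
    rw [hee] at hw'
    have : e * z = a • e + (e * z - a • e) := by abel
    rw [this]
    exact Submodule.add_mem_sup (Submodule.smul_mem _ _ (Submodule.mem_span_singleton_self e)) hw'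
  have hN := Submodule.le_of_le_smul_of_le_jacobson_bot hNfg hI hle
  intro z
  have : e * z ∈ Submodule.span A {e} := hN ⟨z, rfl⟩
  obtain ⟨a, ha⟩ := Submodule.mem_span_singleton.mp this
  exact ⟨a, ha.symm⟩

/-- Injectivity on idempotents for finite algebras forces `I ≤ rad A`. -/
theorem le_jacobson_of_injOn (I : Ideal A)
    (h : ∀ (B : Type u) [CommRing B] [Algebra A B], Module.Finite A B →
      Set.InjOn (Ideal.Quotient.mk (Ideal.map (algebraMap A B) I)) {e : B | IsIdempotentElem e}) :
    I ≤ Ideal.jacobson ⊥ := by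
  rw [Ideal.jacobson, le_sInf_iff]
  rintro m ⟨-, hm⟩ i hi
  by_contra him
  obtain ⟨y, μ, hμ, hy⟩ := hm.exists_inv him
  set i' := y * i with hi'def
  have hi' : i' ∈ I := Ideal.mul_mem_left _ _ hi
  let B := A ⧸ (I ⊓ m)
  haveI : Module.Finite A B :=
    Module.Finite.of_surjective (Ideal.Quotient.mkₐ A (I ⊓ m)).toLinearMap
      (Ideal.Quotient.mkₐ_surjective A _)
  have hidem : IsIdempotentElem (Ideal.Quotient.mk (I ⊓ m) i') := by
    show _ * _ = _
    rw [← map_mul, Ideal.Quotient.eq]
    have : i' * i' - i' = -(i' * μ) := by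
      have : μ = 1 - i' := by rw [← hy]; ring
      rw [this]; ring
    rw [this]
    exact neg_mem ⟨Ideal.mul_mem_right _ _ hi', Ideal.mul_mem_left _ _ hμ⟩
  have h0 : Ideal.Quotient.mk (Ideal.map (algebraMap A B) I) (Ideal.Quotient.mk (I ⊓ m) i') =
      Ideal.Quotient.mk (Ideal.map (algebraMap A B) I) 0 := by
    rw [map_zero, Ideal.Quotient.eq_zero_iff_mem]
    exact Ideal.mem_map_of_mem (algebraMap A B) hi'
  have h1 := h B inferInstance hidem IsIdempotentElem.zero h0
  rw [Ideal.Quotient.eq_zero_iff_mem] at h1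
  have h2 : i' ∈ m := h1.2
  apply hm.ne_top
  rw [Ideal.eq_top_iff_one, ← hy]
  exact Ideal.add_mem _ h2 hμ


/-- **Bijectivity on idempotents for finite algebras implies Henselian.** -/
theorem henselianRing_of_bijOn_finite (I : Ideal A)
    (h : ∀ (B : Type u) [CommRing B] [Algebra A B], Module.Finite A B →
      Set.BijOn (Ideal.Quotient.mk (Ideal.map (algebraMap A B) I))
        {e : B | IsIdempotentElem e} {e | IsIdempotentElem e}) : HenselianRing A I := by
  have hI : I ≤ Ideal.jacobson ⊥ := le_jacobson_of_injOn I (fun B _ _ hB => (h B hB).injOn)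
  refine ⟨hI, ?_⟩
  intro f hf a₀ h₁ h₂
  haveI : Module.Finite A (AdjoinRoot f) := hf.finite_adjoinRoot
  set IB := I.map (algebraMap A (AdjoinRoot f)) with hIB
  have hmkC : ∀ a : A, AdjoinRoot.mk f (C a) = algebraMap A (AdjoinRoot f) a := fun a => rfl
  have hIBmem : ∀ i ∈ I, algebraMap A (AdjoinRoot f) i ∈ IB := fun i hi =>
    Ideal.mem_map_of_mem _ hi
  -- division
  set hq := f /ₘ (X - C a₀) with hhq
  have hdiv : f = (X - C a₀) * hq + C (f.eval a₀) := by
    have := Polynomial.modByMonic_add_div f (X - C a₀)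
    rw [Polynomial.modByMonic_X_sub_C_eq_C_eval] at this
    rw [← hhq] at this
    conv_lhs => rw [← this]
    ring
  set c := hq.eval a₀ with hc
  have hder : f.derivative.eval a₀ = c := by
    conv_lhs => rw [hdiv]
    simp [hc]
  obtain ⟨c', hc'⟩ := (isUnit_mk_iff_exists I _).mp h₂
  rw [hder] at hc'
  obtain ⟨h₁q, hh₁⟩ := Polynomial.X_sub_C_dvd_sub_C_eval (a := a₀) (p := hq)
  -- elements of B
  set t : AdjoinRoot f := AdjoinRoot.root f with ht
  set s : AdjoinRoot f := AdjoinRoot.mk f (X - C a₀) with hs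
  set H : AdjoinRoot f := AdjoinRoot.mk f hq with hH
  set H₁ : AdjoinRoot f := AdjoinRoot.mk f h₁q with hH₁
  have hst : s = t - algebraMap A (AdjoinRoot f) a₀ := by
    rw [hs, map_sub, AdjoinRoot.mk_X, hmkC]
  have hsH : s * H = - algebraMap A (AdjoinRoot f) (f.eval a₀) := by
    have h0 : AdjoinRoot.mk f f = 0 := AdjoinRoot.mk_self
    have h1 : AdjoinRoot.mk f f = s * H + algebraMap A (AdjoinRoot f) (f.eval a₀) := by
      refine (congrArg (AdjoinRoot.mk f) hdiv).trans ?_
      rw [map_add, map_mul, hmkC]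
    rw [h0] at h1
    exact eq_neg_of_add_eq_zero_left h1.symm
  have hsHmem : s * H ∈ IB := by
    rw [hsH]; exact neg_mem (hIBmem _ h₁)
  have hii : H = s * H₁ + algebraMap A (AdjoinRoot f) c := by
    have : hq = (X - C a₀) * h₁q + C c := by rw [← hh₁]; ring
    rw [hH]
    conv_lhs => rw [this]
    rw [map_add, map_mul, hmkC]
  set b : AdjoinRoot f := algebraMap A (AdjoinRoot f) c' * H with hb
  have hHH : H * H = (s * H) * H₁ + algebraMap A (AdjoinRoot f) c * H := by
    calc H * H = H * (s * H₁ + algebraMap A (AdjoinRoot f) c) := by rw [← hii]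
      _ = (s * H) * H₁ + algebraMap A (AdjoinRoot f) c * H := by ring
  have hbb : b * b - b ∈ IB := by
    have e1 : b * b - b = algebraMap A (AdjoinRoot f) c' * algebraMap A (AdjoinRoot f) c' * H₁ *
        (s * H) + algebraMap A (AdjoinRoot f) c' * H *
          algebraMap A (AdjoinRoot f) (c * c' - 1) := by
      rw [hb]
      have : algebraMap A (AdjoinRoot f) c' * H * (algebraMap A (AdjoinRoot f) c' * H) =
          algebraMap A (AdjoinRoot f) c' * algebraMap A (AdjoinRoot f) c' * (H * H) := by ring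
      rw [this, hHH]
      have h2 : algebraMap A (AdjoinRoot f) (c * c' - 1) =
          algebraMap A (AdjoinRoot f) c * algebraMap A (AdjoinRoot f) c' - 1 := by
        rw [map_sub, map_mul, map_one]
      rw [h2]
      ring
    rw [e1]
    exact Ideal.add_mem _ (Ideal.mul_mem_left _ _ hsHmem) (Ideal.mul_mem_left _ _ (hIBmem _ hc'))
  have hεidem : IsIdempotentElem (Ideal.Quotient.mk IB b) := by
    show _ * _ = _
    rw [← map_mul, Ideal.Quotient.eq]
    exact hbb
  obtain ⟨e, he, hmke⟩ := (h (AdjoinRoot f) inferInstance).surjOn hεidem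
  have he : IsIdempotentElem e := he
  have heb : e - b ∈ IB := Ideal.Quotient.eq.mp hmke
  have hes : e * s ∈ IB := by
    have : e * s = (e - b) * s + algebraMap A (AdjoinRoot f) c' * (s * H) := by rw [hb]; ring
    rw [this]
    exact Ideal.add_mem _ (Ideal.mul_mem_right _ _ heb) (Ideal.mul_mem_left _ _ hsHmem)
  have hcong : ∀ z : AdjoinRoot f, ∃ a : A, e * z - a • e ∈ IB := by
    intro z
    obtain ⟨p, rfl⟩ := AdjoinRoot.mk_surjective (g := f) z
    obtain ⟨q, hq'⟩ := Polynomial.X_sub_C_dvd_sub_C_eval (a := a₀) (p := p)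
    refine ⟨p.eval a₀, ?_⟩
    have hp : p = (X - C a₀) * q + C (p.eval a₀) := by rw [← hq']; ring
    have hmkp : AdjoinRoot.mk f p =
        s * AdjoinRoot.mk f q + algebraMap A (AdjoinRoot f) (p.eval a₀) := by
      refine (congrArg (AdjoinRoot.mk f) hp).trans ?_
      rw [map_add, map_mul, hmkC]
    have : e * AdjoinRoot.mk f p - p.eval a₀ • e = (e * s) * AdjoinRoot.mk f q := by
      rw [hmkp, Algebra.smul_def]
      ring
    rw [this]
    exact Ideal.mul_mem_right _ _ hes
  have hNak := exists_smul_eq_of_idempotent I hI e he hcong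
  obtain ⟨a, ha⟩ := hNak t
  -- the linear functional
  let lam : AdjoinRoot f →ₗ[A] A := (Polynomial.leval a₀).comp (AdjoinRoot.modByMonicHom hf)
  have hlam1 : ∀ p : A[X], lam (AdjoinRoot.mk f p) - p.eval a₀ ∈ I := by
    intro p
    have e1 : lam (AdjoinRoot.mk f p) = (p %ₘ f).eval a₀ := rfl
    have e2 := Polynomial.modByMonic_add_div p f
    have e3 : p.eval a₀ = (p %ₘ f).eval a₀ + f.eval a₀ * (p /ₘ f).eval a₀ := by
      conv_lhs => rw [← e2]
      rw [Polynomial.eval_add, Polynomial.eval_mul]
    rw [e1, e3]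
    have : (p %ₘ f).eval a₀ - ((p %ₘ f).eval a₀ + f.eval a₀ * (p /ₘ f).eval a₀) =
        -(f.eval a₀ * (p /ₘ f).eval a₀) := by ring
    rw [this]
    exact neg_mem (Ideal.mul_mem_right _ _ h₁)
  have hlam2 : ∀ z ∈ IB, lam z ∈ I := by
    intro z hz
    have hz' : z ∈ I • (⊤ : Submodule A (AdjoinRoot f)) := by
      rw [Ideal.smul_top_eq_map]; exact hz
    refine Submodule.smul_induction_on hz' ?_ ?_
    · intro i hi y _
      rw [map_smul, smul_eq_mul]
      exact Ideal.mul_mem_right _ _ hi
    · intro x y hx hy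
      rw [map_add]; exact Ideal.add_mem _ hx hy
  have hlam3 : lam e - 1 ∈ I := by
    have hb' : b = AdjoinRoot.mk f (C c' * hq) := by rw [hb, map_mul, hmkC]
    have e1 : lam e - 1 = lam (e - b) + (lam (AdjoinRoot.mk f (C c' * hq)) - (C c' * hq).eval a₀)
        + (c * c' - 1) := by
      rw [map_sub, hb', Polynomial.eval_mul, Polynomial.eval_C, ← hc]
      ring
    rw [e1]
    exact Ideal.add_mem _ (Ideal.add_mem _ (hlam2 _ heb) (hlam1 _)) hc'
  have hlamu : IsUnit (lam e) := by
    apply isUnit_of_isUnit_mk hI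
    have : Ideal.Quotient.mk I (lam e) = 1 := by
      rw [← map_one (Ideal.Quotient.mk I), Ideal.Quotient.eq]; exact hlam3
    rw [this]; exact isUnit_one
  -- the root
  have hroot0 : (t - algebraMap A (AdjoinRoot f) a) * e = 0 := by
    rw [sub_mul, mul_comm t e, ha, Algebra.smul_def, sub_self]
  have hfa := aeval_mul_eq_of_root a hroot0 f
  have haevalf : Polynomial.aeval t f = 0 := by
    rw [ht, AdjoinRoot.aeval_eq, AdjoinRoot.mk_self]
  rw [haevalf, zero_mul] at hfa
  have hfa' : f.eval a * lam e = 0 := by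
    have := congrArg lam hfa
    rw [map_zero, ← Algebra.smul_def, map_smul, smul_eq_mul] at this
    exact this.symm
  refine ⟨a, (hlamu.mul_left_eq_zero).mp hfa', ?_⟩
  have h5 : (a - a₀) • e ∈ IB := by
    have : (a - a₀) • e = e * s := by
      rw [sub_smul, ← ha, hst, Algebra.smul_def]; ring
    rw [this]; exact hes
  have h6 : (a - a₀) * lam e ∈ I := by
    have := hlam2 _ h5
    rwa [map_smul, smul_eq_mul] at this
  have : a - a₀ = (a - a₀) * lam e - (a - a₀) * (lam e - 1) := by ring
  rw [this]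
  exact Ideal.sub_mem _ h6 (Ideal.mul_mem_left _ _ hlam3)

end Groth.Agent.Lib.Helper26.HenselIdem
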