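import Groth.Agent.Lib.Helper26.HenselEtale
import Mathlib

/-!
# Equivalent characterizations of Henselian pairs

* `LiftsEtale I` : the étale lifting property.
* `liftsEtale_of_henselianRing`, `henselianRing_of_liftsEtale`.
* `henselianRing_of_gabber`.
-/

set_option autoImplicit false
universe u

namespace Groth.Agent.Lib.Helper26.HenselTFAE

open Polynomial Groth.Agent.Lib.Helper26.HenselBasic Groth.Agent.Lib.Helper3
  Groth.Agent.Lib.Helper26.HenselGabber Groth.Agent.Lib.Helper26.HenselEtale

variable {A : Type u} [CommRing A]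

/-- The étale lifting property of the pair `(A, I)`. -/
def LiftsEtale (I : Ideal A) : Prop :=
  ∀ (A' : Type u) [CommRing A'] [Algebra A A'] [Algebra.Etale A A']
    (σ : A' →ₐ[A] A ⧸ I), ∃ τ : A' →ₐ[A] A, (Ideal.Quotient.mkₐ A I).comp τ = σ

theorem liftsEtale_of_gabber (I : Ideal A) (hI : I ≤ Ideal.jacobson ⊥) (hG : Gabber I) :
    LiftsEtale I := by
  intro A' _ _ _ σ
  exact exists_lift_of_gabber hI hG σ

theorem liftsEtale_of_henselianRing (I : Ideal A) [H : HenselianRing A I] : LiftsEtale I :=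
  liftsEtale_of_gabber I H.jac (gabber_of_henselianRing I)

/-- The étale lifting property forces `I ≤ rad A`. -/
theorem le_jacobson_of_liftsEtale (I : Ideal A) (h : LiftsEtale I) : I ≤ Ideal.jacobson ⊥ := by
  intro x hx
  rw [Ideal.mem_jacobson_bot]
  intro y
  set u := x * y + 1 with hu
  have hmku : Ideal.Quotient.mk I u = 1 := by
    rw [hu, map_add, map_mul, Ideal.Quotient.eq_zero_iff_mem.mpr hx, zero_mul, zero_add, map_one]
  let σ : Localization.Away u →ₐ[A] A ⧸ I :=
    IsLocalization.Away.liftAlgHom (S := Localization.Away u) (f := Ideal.Quotient.mkₐ A I) u (by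
      show IsUnit (Ideal.Quotient.mk I u)
      rw [hmku]; exact isUnit_one)
  obtain ⟨τ, -⟩ := h (Localization.Away u) σ
  have h1 : IsUnit (algebraMap A (Localization.Away u) u) :=
    IsLocalization.Away.algebraMap_isUnit u
  have h2 := h1.map τ
  rwa [AlgHom.commutes] at h2

/-- The étale lifting property implies Henselian. -/
theorem henselianRing_of_liftsEtale (I : Ideal A) (h : LiftsEtale I) : HenselianRing A I := by
  refine ⟨le_jacobson_of_liftsEtale I h, ?_⟩
  intro f hf a₀ h₁ h₂
  let P : StandardEtalePair A :=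
    { f := f
      monic_f := hf
      g := derivative f
      cond := ⟨1, 0, 1, by simp⟩ }
  have hmap : P.HasMap (Ideal.Quotient.mk I a₀) := by
    constructor
    · show aeval (Ideal.Quotient.mk I a₀) f = 0
      rw [← Ideal.Quotient.algebraMap_eq, Polynomial.aeval_algebraMap_apply,
        Ideal.Quotient.algebraMap_eq, Polynomial.coe_aeval_eq_eval,
        Ideal.Quotient.eq_zero_iff_mem]
      exact h₁
    · show IsUnit (aeval (Ideal.Quotient.mk I a₀) (derivative f))
      rw [← Ideal.Quotient.algebraMap_eq, Polynomial.aeval_algebraMap_apply,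
        Ideal.Quotient.algebraMap_eq, Polynomial.coe_aeval_eq_eval]
      exact h₂
  obtain ⟨τ, hτ⟩ := h P.Ring (P.lift _ hmap)
  have hτX : Ideal.Quotient.mk I (τ P.X) = Ideal.Quotient.mk I a₀ := by
    have := DFunLike.congr_fun hτ P.X
    rw [StandardEtalePair.lift_X] at this
    exact this
  have hroot : P.HasMap (τ P.X) := P.hasMap_X.map τ
  refine ⟨τ P.X, ?_, Ideal.Quotient.eq.mp hτX⟩
  have := hroot.1
  rw [Polynomial.coe_aeval_eq_eval] at this
  exact this

theorem henselianRing_of_gabber (I : Ideal A) (hI : I ≤ Ideal.jacobson ⊥) (hG : Gabber I) :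
    HenselianRing A I :=
  henselianRing_of_liftsEtale I (liftsEtale_of_gabber I hI hG)


/-- Lifting of coprime monic factorizations. -/
def LiftsFactorizations (I : Ideal A) : Prop :=
  ∀ f : A[X], f.Monic → ∀ g₀ h₀ : (A ⧸ I)[X], g₀.Monic → h₀.Monic →
    IsCoprime g₀ h₀ → Polynomial.map (Ideal.Quotient.mk I) f = g₀ * h₀ →
    ∃ g h : A[X], g.Monic ∧ h.Monic ∧ f = g * h ∧
      Polynomial.map (Ideal.Quotient.mk I) g = g₀ ∧ Polynomial.map (Ideal.Quotient.mk I) h = h₀

open Polynomial.UniversalCoprimeFactorizationRing in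
/-- Étale lifting implies lifting of factorizations (via the universal coprime factorization
ring). -/
theorem liftsFactorizations_of_liftsEtale (I : Ideal A) (h : LiftsEtale I) :
    LiftsFactorizations I := by
  intro f hf g₀ h₀ hg₀ hh₀ hcop hfac
  rcases subsingleton_or_nontrivial (A ⧸ I) with hs | hnt
  · -- then `A` is trivial
    have h1 : (1 : A) ∈ I := by
      rw [← Ideal.Quotient.eq_zero_iff_mem]; exact Subsingleton.elim _ _
    have h2 := (Ideal.mem_jacobson_bot.mp (le_jacobson_of_liftsEtale I h h1)) (-1)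
    have h3 : (1 : A) * -1 + 1 = 0 := by ring
    rw [h3] at h2
    haveI : Subsingleton A := subsingleton_of_zero_eq_one (by
      obtain ⟨u, hu⟩ := h2
      have := u.mul_inv
      rw [hu, zero_mul] at this
      exact this)
    exact ⟨1, 1, monic_one, monic_one, Subsingleton.elim _ _, Subsingleton.elim _ _,
      Subsingleton.elim _ _⟩
  set m := g₀.natDegree with hm
  set k := h₀.natDegree with hk
  set n := f.natDegree with hn'
  have hn : n = m + k := by
    have e1 := congrArg Polynomial.natDegree hfac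
    rw [hf.natDegree_map, hg₀.natDegree_mul hh₀] at e1
    exact e1
  let p : Polynomial.MonicDegreeEq A n := .mk f hf rfl
  let q₀ : Polynomial.MonicDegreeEq (A ⧸ I) m × Polynomial.MonicDegreeEq (A ⧸ I) k :=
    (.mk g₀ hg₀ rfl, .mk h₀ hh₀ rfl)
  let σ : Polynomial.UniversalCoprimeFactorizationRing m k hn p →ₐ[A] A ⧸ I :=
    (homEquiv (A ⧸ I) m k hn p).symm ⟨q₀, hfac.symm, hcop⟩
  obtain ⟨τ, hτ⟩ := h _ σ
  let q := homEquiv A m k hn p τ
  refine ⟨q.1.1.1, q.1.2.1, q.1.1.monic, q.1.2.monic, ?_, ?_, ?_⟩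
  · have := q.2.1
    rw [this]
    show f = Polynomial.map (algebraMap A A) f
    rw [Algebra.algebraMap_self, Polynomial.map_id]
  · have e1 := homEquiv_comp_fst A m k hn p τ (Ideal.Quotient.mkₐ A I)
    rw [hτ] at e1
    have e2 : (homEquiv (A ⧸ I) m k hn p σ).1.1 = q₀.1 := by
      show (homEquiv (A ⧸ I) m k hn p ((homEquiv (A ⧸ I) m k hn p).symm _)).1.1 = _
      rw [Equiv.apply_symm_apply]
    rw [e2] at e1
    have e3 := congrArg Subtype.val e1
    exact e3.symm
  · have e1 := homEquiv_comp_snd A m k hn p τ (Ideal.Quotient.mkₐ A I)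
    rw [hτ] at e1
    have e2 : (homEquiv (A ⧸ I) m k hn p σ).1.2 = q₀.2 := by
      show (homEquiv (A ⧸ I) m k hn p ((homEquiv (A ⧸ I) m k hn p).symm _)).1.2 = _
      rw [Equiv.apply_symm_apply]
    rw [e2] at e1
    have e3 := congrArg Subtype.val e1
    exact e3.symm

/-- Factorization lifting (with `I ≤ rad A`) implies Henselian. -/
theorem henselianRing_of_liftsFactorizations (I : Ideal A) (hI : I ≤ Ideal.jacobson ⊥)
    (h : LiftsFactorizations I) : HenselianRing A I := by
  refine ⟨hI, ?_⟩
  intro f hf a₀ h₁ h₂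
  rcases subsingleton_or_nontrivial A with hs | hnt
  · exact ⟨a₀, Subsingleton.elim _ _, by rw [sub_self]; exact zero_mem _⟩
  haveI : Nontrivial (A ⧸ I) := by
    apply Ideal.Quotient.nontrivial_iff.mpr
    intro htop
    have : (1 : A) ∈ Ideal.jacobson (⊥ : Ideal A) := hI (by rw [htop]; trivial)
    have h2 := (Ideal.mem_jacobson_bot.mp this) (-1)
    have h3 : (1 : A) * -1 + 1 = 0 := by ring
    rw [h3] at h2
    exact not_isUnit_zero h2
  set fb := f.map (Ideal.Quotient.mk I) with hfb
  set ab := Ideal.Quotient.mk I a₀ with hab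
  have hroot : fb.IsRoot ab := by
    show fb.eval ab = 0
    rw [hfb, hab, Polynomial.eval_map_apply, Ideal.Quotient.eq_zero_iff_mem]
    exact h₁
  set h₀ := fb /ₘ (X - C ab) with hh₀
  have hfac : (X - C ab) * h₀ = fb := Polynomial.mul_divByMonic_eq_iff_isRoot.mpr hroot
  have hfbm : fb.Monic := hf.map _
  have hh₀m : h₀.Monic := by
    apply (Polynomial.monic_X_sub_C ab).of_mul_monic_left
    rw [hfac]; exact hfbm
  have hder : h₀.eval ab = fb.derivative.eval ab := by
    rw [← hfac, Polynomial.derivative_mul]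
    simp
  have hunit : IsUnit (h₀.eval ab) := by
    rw [hder, hfb, Polynomial.derivative_map, hab, Polynomial.eval_map_apply]
    exact h₂
  have hcop : IsCoprime (X - C ab) h₀ := by
    obtain ⟨q, hq⟩ := Polynomial.X_sub_C_dvd_sub_C_eval (a := ab) (p := h₀)
    obtain ⟨u, hu⟩ := hunit.exists_left_inv
    refine ⟨-(C u * q), C u, ?_⟩
    have : C u * h₀ = C u * (h₀ - C (h₀.eval ab)) + C (u * h₀.eval ab) := by
      rw [C_mul]; ring
    rw [this, hq, hu]
    simp; ring
  obtain ⟨g, hh, hgm, hhm, hfgh, hgmap, hhmap⟩ :=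
    h f hf (X - C ab) h₀ (Polynomial.monic_X_sub_C ab) hh₀m hcop hfac.symm
  have hgdeg : g.natDegree = 1 := by
    rw [← hgm.natDegree_map (Ideal.Quotient.mk I), hgmap, Polynomial.natDegree_X_sub_C]
  have hg : g = X + C (g.coeff 0) := hgm.eq_X_add_C hgdeg
  refine ⟨-g.coeff 0, ?_, ?_⟩
  · show f.eval (-g.coeff 0) = 0
    rw [hfgh, Polynomial.eval_mul]
    have : g.eval (-g.coeff 0) = 0 := by
      conv_lhs => rw [hg]
      simp
    rw [this, zero_mul]
  · rw [← Ideal.Quotient.eq, map_neg]
    have := congrArg (fun P => Polynomial.coeff P 0) hgmap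
    simp only [Polynomial.coeff_map, Polynomial.coeff_sub, Polynomial.coeff_X_zero,
      Polynomial.coeff_C_zero, zero_sub] at this
    rw [this, neg_neg]

end Groth.Agent.Lib.Helper26.HenselTFAE
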