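import Mathlib
import Groth.Agent.Lib.Helper8.MvHensel
import Groth.Agent.Lib.Helper26.HenselTFAE

/-!
# Lifting sections of smooth algebras along Henselian pairs

* `taylor_mem` : first order Taylor expansion of a multivariate polynomial modulo `K ^ 2`.
* `exists_lift_pair` : multivariate Hensel lemma for a Henselian pair `(A, I)`.
* `exists_lift_of_smooth` : if `(A, I)` is a Henselian pair and `B` is a smooth `A`-algebra,
  every `A`-algebra map `B → A ⧸ I` lifts to an `A`-algebra map `B → A`.
-/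

set_option autoImplicit false

open MvPolynomial

universe u

namespace Groth.Agent.Lib.Helper26.SmoothLift

open Groth.Agent.Lib.Helper8.MvHensel Groth.Agent.Lib.Helper26.HenselTFAE

variable {A : Type u} [CommRing A] {n : ℕ}

/-- First-order Taylor expansion modulo the square of an ideal containing the increments. -/
theorem taylor_mem (K : Ideal (MvPolynomial (Fin n) A)) (h : Fin n → MvPolynomial (Fin n) A)
    (hK : ∀ i, h i ∈ K) (f : MvPolynomial (Fin n) A) :
    aeval (fun i => X i + h i) f - f - ∑ i, pderiv i f * h i ∈ K ^ 2 := by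
  classical
  induction f using MvPolynomial.induction_on with
  | C a => simp
  | add p q hp hq =>
    have : aeval (fun i => X i + h i) (p + q) - (p + q) - ∑ i, pderiv i (p + q) * h i
        = (aeval (fun i => X i + h i) p - p - ∑ i, pderiv i p * h i)
        + (aeval (fun i => X i + h i) q - q - ∑ i, pderiv i q * h i) := by
      simp only [map_add, add_mul, Finset.sum_add_distrib]; ring
    rw [this]; exact Ideal.add_mem _ hp hq
  | mul_X p j hp =>
    have hL : ∑ i, pderiv i p * h i ∈ K :=
      Ideal.sum_mem _ (fun i _ => Ideal.mul_mem_left _ _ (hK i))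
    have hsum : ∑ i, pderiv i (p * X j) * h i = (∑ i, pderiv i p * h i) * X j + p * h j := by
      have h1 : ∀ i, pderiv i (p * X j) * h i
          = pderiv i p * h i * X j + p * (if i = j then h i else 0) := by
        intro i
        rw [pderiv_mul, pderiv_X, Pi.single_apply]
        by_cases hij : j = i
        · subst hij; simp; ring
        · have hij' : ¬ i = j := fun e => hij e.symm
          simp [hij, hij']; ring
      simp_rw [h1, Finset.sum_add_distrib, ← Finset.sum_mul, ← Finset.mul_sum]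
      simp
    have : aeval (fun i => X i + h i) (p * X j) - p * X j - ∑ i, pderiv i (p * X j) * h i
        = (aeval (fun i => X i + h i) p - p - ∑ i, pderiv i p * h i) * (X j + h j)
          + (∑ i, pderiv i p * h i) * h j := by
      rw [hsum, map_mul, aeval_X]; ring
    rw [this]
    refine Ideal.add_mem _ (Ideal.mul_mem_right _ _ hp) ?_
    rw [pow_two]; exact Ideal.mul_mem_mul hL (hK j)

theorem pderiv_mem_of_mem_sq (J : Ideal (MvPolynomial (Fin n) A)) (l : Fin n)
    {g : MvPolynomial (Fin n) A} (hg : g ∈ J ^ 2) : pderiv l g ∈ J := by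
  rw [pow_two] at hg
  refine Submodule.mul_induction_on hg ?_ ?_
  · intro a ha b hb
    rw [pderiv_mul]
    exact Ideal.add_mem _ (Ideal.mul_mem_left _ _ hb) (Ideal.mul_mem_right _ _ ha)
  · intro a b ha hb
    rw [map_add]; exact Ideal.add_mem _ ha hb

/-- Multivariate Hensel's lemma for a Henselian pair. -/
theorem exists_lift_pair (I : Ideal A) [HenselianRing A I]
    (Q : Fin n → MvPolynomial (Fin n) A) (a₀ : Fin n → A)
    (h₀ : ∀ i, MvPolynomial.eval a₀ (Q i) ∈ I)
    (hJ : IsUnit (Matrix.of (fun i j => MvPolynomial.eval a₀ (MvPolynomial.pderiv j (Q i)))).det) :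
    ∃ a : Fin n → A, (∀ i, MvPolynomial.eval a (Q i) = 0) ∧ ∀ j, a j - a₀ j ∈ I := by
  classical
  let φ₀ : MvPolynomial (Fin n) A →ₐ[A] A ⧸ I :=
    MvPolynomial.aeval (fun j => Ideal.Quotient.mk I (a₀ j))
  have hφ₀ : ∀ p, φ₀ p = Ideal.Quotient.mk I (MvPolynomial.eval a₀ p) := by
    intro p
    exact MvPolynomial.aeval_algebraMap_apply (A := A) (B := A ⧸ I) a₀ p
  have hker : ∀ p ∈ Ideal.span (Set.range Q), φ₀ p = 0 := by
    intro p hp
    have : Ideal.span (Set.range Q) ≤ RingHom.ker φ₀.toRingHom := by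
      rw [Ideal.span_le]
      rintro _ ⟨i, rfl⟩
      show φ₀ (Q i) = 0
      rw [hφ₀]
      exact Ideal.Quotient.eq_zero_iff_mem.mpr (h₀ i)
    exact this hp
  let φ₁ : Quot Q →ₐ[A] A ⧸ I := Ideal.Quotient.liftₐ _ φ₀ hker
  have hφ₁ : ∀ p, φ₁ (Ideal.Quotient.mk _ p) = φ₀ p := fun p => rfl
  have hjac : φ₁ (jacQ Q) = Ideal.Quotient.mk I
      (Matrix.of (fun i j => MvPolynomial.eval a₀ (MvPolynomial.pderiv j (Q i)))).det := by
    rw [jacQ, hφ₁, hφ₀, jac, RingHom.map_det]
    rfl
  have hunit : ∀ y : Submonoid.powers (jacQ Q), IsUnit (φ₁ y) := by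
    rintro ⟨_, m, rfl⟩
    rw [map_pow, hjac]
    exact (hJ.map (Ideal.Quotient.mk I)).pow m
  let χ : Localization.Away (jacQ Q) →ₐ[A] A ⧸ I :=
    IsLocalization.liftAlgHom (M := Submonoid.powers (jacQ Q)) (f := φ₁) hunit
  have hχ : ∀ c : Quot Q, χ (algebraMap _ (Localization.Away (jacQ Q)) c) = φ₁ c := fun c => by
    simp [χ, IsLocalization.lift_eq]
  obtain ⟨τ, hτ⟩ := liftsEtale_of_henselianRing I (Localization.Away (jacQ Q)) χ
  let σ' : MvPolynomial (Fin n) A →ₐ[A] A :=
    τ.comp ((IsScalarTower.toAlgHom A (Quot Q) (Localization.Away (jacQ Q))).comp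
        (Ideal.Quotient.mkₐ A (Ideal.span (Set.range Q))))
  have hσ : ∀ p, Ideal.Quotient.mk I (σ' p) = φ₀ p := by
    intro p
    have := AlgHom.congr_fun hτ
      (algebraMap (Quot Q) (Localization.Away (jacQ Q)) (Ideal.Quotient.mk _ p))
    rw [hχ, hφ₁] at this
    exact this
  have hσeval : ∀ p, σ' p = MvPolynomial.eval (fun j => σ' (MvPolynomial.X j)) p := by
    intro p
    have : σ' = MvPolynomial.aeval (fun j => σ' (MvPolynomial.X j)) := by
      apply MvPolynomial.algHom_ext
      intro j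
      simp
    conv_lhs => rw [this]
    rfl
  refine ⟨fun j => σ' (MvPolynomial.X j), fun i => ?_, fun j => ?_⟩
  · rw [← hσeval]
    have : Ideal.Quotient.mkₐ A (Ideal.span (Set.range Q)) (Q i) = 0 :=
      Ideal.Quotient.eq_zero_iff_mem.mpr (Ideal.subset_span ⟨i, rfl⟩)
    simp only [σ', AlgHom.comp_apply]
    rw [this, map_zero, map_zero]
  · rw [← Ideal.Quotient.eq, hσ]
    simp [φ₀]

/-- Sections of smooth algebras over `V(I)` lift along a Henselian pair `(A, I)`. -/
theorem exists_lift_of_smooth (I : Ideal A) [HenselianRing A I]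
    (B : Type u) [CommRing B] [Algebra A B] [Algebra.Smooth A B] (σ : B →ₐ[A] A ⧸ I) :
    ∃ τ : B →ₐ[A] A, (Ideal.Quotient.mkₐ A I).comp τ = σ := by
  classical
  obtain ⟨n, φ, hφs, hφk⟩ := (Algebra.FinitePresentation.out :
    ∃ (n : ℕ) (f : MvPolynomial (Fin n) A →ₐ[A] B), Function.Surjective f ∧
      (RingHom.ker f.toRingHom).FG)
  set J : Ideal (MvPolynomial (Fin n) A) := RingHom.ker φ.toRingHom with hJdef
  obtain ⟨s, hs⟩ : ∃ s : B →ₐ[A] MvPolynomial (Fin n) A ⧸ J ^ 2,
      φ.kerSquareLift.comp s = AlgHom.id A B :=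
    (Algebra.FormallySmooth.iff_split_surjection φ hφs).mp inferInstance
  have hJz : ∀ f, f ∈ J → φ f = 0 := fun f hf => hf
  choose p hp using fun i => Ideal.Quotient.mk_surjective (s (φ (X i)))
  have hφp : ∀ i, φ (p i) = φ (X i) := by
    intro i
    have h1 := AlgHom.congr_fun hs (φ (X i))
    rw [AlgHom.comp_apply, ← hp i] at h1
    exact (AlgHom.kerSquareLift_mk φ (p i)).symm.trans h1
  let h : Fin n → MvPolynomial (Fin n) A := fun i => p i - X i
  have hh : ∀ i, h i ∈ J := by
    intro i
    refine RingHom.mem_ker.mpr ?_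
    show φ (p i - X i) = 0
    rw [map_sub, hφp, sub_self]
  have hψ : ∀ f, Ideal.Quotient.mk (J ^ 2) (aeval p f) = s (φ f) := by
    intro f
    have : (Ideal.Quotient.mkₐ A (J ^ 2)).comp (aeval p) = s.comp φ := by
      apply MvPolynomial.algHom_ext
      intro i
      simp only [AlgHom.comp_apply, aeval_X, Ideal.Quotient.mkₐ_eq_mk]
      exact hp i
    exact AlgHom.congr_fun this f
  have hψJ : ∀ f ∈ J, aeval p f ∈ J ^ 2 := by
    intro f hf
    rw [← Ideal.Quotient.eq_zero_iff_mem, hψ, hJz f hf, map_zero]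
  have hP1 : ∀ f ∈ J, f + ∑ i, pderiv i f * h i ∈ J ^ 2 := by
    intro f hf
    have h1 := taylor_mem J h hh f
    have h2 := hψJ f hf
    have hpe : (fun i => X i + h i) = p := by funext i; simp [h]
    rw [hpe] at h1
    have : f + ∑ i, pderiv i f * h i
        = aeval p f - (aeval p f - f - ∑ i, pderiv i f * h i) := by ring
    rw [this]; exact Ideal.sub_mem _ h2 h1
  have hP2 : ∀ f ∈ J, ∀ l, pderiv l f + ∑ i, pderiv i f * pderiv l (h i) ∈ J := by
    intro f hf l
    have h1 := pderiv_mem_of_mem_sq J l (hP1 f hf)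
    have h2 : pderiv l (f + ∑ i, pderiv i f * h i)
        = (pderiv l f + ∑ i, pderiv i f * pderiv l (h i))
          + ∑ i, pderiv l (pderiv i f) * h i := by
      rw [map_add, map_sum]
      simp only [pderiv_mul, Finset.sum_add_distrib]
      ring
    rw [h2] at h1
    have h3 : ∑ i, pderiv l (pderiv i f) * h i ∈ J :=
      Ideal.sum_mem _ (fun i _ => Ideal.mul_mem_left _ _ (hh i))
    exact (Ideal.add_mem_iff_left _ h3).mp h1
  choose a₀ ha₀ using fun i => Ideal.Quotient.mk_surjective (σ (φ (X i)))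
  have hev : ∀ y : Fin n → A, (∀ i, Ideal.Quotient.mk I (y i) = σ (φ (X i))) →
      ∀ f, Ideal.Quotient.mk I (eval y f) = σ (φ f) := by
    intro y hy f
    have : (Ideal.Quotient.mkₐ A I).comp (aeval y) = σ.comp φ := by
      apply MvPolynomial.algHom_ext
      intro i
      simp only [AlgHom.comp_apply, aeval_X, Ideal.Quotient.mkₐ_eq_mk]
      exact hy i
    exact AlgHom.congr_fun this f
  have hJI : ∀ y : Fin n → A, (∀ i, Ideal.Quotient.mk I (y i) = σ (φ (X i))) →
      ∀ f ∈ J, eval y f ∈ I := by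
    intro y hy f hf
    rw [← Ideal.Quotient.eq_zero_iff_mem, hev y hy f, hJz f hf, map_zero]
  let Ψ : Fin n → MvPolynomial (Fin n) A := fun i =>
    - h i + (X i - C (a₀ i)) + ∑ l, pderiv l (h i) * (X l - C (a₀ l))
  have h0 : ∀ l, eval a₀ (X l - C (a₀ l) : MvPolynomial (Fin n) A) = 0 := by
    intro l; simp
  have hX : ∀ j l, eval a₀ (pderiv j (X l - C (a₀ l) : MvPolynomial (Fin n) A))
      = if l = j then 1 else 0 := by
    intro j l
    rw [map_sub, pderiv_C, sub_zero, pderiv_X, Pi.single_apply]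
    split_ifs <;> simp
  have hΨ0 : ∀ i, eval a₀ (Ψ i) ∈ I := by
    intro i
    have : eval a₀ (Ψ i) = - eval a₀ (h i) := by
      simp only [Ψ, map_add, map_neg, map_sum, map_mul, h0, mul_zero, Finset.sum_const_zero,
        add_zero]
    rw [this]; exact I.neg_mem (hJI a₀ ha₀ _ (hh i))
  have hJac : ∀ i j, eval a₀ (pderiv j (Ψ i)) = if i = j then 1 else 0 := by
    intro i j
    have e1 : pderiv j (Ψ i) = - pderiv j (h i) + pderiv j (X i - C (a₀ i))
        + ∑ l, (pderiv j (pderiv l (h i)) * (X l - C (a₀ l))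
            + pderiv l (h i) * pderiv j (X l - C (a₀ l))) := by
      simp only [Ψ, map_add, map_neg, map_sum, pderiv_mul]
    rw [e1]
    simp only [map_add, map_neg, map_sum, map_mul, h0, hX, mul_zero, zero_add, mul_ite, mul_one,
      Finset.sum_ite_eq', Finset.mem_univ, if_true]
    ring
  have hM : (Matrix.of (fun i j => eval a₀ (pderiv j (Ψ i))))
      = (1 : Matrix (Fin n) (Fin n) A) := by
    ext i j
    rw [Matrix.of_apply, hJac, Matrix.one_apply]
  obtain ⟨x, hx0, hxI⟩ := exists_lift_pair I Ψ a₀ hΨ0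
    (by rw [hM, Matrix.det_one]; exact isUnit_one)
  let v : Fin n → A := fun l => x l - a₀ l
  have hxσ : ∀ i, Ideal.Quotient.mk I (x i) = σ (φ (X i)) := by
    intro i; rw [← ha₀ i]; exact Ideal.Quotient.eq.mpr (hxI i)
  have hstar : ∀ i, eval x (h i) = v i + ∑ l, eval x (pderiv l (h i)) * v l := by
    intro i
    have := hx0 i
    simp only [Ψ, map_add, map_neg, map_sum, map_mul, map_sub, eval_X, eval_C] at this
    show eval x (h i) = (x i - a₀ i) + ∑ l, eval x (pderiv l (h i)) * (x l - a₀ l)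
    linear_combination (-1 : A) * this
  set F : Ideal A := J.map (eval x) with hF
  have hFI : F ≤ I := by
    rw [hF, Ideal.map_le_iff_le_comap]
    intro f hf
    exact hJI x hxσ f hf
  have hFG : F.FG := hφk.map _
  have hmain : ∀ f ∈ J, eval x f ∈ I * F := by
    intro f hf
    have hg1m : eval x (f + ∑ i, pderiv i f * h i) ∈ I * F := by
      have : eval x (f + ∑ i, pderiv i f * h i) ∈ F ^ 2 := by
        rw [hF, ← Ideal.map_pow]; exact Ideal.mem_map_of_mem _ (hP1 f hf)
      rw [pow_two] at this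
      exact Ideal.mul_mono_left hFI this
    have hg2m : ∀ l, v l * eval x (pderiv l f + ∑ i, pderiv i f * pderiv l (h i)) ∈ I * F := by
      intro l
      exact Ideal.mul_mem_mul (hxI l) (Ideal.mem_map_of_mem _ (hP2 f hf l))
    have k1 : eval x (f + ∑ i, pderiv i f * h i) = eval x f
        + ∑ i, eval x (pderiv i f) * (v i + ∑ l, eval x (pderiv l (h i)) * v l) := by
      simp only [map_add, map_sum, map_mul, hstar]
    have k2 : ∀ l, eval x (pderiv l f + ∑ i, pderiv i f * pderiv l (h i))
        = eval x (pderiv l f) + ∑ i, eval x (pderiv i f) * eval x (pderiv l (h i)) := by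
      intro l; simp only [map_add, map_sum, map_mul]
    have e1 : ∑ i, eval x (pderiv i f) * (v i + ∑ l, eval x (pderiv l (h i)) * v l)
        = ∑ l, v l * (eval x (pderiv l f)
            + ∑ i, eval x (pderiv i f) * eval x (pderiv l (h i))) := by
      simp only [mul_add, Finset.mul_sum, Finset.sum_add_distrib]
      congr 1
      · exact Finset.sum_congr rfl (fun i _ => mul_comm _ _)
      · rw [Finset.sum_comm]
        exact Finset.sum_congr rfl (fun l _ => Finset.sum_congr rfl (fun i _ => by ring))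
    have key : eval x f = eval x (f + ∑ i, pderiv i f * h i)
        - ∑ l, v l * eval x (pderiv l f + ∑ i, pderiv i f * pderiv l (h i)) := by
      rw [k1, e1]; simp only [k2]; ring
    rw [key]
    exact Ideal.sub_mem _ hg1m (Ideal.sum_mem _ (fun l _ => hg2m l))
  have hle : F ≤ I * F := by
    have : J ≤ (I * F).comap (eval x) := fun f hf => hmain f hf
    exact Ideal.map_le_iff_le_comap.mpr this
  have hbot : F = ⊥ :=
    Submodule.eq_bot_of_le_smul_of_le_jacobson_bot I F hFG hle HenselianRing.jac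
  have hker : RingHom.ker φ.toRingHom
      ≤ RingHom.ker (aeval x : MvPolynomial (Fin n) A →ₐ[A] A).toRingHom := by
    intro f hf
    rw [RingHom.mem_ker]
    have : eval x f ∈ F := Ideal.mem_map_of_mem _ hf
    rw [hbot] at this
    exact Ideal.mem_bot.mp this
  refine ⟨AlgHom.liftOfSurjective φ hφs (aeval x) hker, ?_⟩
  apply AlgHom.ext
  intro b
  obtain ⟨f, rfl⟩ := hφs b
  rw [AlgHom.comp_apply, AlgHom.liftOfSurjective_apply]
  exact hev x hxσ f

end Groth.Agent.Lib.Helper26.SmoothLift
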