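import Groth.Agent.Lib.Helper26.HenselIdem
import Mathlib

/-!
# Lifting finitely generated projective modules along a Henselian pair
-/

set_option autoImplicit false
universe u

namespace Groth.Agent.Lib.Helper26.HenselProj

open Polynomial Groth.Agent.Lib.Helper26.HenselBasic Groth.Agent.Lib.Helper3
  Groth.Agent.Lib.Helper26.HenselTFAE Groth.Agent.Lib.Helper26.HenselIdem

variable {R : Type u} [CommRing R]

/-- Lifting an idempotent matrix. -/
theorem exists_idempotent_matrix (I : Ideal R) (hI : I ≤ Ideal.jacobson ⊥)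
    (hF : LiftsFactorizations I) (n : ℕ) (Ebar : Matrix (Fin n) (Fin n) (R ⧸ I))
    (hE : IsIdempotentElem Ebar) :
    ∃ e : Matrix (Fin n) (Fin n) R, IsIdempotentElem e ∧ e.map (Ideal.Quotient.mk I) = Ebar := by
  classical
  have hsurj : ∀ c : R ⧸ I, ∃ a : R, Ideal.Quotient.mk I a = c := Ideal.Quotient.mk_surjective
  choose lift hlift using hsurj
  let b : Matrix (Fin n) (Fin n) R := fun i j => lift (Ebar i j)
  have hbmap : b.map (Ideal.Quotient.mk I) = Ebar := by
    ext i j
    simp [b, hlift]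
  set x := b * b - b with hx
  have hxI : ∀ i j, x i j ∈ I := by
    intro i j
    rw [← Ideal.Quotient.eq_zero_iff_mem]
    have : x.map (Ideal.Quotient.mk I) = 0 := by
      have h1 : (Ideal.Quotient.mk I).mapMatrix b = Ebar := hbmap
      show (Ideal.Quotient.mk I).mapMatrix x = 0
      rw [hx, map_sub, map_mul, h1, hE.eq, sub_self]
    have := congrFun (congrFun this i) j
    simpa using this
  have hcoef : ∀ k < x.charpoly.natDegree, x.charpoly.coeff k ∈ I := by
    intro k hk
    rcases subsingleton_or_nontrivial R with hs | hnt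
    · rw [Subsingleton.elim (x.charpoly.coeff k) 0]; exact zero_mem _
    · have hle : x.charpoly.natDegree = Fintype.card (Fin n) := Matrix.charpoly_natDegree_eq_dim x
      exact Ideal.pow_le_self (by omega) (Matrix.coeff_charpoly_mem_ideal_pow hxI k)
  obtain ⟨w, hw, h0, h1⟩ := exists_idempotent_aeval I hI hF b x.charpoly
    (Matrix.charpoly_monic x) hcoef (Matrix.aeval_self_charpoly x)
  refine ⟨aeval b w, hw, ?_⟩
  let π : Matrix (Fin n) (Fin n) R →ₐ[R] Matrix (Fin n) (Fin n) (R ⧸ I) :=
    AlgHom.mapMatrix (Ideal.Quotient.mkₐ R I)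
  have hπb : π b = Ebar := hbmap
  have := map_aeval_eq I π (by
    intro i hi
    ext j k
    simp [Matrix.algebraMap_matrix_apply, Ideal.Quotient.eq_zero_iff_mem.mpr hi]) b
    (by rw [hπb]; exact hE) w h0 h1
  rw [hπb] at this
  exact this


/-- Lifting finitely generated projective modules. -/
theorem exists_projective_lift (I : Ideal R) (hI : I ≤ Ideal.jacobson ⊥)
    (hF : LiftsFactorizations I) (Q : Type u) [AddCommGroup Q] [Module (R ⧸ I) Q]
    [Module.Finite (R ⧸ I) Q] [Module.Projective (R ⧸ I) Q] :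
    ∃ (P : Type u) (_ : AddCommGroup P) (_ : Module R P), Module.Finite R P ∧
      Module.Projective R P ∧ Nonempty (TensorProduct R (R ⧸ I) P ≃ₗ[R ⧸ I] Q) := by
  classical
  obtain ⟨n, p₀, hp₀⟩ := Module.Finite.exists_fin' (R ⧸ I) Q
  obtain ⟨i₀, hi₀⟩ := Module.projective_lifting_property p₀ LinearMap.id hp₀
  have hpi : ∀ q, p₀ (i₀ q) = q := fun q => LinearMap.congr_fun hi₀ q
  let Elin : (Fin n → R ⧸ I) →ₗ[R ⧸ I] (Fin n → R ⧸ I) := i₀ ∘ₗ p₀
  let Ebar : Matrix (Fin n) (Fin n) (R ⧸ I) := LinearMap.toMatrix' Elin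
  have hEbar : ∀ v, Ebar.mulVec v = i₀ (p₀ v) := by
    intro v
    have := LinearMap.toMatrix'_mulVec Elin v
    exact this
  have hE : IsIdempotentElem Ebar := by
    show Ebar * Ebar = Ebar
    rw [← LinearMap.toMatrix'_mul]
    congr 1
    apply LinearMap.ext
    intro v
    show i₀ (p₀ (i₀ (p₀ v))) = i₀ (p₀ v)
    rw [hpi]
  obtain ⟨e, he, hemap⟩ := exists_idempotent_matrix I hI hF n Ebar hE
  let elin : (Fin n → R) →ₗ[R] (Fin n → R) := Matrix.toLin' e
  have helin : ∀ v, elin (elin v) = elin v := by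
    intro v
    show Matrix.toLin' e (Matrix.toLin' e v) = Matrix.toLin' e v
    rw [← LinearMap.comp_apply, ← Matrix.toLin'_mul, he.eq]
  let P : Submodule R (Fin n → R) := LinearMap.range elin
  have hPfix : ∀ x ∈ P, elin x = x := by
    rintro _ ⟨v, rfl⟩
    exact helin v
  letI : Module R Q := Module.compHom Q (Ideal.Quotient.mk I)
  haveI : IsScalarTower R (R ⧸ I) Q := ⟨fun r s q => by
    show (r • s) • q = (Ideal.Quotient.mk I r) • (s • q)
    rw [Algebra.smul_def, mul_smul]
    rfl⟩
  -- reduction map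
  let red : (Fin n → R) →ₗ[R] (Fin n → R ⧸ I) :=
    (Ideal.Quotient.mkₐ R I).toLinearMap.compLeft (Fin n)
  have hred : ∀ v j, red v j = Ideal.Quotient.mk I (v j) := fun v j => rfl
  have hred_e : ∀ v, red (elin v) = Ebar.mulVec (red v) := by
    intro v
    ext j
    rw [hred]
    show Ideal.Quotient.mk I ((e.mulVec v) j) = _
    rw [RingHom.map_mulVec, hemap]
    rfl
  have hred_surj : Function.Surjective red := by
    intro w
    have hs : ∀ c : R ⧸ I, ∃ a : R, Ideal.Quotient.mk I a = c := Ideal.Quotient.mk_surjective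
    choose lift hlift using hs
    exact ⟨fun j => lift (w j), funext fun j => hlift _⟩
  let α : P →ₗ[R] Q := (p₀.restrictScalars R) ∘ₗ red ∘ₗ P.subtype
  have hα : ∀ x : P, α x = p₀ (red (x : Fin n → R)) := fun x => rfl
  have hαsurj : Function.Surjective α := by
    intro q
    obtain ⟨v, hv⟩ := hred_surj (i₀ q)
    refine ⟨⟨elin v, v, rfl⟩, ?_⟩
    rw [hα]
    show p₀ (red (elin v)) = q
    rw [hred_e, hv, hEbar, hpi, hpi]
  have hker : LinearMap.ker α = I • (⊤ : Submodule R P) := by
    apply le_antisymm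
    · intro x hx
      rw [LinearMap.mem_ker, hα] at hx
      have hx1 : elin (x : Fin n → R) = x := hPfix _ x.2
      have hredx : red (x : Fin n → R) = 0 := by
        rw [← hx1, hred_e, hEbar, hx, map_zero]
      have hxI : ∀ j, (x : Fin n → R) j ∈ I := fun j => by
        rw [← Ideal.Quotient.eq_zero_iff_mem, ← hred, hredx]
        rfl
      have hsum : x = ∑ j, (x : Fin n → R) j •
          (⟨elin (fun k => if j = k then 1 else 0), _, rfl⟩ : P) := by
        apply Subtype.ext
        rw [Submodule.coe_sum]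
        simp only [Submodule.coe_smul]
        exact hx1.symm.trans (LinearMap.pi_apply_eq_sum_univ elin (x : Fin n → R))
      rw [hsum]
      exact Submodule.sum_mem _ (fun j _ => Submodule.smul_mem_smul (hxI j) trivial)
    · rw [Submodule.smul_le]
      intro i hi x _
      rw [LinearMap.mem_ker, map_smul]
      show (Ideal.Quotient.mk I i) • α x = 0
      rw [Ideal.Quotient.eq_zero_iff_mem.mpr hi, zero_smul]
  refine ⟨P, inferInstance, inferInstance, ?_, ?_, ?_⟩
  · exact Module.Finite.range elin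
  · apply Module.Projective.of_split P.subtype (elin.codRestrict P (fun v => ⟨v, rfl⟩))
    ext x : 1
    apply Subtype.ext
    show elin (x : Fin n → R) = x
    exact hPfix _ x.2
  · let e1 : (P ⧸ LinearMap.ker α) ≃ₗ[R] Q := α.quotKerEquivOfSurjective hαsurj
    let e2 : (P ⧸ (I • ⊤ : Submodule R P)) ≃ₗ[R] (P ⧸ LinearMap.ker α) :=
      Submodule.quotEquivOfEq _ _ hker.symm
    let e3 : TensorProduct R (R ⧸ I) P ≃ₗ[R] P ⧸ (I • ⊤ : Submodule R P) :=
      TensorProduct.quotTensorEquivQuotSMul P I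
    exact ⟨(e3 ≪≫ₗ e2 ≪≫ₗ e1).extendScalarsOfSurjective Ideal.Quotient.mk_surjective⟩

end Groth.Agent.Lib.Helper26.HenselProj
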