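import Groth.Agent.Lib.Helper26.PairHensNbhd
import Groth.Agent.S0526
import Mathlib

/-!
# Operations on Henselizations of pairs: transport, quotients, finite sets of elements (helper26)
-/

set_option autoImplicit false
universe u

namespace Groth.Agent.Lib.Helper26.PairHensOps

open Groth.Agent.Lib.Helper26.PairHensConstr Groth.Agent.Lib.Helper26.PairHensNbhd

section Transport

variable {S : Type u} [CommRing S] {K : Ideal S} {P : Type u} [CommRing P] [Algebra S P]

/-- Transport of a henselization along a ring isomorphism. -/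
theorem isPairHenselization_of_ringEquiv (hP : Hens2.IsPairHenselization S K P)
    {B : Type u} [CommRing B] [Algebra S B] (e : P ≃+* B)
    (he : ∀ s, e (algebraMap S P s) = algebraMap S B s) : Hens2.IsPairHenselization S K B := by
  have hcomp : (e : P →+* B).comp (algebraMap S P) = algebraMap S B := RingHom.ext he
  constructor
  · have hmap : K.map (algebraMap S B) = (K.map (algebraMap S P)).map (e : P →+* B) := by
      rw [Ideal.map_map, hcomp]
    rw [hmap]
    haveI := hP.1
    refine ⟨?_, ?_⟩
    · intro x hx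
      obtain ⟨y, hy, rfl⟩ := (Ideal.mem_map_iff_of_surjective (e : P →+* B) e.surjective).mp hx
      rw [Ideal.mem_jacobson_bot]
      intro z
      obtain ⟨w, rfl⟩ := e.surjective z
      have := (Ideal.mem_jacobson_bot.mp (HenselianRing.jac hy) w).map (e : P →+* B)
      simpa using this
    · intro f hf a₀ h₁ h₂
      let e' : B →+* P := (e.symm : B →+* P)
      have hinv : ∀ b, e (e' b) = b := fun b => e.apply_symm_apply b
      have hmem : ∀ b, b ∈ (K.map (algebraMap S P)).map (e : P →+* B) →
          e' b ∈ K.map (algebraMap S P) := by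
        intro b hb
        obtain ⟨y, hy, rfl⟩ := (Ideal.mem_map_iff_of_surjective (e : P →+* B) e.surjective).mp hb
        show e.symm (e y) ∈ _
        rw [e.symm_apply_apply]; exact hy
      have h1' : (f.map e').eval (e' a₀) ∈ K.map (algebraMap S P) := by
        rw [Polynomial.eval_map_apply]; exact hmem _ h₁
      have h2' : IsUnit (Ideal.Quotient.mk (K.map (algebraMap S P))
          ((f.map e').derivative.eval (e' a₀))) := by
        rw [Polynomial.derivative_map, Polynomial.eval_map_apply]
        have hle : (K.map (algebraMap S P)).map (e : P →+* B) ≤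
            (K.map (algebraMap S P)).comap e' := fun b hb => hmem b hb
        have := h₂.map (Ideal.quotientMap (K.map (algebraMap S P)) e' hle)
        rwa [Ideal.quotientMap_mk] at this
      obtain ⟨a, ha, haa⟩ := HenselianRing.is_henselian (f.map e') (hf.map e') (e' a₀) h1' h2'
      refine ⟨e a, ?_, ?_⟩
      · have h3 := ha.map (f := (e : P →+* B))
        rw [Polynomial.map_map] at h3
        have h4 : (e : P →+* B).comp e' = RingHom.id B := RingHom.ext hinv
        rw [h4, Polynomial.map_id] at h3
        exact h3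
      · have h5 : e a - a₀ = e (a - e' a₀) := by rw [map_sub, hinv]
        rw [h5]
        exact Ideal.mem_map_of_mem (e : P →+* B) haa
  · intro C _ J' f hC hf
    obtain ⟨g, hg, hgu⟩ := hP.2 C J' f hC hf
    refine ⟨g.comp (e.symm : B →+* P), ?_, fun g' hg' => ?_⟩
    · ext s
      simp only [RingHom.comp_apply, RingHom.coe_coe]
      rw [← he s, e.symm_apply_apply]
      exact RingHom.congr_fun hg s
    · have h1 : g'.comp (e : P →+* B) = g := hgu _ (by
        show (g'.comp (e : P →+* B)).comp (algebraMap S P) = f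
        rw [RingHom.comp_assoc, hcomp]; exact hg')
      ext b
      simp only [RingHom.comp_apply, RingHom.coe_coe]
      rw [← h1]
      simp

/-- Transport of a henselization along an isomorphism of the base. -/
theorem isPairHenselization_of_base_ringEquiv {S' R : Type u} [CommRing S'] [CommRing R]
    {K' : Ideal S'} {KR : Ideal R} {B : Type u} [CommRing B] [Algebra R B] [Algebra S' B]
    (e₀ : S' ≃+* R) (hK : K'.map (e₀ : S' →+* R) = KR)
    (halg : ∀ s, algebraMap S' B s = algebraMap R B (e₀ s))
    (hRB : Hens2.IsPairHenselization R KR B) : Hens2.IsPairHenselization S' K' B := by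
  have hcomp : algebraMap S' B = (algebraMap R B).comp (e₀ : S' →+* R) := RingHom.ext halg
  constructor
  · have : K'.map (algebraMap S' B) = KR.map (algebraMap R B) := by
      rw [hcomp, ← Ideal.map_map, hK]
    rw [this]; exact hRB.1
  · intro C _ J' f hC hf
    have hf' : KR.map (f.comp (e₀.symm : R →+* S')) ≤ J' := by
      rw [← hK, Ideal.map_map]
      have : (f.comp (e₀.symm : R →+* S')).comp (e₀ : S' →+* R) = f := by ext s; simp
      rw [this]; exact hf
    obtain ⟨g, hg, hgu⟩ := hRB.2 C J' (f.comp (e₀.symm : R →+* S')) hC hf'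
    refine ⟨g, ?_, fun g' hg' => hgu g' ?_⟩
    · show g.comp (algebraMap S' B) = f
      rw [hcomp, ← RingHom.comp_assoc, hg]; ext s; simp
    · show g'.comp (algebraMap R B) = f.comp _
      have hg'' : g'.comp (algebraMap S' B) = f := hg'
      rw [← hg'', hcomp]; ext r; simp

end Transport

section Quotient

variable {S : Type u} [CommRing S] {K : Ideal S} {P : Type u} [CommRing P] [Algebra S P]

theorem henselianRing_quotient_map (hP : HenselianRing P (K.map (algebraMap S P)))
    (𝔞 : Ideal S) :
    HenselianRing (P ⧸ 𝔞.map (algebraMap S P))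
      ((K.map (algebraMap S P)).map (Ideal.Quotient.mk (𝔞.map (algebraMap S P)))) := by
  haveI := hP
  haveI : Algebra.IsIntegral P (P ⧸ 𝔞.map (algebraMap S P)) :=
    Algebra.IsIntegral.of_surjective (Ideal.Quotient.mkₐ P _) (Ideal.Quotient.mkₐ_surjective P _)
  exact Groth.Agent.S0526.result P (K.map (algebraMap S P)) (P ⧸ 𝔞.map (algebraMap S P))

/-- The quotient of a henselization is a henselization of the quotient. -/
theorem isPairHenselization_quotient (hP : Hens2.IsPairHenselization S K P) (𝔞 : Ideal S) :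
    Hens2.IsPairHenselization (S ⧸ 𝔞) (K.map (Ideal.Quotient.mk 𝔞))
      (P ⧸ 𝔞.map (algebraMap S P)) := by
  have hcomp : (algebraMap (S ⧸ 𝔞) (P ⧸ 𝔞.map (algebraMap S P))).comp (Ideal.Quotient.mk 𝔞) =
      (Ideal.Quotient.mk (𝔞.map (algebraMap S P))).comp (algebraMap S P) := by
    ext s; rfl
  constructor
  · have : (K.map (Ideal.Quotient.mk 𝔞)).map (algebraMap (S ⧸ 𝔞) (P ⧸ 𝔞.map (algebraMap S P))) =
        (K.map (algebraMap S P)).map (Ideal.Quotient.mk (𝔞.map (algebraMap S P))) := by
      rw [Ideal.map_map, hcomp, ← Ideal.map_map]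
    rw [this]
    exact henselianRing_quotient_map hP.1 𝔞
  · intro C _ J' f hC hf
    have hf₀ : K.map (f.comp (Ideal.Quotient.mk 𝔞)) ≤ J' := by rw [← Ideal.map_map]; exact hf
    obtain ⟨g, hg, hgu⟩ := hP.2 C J' (f.comp (Ideal.Quotient.mk 𝔞)) hC hf₀
    have hker : ∀ x ∈ 𝔞.map (algebraMap S P), g x = 0 := by
      have : 𝔞.map (algebraMap S P) ≤ RingHom.ker g := by
        rw [Ideal.map_le_iff_le_comap]
        intro s hs
        rw [Ideal.mem_comap, RingHom.mem_ker]
        have := RingHom.congr_fun hg s
        simp only [RingHom.comp_apply] at this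
        rw [this, Ideal.Quotient.eq_zero_iff_mem.mpr hs, map_zero]
      exact fun x hx => this hx
    refine ⟨Ideal.Quotient.lift _ g hker, ?_, fun g' hg' => ?_⟩
    · apply Ideal.Quotient.ringHom_ext
      ext s
      have := RingHom.congr_fun hg s
      simp only [RingHom.comp_apply] at this ⊢
      show (Ideal.Quotient.lift _ g hker) (Ideal.Quotient.mk _ (algebraMap S P s)) = _
      rw [Ideal.Quotient.lift_mk]; exact this
    · have h1 : g'.comp (Ideal.Quotient.mk (𝔞.map (algebraMap S P))) = g := hgu _ (by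
        show (g'.comp (Ideal.Quotient.mk (𝔞.map (algebraMap S P)))).comp (algebraMap S P) = _
        rw [RingHom.comp_assoc, ← hcomp, ← RingHom.comp_assoc, hg'])
      apply Ideal.Quotient.ringHom_ext
      rw [h1]
      ext x
      simp

end Quotient

section Finset

variable {A : Type u} [CommRing A] {I : Ideal A}

/-- Finitely many elements of a henselization come from a common étale neighbourhood. -/
theorem exists_nbhd_of_finset {B : Type u} [CommRing B] [Algebra A B]
    (hB : Hens2.IsPairHenselization A I B) (s : Finset B) :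
    ∃ (A' : Type u) (_ : CommRing A') (_ : Algebra A A') (_ : Algebra.Etale A A'),
      QuotBij I A' ∧ ∃ φ : A' →ₐ[A] B, ∀ x ∈ s, ∃ y, φ y = x := by
  classical
  obtain ⟨e⟩ := nonempty_algEquiv_of_isPairHenselization isPairHenselization_PH hB
  obtain ⟨i, hi⟩ := exists_stage (s.image e.symm)
  choose! y hy using hi
  obtain ⟨b, hb⟩ := IsLocalization.exist_integer_multiples_of_finset (mset I i.σ)
    ((s.image e.symm).image y)
  obtain ⟨g, hg1, hg⟩ := exists_mul_mem I i.σ
  have hu : i.σ (g * b) = 1 := by rw [map_mul, hg1, (mem_mset I i.σ).mp b.2, one_mul]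
  set u := g * (b : i.E) with hu_def
  have hunit : IsUnit (algebraMap i.E i.L u) :=
    IsLocalization.map_units i.L (⟨u, hu⟩ : mset I i.σ)
  let ρ : Localization.Away u →ₐ[A] i.L :=
    IsLocalization.Away.liftAlgHom (f := IsScalarTower.toAlgHom A i.E i.L) u hunit
  have hρ : ∀ z, ρ (algebraMap i.E (Localization.Away u) z) = algebraMap i.E i.L z := by
    intro z; simp [ρ]
  have h3 : ρ (IsLocalization.Away.invSelf u) * algebraMap i.E i.L u = 1 := by
    have := congrArg ρ (IsLocalization.Away.mul_invSelf (S := Localization.Away u) u)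
    rw [map_mul, map_one, hρ, mul_comm] at this
    exact this
  have hmu : algebraMap i.E i.L u = algebraMap i.E i.L g * algebraMap i.E i.L b := by
    rw [← map_mul]
  refine ⟨Localization.Away u, inferInstance, inferInstance, inferInstance,
    quotBij_away i.σ g hg b hu, (e.toAlgHom.comp (ofL i)).comp ρ, fun x hx => ?_⟩
  have hx' : e.symm x ∈ s.image e.symm := Finset.mem_image_of_mem _ hx
  obtain ⟨e0, he0⟩ := hb (y (e.symm x)) (Finset.mem_image_of_mem _ hx')
  rw [Algebra.smul_def] at he0
  refine ⟨algebraMap i.E _ (e0 * g) * IsLocalization.Away.invSelf u, ?_⟩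
  have h1 : ρ (algebraMap i.E _ (e0 * g) * IsLocalization.Away.invSelf u) = y (e.symm x) := by
    rw [map_mul, hρ, map_mul, he0]
    calc algebraMap i.E i.L b * y (e.symm x) * algebraMap i.E i.L g *
          ρ (IsLocalization.Away.invSelf u)
        = y (e.symm x) * (ρ (IsLocalization.Away.invSelf u) * algebraMap i.E i.L u) := by
          rw [hmu]; ring
      _ = _ := by rw [h3, mul_one]
  show e (ofL i (ρ _)) = x
  rw [h1, hy _ hx', AlgEquiv.apply_symm_apply]

end Finset

section Filtered

variable {A : Type u} [CommRing A] {I : Ideal A}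

open TensorProduct Groth.Agent.Lib.Helper26.PairHens in
/-- The tensor product of two étale neighbourhoods is an étale neighbourhood. -/
theorem quotBij_tensorProduct {A₁ A₂ : Type u} [CommRing A₁] [CommRing A₂] [Algebra A A₁]
    [Algebra A A₂] (h₁ : QuotBij I A₁) (h₂ : QuotBij I A₂) : QuotBij I (A₁ ⊗[A] A₂) := by
  obtain ⟨σ₁, -⟩ := h₁.exists_sigma
  obtain ⟨σ₂, -⟩ := h₂.exists_sigma
  apply quotBij_of_sigma (Algebra.TensorProduct.productMap σ₁ σ₂)
  have hs₁ := ((quotBij_iff I A₁).mp h₁).1
  have hs₂ := ((quotBij_iff I A₂).mp h₂).1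
  have hl : ∀ a₁ : A₁, a₁ ⊗ₜ[A] (1 : A₂) ∈ subringAdd I (B := A₁ ⊗[A] A₂) := by
    intro a₁
    obtain ⟨a, ha⟩ := hs₁ a₁
    refine ⟨a, ?_⟩
    have := algHom_map_mem I (Algebra.TensorProduct.includeLeft : A₁ →ₐ[A] A₁ ⊗[A] A₂) ha
    rwa [map_sub, AlgHom.commutes] at this
  have hr : ∀ a₂ : A₂, (1 : A₁) ⊗ₜ[A] a₂ ∈ subringAdd I (B := A₁ ⊗[A] A₂) := by
    intro a₂
    obtain ⟨a, ha⟩ := hs₂ a₂
    refine ⟨a, ?_⟩
    have := algHom_map_mem I (Algebra.TensorProduct.includeRight : A₂ →ₐ[A] A₁ ⊗[A] A₂) ha
    rwa [map_sub, AlgHom.commutes] at this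
  intro x
  apply (mem_subringAdd I).mp
  induction x using TensorProduct.induction_on with
  | zero => exact (subringAdd I).zero_mem
  | tmul a₁ a₂ =>
    have : a₁ ⊗ₜ[A] a₂ = (a₁ ⊗ₜ[A] (1 : A₂)) * ((1 : A₁) ⊗ₜ[A] a₂) := by simp
    rw [this]
    exact (subringAdd I).mul_mem (hl a₁) (hr a₂)
  | add x y hx hy => exact (subringAdd I).add_mem hx hy

/-- Finitely many elements of an étale neighbourhood dying in the henselization die in a further
étale neighbourhood. -/
theorem exists_nbhd_of_finset_map_eq_zero {B : Type u} [CommRing B] [Algebra A B]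
    (hB : Hens2.IsPairHenselization A I B) {A' : Type u} [CommRing A'] [Algebra A A']
    [Algebra.Etale A A'] (hA' : QuotBij I A') (φ : A' →ₐ[A] B) (s : Finset A')
    (hs : ∀ x ∈ s, φ x = 0) :
    ∃ (A'' : Type u) (_ : CommRing A'') (_ : Algebra A A'') (_ : Algebra.Etale A A''),
      QuotBij I A'' ∧ ∃ ψ : A' →ₐ[A] A'', ∀ x ∈ s, ψ x = 0 := by
  classical
  induction s using Finset.induction_on with
  | empty => exact ⟨A', inferInstance, inferInstance, inferInstance, hA', AlgHom.id A A', by simp⟩
  | insert x₀ s _ ih =>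
    obtain ⟨A₃, _, _, _, h₃, ψ, hψ⟩ := ih (fun x hx => hs x (Finset.mem_insert_of_mem hx))
    haveI := hB.1
    obtain ⟨u₃⟩ := nonempty_unique_algHom_nbhd (B := B) h₃
    obtain ⟨u'⟩ := nonempty_unique_algHom_nbhd (B := B) hA'
    have hcomp : (u₃.default).comp ψ = φ := (u'.uniq _).trans (u'.uniq _).symm
    have h0 : u₃.default (ψ x₀) = 0 := by
      have := DFunLike.congr_fun hcomp x₀
      rw [AlgHom.comp_apply] at this
      rw [this]; exact hs x₀ (Finset.mem_insert_self _ _)
    obtain ⟨A₄, _, _, _, h₄, ψ', hψ'⟩ := exists_nbhd_of_map_eq_zero hB h₃ u₃.default (ψ x₀) h0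
    refine ⟨A₄, inferInstance, inferInstance, inferInstance, h₄, ψ'.comp ψ, fun x hx => ?_⟩
    rcases Finset.mem_insert.mp hx with rfl | hx
    · exact hψ'
    · rw [AlgHom.comp_apply, hψ x hx, map_zero]

end Filtered

end Groth.Agent.Lib.Helper26.PairHensOps
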