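import Mathlib
import Groth.Agent.Lib.Helper26.PairHensOps
import Groth.Agent.Lib.Helper26.HenselIdem

/-!
# Descending finite data from the henselization `PH A I` to étale neighbourhoods (helper26)
-/

set_option autoImplicit false
universe u v

namespace Groth.Agent.Lib.Helper26.NbhdDescent

open Polynomial Groth.Agent.Lib.Helper26.PairHensConstr Groth.Agent.Lib.Helper26.PairHensNbhd
  Groth.Agent.Lib.Helper26.PairHensOps Groth.Agent.Lib.Helper26.HenselTFAE
  Groth.Agent.Lib.Helper26.HenselIdem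

variable {A : Type u} [CommRing A] (I : Ideal A)

theorem exists_nbhd_finset (s : Finset (PH A I)) :
    ∃ (N : Type u) (_ : CommRing N) (_ : Algebra A N) (_ : Algebra.Etale A N), QuotBij I N ∧
      ∃ φ : N →ₐ[A] PH A I, ∀ x ∈ s, ∃ y, φ y = x :=
  exists_nbhd_of_finset isPairHenselization_PH s

theorem exists_nbhd_kill {N : Type u} [CommRing N] [Algebra A N] [Algebra.Etale A N]
    (hN : QuotBij I N) (φ : N →ₐ[A] PH A I) (t : Finset N) (ht : ∀ x ∈ t, φ x = 0) :
    ∃ (N' : Type u) (_ : CommRing N') (_ : Algebra A N') (_ : Algebra.Etale A N'), QuotBij I N' ∧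
      ∃ (ψ : N →ₐ[A] N') (φ' : N' →ₐ[A] PH A I), φ'.comp ψ = φ ∧ ∀ x ∈ t, ψ x = 0 := by
  obtain ⟨N', _, _, _, hN', ψ, hψ⟩ :=
    exists_nbhd_of_finset_map_eq_zero (isPairHenselization_PH (A := A) (I := I)) hN φ t ht
  obtain ⟨u'⟩ := nonempty_unique_algHom_nbhd (I := I) (B := PH A I) hN'
  obtain ⟨u⟩ := nonempty_unique_algHom_nbhd (I := I) (B := PH A I) hN
  exact ⟨N', inferInstance, inferInstance, inferInstance, hN', ψ, u'.default,
    (u.uniq _).trans (u.uniq _).symm, hψ⟩

theorem mem_map_of_map_mem {N : Type u} [CommRing N] [Algebra A N] (hN : QuotBij I N)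
    (φ : N →ₐ[A] PH A I) {y : N} (hy : φ y ∈ I.map (algebraMap A (PH A I))) :
    y ∈ I.map (algebraMap A N) := by
  obtain ⟨a, ha⟩ := ((quotBij_iff I N).mp hN).1 y
  have h1 : φ y - algebraMap A (PH A I) a ∈ I.map (algebraMap A (PH A I)) := by
    have := algHom_map_mem I φ ha
    rwa [map_sub, AlgHom.commutes] at this
  have h2 : algebraMap A (PH A I) a ∈ I.map (algebraMap A (PH A I)) := by
    have := Ideal.sub_mem _ hy h1
    rwa [sub_sub_cancel] at this
  have h3 : a ∈ I := mem_of_algebraMap_mem_PH h2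
  have : y = (y - algebraMap A N a) + algebraMap A N a := by ring
  rw [this]
  exact Ideal.add_mem _ ha (Ideal.mem_map_of_mem _ h3)

/-- `PH A I` lifts factorizations. -/
theorem liftsFactorizations_PH : LiftsFactorizations (I.map (algebraMap A (PH A I))) :=
  liftsFactorizations_of_liftsEtale _ (liftsEtale_of_henselianRing _)

/-- The natural map `A/I → PH/I·PH`. -/
noncomputable def θ : A ⧸ I →+* PH A I ⧸ I.map (algebraMap A (PH A I)) :=
  Ideal.quotientMap (I.map (algebraMap A (PH A I))) (algebraMap A (PH A I)) Ideal.le_comap_map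

lemma θ_mk (a : A) : θ I (Ideal.Quotient.mk I a)
    = Ideal.Quotient.mk (I.map (algebraMap A (PH A I))) (algebraMap A (PH A I) a) := by
  simp [θ]

/-- Lifting a polynomial over `PH A I` to an étale neighbourhood. -/
theorem exists_map_eq_of_coeffs {N : Type u} [CommRing N] [Algebra A N] (φ : N →ₐ[A] PH A I)
    (p : (PH A I)[X]) (h : ∀ x ∈ p.coeffs, ∃ y, φ y = x) :
    ∃ q : N[X], q.map (φ : N →+* PH A I) = p := by
  rw [← Polynomial.mem_lifts, Polynomial.lifts_iff_coeff_lifts]
  intro n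
  by_cases h0 : p.coeff n = 0
  · exact ⟨0, by rw [h0]; exact map_zero _⟩
  · obtain ⟨y, hy⟩ := h _ (Polynomial.coeff_mem_coeffs h0)
    exact ⟨y, hy⟩

theorem map_eq_zero_of_coeffs {N N' : Type*} [CommRing N] [CommRing N'] (ψ : N →+* N')
    (z : N[X]) (h : ∀ x ∈ z.coeffs, ψ x = 0) : z.map ψ = 0 := by
  ext n
  rw [Polynomial.coeff_map, Polynomial.coeff_zero]
  by_cases h0 : z.coeff n = 0
  · rw [h0, map_zero]
  · exact h _ (Polynomial.coeff_mem_coeffs h0)

theorem coeffs_map_eq_zero {N N' : Type*} [CommRing N] [CommRing N'] (φ : N →+* N')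
    (z : N[X]) (h : z.map φ = 0) : ∀ x ∈ z.coeffs, φ x = 0 := by
  intro x hx
  obtain ⟨n, -, rfl⟩ := Polynomial.mem_coeffs_iff.mp hx
  rw [← Polynomial.coeff_map, h, Polynomial.coeff_zero]

end Groth.Agent.Lib.Helper26.NbhdDescent
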