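import Groth.Agent.Lib.Helper26.HenselFEt
import Groth.Agent.Lib.Helper3.HenselPair

/-!
# Henselian local rings: integral domains over them

A domain integral over a Henselian local ring is Henselian local.
-/

set_option autoImplicit false
universe u v

namespace Groth.Agent.Lib.Helper26.HenselLocal

open Polynomial IsLocalRing
open Groth.Agent.Lib.Helper26.HenselTFAE Groth.Agent.Lib.Helper26.HenselGabber
  Groth.Agent.Lib.Helper26.HenselIdem

/-- A local ring that is Henselian (as a pair) along its maximal ideal is a Henselian local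
ring. -/
theorem henselianLocalRing_of_henselianRing (A : Type*) [CommRing A] [IsLocalRing A]
    (h : HenselianRing A (maximalIdeal A)) : HenselianLocalRing A where
  is_henselian := by
    intro f hf a₀ h₁ h₂
    refine h.is_henselian f hf a₀ h₁ ?_
    exact h₂.map (Ideal.Quotient.mk _)

section Domain

variable (A : Type u) (B : Type u) [CommRing A] [HenselianLocalRing A] [CommRing B] [IsDomain B]
  [Algebra A B] [Algebra.IsIntegral A B]

/-- The key dichotomy: every element of a domain integral over a Henselian local ring is either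
a unit, or has a power in `m B`. -/
theorem isUnit_or_mem_radical (b : B) :
    IsUnit b ∨ b ∈ ((maximalIdeal A).map (algebraMap A B)).radical := by
  classical
  set m := maximalIdeal A with hm
  have hLF : LiftsFactorizations m :=
    liftsFactorizations_of_liftsEtale m (liftsEtale_of_henselianRing m)
  letI : Field (A ⧸ m) := Ideal.Quotient.field m
  -- a monic annihilating polynomial of minimal degree
  have hex : ∃ n : ℕ, ∃ f : A[X], f.Monic ∧ f.natDegree = n ∧ aeval b f = 0 := by
    obtain ⟨f, hf, hfb⟩ := Algebra.IsIntegral.isIntegral (R := A) b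
    exact ⟨f.natDegree, f, hf, rfl, by rw [aeval_def]; exact hfb⟩
  obtain ⟨f, hfm, hfd, hfb⟩ := Nat.find_spec hex
  have hmin : ∀ g : A[X], g.Monic → aeval b g = 0 → f.natDegree ≤ g.natDegree := by
    intro g hg hgb
    rw [hfd]
    exact Nat.find_min' hex ⟨g, hg, rfl, hgb⟩
  set fb := f.map (Ideal.Quotient.mk m) with hfb'
  have hfbm : fb.Monic := hfm.map _
  have hfb0 : fb ≠ 0 := hfbm.ne_zero
  obtain ⟨q, hq, hXq⟩ := Polynomial.exists_eq_pow_rootMultiplicity_mul_and_not_dvd fb hfb0 0
  rw [C_0, sub_zero] at hq hXq
  set e := fb.rootMultiplicity 0 with he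
  have hqm : q.Monic := by
    have h1 : ((X : (A ⧸ m)[X]) ^ e * q).Monic := by rw [← hq]; exact hfbm
    exact (monic_X_pow e).of_mul_monic_left h1
  have hcop : IsCoprime ((X : (A ⧸ m)[X]) ^ e) q := by
    apply IsCoprime.pow_left
    exact (Polynomial.irreducible_X.coprime_iff_not_dvd).mpr hXq
  obtain ⟨g, h, hg, hh, hfgh, hgmap, hhmap⟩ := hLF f hfm _ _ (monic_X_pow e) hqm hcop hq
  have hprod : aeval b g * aeval b h = 0 := by rw [← map_mul, ← hfgh, hfb]
  have hdeg : f.natDegree = g.natDegree + h.natDegree := by
    rw [hfgh, hg.natDegree_mul hh]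
  rcases mul_eq_zero.mp hprod with hgb | hhb
  · -- `h = 1`, so `f ≡ X ^ e`
    right
    have h1 := hmin g hg hgb
    have hh1 : h = 1 := by
      apply hh.natDegree_eq_zero.mp
      omega
    have hfg : f = g := by rw [hfgh, hh1, mul_one]
    have hr : (f - X ^ e).map (Ideal.Quotient.mk m) = 0 := by
      rw [Polynomial.map_sub, Polynomial.map_pow, Polynomial.map_X, hfg, hgmap, sub_self]
    have hcoeff := coeff_mem_of_map_eq_zero m (f - X ^ e) hr
    have h2 := aeval_eq_zero_of_coeff_mem (B := B) m (f - X ^ e) hcoeff
      (Ideal.Quotient.mk _ b)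
    have h3 : aeval (Ideal.Quotient.mk (m.map (algebraMap A B)) b) (f - X ^ e) =
        Ideal.Quotient.mk (m.map (algebraMap A B)) (aeval b (f - X ^ e)) := by
      rw [← Ideal.Quotient.mkₐ_eq_mk A, ← Polynomial.aeval_algHom_apply]
    rw [h3, map_sub, hfb, zero_sub, map_pow, aeval_X, map_neg, neg_eq_zero,
      Ideal.Quotient.eq_zero_iff_mem] at h2
    exact ⟨e, h2⟩
  · -- `g = 1`, so `f(0)` is a unit
    left
    have h1 := hmin h hh hhb
    have hg1 : g = 1 := by
      apply hg.natDegree_eq_zero.mp
      omega
    have he0 : e = 0 := by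
      have : (X : (A ⧸ m)[X]) ^ e = 1 := by rw [← hgmap, hg1, Polynomial.map_one]
      have h2 := congrArg Polynomial.natDegree this
      rwa [natDegree_X_pow, natDegree_one] at h2
    have hfq : fb = q := by rw [hq, he0, pow_zero, one_mul]
    have hc0 : f.coeff 0 ∉ m := by
      intro hc
      apply hXq
      rw [← hfq, X_dvd_iff, hfb', coeff_map, Ideal.Quotient.eq_zero_iff_mem]
      exact hc
    have hu : IsUnit (f.coeff 0) := by
      by_contra hnu
      exact hc0 ((mem_maximalIdeal _).mpr hnu)
    have hdiv : f = f.divX * X + C (f.coeff 0) := (divX_mul_X_add f).symm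
    have h2 : aeval b f.divX * b + algebraMap A B (f.coeff 0) = 0 := by
      have := congrArg (aeval b) hdiv
      rw [hfb, map_add, map_mul, aeval_X, aeval_C] at this
      exact this.symm
    have h3 : b * (- aeval b f.divX) = algebraMap A B (f.coeff 0) := by
      linear_combination -h2
    exact isUnit_of_mul_isUnit_left (h3 ▸ hu.map (algebraMap A B))

include A in
/-- A domain integral over a Henselian local ring is local. -/
theorem isLocalRing_of_isIntegral : IsLocalRing B := by
  apply IsLocalRing.of_isUnit_or_isUnit_one_sub_self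
  intro b
  rcases isUnit_or_mem_radical A B b with h | ⟨d, hd⟩
  · exact Or.inl h
  · right
    have hjac : (maximalIdeal A).map (algebraMap A B) ≤ Ideal.jacobson ⊥ :=
      map_le_jacobson_of_isIntegral (maximalIdeal A) HenselianRing.jac
    have h1 : IsUnit (1 - b ^ d) := by
      have := (Ideal.mem_jacobson_bot.mp (hjac hd)) (-1)
      have e : b ^ d * -1 + 1 = 1 - b ^ d := by ring
      rwa [e] at this
    have h2 : (1 - b) ∣ (1 - b ^ d) := by
      have := sub_dvd_pow_sub_pow (1 : B) b d
      rwa [one_pow] at this
    exact isUnit_of_dvd_unit h2 h1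

/-- The structure map to a domain integral over a Henselian local ring is local. -/
theorem isLocalHom_of_isIntegral : IsLocalHom (algebraMap A B) := by
  constructor
  intro a ha
  by_contra hnu
  have ham : a ∈ maximalIdeal A := (mem_maximalIdeal _).mpr hnu
  obtain ⟨n, hn⟩ := Ideal.exists_maximal B
  haveI := hn
  have h1 : (n.comap (algebraMap A B)).IsMaximal :=
    Ideal.isMaximal_comap_of_isIntegral_of_isMaximal n
  have h2 : n.comap (algebraMap A B) = maximalIdeal A := eq_maximalIdeal h1
  have h3 : algebraMap A B a ∈ n := by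
    rw [← Ideal.mem_comap, h2]; exact ham
  exact hn.ne_top (Ideal.eq_top_of_isUnit_mem _ h3 ha)

theorem maximalIdeal_eq_radical [IsLocalRing B] :
    maximalIdeal B = ((maximalIdeal A).map (algebraMap A B)).radical := by
  apply le_antisymm
  · intro b hb
    rcases isUnit_or_mem_radical A B b with h | h
    · exact absurd h ((mem_maximalIdeal _).mp hb)
    · exact h
  · have h1 : (maximalIdeal A).map (algebraMap A B) ≤ maximalIdeal B := by
      have hloc : IsLocalHom (algebraMap A B) := isLocalHom_of_isIntegral A B
      exact ((IsLocalRing.local_hom_TFAE (algebraMap A B)).out 0 2).mp hloc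
    exact (Ideal.IsPrime.isRadical inferInstance).radical_le_iff.mpr h1

include A in
/-- A domain integral over a Henselian local ring is a Henselian local ring. -/
theorem henselianLocalRing_of_isIntegral : HenselianLocalRing B := by
  haveI := isLocalRing_of_isIntegral A B
  apply henselianLocalRing_of_henselianRing
  rw [maximalIdeal_eq_radical A B]
  exact Groth.Agent.Lib.Helper3.henselianRing_radical
    (Groth.Agent.S0526.result A (maximalIdeal A) B)

end Domain

end Groth.Agent.Lib.Helper26.HenselLocal
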