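import Groth.Agent.Lib.Helper26.RefShG
import Groth.Agent.Lib.Helper17.GermHom
import Groth.Agent.Lib.Helper17.AffGlue

/-!
# Extending generic maps into modules with reflexive stalks on a normal scheme (helper26)
-/

set_option autoImplicit false
set_option linter.style.haveILetI false
set_option linter.unusedSectionVars false
universe u
open CategoryTheory CategoryTheory.Limits AlgebraicGeometry TopologicalSpace Opposite

namespace Groth.Agent.Lib.Helper26.RefSh

open Groth.Agent.Lib.Helper3 Groth.Agent.Lib.Helper3.QCSec Groth.Agent.Lib.Helper17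

section algebra

/-- The comparison equivalence between `Hom(D, O)` and the double dual. -/
theorem exists_equiv_eval {R M D O : Type*} [CommRing R] [AddCommGroup M] [Module R M]
    [AddCommGroup D] [Module R D] [AddCommGroup O] [Module R O]
    (e1 : D ≃ₗ[R] (M →ₗ[R] O)) (ι : O ≃ₗ[R] R)
    (B : M →ₗ[R] (D →ₗ[R] O)) (hB : ∀ v θ, B v θ = e1 θ v) :
    ∃ Φ : (D →ₗ[R] O) ≃ₗ[R] Module.Dual R (Module.Dual R M),
      ∀ v, Φ (B v) = Module.Dual.eval R M v := by
  let eD : D ≃ₗ[R] Module.Dual R M := e1 ≪≫ₗ LinearEquiv.arrowCongr (LinearEquiv.refl R M) ι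
  let Φ : (D →ₗ[R] O) ≃ₗ[R] Module.Dual R (Module.Dual R M) := LinearEquiv.arrowCongr eD ι
  refine ⟨Φ, fun v => ?_⟩
  refine LinearMap.ext fun lam => ?_
  have h1 : Φ (B v) lam = ι (B v (eD.symm lam)) := rfl
  have h2 : ι (e1 (eD.symm lam) v) = eD (eD.symm lam) v := rfl
  rw [h1, hB, h2, LinearEquiv.apply_symm_apply]
  rfl

/-- Over a normal Noetherian local domain of dimension at most one, the evaluation map of a finite
module into its double dual is surjective. -/
theorem surjective_eval_of_dim_le_one (R : Type u) [CommRing R] [IsDomain R]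
    [IsNoetherianRing R] [IsLocalRing R] [IsIntegrallyClosed R]
    (hdim : ¬ (2 : WithBot ℕ∞) ≤ ringKrullDim R) (M : Type u)
    [AddCommGroup M] [Module R M] [Module.Finite R M] :
    Function.Surjective (Module.Dual.eval R M) := by
  haveI : Module.Free R (M ⧸ Submodule.torsion R M) :=
    free_of_torsionFree_normal_dim_le_one R hdim (M ⧸ Submodule.torsion R M)
  have hrefl : Module.IsReflexive R (M ⧸ Submodule.torsion R M) := inferInstance
  intro ξ
  let ξ' : Module.Dual R (Module.Dual R (M ⧸ Submodule.torsion R M)) :=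
    { toFun := fun l => ξ (l.comp (Submodule.torsion R M).mkQ)
      map_add' := fun l l' => by
        have e : (l + l').comp (Submodule.torsion R M).mkQ =
            l.comp (Submodule.torsion R M).mkQ + l'.comp (Submodule.torsion R M).mkQ :=
          LinearMap.add_comp _ _ _
        rw [e, map_add]
      map_smul' := fun a l => by
        have e : (a • l).comp (Submodule.torsion R M).mkQ =
            a • l.comp (Submodule.torsion R M).mkQ := LinearMap.smul_comp a l _
        show ξ ((a • l).comp (Submodule.torsion R M).mkQ) =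
          a • ξ (l.comp (Submodule.torsion R M).mkQ)
        rw [e, map_smul] }
  obtain ⟨m', hm'⟩ := hrefl.bijective_dual_eval'.2 ξ'
  obtain ⟨m, rfl⟩ := (Submodule.torsion R M).mkQ_surjective m'
  refine ⟨m, LinearMap.ext fun lam => ?_⟩
  have hker : Submodule.torsion R M ≤ LinearMap.ker lam := by
    intro t ht
    obtain ⟨a, ha⟩ := (Submodule.mem_torsion_iff t).mp ht
    rw [LinearMap.mem_ker]
    have h0 : (a : R) * lam t = 0 := by
      have h1 : lam ((a : R) • t) = (a : R) * lam t := by rw [map_smul, smul_eq_mul]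
      rw [← h1]
      have h2 : (a : R) • t = 0 := ha
      rw [h2, map_zero]
    rcases mul_eq_zero.mp h0 with h | h
    · exact absurd h (nonZeroDivisors.coe_ne_zero a)
    · exact h
  have hl : ∀ v : M, (Submodule.torsion R M).liftQ lam hker ((Submodule.torsion R M).mkQ v) =
      lam v := fun v => rfl
  have hcomp : ((Submodule.torsion R M).liftQ lam hker).comp (Submodule.torsion R M).mkQ = lam :=
    LinearMap.ext fun v => hl v
  have e1 : ξ' ((Submodule.torsion R M).liftQ lam hker) = ξ lam := by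
    show ξ (((Submodule.torsion R M).liftQ lam hker).comp (Submodule.torsion R M).mkQ) = ξ lam
    rw [hcomp]
  have e2 : Module.Dual.eval R (M ⧸ Submodule.torsion R M) ((Submodule.torsion R M).mkQ m)
      ((Submodule.torsion R M).liftQ lam hker) = lam m := rfl
  have e3 : Module.Dual.eval R M m lam = lam m := rfl
  rw [e3, ← e2, hm', e1]

end algebra

variable {X : Scheme.{u}}

/-! ### specialization maps -/

theorem specHom_germ (L : X.Modules) {ξ x : X} (h : ξ ⤳ x) (U : X.Opens) (hx : x ∈ U)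
    (s : Γ(L, U)) :
    (L.presheaf.stalkSpecializes h).hom (L.presheaf.germ U x hx s) =
      L.presheaf.germ U ξ (h.mem_open U.2 hx) s := by
  have h1 := ConcreteCategory.congr_hom
    (TopCat.Presheaf.germ_stalkSpecializes L.presheaf (U := U) hx h) s
  rw [ConcreteCategory.comp_apply] at h1
  exact h1

theorem specHom_germ_ring {ξ x : X} (h : ξ ⤳ x) (U : X.Opens) (hx : x ∈ U) (s : Γ(X, U)) :
    (X.presheaf.stalkSpecializes h).hom (X.presheaf.germ U x hx s) =
      X.presheaf.germ U ξ (h.mem_open U.2 hx) s := by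
  have h1 := ConcreteCategory.congr_hom
    (TopCat.Presheaf.germ_stalkSpecializes X.presheaf (U := U) hx h) s
  rw [ConcreteCategory.comp_apply] at h1
  exact h1

theorem specHom_smul (L : X.Modules) {ξ x : X} (h : ξ ⤳ x) (a : X.presheaf.stalk x)
    (m : L.presheaf.stalk x) :
    (L.presheaf.stalkSpecializes h).hom (a • m) =
      (X.presheaf.stalkSpecializes h).hom a • (L.presheaf.stalkSpecializes h).hom m := by
  obtain ⟨V, hxV, s, rfl⟩ := TopCat.Presheaf.exists_germ_eq X.presheaf a
  obtain ⟨V', hxV', n, rfl⟩ := TopCat.Presheaf.exists_germ_eq L.presheaf m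
  have hxW : x ∈ V ⊓ V' := ⟨hxV, hxV'⟩
  have h1 : X.presheaf.germ V x hxV s = X.presheaf.germ (V ⊓ V') x hxW
      (rres X (inf_le_left : V ⊓ V' ≤ V) s) :=
    (TopCat.Presheaf.germ_res_apply X.presheaf (homOfLE (inf_le_left : V ⊓ V' ≤ V)) x hxW s).symm
  have h2 : L.presheaf.germ V' x hxV' n = L.presheaf.germ (V ⊓ V') x hxW
      (res L (inf_le_right : V ⊓ V' ≤ V') n) :=
    (TopCat.Presheaf.germ_res_apply L.presheaf (homOfLE (inf_le_right : V ⊓ V' ≤ V')) x hxW n).symm
  rw [h1, h2, ← Mero.germ_smul, specHom_germ, specHom_germ, specHom_germ_ring, Mero.germ_smul]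

theorem spec_stalkMap {G N : X.Modules} (φ : G ⟶ N) {ξ y : X} (hsp : ξ ⤳ y)
    (g : G.presheaf.stalk y) :
    (N.presheaf.stalkSpecializes hsp).hom (RefHull.stalkMapₗ φ y g) =
      RefHull.stalkMapₗ φ ξ ((G.presheaf.stalkSpecializes hsp).hom g) := by
  obtain ⟨V, hyV, m, rfl⟩ := TopCat.Presheaf.exists_germ_eq G.presheaf g
  rw [RefHull.stalkMapₗ_germ, specHom_germ, specHom_germ, RefHull.stalkMapₗ_germ]

/-- Sections of the sheaf Hom are compatible with specialization. -/
theorem spec_section_apply {G N : X.Modules} {W : X.Opens} (h : Γ(RefHull.homSh G N, W))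
    {ξ y : X} (hsp : ξ ⤳ y) (hy : y ∈ W) (g : G.presheaf.stalk y) :
    (N.presheaf.stalkSpecializes hsp).hom (h.1 ⟨y, hy⟩ g) =
      h.1 ⟨ξ, hsp.mem_open W.2 hy⟩ ((G.presheaf.stalkSpecializes hsp).hom g) := by
  obtain ⟨V, hyV, m, rfl⟩ := TopCat.Presheaf.exists_germ_eq G.presheaf g
  have hyV' : y ∈ V ⊓ W := ⟨hyV, hy⟩
  have hξV' : ξ ∈ V ⊓ W := hsp.mem_open (V ⊓ W).2 hyV'
  have e1 : G.presheaf.germ V y hyV m =
      G.presheaf.germ (V ⊓ W) y hyV' (res G (inf_le_left : V ⊓ W ≤ V) m) :=
    (TopCat.Presheaf.germ_res_apply G.presheaf (homOfLE (inf_le_left : V ⊓ W ≤ V)) y hyV' m).symm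
  rw [e1, specHom_germ]
  have h1 := germ_ev h (inf_le_right : V ⊓ W ≤ W) (res G (inf_le_left : V ⊓ W ≤ V) m) y hyV'
  have h2 := germ_ev h (inf_le_right : V ⊓ W ≤ W) (res G (inf_le_left : V ⊓ W ≤ V) m) ξ hξV'
  have step1 : (N.presheaf.stalkSpecializes hsp).hom
        (h.1 ⟨y, hy⟩ (G.presheaf.germ (V ⊓ W) y hyV' (res G (inf_le_left : V ⊓ W ≤ V) m))) =
      (N.presheaf.stalkSpecializes hsp).hom (N.presheaf.germ (V ⊓ W) y hyV'
        (ev h (inf_le_right : V ⊓ W ≤ W) (res G (inf_le_left : V ⊓ W ≤ V) m))) :=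
    congrArg _ h1.symm
  have step2 := specHom_germ N hsp (V ⊓ W) hyV'
    (ev h (inf_le_right : V ⊓ W ≤ W) (res G (inf_le_left : V ⊓ W ≤ V) m))
  exact step1.trans (step2.trans h2)

/-- On an integral scheme the specialization map from a stalk of a torsion-free quasi-coherent
module to the generic stalk is injective. -/
theorem specHom_injective_of_torsionFree [IsIntegral X] (Q : X.Modules) [Q.IsQuasicoherent]
    (hQ : TorSh.IsTorsionFree Q) (y : X) (hsp : genericPoint X ⤳ y) :
    Function.Injective (Q.presheaf.stalkSpecializes hsp).hom := by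
  rw [injective_iff_map_eq_zero]
  intro a ha
  obtain ⟨V, hyV, s, rfl⟩ := TopCat.Presheaf.exists_germ_eq Q.presheaf a
  rw [specHom_germ] at ha
  by_contra hne
  have hs : s ≠ 0 := by
    rintro rfl
    exact hne (map_zero _)
  exact germ_ne_zero_of_torsionFree Q hQ s hs (genericPoint X) _ ha

/-- A section of the sheaf Hom into a torsion-free module is determined by its value at the generic
point. -/
theorem section_ext_of_generic [IsIntegral X] (G N : X.Modules) [N.IsQuasicoherent]
    (hN : TorSh.IsTorsionFree N) {W : X.Opens} (hη : genericPoint X ∈ W)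
    (h h' : Γ(RefHull.homSh G N, W))
    (e : h.1 ⟨genericPoint X, hη⟩ = h'.1 ⟨genericPoint X, hη⟩) : h = h' := by
  refine Subtype.ext (funext fun ⟨y, hy⟩ => ?_)
  refine LinearMap.ext fun g => ?_
  have hsp : genericPoint X ⤳ y := (genericPoint_spec X).specializes (Set.mem_univ _)
  apply specHom_injective_of_torsionFree N hN y hsp
  have e1 := spec_section_apply h hsp hy g
  have e2 := spec_section_apply h' hsp hy g
  exact e1.trans ((LinearMap.congr_fun e _).trans e2.symm)

/-- Local sections of the sheaf Hom with prescribed value at a point. -/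
theorem exists_section_of_stalkHom (G N : X.Modules) (hFP : CohB1.IsFP G) (x : X)
    (τ : RefHull.StalkHom G N x) :
    ∃ (W : X.Opens) (hx : x ∈ W) (h : Γ(RefHull.homSh G N, W)), h.1 ⟨x, hx⟩ = τ := by
  obtain ⟨θ, hθ⟩ := HomShSurj.evalStalk_surjective G N hFP x τ
  obtain ⟨W, hx, h, rfl⟩ := TopCat.Presheaf.exists_germ_eq (RefHull.homSh G N).presheaf θ
  rw [RefHull.evalStalk_germ] at hθ
  exact ⟨W, hx, h, hθ⟩

/-- A global section of the sheaf Hom is the family of stalk maps of a morphism. -/
theorem exists_hom_of_section (G N : X.Modules) (h : Γ(RefHull.homSh G N, ⊤)) :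
    ∃ ψ : G ⟶ N, ∀ y : X, RefHull.stalkMapₗ ψ y = h.1 ⟨y, trivial⟩ := by
  have hf : GermHom.IsLoc G N (fun y => h.1 ⟨y, trivial⟩) := by
    intro V m x hx
    obtain ⟨W, hxW, j, n, hn⟩ := RefHull.isLocSect_of_mem h V (homOfLE le_top) m ⟨x, hx⟩
    exact ⟨W, hxW, j.le, n, fun y hy => hn ⟨y, hy⟩⟩
  refine ⟨GermHom.homOfGerms (fun y => h.1 ⟨y, trivial⟩) hf, fun y => ?_⟩
  refine LinearMap.ext fun g => ?_
  obtain ⟨V, hyV, m, rfl⟩ := TopCat.Presheaf.exists_germ_eq G.presheaf g
  rw [RefHull.stalkMapₗ_germ]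
  exact GermHom.germ_homOfGerms (fun y => h.1 ⟨y, trivial⟩) hf V m y hyV

/-- Descending a generic map along an injective specialization map. -/
theorem exists_stalkHom_of_spec [IsIntegral X] (G N : X.Modules) [N.IsQuasicoherent]
    (hN : TorSh.IsTorsionFree N) (x : X) (hsp : genericPoint X ⤳ x)
    (T' : RefHull.StalkHom G N (genericPoint X))
    (hT : ∀ g : G.presheaf.stalk x, ∃ n : N.presheaf.stalk x,
      (N.presheaf.stalkSpecializes hsp).hom n = T' ((G.presheaf.stalkSpecializes hsp).hom g)) :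
    ∃ τ : RefHull.StalkHom G N x, ∀ g, (N.presheaf.stalkSpecializes hsp).hom (τ g) =
      T' ((G.presheaf.stalkSpecializes hsp).hom g) := by
  choose t ht using hT
  have hinj := specHom_injective_of_torsionFree N hN x hsp
  refine ⟨{ toFun := t, map_add' := fun a b => ?_, map_smul' := fun r a => ?_ }, ht⟩
  · apply hinj
    rw [map_add, ht, ht, ht, map_add, map_add]
  · apply hinj
    show (N.presheaf.stalkSpecializes hsp).hom (t (r • a)) =
      (N.presheaf.stalkSpecializes hsp).hom (r • t a)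
    rw [ht, specHom_smul, specHom_smul, ht, map_smul]

theorem two_le_depth_homSh (G N : X.Modules) (hFP : CohB1.IsFP G) (x : X)
    [Module.Finite (X.presheaf.stalk x) (N.presheaf.stalk x)]
    (hN : (2 : ℕ∞) ≤ LocCoh.depth (X.presheaf.stalk x) (N.presheaf.stalk x)) :
    (2 : ℕ∞) ≤ LocCoh.depth (X.presheaf.stalk x) ((RefHull.homSh G N).presheaf.stalk x) := by
  have e := Groth.Agent.Lib.Helper4.idealDepth_congr
    (IsLocalRing.maximalIdeal (X.presheaf.stalk x)) (stalkEquiv G N hFP x)
  unfold LocCoh.depth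
  rw [e]
  exact Groth.Agent.Lib.Helper4.two_le_idealDepth_linearMap (M := G.presheaf.stalk x)
    (IsLocalRing.maximalIdeal (X.presheaf.stalk x)) hN

/-! ### stalks of the biduality map at points of codimension at most one -/

theorem isReflexiveAt_genericPoint [IsIntegral X] [IsLocallyNoetherian X]
    (hX : Pi1.IsNormalScheme X) {F : X.Modules} (hF : Coh.IsCoh F) :
    RefHull.IsReflexiveAt F (genericPoint X) := by
  haveI : F.IsQuasicoherent := hF.1
  haveI : F.IsFiniteType := hF.2
  haveI : Module.Finite (X.presheaf.stalk (genericPoint X))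
      (F.presheaf.stalk (genericPoint X)) := CohStalk.finite_stalk F _
  haveI := (hX (genericPoint X)).2
  have hfield : IsField (X.presheaf.stalk (genericPoint X)) :=
    isField_stalk_of_closure_mem_irreducibleComponents X _
      (by simp [irreducibleComponents_eq_singleton])
  haveI : Module.IsTorsionFree (X.presheaf.stalk (genericPoint X))
      (F.presheaf.stalk (genericPoint X)) :=
    ⟨fun r hr => by
      have hr0 : r ≠ 0 := hr.ne_zero
      obtain ⟨s, hs⟩ := hfield.mul_inv_cancel hr0
      exact IsUnit.isSMulRegular _ (IsUnit.of_mul_eq_one s hs)⟩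
  have hdim : ¬ (2 : WithBot ℕ∞) ≤ ringKrullDim (X.presheaf.stalk (genericPoint X)) := by
    rw [ringKrullDim_stalk_genericPoint]
    decide
  haveI := free_of_torsionFree_normal_dim_le_one (X.presheaf.stalk (genericPoint X)) hdim
    (F.presheaf.stalk (genericPoint X))
  unfold RefHull.IsReflexiveAt
  infer_instance

theorem surjective_stalkMap_bidual [IsIntegral X] [IsLocallyNoetherian X]
    (hX : Pi1.IsNormalScheme X) {F : X.Modules} (hF : Coh.IsCoh F) (x : X)
    (hdim : ¬ (2 : WithBot ℕ∞) ≤ ringKrullDim (X.presheaf.stalk x)) :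
    Function.Surjective (RefHull.stalkMapₗ (RefHull.bidualMap F) x) := by
  haveI : F.IsQuasicoherent := hF.1
  haveI : F.IsFiniteType := hF.2
  haveI : Module.Finite (X.presheaf.stalk x) (F.presheaf.stalk x) := CohStalk.finite_stalk F x
  haveI := (hX x).2
  have hFP := isFP_of_isCoh' hF
  have hDP := isFP_of_isCoh' (isCoh_dual hF)
  have he2 := HomShSurj.evalStalk_bijective (RefHull.dual F) (Coh.structureModule X) hDP x
  obtain ⟨Φ, hΦ⟩ := exists_equiv_eval (stalkEquiv F (Coh.structureModule X) hFP x) (unitEquiv x)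
    (RefHull.bidualAt F x) (fun v θ => rfl)
  have hsurj := surjective_eval_of_dim_le_one (X.presheaf.stalk x) hdim (F.presheaf.stalk x)
  intro n
  obtain ⟨v, hv⟩ := hsurj (Φ (RefHull.evalStalk (RefHull.dual F) (Coh.structureModule X) x n))
  refine ⟨v, ?_⟩
  apply he2.1
  rw [evalStalk_comp_stalkMap]
  apply Φ.injective
  rw [hΦ, hv]

/-! ### the extension theorem -/

/-- On a normal integral locally Noetherian scheme, a map of generic stalks `G_η → N_η` into a
coherent module with reflexive stalks extends to a morphism `G ⟶ N` as soon as it maps `G_x` into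
`N_x` at every point of codimension one. -/
theorem exists_hom_extending [IsIntegral X] [IsLocallyNoetherian X] (hX : Pi1.IsNormalScheme X)
    (G N : X.Modules) (hG : Coh.IsCoh G) (hN : Coh.IsCoh N)
    (hNr : ∀ x : X, RefHull.IsReflexiveAt N x)
    (T' : RefHull.StalkHom G N (genericPoint X))
    (hT : ∀ x : X, ringKrullDim (X.presheaf.stalk x) = 1 → ∀ hsp : genericPoint X ⤳ x,
      ∀ g : G.presheaf.stalk x, ∃ n : N.presheaf.stalk x,
        (N.presheaf.stalkSpecializes hsp).hom n =
          T' ((G.presheaf.stalkSpecializes hsp).hom g)) :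
    ∃ ψ : G ⟶ N, RefHull.stalkMapₗ ψ (genericPoint X) = T' := by
  classical
  haveI : N.IsQuasicoherent := hN.1
  haveI : N.IsFiniteType := hN.2
  haveI : G.IsQuasicoherent := hG.1
  have hFP := isFP_of_isCoh' hG
  have hNtf : TorSh.IsTorsionFree N := by
    intro x
    haveI : Module.IsReflexive (X.presheaf.stalk x) (N.presheaf.stalk x) := hNr x
    infer_instance
  have hHcoh := isCoh_homSh G N hG hN
  haveI : (RefHull.homSh G N).IsQuasicoherent := hHcoh.1
  haveI : (RefHull.homSh G N).IsFiniteType := hHcoh.2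
  have hspec : ∀ x : X, genericPoint X ⤳ x :=
    fun x => (genericPoint_spec X).specializes (Set.mem_univ x)
  have hloc : ∀ x : X, ¬ (2 : WithBot ℕ∞) ≤ ringKrullDim (X.presheaf.stalk x) →
      ∃ (W : X.Opens) (_ : x ∈ W) (hη : genericPoint X ∈ W) (h : Γ(RefHull.homSh G N, W)),
        h.1 ⟨genericPoint X, hη⟩ = T' := by
    intro x hx2
    obtain ⟨d, hd⟩ := Groth.Agent.Lib.Helper26.SerreReg.exists_nat_ringKrullDim
      (X.presheaf.stalk x)
    have hd1 : d = 0 ∨ d = 1 := by
      have : ¬ 2 ≤ d := by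
        intro h
        apply hx2
        rw [hd]
        exact_mod_cast h
      omega
    rcases hd1 with h0 | h1
    · have hxη : x = genericPoint X := by
        apply eq_genericPoint_of_ringKrullDim_eq_zero x
        rw [hd, h0]
        rfl
      obtain ⟨W, hηW, h, hh⟩ := exists_section_of_stalkHom G N hFP (genericPoint X) T'
      refine ⟨W, ?_, hηW, h, hh⟩
      rw [hxη]
      exact hηW
    · have hdim1 : ringKrullDim (X.presheaf.stalk x) = 1 := by
        rw [hd, h1]
        rfl
      obtain ⟨τ, hτ⟩ := exists_stalkHom_of_spec G N hNtf x (hspec x) T'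
        (hT x hdim1 (hspec x))
      obtain ⟨W0, hxW0, h0, hh0⟩ := exists_section_of_stalkHom G N hFP x τ
      obtain ⟨W, hW, hxW, hWW0⟩ := Opens.isBasis_iff_nbhd.mp X.isBasis_affineOpens hxW0
      have hηW : genericPoint X ∈ W := (hspec x).mem_open W.2 hxW
      refine ⟨W, hxW, hηW, res (RefHull.homSh G N) hWW0 h0, ?_⟩
      apply AffGlue.stalkHom_ext G N hW (genericPoint X) hηW
      intro m
      have e1 : G.presheaf.germ W (genericPoint X) hηW m =
          (G.presheaf.stalkSpecializes (hspec x)).hom (G.presheaf.germ W x hxW m) :=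
        (specHom_germ G (hspec x) W hxW m).symm
      have e2 := spec_section_apply (res (RefHull.homSh G N) hWW0 h0) (hspec x) hxW
        (G.presheaf.germ W x hxW m)
      have e3 : (res (RefHull.homSh G N) hWW0 h0).1 ⟨x, hxW⟩ = τ := hh0
      rw [e3] at e2
      rw [e1, ← hτ]
      exact e2.symm
  let ι : Type u := {x : X // ¬ (2 : WithBot ℕ∞) ≤ ringKrullDim (X.presheaf.stalk x)}
  choose W hxW hηW h hh using fun i : ι => hloc i.1 i.2
  let Hs : TopCat.Sheaf AddCommGrpCat.{u} X :=
    ⟨(RefHull.homSh G N).presheaf, (RefHull.homSh G N).isSheaf⟩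
  have hcompat : TopCat.Presheaf.IsCompatible Hs.1 W h := by
    intro i j
    have hη' : genericPoint X ∈ W i ⊓ W j := ⟨hηW i, hηW j⟩
    refine section_ext_of_generic G N hNtf hη' _ _ ?_
    exact (hh i).trans (hh j).symm
  obtain ⟨s, hs, -⟩ := TopCat.Sheaf.existsUnique_gluing Hs W h hcompat
  have hU1 : ∀ x : X, x ∉ iSup W →
      (2 : WithBot ℕ∞) ≤ ringKrullDim (X.presheaf.stalk x) := by
    intro x hx
    by_contra h2
    exact hx (Opens.mem_iSup.2 ⟨⟨x, h2⟩, hxW ⟨x, h2⟩⟩)
  have hdepth : ∀ x : X, x ∈ (⊤ : X.Opens) → x ∉ iSup W →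
      (2 : ℕ∞) ≤ LocCoh.depth (X.presheaf.stalk x) ((RefHull.homSh G N).presheaf.stalk x) := by
    intro x _ hx
    have h2 := hU1 x hx
    haveI := (hX x).2
    have hdO := two_le_depth_of_normal (X.presheaf.stalk x) h2
    haveI : Module.IsReflexive (X.presheaf.stalk x) (N.presheaf.stalk x) := hNr x
    haveI : Module.Finite (X.presheaf.stalk x) (N.presheaf.stalk x) := CohStalk.finite_stalk N x
    exact two_le_depth_homSh G N hFP x
      (two_le_depth_of_isReflexive (X.presheaf.stalk x) (N.presheaf.stalk x) hdO)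
  have hbij := bijective_res_of_depth_two_local (RefHull.homSh G N) (le_top : iSup W ≤ ⊤) hdepth
  obtain ⟨hglob, hglob_res⟩ := hbij.2 s
  obtain ⟨ψ, hψ⟩ := exists_hom_of_section G N hglob
  refine ⟨ψ, ?_⟩
  have hη2 : ¬ (2 : WithBot ℕ∞) ≤ ringKrullDim (X.presheaf.stalk (genericPoint X)) := by
    rw [ringKrullDim_stalk_genericPoint]
    decide
  have hmem : genericPoint X ∈ iSup W :=
    Opens.mem_iSup.2 ⟨⟨genericPoint X, hη2⟩, hηW ⟨genericPoint X, hη2⟩⟩
  have e1 : (hglob : Γ(RefHull.homSh G N, ⊤)).1 ⟨genericPoint X, trivial⟩ =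
      (s : Γ(RefHull.homSh G N, iSup W)).1 ⟨genericPoint X, hmem⟩ :=
    congrArg (fun t : Γ(RefHull.homSh G N, iSup W) => t.1 ⟨genericPoint X, hmem⟩) hglob_res
  have e2 : (s : Γ(RefHull.homSh G N, iSup W)).1 ⟨genericPoint X, hmem⟩ =
      (h ⟨genericPoint X, hη2⟩).1 ⟨genericPoint X, hηW ⟨genericPoint X, hη2⟩⟩ :=
    congrArg (fun t : Γ(RefHull.homSh G N, W ⟨genericPoint X, hη2⟩) =>
      t.1 ⟨genericPoint X, hηW ⟨genericPoint X, hη2⟩⟩) (hs ⟨genericPoint X, hη2⟩)
  exact (hψ _).trans (e1.trans (e2.trans (hh ⟨genericPoint X, hη2⟩)))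

end Groth.Agent.Lib.Helper26.RefSh
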