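import Groth.Agent.Lib.Helper26.RefShP
import Groth.Agent.Lib.Helper3.IdealMod

/-!
# The ideal sheaf of an effective Weil divisor (helper26)
-/

set_option autoImplicit false
set_option linter.style.haveILetI false
set_option linter.unusedSectionVars false
universe u
open CategoryTheory CategoryTheory.Limits AlgebraicGeometry TopologicalSpace Opposite

namespace Groth.Agent.Lib.Helper26.RefSh

open Groth.Agent.Lib.Helper3 Groth.Agent.Lib.Helper3.QCSec Groth.Agent.Lib.Helper3.InvGen

variable {X : Scheme.{u}}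

/-! ### the ideals -/

section ideal

variable (E : X → ℕ)

/-- functions vanishing to order at least `E z` at the points `z` of codimension one -/
noncomputable def divIdeal (U : X.affineOpens) : Ideal Γ(X, U.1) :=
  ⨅ z : {z : X // z ∈ U.1 ∧ Order.coheight z = 1},
    Ideal.comap (X.presheaf.germ U.1 z.1 z.2.1).hom
      (IsLocalRing.maximalIdeal (X.presheaf.stalk z.1) ^ E z.1)

theorem mem_divIdeal {U : X.affineOpens} {a : Γ(X, U.1)} :
    a ∈ divIdeal E U ↔ ∀ (z : X) (hz : z ∈ U.1), Order.coheight z = 1 →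
      X.presheaf.germ U.1 z hz a ∈ IsLocalRing.maximalIdeal (X.presheaf.stalk z) ^ E z := by
  unfold divIdeal
  rw [Ideal.mem_iInf]
  constructor
  · intro h z hz hc
    exact h ⟨z, hz, hc⟩
  · intro h z
    exact h z.1 z.2.1 z.2.2

variable {E} in
theorem divIdeal_map (hE : LocallyFiniteSupport E) (U : X.affineOpens) (f : Γ(X, U.1)) :
    (divIdeal E U).map (X.presheaf.map (homOfLE <| X.basicOpen_le f).op).hom =
      divIdeal E (X.affineBasicOpen f) := by
  apply le_antisymm
  · rw [Ideal.map_le_iff_le_comap]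
    intro a ha
    show X.presheaf.map (homOfLE (X.basicOpen_le f)).op a ∈ divIdeal E (X.affineBasicOpen f)
    refine (mem_divIdeal E (U := X.affineBasicOpen f)).mpr ?_
    intro z hz hc
    have hzU : z ∈ U.1 := X.basicOpen_le f hz
    have h1 := (mem_divIdeal E).mp ha z hzU hc
    have e : X.presheaf.germ (X.basicOpen f) z hz
        (X.presheaf.map (homOfLE (X.basicOpen_le f)).op a) = X.presheaf.germ U.1 z hzU a :=
      TopCat.Presheaf.germ_res_apply X.presheaf (homOfLE (X.basicOpen_le f)) z hz a
    have h2 : X.presheaf.germ (X.basicOpen f) z hz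
        (X.presheaf.map (homOfLE (X.basicOpen_le f)).op a) ∈
        IsLocalRing.maximalIdeal (X.presheaf.stalk z) ^ E z := by
      rw [e]
      exact h1
    exact h2
  · intro g hg
    have hg' := (mem_divIdeal E).mp hg
    haveI := U.2.isLocalization_basicOpen f
    obtain ⟨m, a, ha⟩ := IsLocalization.Away.surj f (g : Γ(X, X.basicOpen f))
    have ha' : rres X (X.basicOpen_le f) a = g * (rres X (X.basicOpen_le f) f) ^ m := ha.symm
    have hfin : ((U.1 : Set X) ∩ Function.support E).Finite :=
      hE.finite_inter_support_of_isCompact U.2.isCompact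
    let n : ℕ := ∑ z ∈ hfin.toFinset, E z
    have hn : ∀ z ∈ U.1, E z ≤ n := by
      intro z hz
      by_cases h0 : E z = 0
      · rw [h0]
        exact Nat.zero_le _
      · exact Finset.single_le_sum (f := E) (fun i _ => Nat.zero_le _)
          (hfin.mem_toFinset.mpr ⟨hz, h0⟩)
    have hmem : f ^ n * a ∈ divIdeal E U := by
      rw [mem_divIdeal]
      intro z hz hc
      rw [map_mul, map_pow]
      by_cases hzf : z ∈ X.basicOpen f
      · apply Ideal.mul_mem_left
        have h1 := hg' z hzf hc
        have e1 : X.presheaf.germ U.1 z hz a =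
            X.presheaf.germ (X.basicOpen f) z hzf (rres X (X.basicOpen_le f) a) :=
          (TopCat.Presheaf.germ_res_apply X.presheaf (homOfLE (X.basicOpen_le f)) z hzf a).symm
        rw [e1, ha', map_mul]
        exact Ideal.mul_mem_right _ _ h1
      · apply Ideal.mul_mem_right
        have h1 : X.presheaf.germ U.1 z hz f ∈
            IsLocalRing.maximalIdeal (X.presheaf.stalk z) := by
          rw [IsLocalRing.mem_maximalIdeal, mem_nonunits_iff]
          intro hu
          exact hzf ((Scheme.mem_basicOpen X f z hz).mpr hu)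
        exact Ideal.pow_le_pow_right (hn z hz) (Ideal.pow_mem_pow h1 n)
    have hu : IsUnit (rres X (X.basicOpen_le f) f) := X.toRingedSpace.isUnit_res_basicOpen f
    have hmap : rres X (X.basicOpen_le f) (f ^ n * a) ∈
        (divIdeal E U).map (X.presheaf.map (homOfLE (X.basicOpen_le f)).op).hom :=
      Ideal.mem_map_of_mem _ hmem
    have e2 : rres X (X.basicOpen_le f) (f ^ n * a) =
        (rres X (X.basicOpen_le f) f) ^ (n + m) * g := by
      have h1 : rres X (X.basicOpen_le f) (f ^ n * a) =
          rres X (X.basicOpen_le f) (f ^ n) * rres X (X.basicOpen_le f) a := map_mul _ _ _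
      rw [h1, rres_pow, ha', pow_add]
      ring
    rw [e2] at hmap
    exact (Ideal.unit_mul_mem_iff_mem _ (hu.pow (n + m))).mp hmap

variable {E} in
/-- the ideal sheaf of the effective Weil divisor `E` -/
noncomputable def divSheaf (hE : LocallyFiniteSupport E) : X.IdealSheafData where
  ideal := divIdeal E
  map_ideal_basicOpen := divIdeal_map hE

end ideal

/-! ### sections of an ideal sheaf -/

section sections

variable (I : X.IdealSheafData)

theorem val_mem_ideal' {U : X.Opens} (hU : IsAffineOpen U) (s : Γ(ClSub.idealMod I, U)) :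
    IdealMod.val I s ∈ I.ideal ⟨U, hU⟩ := by
  have h1 := IdealMod.app_val I s
  have h2 : IdealMod.val I s ∈ RingHom.ker (I.subschemeι.app U).hom := h1
  rwa [Scheme.IdealSheafData.ker_subschemeι_app I ⟨U, hU⟩] at h2

theorem exists_val_eq_of_mem' {U : X.Opens} (hU : IsAffineOpen U) (b : Γ(X, U))
    (hb : b ∈ I.ideal ⟨U, hU⟩) : ∃ s : Γ(ClSub.idealMod I, U), IdealMod.val I s = b := by
  apply IdealMod.exists_val_eq
  have h2 : b ∈ RingHom.ker (I.subschemeι.app U).hom := by
    rwa [Scheme.IdealSheafData.ker_subschemeι_app I ⟨U, hU⟩]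
  exact h2

theorem val_zero' (W : X.Opens) : IdealMod.val I (0 : Γ(ClSub.idealMod I, W)) = 0 := by
  have h := IdealMod.val_smul I (0 : Γ(X, W)) (0 : Γ(ClSub.idealMod I, W))
  rw [zero_smul, zero_mul] at h
  exact h

theorem val_smul_comm {V : X.Opens} (a b : Γ(ClSub.idealMod I, V)) :
    IdealMod.val I b • a = IdealMod.val I a • b := by
  apply IdealMod.val_injective I V
  rw [IdealMod.val_smul, IdealMod.val_smul, mul_comm]

theorem germ_val_smul_comm {V V' : X.Opens} (x : X) (hx : x ∈ V) (hx' : x ∈ V')
    (a : Γ(ClSub.idealMod I, V)) (b : Γ(ClSub.idealMod I, V')) :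
    X.presheaf.germ V' x hx' (IdealMod.val I b) • (ClSub.idealMod I).presheaf.germ V x hx a =
      X.presheaf.germ V x hx (IdealMod.val I a) •
        (ClSub.idealMod I).presheaf.germ V' x hx' b := by
  have hW : x ∈ V ⊓ V' := ⟨hx, hx'⟩
  have h := congrArg ((ClSub.idealMod I).presheaf.germ (V ⊓ V') x hW)
    (val_smul_comm I (res (ClSub.idealMod I) (inf_le_left : V ⊓ V' ≤ V) a)
      (res (ClSub.idealMod I) (inf_le_right : V ⊓ V' ≤ V') b))
  rw [Mero.germ_smul, Mero.germ_smul, IdealMod.val_res, IdealMod.val_res] at h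
  have e1 : (ClSub.idealMod I).presheaf.germ (V ⊓ V') x hW
      (res (ClSub.idealMod I) (inf_le_left : V ⊓ V' ≤ V) a) =
      (ClSub.idealMod I).presheaf.germ V x hx a :=
    TopCat.Presheaf.germ_res_apply (ClSub.idealMod I).presheaf (homOfLE inf_le_left) x hW a
  have e2 : (ClSub.idealMod I).presheaf.germ (V ⊓ V') x hW
      (res (ClSub.idealMod I) (inf_le_right : V ⊓ V' ≤ V') b) =
      (ClSub.idealMod I).presheaf.germ V' x hx' b :=
    TopCat.Presheaf.germ_res_apply (ClSub.idealMod I).presheaf (homOfLE inf_le_right) x hW b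
  have e3 : X.presheaf.germ (V ⊓ V') x hW
      (rres X (inf_le_left : V ⊓ V' ≤ V) (IdealMod.val I a)) =
      X.presheaf.germ V x hx (IdealMod.val I a) :=
    TopCat.Presheaf.germ_res_apply X.presheaf (homOfLE inf_le_left) x hW _
  have e4 : X.presheaf.germ (V ⊓ V') x hW
      (rres X (inf_le_right : V ⊓ V' ≤ V') (IdealMod.val I b)) =
      X.presheaf.germ V' x hx' (IdealMod.val I b) :=
    TopCat.Presheaf.germ_res_apply X.presheaf (homOfLE inf_le_right) x hW _
  rw [e1, e2, e3, e4] at h
  exact h

theorem isCoh_idealMod [IsLocallyNoetherian X] : Coh.IsCoh (ClSub.idealMod I) := by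
  have hO := isCoh_structureModule X
  haveI : (Coh.structureModule X).IsQuasicoherent := hO.1
  haveI : (Coh.structureModule X).IsFiniteType := hO.2
  exact ⟨IdealMod.isQuasicoherent_idealMod I, QCProps.isFiniteType_of_mono (ClSub.idealModι I)⟩

/-- a section with zero germ vanishes near the point -/
theorem exists_res_eq_zero_of_germ_eq_zero {V : X.Opens} (x : X) (hx : x ∈ V)
    (a : Γ(ClSub.idealMod I, V)) (h : (ClSub.idealMod I).presheaf.germ V x hx a = 0) :
    ∃ (W : X.Opens) (hW : W ≤ V), x ∈ W ∧ res (ClSub.idealMod I) hW a = 0 := by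
  have h0 : (ClSub.idealMod I).presheaf.germ V x hx a =
      (ClSub.idealMod I).presheaf.germ V x hx 0 := by
    rw [h, map_zero]
  obtain ⟨W, hxW, i1, i2, h1⟩ := TopCat.Presheaf.germ_eq _ x hx hx _ _ h0
  have hWV : W ≤ V := leOfHom i1
  have e1 : i1 = homOfLE hWV := Subsingleton.elim _ _
  have e2 : i2 = homOfLE hWV := Subsingleton.elim _ _
  rw [e1, e2] at h1
  exact ⟨W, hWV, hxW, h1.trans (map_zero _)⟩

theorem isTorsionFree_idealMod [IsIntegral X] : TorSh.IsTorsionFree (ClSub.idealMod I) := by
  intro x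
  rw [Module.isTorsionFree_iff_smul_eq_zero]
  intro r m h
  obtain ⟨W, hx, r', a, rfl, rfl⟩ := QS.exists_germ_pair (ClSub.idealMod I) x r m
  rw [← Mero.germ_smul] at h
  obtain ⟨V, hVW, hxV, h2⟩ := exists_res_eq_zero_of_germ_eq_zero I x hx (r' • a) h
  rw [res_smul] at h2
  have h3 := congrArg (IdealMod.val I) h2
  rw [IdealMod.val_smul, val_zero'] at h3
  haveI : Nonempty V := ⟨⟨x, hxV⟩⟩
  rcases mul_eq_zero.mp h3 with h4 | h4
  · left
    have e : X.presheaf.germ W x hx r' = X.presheaf.germ V x hxV (rres X hVW r') :=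
      (TopCat.Presheaf.germ_res_apply X.presheaf (homOfLE hVW) x hxV r').symm
    rw [e, h4, map_zero]
  · right
    have h5 : res (ClSub.idealMod I) hVW a = 0 :=
      IdealMod.val_injective I V (h4.trans (val_zero' I V).symm)
    have e : (ClSub.idealMod I).presheaf.germ W x hx a =
        (ClSub.idealMod I).presheaf.germ V x hxV (res (ClSub.idealMod I) hVW a) :=
      (TopCat.Presheaf.germ_res_apply (ClSub.idealMod I).presheaf (homOfLE hVW) x hxV a).symm
    rw [e, h5, map_zero]

end sections

end Groth.Agent.Lib.Helper26.RefSh
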