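import Groth.Agent.Lib.Helper26.RefShD
import Groth.Agent.Lib.Helper17.StalkKit

/-!
# Torsion-free modules on integral schemes: sections restrict injectively (helper26)
-/

set_option autoImplicit false
set_option linter.style.haveILetI false
set_option linter.unusedSectionVars false
universe u
open CategoryTheory CategoryTheory.Limits AlgebraicGeometry TopologicalSpace Opposite

namespace Groth.Agent.Lib.Helper26.RefSh

open Groth.Agent.Lib.Helper3 Groth.Agent.Lib.Helper3.QCSec Groth.Agent.Lib.Helper17

variable {X : Scheme.{u}}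

theorem genericPoint_mem_of_nonempty [IsIntegral X] (U : X.Opens) (h : (U : Set X).Nonempty) :
    genericPoint X ∈ U :=
  ((genericPoint_spec X).mem_open_set_iff U.isOpen).mpr (by simpa using h)

theorem ringKrullDim_stalk_genericPoint [IsIntegral X] :
    ringKrullDim (X.presheaf.stalk (genericPoint X)) = 0 :=
  ringKrullDim_eq_zero_of_isField
    (isField_stalk_of_closure_mem_irreducibleComponents X _
      (by simp [irreducibleComponents_eq_singleton]))

/-- If every point of `U ∖ V` has local ring of dimension at least two (or merely at least one),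
the generic point lies in `V` as soon as `U` is nonempty. -/
theorem genericPoint_mem_of_codim [IsIntegral X] {U V : X.Opens}
    (hcod : ∀ x : X, x ∈ U → x ∉ V → (2 : WithBot ℕ∞) ≤ ringKrullDim (X.presheaf.stalk x))
    (h : (U : Set X).Nonempty) : genericPoint X ∈ V := by
  by_contra hV
  have h2 := hcod _ (genericPoint_mem_of_nonempty U h) hV
  rw [ringKrullDim_stalk_genericPoint] at h2
  exact absurd h2 (by decide)

/-- Sections of a torsion-free quasi-coherent module on an integral scheme restrict injectively to
any open containing the generic point. -/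
theorem injective_res_of_torsionFree [IsIntegral X] (Q : X.Modules) [Q.IsQuasicoherent]
    (hQ : TorSh.IsTorsionFree Q) {U V : X.Opens} (hVU : V ≤ U)
    (hη : (U : Set X).Nonempty → genericPoint X ∈ V) :
    Function.Injective (Q.presheaf.map (homOfLE hVU).op) := by
  rw [injective_iff_map_eq_zero]
  intro q hq
  refine TopCat.Presheaf.section_ext ⟨Q.presheaf, Q.isSheaf⟩ _ _ _ fun x hx => ?_
  have hηV : genericPoint X ∈ V := hη ⟨x, hx⟩
  obtain ⟨W, hW, hxW, hWU⟩ := Opens.isBasis_iff_nbhd.mp X.isBasis_affineOpens hx
  have hηW : genericPoint X ∈ W := genericPoint_mem_of_nonempty W ⟨x, hxW⟩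
  have h0 : Q.presheaf.germ W (genericPoint X) hηW (res Q hWU q) = 0 := by
    have e1 : Q.presheaf.germ W (genericPoint X) hηW (res Q hWU q) =
        Q.presheaf.germ U (genericPoint X) (hVU hηV) q :=
      TopCat.Presheaf.germ_res_apply Q.presheaf (homOfLE hWU) _ hηW q
    have e2 : Q.presheaf.germ V (genericPoint X) hηV (res Q hVU q) =
        Q.presheaf.germ U (genericPoint X) (hVU hηV) q :=
      TopCat.Presheaf.germ_res_apply Q.presheaf (homOfLE hVU) _ hηV q
    rw [e1, ← e2]
    have hq' : res Q hVU q = 0 := hq
    rw [hq', map_zero]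
  obtain ⟨s, hs, hsq⟩ := StalkKit.exists_smul_eq_zero_of_germ_eq_zero hW (genericPoint X) hηW Q _ h0
  have hs0 : s ≠ 0 := by
    rintro rfl
    exact hs (Ideal.zero_mem _)
  have hgs : X.presheaf.germ W x hxW s ≠ 0 := by
    intro h
    apply hs0
    apply germ_injective_of_isIntegral X x hxW
    rw [h, map_zero]
  have h1 : X.presheaf.germ W x hxW s • Q.presheaf.germ W x hxW (res Q hWU q) = 0 := by
    rw [← QS.germ_smul Q x hxW, hsq, map_zero]
  haveI : Module.IsTorsionFree (X.presheaf.stalk x) (Q.presheaf.stalk x) := hQ x
  have h2 : Q.presheaf.germ W x hxW (res Q hWU q) = 0 := by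
    have hreg : IsSMulRegular (Q.presheaf.stalk x) (X.presheaf.germ W x hxW s) :=
      Module.IsTorsionFree.isSMulRegular (isRegular_of_ne_zero hgs)
    exact hreg (h1.trans (smul_zero _).symm)
  have e3 : Q.presheaf.germ W x hxW (res Q hWU q) = Q.presheaf.germ U x hx q :=
    TopCat.Presheaf.germ_res_apply Q.presheaf (homOfLE hWU) x hxW q
  rw [← e3, h2, map_zero]

end Groth.Agent.Lib.Helper26.RefSh
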