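import Groth.Agent.Lib.Helper26.RefShK
import Groth.Agent.Lib.Helper17.GenFreeSheaf
import Groth.Agent.Lib.Helper17.LocFreeRank
import Groth.Agent.Lib.Helper5.InvMod

/-!
# Closure properties of rank one reflexive modules (helper26)

`O_X`, duals and reflexive tensor products of rank one coherent reflexive modules are again rank
one coherent reflexive; orders of rational sections of the dual.
-/

set_option autoImplicit false
set_option linter.style.haveILetI false
set_option linter.unusedSectionVars false
universe u
open CategoryTheory CategoryTheory.Limits AlgebraicGeometry TopologicalSpace Opposite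

namespace Groth.Agent.Lib.Helper26.RefSh

open Groth.Agent.Lib.Helper3 Groth.Agent.Lib.Helper3.QCSec Groth.Agent.Lib.Helper17
open Groth.Agent.Lib.Helper3.InvGen

variable {X : Scheme.{u}}

/-- a coherent module whose generic stalk is free of rank one is invertible on a dense open -/
theorem genInvertible_of_generator [IsIntegral X] (N : X.Modules) [N.IsQuasicoherent]
    [N.IsFiniteType] (w : N.presheaf.stalk (genericPoint X))
    (hbij : Function.Bijective (fun a : X.presheaf.stalk (genericPoint X) => a • w)) :
    RefHull.GenInvertible N := by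
  have hrank : Module.finrank (X.presheaf.stalk (genericPoint X))
      (N.presheaf.stalk (genericPoint X)) = 1 := by
    let L : X.presheaf.stalk (genericPoint X) →ₗ[X.presheaf.stalk (genericPoint X)]
        N.presheaf.stalk (genericPoint X) :=
      { toFun := fun a => a • w
        map_add' := fun a b => add_smul a b w
        map_smul' := fun a b => mul_smul a b w }
    have e := (LinearEquiv.ofBijective L hbij).finrank_eq
    rw [← e]
    exact Module.finrank_self _
  obtain ⟨U, hne, he⟩ := GenFreeSheaf.exists_open_free N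
  rw [hrank] at he
  obtain ⟨e⟩ := he
  refine ⟨U, U.2.dense hne, ?_⟩
  have h1 : FlatMod.IsFinLocFreeOfRank 1 (N.restrict U.ι) :=
    LocFreeRank.isFinLocFreeOfRank_of_iso e.symm 1 (LocFreeRank.isFinLocFreeOfRank_freeMod _ 1)
  intro x
  obtain ⟨V, hx, ⟨e'⟩⟩ := h1 x
  exact ⟨V, hx, ⟨e' ≪≫ coproductUniqueIso (fun _ : Fin 1 => Coh.structureModule ↑V)⟩⟩

/-- the identification `(O_X)_x = O_{X,x}` commutes with specialization -/
theorem unitEquiv_spec {ξ x : X} (h : ξ ⤳ x)
    (m : (Coh.structureModule X).presheaf.stalk x) :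
    unitEquiv ξ (((Coh.structureModule X).presheaf.stalkSpecializes h).hom m) =
      (X.presheaf.stalkSpecializes h).hom (unitEquiv x m) := by
  obtain ⟨U, hx, s, rfl⟩ := TopCat.Presheaf.exists_germ_eq (Coh.structureModule X).presheaf m
  rw [specHom_germ]
  have h1 : unitEquiv ξ ((Coh.structureModule X).presheaf.germ U ξ (h.mem_open U.2 hx) s) =
      X.presheaf.germ U ξ (h.mem_open U.2 hx) s :=
    Groth.Agent.Lib.Helper9.StalkUnit.unitStalkHom_germ ξ U (h.mem_open U.2 hx) s
  have h2 : unitEquiv x ((Coh.structureModule X).presheaf.germ U x hx s) =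
      X.presheaf.germ U x hx s :=
    Groth.Agent.Lib.Helper9.StalkUnit.unitStalkHom_germ x U hx s
  rw [h1, h2]
  exact (specHom_germ_ring h U hx s).symm

theorem isRef1_structureModule (X : Scheme.{u}) [IsLocallyNoetherian X] :
    RefHull.IsRef1 (Coh.structureModule X) := by
  refine ⟨isCoh_structureModule X, ?_, ⊤, ?_, ?_⟩
  · rw [isReflexive_iff_forall (isCoh_structureModule X)]
    intro x
    show Module.IsReflexive (X.presheaf.stalk x) ((Coh.structureModule X).presheaf.stalk x)
    exact Module.equiv (unitEquiv x).symm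
  · rw [Opens.coe_top]
    exact dense_univ
  · exact Groth.Agent.Lib.Helper5.isInvertible_restrict
      (Groth.Agent.Lib.Helper5.isInvertible_structureModule X) _

/-- a rank one reflexive module has a nonzero rational section -/
theorem exists_ne_zero_of_isRef1 [IsIntegral X] [IsLocallyNoetherian X] {F : X.Modules}
    (hF : RefHull.IsRef1 F) : ∃ v : F.presheaf.stalk (genericPoint X), v ≠ 0 := by
  haveI : F.IsQuasicoherent := hF.1.1
  obtain ⟨U, hdense, hL⟩ := hF.2.2
  have hη : genericPoint X ∈ U := genericPoint_mem_of_nonempty U hdense.nonempty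
  obtain ⟨U', e, hηU', hg⟩ := InvGen.exists_isGen hL ⟨genericPoint X, hη⟩
  have hηW : genericPoint X ∈ U.ι ''ᵁ U' := ⟨⟨genericPoint X, hη⟩, hηU', rfl⟩
  have hg' : IsGenAt (F.restrict U.ι) U' e := by
    have h := hg U' le_rfl
    rwa [res_self] at h
  have hgen := isGenAt_of_restrict F U U' e hg'
  have he0 : (show Γ(F, U.ι ''ᵁ U') from e) ≠ 0 := by
    intro h0
    haveI : Nonempty (U.ι ''ᵁ U' : X.Opens) := ⟨⟨genericPoint X, hηW⟩⟩
    haveI : Nontrivial Γ(X, U.ι ''ᵁ U') := Scheme.component_nontrivial X _
    have h1 : (1 : Γ(X, U.ι ''ᵁ U')) = 0 := hgen.1 (by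
      show (1 : Γ(X, U.ι ''ᵁ U')) • (show Γ(F, U.ι ''ᵁ U') from e) =
        (0 : Γ(X, U.ι ''ᵁ U')) • (show Γ(F, U.ι ''ᵁ U') from e)
      rw [h0, smul_zero, smul_zero])
    exact one_ne_zero h1
  exact ⟨_, germ_ne_zero_of_torsionFree F (isTorsionFree_of_isRef1 hF) _ he0 (genericPoint X) hηW⟩

/-- the dual basis vector of a nonzero rational section -/
theorem exists_dual_generator [IsIntegral X] [IsLocallyNoetherian X] {F : X.Modules}
    (hF : RefHull.IsRef1 F) (wF : F.presheaf.stalk (genericPoint X)) (hwF : wF ≠ 0) :
    ∃ wD : (RefHull.dual F).presheaf.stalk (genericPoint X),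
      RefHull.evalStalk F (Coh.structureModule X) (genericPoint X) wD wF =
        (unitEquiv (genericPoint X)).symm 1 ∧
      Function.Bijective (fun a : X.presheaf.stalk (genericPoint X) => a • wD) := by
  have hFP := isFP_of_isCoh' hF.1
  have hev := HomShSurj.evalStalk_bijective F (Coh.structureModule X) hFP (genericPoint X)
  have hgenF := generator_of_ne_zero F hF.2.2 wF hwF
  haveI : Module.IsTorsionFree (X.presheaf.stalk (genericPoint X))
      (F.presheaf.stalk (genericPoint X)) := isTorsionFree_of_isRef1 hF (genericPoint X)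
  obtain ⟨T0, hT0⟩ := exists_linearMap_of_generator
    (N := ((Coh.structureModule X).presheaf.stalk (genericPoint X))) wF hwF hgenF
    ((unitEquiv (genericPoint X)).symm 1)
  obtain ⟨wD, hwD⟩ := hev.2 T0
  have hval : RefHull.evalStalk F (Coh.structureModule X) (genericPoint X) wD wF =
      (unitEquiv (genericPoint X)).symm 1 := by
    rw [hwD]
    exact hT0
  have hsm : ∀ a : X.presheaf.stalk (genericPoint X),
      RefHull.evalStalk F (Coh.structureModule X) (genericPoint X) (a • wD) wF =
        a • (unitEquiv (genericPoint X)).symm 1 := by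
    intro a
    rw [map_smul (RefHull.evalStalk F (Coh.structureModule X) (genericPoint X)) a wD,
      LinearMap.smul_apply, hval]
  have hunit : ∀ a : X.presheaf.stalk (genericPoint X),
      unitEquiv (genericPoint X) (a • (unitEquiv (genericPoint X)).symm 1) = a := by
    intro a
    rw [map_smul, LinearEquiv.apply_symm_apply, smul_eq_mul, mul_one]
  refine ⟨wD, hval, ?_, ?_⟩
  · intro a b hab
    have h1 : RefHull.evalStalk F (Coh.structureModule X) (genericPoint X) (a • wD) wF =
        RefHull.evalStalk F (Coh.structureModule X) (genericPoint X) (b • wD) wF :=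
      congrArg (fun z => RefHull.evalStalk F (Coh.structureModule X) (genericPoint X) z wF) hab
    rw [hsm, hsm] at h1
    have h2 := congrArg (unitEquiv (genericPoint X)) h1
    rwa [hunit, hunit] at h2
  · intro θ
    refine ⟨unitEquiv (genericPoint X)
      (RefHull.evalStalk F (Coh.structureModule X) (genericPoint X) θ wF), ?_⟩
    show unitEquiv (genericPoint X)
      (RefHull.evalStalk F (Coh.structureModule X) (genericPoint X) θ wF) • wD = θ
    apply hev.1
    refine LinearMap.ext fun m => linearMap_eq_of_generator wF hgenF _ _ ?_ m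
    rw [hsm]
    apply (unitEquiv (genericPoint X)).injective
    rw [hunit]

theorem isRef1_dual [IsIntegral X] [IsLocallyNoetherian X] {F : X.Modules}
    (hF : RefHull.IsRef1 F) : RefHull.IsRef1 (RefHull.dual F) := by
  have hD := isCoh_dual hF.1
  haveI : (RefHull.dual F).IsQuasicoherent := hD.1
  haveI : (RefHull.dual F).IsFiniteType := hD.2
  refine ⟨hD, (isReflexive_iff_forall hD).mpr (fun x => isReflexiveAt_dual hF.1 x), ?_⟩
  obtain ⟨wF, hwF⟩ := exists_ne_zero_of_isRef1 hF
  obtain ⟨wD, -, hbij⟩ := exists_dual_generator hF wF hwF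
  exact genInvertible_of_generator _ wD hbij

theorem isRef1_ddual_tensorMod [IsIntegral X] [IsLocallyNoetherian X]
    (hX : Pi1.IsNormalScheme X) {F G : X.Modules} (hF : RefHull.IsRef1 F)
    (hG : RefHull.IsRef1 G) : RefHull.IsRef1 (RefHull.ddual (CohB1.tensorMod F G)) := by
  haveI : F.IsQuasicoherent := hF.1.1
  haveI : G.IsQuasicoherent := hG.1.1
  haveI : F.IsFiniteType := hF.1.2
  haveI : G.IsFiniteType := hG.1.2
  haveI : (CohB1.tensorMod F G).IsQuasicoherent := TensorSec.isQuasicoherent_tensorMod F G
  haveI : (CohB1.tensorMod F G).IsFiniteType := TensorSec.isFiniteType_tensorMod F G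
  have hP : Coh.IsCoh (CohB1.tensorMod F G) := ⟨inferInstance, inferInstance⟩
  have hMcoh := isCoh_ddual hP
  haveI : (RefHull.ddual (CohB1.tensorMod F G)).IsQuasicoherent := hMcoh.1
  haveI : (RefHull.ddual (CohB1.tensorMod F G)).IsFiniteType := hMcoh.2
  have hMr : ∀ x : X, RefHull.IsReflexiveAt (RefHull.ddual (CohB1.tensorMod F G)) x := fun x =>
    isReflexiveAt_dual (isCoh_dual hP) x
  refine ⟨hMcoh, (isReflexive_iff_forall hMcoh).mpr hMr, ?_⟩
  obtain ⟨wF, hwF⟩ := exists_ne_zero_of_isRef1 hF
  obtain ⟨wG, hwG⟩ := exists_ne_zero_of_isRef1 hG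
  have hgenF := generator_of_ne_zero F hF.2.2 wF hwF
  have hgenG := generator_of_ne_zero G hG.2.2 wG hwG
  have hbijη := (stalkMap_bidual_bijective_iff hP (genericPoint X)).mpr
    (isReflexiveAt_genericPoint hX hP)
  have hw0 : stalkTensor F G (genericPoint X) wF wG ≠ 0 :=
    stalkTensor_ne_zero F G (genericPoint X) wF hgenF wG hgenG hwF hwG
  have hwM : RefHull.stalkMapₗ (RefHull.bidualMap (CohB1.tensorMod F G)) (genericPoint X)
      (stalkTensor F G (genericPoint X) wF wG) ≠ 0 :=
    fun h => hw0 (hbijη.1 (h.trans (map_zero _).symm))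
  haveI : Module.IsTorsionFree (X.presheaf.stalk (genericPoint X))
      ((RefHull.ddual (CohB1.tensorMod F G)).presheaf.stalk (genericPoint X)) := by
    haveI : Module.IsReflexive (X.presheaf.stalk (genericPoint X))
      ((RefHull.ddual (CohB1.tensorMod F G)).presheaf.stalk (genericPoint X)) := hMr _
    infer_instance
  apply genInvertible_of_generator _
    (RefHull.stalkMapₗ (RefHull.bidualMap (CohB1.tensorMod F G)) (genericPoint X)
      (stalkTensor F G (genericPoint X) wF wG))
  constructor
  · intro a b hab
    exact smul_left_injective (X.presheaf.stalk (genericPoint X)) hwM hab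
  · intro m
    obtain ⟨p, rfl⟩ := hbijη.2 m
    obtain ⟨r, rfl⟩ := exists_smul_stalkTensor F G (genericPoint X) wF hgenF wG hgenG p
    exact ⟨r, (map_smul _ r _).symm⟩

/-- the order of the pairing `⟨φ, s⟩` is the sum of the orders -/
theorem ord_eval [IsIntegral X] [IsLocallyNoetherian X] (hX : Pi1.IsNormalScheme X)
    (F : X.Modules) (hF : RefHull.IsRef1 F) (hD : RefHull.IsRef1 (RefHull.dual F))
    (wF : F.presheaf.stalk (genericPoint X)) (hwF : wF ≠ 0)
    (wD : (RefHull.dual F).presheaf.stalk (genericPoint X)) (hwD : wD ≠ 0)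
    (x : X) (hx : Order.coheight x = 1) (hsp : genericPoint X ⤳ x) :
    Scheme.ord (unitEquiv (genericPoint X)
        (RefHull.evalStalk F (Coh.structureModule X) (genericPoint X) wD wF) :
          X.functionField) x =
      Cyc.secOrdAt (RefHull.dual F) (genericPoint X) x hsp (Submodule.Quotient.mk wD) +
        Cyc.secOrdAt F (genericPoint X) x hsp (Submodule.Quotient.mk wF) := by
  obtain ⟨tF, φF, hspanF, hφF, hwFeq, hordF⟩ := secOrdAt_spec hX F hF x hx hsp wF hwF
  obtain ⟨tD, φD, hspanD, hφD, hwDeq, hordD⟩ :=
    secOrdAt_spec hX (RefHull.dual F) hD x hx hsp wD hwD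
  have hFP := isFP_of_isCoh' hF.1
  have key1 : RefHull.evalStalk F (Coh.structureModule X) (genericPoint X)
      (((RefHull.dual F).presheaf.stalkSpecializes hsp).hom tD)
      ((F.presheaf.stalkSpecializes hsp).hom tF) =
      ((Coh.structureModule X).presheaf.stalkSpecializes hsp).hom
        (RefHull.evalStalk F (Coh.structureModule X) x tD tF) := by
    obtain ⟨W, hxW, h, rfl⟩ := TopCat.Presheaf.exists_germ_eq (RefHull.dual F).presheaf tD
    rw [specHom_germ, RefHull.evalStalk_germ, RefHull.evalStalk_germ]
    exact (spec_section_apply h hsp hxW tF).symm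
  have e1 : RefHull.evalStalk F (Coh.structureModule X) (genericPoint X) wD wF =
      φD • φF • ((Coh.structureModule X).presheaf.stalkSpecializes hsp).hom
        (RefHull.evalStalk F (Coh.structureModule X) x tD tF) := by
    rw [hwDeq, hwFeq,
      map_smul (RefHull.evalStalk F (Coh.structureModule X) (genericPoint X)) φD,
      LinearMap.smul_apply, map_smul _ φF, key1]
  obtain ⟨u, hu_def⟩ : ∃ u : X.presheaf.stalk x,
      u = unitEquiv x (RefHull.evalStalk F (Coh.structureModule X) x tD tF) := ⟨_, rfl⟩
  have e2 : (unitEquiv (genericPoint X)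
      (RefHull.evalStalk F (Coh.structureModule X) (genericPoint X) wD wF) :
        X.functionField) =
      φD * φF * (X.presheaf.stalkSpecializes hsp).hom u := by
    rw [e1, map_smul, map_smul, unitEquiv_spec, ← hu_def, smul_eq_mul, smul_eq_mul, mul_assoc]
  have hu : IsUnit u := by
    haveI : Module.IsTorsionFree (X.presheaf.stalk x) (F.presheaf.stalk x) :=
      isTorsionFree_of_isRef1 hF x
    have hspecne : (F.presheaf.stalkSpecializes hsp).hom tF ≠ 0 := by
      intro h0
      apply hwF
      rw [hwFeq, h0, smul_zero]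
    have htF0 : tF ≠ 0 := by
      rintro rfl
      exact hspecne (map_zero _)
    have hgenx : ∀ m : F.presheaf.stalk x, ∃ a : X.presheaf.stalk x, a • tF = m := fun m =>
      Submodule.mem_span_singleton.mp (by rw [hspanF]; trivial)
    obtain ⟨T, hT⟩ := exists_linearMap_of_generator
      (N := ((Coh.structureModule X).presheaf.stalk x)) tF htF0 hgenx ((unitEquiv x).symm 1)
    obtain ⟨θ, hθ⟩ := (HomShSurj.evalStalk_bijective F (Coh.structureModule X) hFP x).2 T
    obtain ⟨c, hc⟩ := Submodule.mem_span_singleton.mp
      (show θ ∈ Submodule.span (X.presheaf.stalk x) {tD} by rw [hspanD]; trivial)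
    have h2 : RefHull.evalStalk F (Coh.structureModule X) x θ tF = (unitEquiv x).symm 1 := by
      rw [hθ]
      exact hT
    rw [← hc, map_smul (RefHull.evalStalk F (Coh.structureModule X) x) c,
      LinearMap.smul_apply] at h2
    have h3 := congrArg (unitEquiv x) h2
    rw [map_smul, LinearEquiv.apply_symm_apply, smul_eq_mul, ← hu_def] at h3
    exact IsUnit.of_mul_eq_one c ((mul_comm u c).trans h3)
  have hu0 : (X.presheaf.stalkSpecializes hsp).hom u ≠ 0 :=
    (hu.map (X.presheaf.stalkSpecializes hsp).hom).ne_zero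
  have h1 := Scheme.ord_mul (x := x) (mul_ne_zero hφD hφF) hu0
  have h2 := Scheme.ord_mul (x := x) hφD hφF
  have h3 := ord_spec_unit x hx hsp u hu
  have h4 : Scheme.ord (unitEquiv (genericPoint X)
      (RefHull.evalStalk F (Coh.structureModule X) (genericPoint X) wD wF) :
        X.functionField) x =
      Scheme.ord (φD * φF * (X.presheaf.stalkSpecializes hsp).hom u) x :=
    congrArg (fun z : X.functionField => Scheme.ord z x) e2
  have h5 : Scheme.ord (unitEquiv (genericPoint X)
      (RefHull.evalStalk F (Coh.structureModule X) (genericPoint X) wD wF) :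
        X.functionField) x =
      (Scheme.ord φD x + Scheme.ord φF x) +
        Scheme.ord ((X.presheaf.stalkSpecializes hsp).hom u : X.functionField) x :=
    h4.trans (h1.trans (congrArg (fun z : ℤ => z +
      Scheme.ord ((X.presheaf.stalkSpecializes hsp).hom u : X.functionField) x) h2))
  rw [h5, h3, add_zero, hordD, hordF]

/-- the unit section of `O_X` has order zero everywhere -/
theorem secOrdAt_one [IsIntegral X] [IsLocallyNoetherian X] (x : X)
    (hx : Order.coheight x = 1) (hsp : genericPoint X ⤳ x) :
    Cyc.secOrdAt (Coh.structureModule X) (genericPoint X) x hsp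
      (Submodule.Quotient.mk ((unitEquiv (genericPoint X)).symm 1)) = 0 := by
  have hO := isRef1_structureModule X
  haveI : (Coh.structureModule X).IsQuasicoherent := hO.1.1
  have hspan : Submodule.span (X.presheaf.stalk x) {(unitEquiv x).symm 1} = ⊤ := by
    rw [eq_top_iff]
    intro m _
    rw [Submodule.mem_span_singleton]
    refine ⟨unitEquiv x m, ?_⟩
    apply (unitEquiv x).injective
    rw [map_smul, LinearEquiv.apply_symm_apply, smul_eq_mul, mul_one]
  have hw : (unitEquiv (genericPoint X)).symm 1 ≠ 0 := by
    intro h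
    have h1 := congrArg (unitEquiv (genericPoint X)) h
    rw [LinearEquiv.apply_symm_apply, map_zero] at h1
    exact one_ne_zero h1
  have hweq : (unitEquiv (genericPoint X)).symm 1 =
      (1 : X.functionField) • ((Coh.structureModule X).presheaf.stalkSpecializes hsp).hom
        ((unitEquiv x).symm 1) := by
    rw [one_smul]
    apply (unitEquiv (genericPoint X)).injective
    rw [LinearEquiv.apply_symm_apply, unitEquiv_spec, LinearEquiv.apply_symm_apply, map_one]
  exact (secOrdAt_eq_of_generator (Coh.structureModule X) (isTorsionFree_of_isRef1 hO) x hx hsp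
    _ hspan 1 one_ne_zero _ hw hweq).trans (ord_one x hx)

end Groth.Agent.Lib.Helper26.RefSh
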