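import Groth.Prelude.Def_Hens2
import Mathlib.RingTheory.Henselian
import Mathlib.RingTheory.Ideal.Quotient.Operations
import Mathlib.Algebra.Polynomial.Derivative
import Mathlib.Algebra.Polynomial.Eval.Algebra

/-!
# Formal consequences of the universal property of a henselization of a pair (helper26)

* `exists_sub_mem` : if `B` is a henselization of `(A, I)` then `B = A·1 + I B`, i.e. every `b : B`
  is congruent mod `I B` to the image of an element of `A` (so `A/I → B/IB` is surjective).
-/

namespace Groth.Agent.Lib.Helper26.PairHens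

universe u

open Polynomial

variable {A : Type u} [CommRing A] (I : Ideal A) {B : Type u} [CommRing B] [Algebra A B]

/-- the subring `A·1 + I B` of `B` -/
def subringAdd : Subring B where
  carrier := {b | ∃ a : A, b - algebraMap A B a ∈ I.map (algebraMap A B)}
  mul_mem' := by
    rintro b b' ⟨a, ha⟩ ⟨a', ha'⟩
    refine ⟨a * a', ?_⟩
    have : b * b' - algebraMap A B (a * a') =
        (b - algebraMap A B a) * b' + algebraMap A B a * (b' - algebraMap A B a') := by
      rw [map_mul]; ring
    rw [this]
    exact Ideal.add_mem _ (Ideal.mul_mem_right _ _ ha) (Ideal.mul_mem_left _ _ ha')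
  one_mem' := ⟨1, by simp⟩
  add_mem' := by
    rintro b b' ⟨a, ha⟩ ⟨a', ha'⟩
    refine ⟨a + a', ?_⟩
    have : b + b' - algebraMap A B (a + a') =
        (b - algebraMap A B a) + (b' - algebraMap A B a') := by
      rw [map_add]; ring
    rw [this]
    exact Ideal.add_mem _ ha ha'
  zero_mem' := ⟨0, by simp⟩
  neg_mem' := by
    rintro b ⟨a, ha⟩
    refine ⟨-a, ?_⟩
    have : -b - algebraMap A B (-a) = -(b - algebraMap A B a) := by
      rw [map_neg]; ring
    rw [this]
    exact Ideal.neg_mem_iff _ |>.mpr ha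

lemma mem_subringAdd {b : B} :
    b ∈ subringAdd I (B := B) ↔ ∃ a : A, b - algebraMap A B a ∈ I.map (algebraMap A B) := Iff.rfl

lemma mem_subringAdd_of_sub_mem {b b' : B} (hb' : b' ∈ subringAdd I (B := B))
    (h : b - b' ∈ I.map (algebraMap A B)) : b ∈ subringAdd I (B := B) := by
  obtain ⟨a, ha⟩ := hb'
  refine ⟨a, ?_⟩
  have : b - algebraMap A B a = (b - b') + (b' - algebraMap A B a) := by ring
  rw [this]
  exact Ideal.add_mem _ h ha

/-- the ideal `I B` of the subring `A·1 + I B` -/
def idealAdd : Ideal (subringAdd I (B := B)) :=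
  (I.map (algebraMap A B)).comap (subringAdd I (B := B)).subtype

lemma mem_idealAdd {x : subringAdd I (B := B)} :
    x ∈ idealAdd I (B := B) ↔ (x : B) ∈ I.map (algebraMap A B) := Iff.rfl

theorem henselianRing_subringAdd [HenselianRing B (I.map (algebraMap A B))] :
    HenselianRing (subringAdd I (B := B)) (idealAdd I (B := B)) := by
  refine ⟨?_, ?_⟩
  · intro x hx
    rw [Ideal.mem_jacobson_bot]
    intro y
    have hxy : (x : B) * (y : B) ∈ I.map (algebraMap A B) := Ideal.mul_mem_right _ _ hx
    have hu := Ideal.mem_jacobson_bot.mp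
      (HenselianRing.jac (R := B) (I := I.map (algebraMap A B)) hxy) 1
    rw [mul_one] at hu
    obtain ⟨u, hu'⟩ := hu
    have hinv : (↑u⁻¹ : B) ∈ subringAdd I (B := B) := by
      refine ⟨1, ?_⟩
      have h1 : (u : B) * (↑u⁻¹ : B) = 1 := Units.mul_inv u
      have : (↑u⁻¹ : B) - algebraMap A B 1 = -((x : B) * (y : B)) * (↑u⁻¹ : B) := by
        rw [map_one, hu'] at *
        linear_combination h1
      rw [this]
      exact Ideal.mul_mem_right _ _ ((Ideal.neg_mem_iff _).mpr hxy)
    refine ⟨⟨x * y + 1, ⟨_, hinv⟩, ?_, ?_⟩, rfl⟩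
    · apply Subtype.ext
      change ((x : B) * (y : B) + 1) * (↑u⁻¹ : B) = 1
      rw [← hu']; exact Units.mul_inv u
    · apply Subtype.ext
      change (↑u⁻¹ : B) * ((x : B) * (y : B) + 1) = 1
      rw [← hu']; exact Units.inv_mul u
  · intro f hf a₀ hfa₀ hder
    let ι : subringAdd I (B := B) →+* B := (subringAdd I (B := B)).subtype
    have hmonic : (f.map ι).Monic := hf.map ι
    have h1 : (f.map ι).eval (ι a₀) ∈ I.map (algebraMap A B) := by
      rw [Polynomial.eval_map_apply]; exact hfa₀
    have h2 : IsUnit (Ideal.Quotient.mk (I.map (algebraMap A B))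
        ((f.map ι).derivative.eval (ι a₀))) := by
      rw [Polynomial.derivative_map, Polynomial.eval_map_apply]
      have hq : idealAdd I (B := B) ≤ (I.map (algebraMap A B)).comap ι := le_rfl
      have := hder.map (Ideal.quotientMap (I.map (algebraMap A B)) ι hq)
      rwa [Ideal.quotientMap_mk] at this
    obtain ⟨a, ha, haa₀⟩ := HenselianRing.is_henselian (f.map ι) hmonic (ι a₀) h1 h2
    have hamem : a ∈ subringAdd I (B := B) := mem_subringAdd_of_sub_mem I a₀.2 haa₀
    refine ⟨⟨a, hamem⟩, ?_, haa₀⟩
    rw [Polynomial.IsRoot.def]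
    apply Subtype.ext
    have := Polynomial.eval_map_apply (p := f) ι (⟨a, hamem⟩ : subringAdd I (B := B))
    change ι (f.eval ⟨a, hamem⟩) = 0
    rw [← this]
    exact ha

/-- If `B` is a henselization of the pair `(A, I)` then `B = A·1 + I B`. -/
theorem exists_sub_mem (hB : Hens2.IsPairHenselization A I B) (b : B) :
    ∃ a : A, b - algebraMap A B a ∈ I.map (algebraMap A B) := by
  haveI := hB.1
  let B' := subringAdd I (B := B)
  let ι : B' →+* B := (subringAdd I (B := B)).subtype
  let f : A →+* B' := (algebraMap A B).codRestrict (subringAdd I (B := B))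
    (fun a => ⟨a, by simp⟩)
  have hf : I.map f ≤ idealAdd I (B := B) := by
    rw [Ideal.map_le_iff_le_comap]
    intro x hx
    exact Ideal.mem_map_of_mem (algebraMap A B) hx
  obtain ⟨g, hg, -⟩ := hB.2 B' (idealAdd I (B := B)) f (henselianRing_subringAdd I) hf
  obtain ⟨g₀, -, huniq⟩ := hB.2 B (I.map (algebraMap A B)) (algebraMap A B) hB.1 le_rfl
  have h1 : ι.comp g = g₀ := by
    apply huniq
    rw [RingHom.comp_assoc, hg]
    rfl
  have h2 : RingHom.id B = g₀ := huniq _ (RingHom.id_comp _)
  have h3 : ι (g b) = b := by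
    have := congrArg (fun ψ : B →+* B => ψ b) (h1.trans h2.symm)
    simpa using this
  rw [← h3]
  exact (g b).2

end Groth.Agent.Lib.Helper26.PairHens
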