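import Groth.Agent.Lib.Helper26.HenselTFAE
import Groth.Agent.Lib.Helper26.PairHens
import Mathlib

/-!
# Construction of the Henselization of a pair (helper26)

For a pair `(A, I)` we consider *pointed étale algebras* `(E, σ)`, `σ : E →ₐ[A] A ⧸ I`, and
their localizations `L = E[σ⁻¹(1)⁻¹]`.  Between two such localizations there is at most one
`A`-algebra map, so they form a directed system indexed by a preorder, whose direct limit is the
Henselization of `(A, I)`.
-/

set_option autoImplicit false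
universe u

namespace Groth.Agent.Lib.Helper26.PairHensConstr

open Polynomial TensorProduct Groth.Agent.Lib.Helper26.HenselBasic Groth.Agent.Lib.Helper3
  Groth.Agent.Lib.Helper26.HenselGabber Groth.Agent.Lib.Helper26.HenselTFAE

section Basic

variable {A : Type u} [CommRing A] (I : Ideal A)

/-- Two maps from an unramified algebra that agree modulo an ideal in the Jacobson radical
are equal. -/
theorem algHom_eq_of_sub_mem_jacobson {B₁ C : Type*} [CommRing B₁] [CommRing C] [Algebra A B₁]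
    [Algebra A C] [Algebra.EssFiniteType A B₁] [Algebra.FormallyUnramified A B₁]
    (J' : Ideal C) (hJ' : J' ≤ Ideal.jacobson ⊥) (φ φ' : B₁ →ₐ[A] C)
    (h : ∀ s, φ s - φ' s ∈ J') : φ = φ' := by
  let Φ : B₁ ⊗[A] B₁ →ₐ[A] C := Algebra.TensorProduct.productMap φ φ'
  set θ := Φ (Algebra.FormallyUnramified.elem A B₁) with hθ
  have h1 : ∀ s, (φ' s - φ s) * θ = 0 := by
    intro s
    have := congrArg Φ
      (Algebra.FormallyUnramified.one_tmul_sub_tmul_one_mul_elem (R := A) (S := B₁) s)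
    rw [map_mul, map_zero, map_sub] at this
    simpa [Φ] using this
  have h2 : θ - 1 ∈ J' := by
    let π : C →ₐ[A] C ⧸ J' := Ideal.Quotient.mkₐ A J'
    have hππ : π.comp φ = π.comp φ' := by
      ext s
      exact Ideal.Quotient.eq.mpr (h s)
    have e1 : π.comp Φ = (π.comp φ).comp (Algebra.TensorProduct.lmul' A) := by
      apply Algebra.TensorProduct.ext'
      intro a b
      simp only [Φ, AlgHom.comp_apply, Algebra.TensorProduct.productMap_apply_tmul,
        Algebra.TensorProduct.lmul'_apply_tmul, map_mul]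
      congr 1
      exact (DFunLike.congr_fun hππ b).symm
    have e2 : π θ = 1 := by
      have := DFunLike.congr_fun e1 (Algebra.FormallyUnramified.elem A B₁)
      simp only [AlgHom.comp_apply] at this
      rw [this, Algebra.FormallyUnramified.lmul_elem, map_one, map_one]
    rw [← Ideal.Quotient.eq_zero_iff_mem, map_sub, map_one, sub_eq_zero]
    exact e2
  have hθu : IsUnit θ := by
    apply isUnit_of_isUnit_mk hJ'
    have : Ideal.Quotient.mk J' θ = 1 := by
      rw [← map_one (Ideal.Quotient.mk _), Ideal.Quotient.eq]; exact h2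
    rw [this]; exact isUnit_one
  ext s
  have := (hθu.mul_left_eq_zero).mp (h1 s)
  exact (sub_eq_zero.mp this).symm

variable {E : Type u} [CommRing E] [Algebra A E] (σ : E →ₐ[A] A ⧸ I)

lemma sigma_eq_zero_of_mem {x : E} (hx : x ∈ I.map (algebraMap A E)) : σ x = 0 := by
  have : I.map (algebraMap A E) ≤ RingHom.ker σ.toRingHom := by
    rw [Ideal.map_le_iff_le_comap]
    intro a ha
    rw [Ideal.mem_comap, RingHom.mem_ker]
    show σ (algebraMap A E a) = 0
    rw [σ.commutes, Ideal.Quotient.algebraMap_eq, Ideal.Quotient.eq_zero_iff_mem]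
    exact ha
  exact this hx

/-- A pointed unramified algebra of finite type: there is `g` with `σ g = 1` and
`g · ker σ ⊆ I E`. -/
theorem exists_mul_mem [Algebra.EssFiniteType A E] [Algebra.FormallyUnramified A E] :
    ∃ g : E, σ g = 1 ∧ ∀ y, σ y = 0 → g * y ∈ I.map (algebraMap A E) := by
  set K := I.map (algebraMap A E) with hK
  let π : E →ₐ[A] E ⧸ K := Ideal.Quotient.mkₐ A K
  let τ : (A ⧸ I) →ₐ[A] E ⧸ K := Ideal.Quotient.liftₐ I (Algebra.ofId A (E ⧸ K)) (by
    intro a ha
    show algebraMap A (E ⧸ K) a = 0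
    rw [IsScalarTower.algebraMap_apply A E (E ⧸ K), Ideal.Quotient.algebraMap_eq,
      Ideal.Quotient.eq_zero_iff_mem]
    exact Ideal.mem_map_of_mem _ ha)
  let σbar : (E ⧸ K) →ₐ[A] A ⧸ I := Ideal.Quotient.liftₐ K σ (fun x hx =>
    sigma_eq_zero_of_mem I σ hx)
  let Ψ : E ⊗[A] E →ₐ[A] E ⧸ K := Algebra.TensorProduct.productMap (τ.comp σ) π
  obtain ⟨g, hg⟩ := Ideal.Quotient.mk_surjective (Ψ (Algebra.FormallyUnramified.elem A E))
  have hστ : ∀ z, σbar (τ z) = z := by
    intro z
    obtain ⟨a, rfl⟩ := Ideal.Quotient.mk_surjective z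
    have h1 : τ (Ideal.Quotient.mk I a) = algebraMap A (E ⧸ K) a := by
      rw [← Ideal.Quotient.algebraMap_eq, AlgHom.commutes]
    rw [h1, AlgHom.commutes, Ideal.Quotient.algebraMap_eq]
  have hσπ : ∀ z, σbar (π z) = σ z := fun z => rfl
  have e1 : σbar.comp Ψ = σ.comp (Algebra.TensorProduct.lmul' A) := by
    apply Algebra.TensorProduct.ext'
    intro a b
    simp only [Ψ, AlgHom.comp_apply, Algebra.TensorProduct.productMap_apply_tmul,
      Algebra.TensorProduct.lmul'_apply_tmul, map_mul, hστ, hσπ]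
  refine ⟨g, ?_, ?_⟩
  · have : σ g = σbar (π g) := rfl
    rw [this]
    show σbar (Ideal.Quotient.mk K g) = 1
    rw [hg]
    have := DFunLike.congr_fun e1 (Algebra.FormallyUnramified.elem A E)
    simp only [AlgHom.comp_apply] at this
    rw [this, Algebra.FormallyUnramified.lmul_elem, map_one]
  · intro y hy
    rw [← Ideal.Quotient.eq_zero_iff_mem, map_mul, hg]
    have h0 := congrArg Ψ
      (Algebra.FormallyUnramified.one_tmul_sub_tmul_one_mul_elem (R := A) (S := E) y)
    rw [map_mul, map_zero, map_sub] at h0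
    simp only [Ψ, Algebra.TensorProduct.productMap_apply_tmul, map_one, one_mul, mul_one,
      AlgHom.comp_apply, hy, map_zero, sub_zero] at h0
    rw [mul_comm]
    exact h0

/-- The multiplicative set `σ⁻¹(1)`. -/
def mset : Submonoid E where
  carrier := {x | σ x = 1}
  mul_mem' := by
    intro a b ha hb
    simp only [Set.mem_setOf_eq] at *
    rw [map_mul, ha, hb, one_mul]
  one_mem' := map_one σ

lemma mem_mset {x : E} : x ∈ mset I σ ↔ σ x = 1 := Iff.rfl

/-- The localization of `E` at `σ⁻¹(1)`. -/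
abbrev Loc : Type u := Localization (mset I σ)

/-- The extension of `σ` to the localization. -/
noncomputable def sigmaL : Loc I σ →ₐ[A] A ⧸ I :=
  IsLocalization.liftAlgHom (M := mset I σ) (f := σ) (fun y => by
    rw [(mem_mset I σ).mp y.2]; exact isUnit_one)

@[simp] lemma sigmaL_algebraMap (e : E) : sigmaL I σ (algebraMap E (Loc I σ) e) = σ e := by
  simp [sigmaL]

lemma isUnit_of_sigmaL_eq_one {x : Loc I σ} (hx : sigmaL I σ x = 1) : IsUnit x := by
  obtain ⟨e, s, rfl⟩ := IsLocalization.exists_mk'_eq (mset I σ) x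
  have h1 : IsLocalization.mk' (Loc I σ) e s * algebraMap E (Loc I σ) s = algebraMap E (Loc I σ) e :=
    IsLocalization.mk'_spec _ _ _
  have h2 := congrArg (sigmaL I σ) h1
  rw [map_mul, hx, one_mul, sigmaL_algebraMap, sigmaL_algebraMap, (mem_mset I σ).mp s.2] at h2
  have he : IsUnit (algebraMap E (Loc I σ) e) :=
    IsLocalization.map_units (Loc I σ) (⟨e, h2.symm⟩ : mset I σ)
  rw [← h1] at he
  exact isUnit_of_mul_isUnit_left he

lemma map_le_jacobson_loc : I.map (algebraMap A (Loc I σ)) ≤ Ideal.jacobson ⊥ := by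
  intro x hx
  rw [Ideal.mem_jacobson_bot]
  intro y
  apply isUnit_of_sigmaL_eq_one
  rw [map_add, map_mul, sigma_eq_zero_of_mem I (sigmaL I σ) hx, zero_mul, zero_add, map_one]

lemma map_map_loc : I.map (algebraMap A (Loc I σ)) =
    (I.map (algebraMap A E)).map (algebraMap E (Loc I σ)) := by
  rw [Ideal.map_map, ← IsScalarTower.algebraMap_eq]

/-- `A/I → L/IL` is surjective. -/
theorem exists_sub_mem_loc [Algebra.EssFiniteType A E] [Algebra.FormallyUnramified A E]
    (x : Loc I σ) : ∃ a : A, x - algebraMap A (Loc I σ) a ∈ I.map (algebraMap A (Loc I σ)) := by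
  obtain ⟨g, hg1, hg⟩ := exists_mul_mem I σ
  obtain ⟨e, s, rfl⟩ := IsLocalization.exists_mk'_eq (mset I σ) x
  obtain ⟨a, ha⟩ := Ideal.Quotient.mk_surjective (σ e)
  refine ⟨a, ?_⟩
  set w : E := e - algebraMap A E a * s with hw
  have hσw : σ w = 0 := by
    rw [hw, map_sub, map_mul, (mem_mset I σ).mp s.2, mul_one, σ.commutes,
      Ideal.Quotient.algebraMap_eq, ha, sub_self]
  have h1 : IsLocalization.mk' (Loc I σ) e s - algebraMap A (Loc I σ) a =
      IsLocalization.mk' (Loc I σ) w s := by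
    rw [IsLocalization.eq_mk'_iff_mul_eq, sub_mul, IsLocalization.mk'_spec, hw, map_sub, map_mul,
      ← IsScalarTower.algebraMap_apply]
  rw [h1, map_map_loc, IsLocalization.mk'_mem_map_algebraMap_iff (mset I σ)]
  exact ⟨g, hg1, hg w hσw⟩

theorem mem_map_of_sigmaL_eq_zero [Algebra.EssFiniteType A E] [Algebra.FormallyUnramified A E]
    {x : Loc I σ} (hx : sigmaL I σ x = 0) : x ∈ I.map (algebraMap A (Loc I σ)) := by
  obtain ⟨a, ha⟩ := exists_sub_mem_loc I σ x
  have h1 := sigma_eq_zero_of_mem I (sigmaL I σ) ha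
  rw [map_sub, hx, zero_sub, neg_eq_zero, AlgHom.commutes, Ideal.Quotient.algebraMap_eq,
    Ideal.Quotient.eq_zero_iff_mem] at h1
  have h2 : algebraMap A (Loc I σ) a ∈ I.map (algebraMap A (Loc I σ)) :=
    Ideal.mem_map_of_mem _ h1
  have : x = (x - algebraMap A (Loc I σ) a) + algebraMap A (Loc I σ) a := by ring
  rw [this]
  exact Ideal.add_mem _ ha h2

lemma algHom_map_mem {B C : Type*} [CommRing B] [CommRing C] [Algebra A B] [Algebra A C]
    (φ : B →ₐ[A] C) {x : B} (hx : x ∈ I.map (algebraMap A B)) :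
    φ x ∈ I.map (algebraMap A C) := by
  have : (I.map (algebraMap A B)).map φ.toRingHom = I.map (algebraMap A C) := by
    rw [Ideal.map_map]
    congr 1
    exact φ.comp_algebraMap
  rw [← this]
  exact Ideal.mem_map_of_mem _ hx

/-- Uniqueness of `A`-algebra maps out of `L`. -/
theorem algHom_loc_ext [Algebra.EssFiniteType A E] [Algebra.FormallyUnramified A E]
    {C : Type*} [CommRing C] [Algebra A C] (J' : Ideal C) (hJ' : J' ≤ Ideal.jacobson ⊥)
    (hIJ : I.map (algebraMap A C) ≤ J') (φ ψ : Loc I σ →ₐ[A] C) : φ = ψ := by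
  have key : ∀ x, φ x - ψ x ∈ J' := by
    intro x
    obtain ⟨a, ha⟩ := exists_sub_mem_loc I σ x
    have h1 := algHom_map_mem I φ ha
    have h2 := algHom_map_mem I ψ ha
    have : φ x - ψ x = φ (x - algebraMap A (Loc I σ) a) - ψ (x - algebraMap A (Loc I σ) a) := by
      rw [map_sub, map_sub, φ.commutes, ψ.commutes]; ring
    rw [this]
    exact hIJ (Ideal.sub_mem _ h1 h2)
  have h0 : φ.comp (IsScalarTower.toAlgHom A E (Loc I σ)) =
      ψ.comp (IsScalarTower.toAlgHom A E (Loc I σ)) :=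
    algHom_eq_of_sub_mem_jacobson J' hJ' _ _ (fun s => key _)
  apply AlgHom.coe_ringHom_injective
  apply IsLocalization.ringHom_ext (mset I σ)
  ext e
  exact DFunLike.congr_fun h0 e

/-- Existence of maps from a pointed étale algebra to Henselian pairs. -/
theorem exists_algHom_etale_of_henselian [Algebra.Etale A E] (C : Type u) [CommRing C]
    [Algebra A C] (J' : Ideal C) [HenselianRing C J'] (hIJ : I.map (algebraMap A C) ≤ J') :
    ∃ φ₀ : E →ₐ[A] C, ∀ x, σ x = 1 → IsUnit (φ₀ x) := by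
  let θ : (A ⧸ I) →ₐ[A] C ⧸ J' := Ideal.Quotient.liftₐ I (Algebra.ofId A (C ⧸ J')) (by
    intro a ha
    show algebraMap A (C ⧸ J') a = 0
    rw [IsScalarTower.algebraMap_apply A C (C ⧸ J'), Ideal.Quotient.algebraMap_eq,
      Ideal.Quotient.eq_zero_iff_mem]
    exact hIJ (Ideal.mem_map_of_mem _ ha))
  let σC : C ⊗[A] E →ₐ[C] C ⧸ J' :=
    Algebra.TensorProduct.lift (Algebra.ofId C (C ⧸ J')) (θ.comp σ) (fun _ _ => Commute.all _ _)
  obtain ⟨τ, hτ⟩ := liftsEtale_of_henselianRing J' (C ⊗[A] E) σC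
  let φ₀ : E →ₐ[A] C := (τ.restrictScalars A).comp Algebra.TensorProduct.includeRight
  have hφ₀ : ∀ x, Ideal.Quotient.mk J' (φ₀ x) = θ (σ x) := by
    intro x
    have := DFunLike.congr_fun hτ ((1 : C) ⊗ₜ[A] x)
    simp only [AlgHom.comp_apply, Ideal.Quotient.mkₐ_eq_mk] at this
    show Ideal.Quotient.mk J' (τ (1 ⊗ₜ[A] x)) = _
    rw [this]
    simp [σC]
  refine ⟨φ₀, fun x hx => ?_⟩
  apply isUnit_of_isUnit_mk (HenselianRing.jac (R := C) (I := J'))
  rw [hφ₀, hx, map_one]
  exact isUnit_one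

/-- Existence of maps to Henselian pairs. -/
theorem exists_algHom_of_henselian [Algebra.Etale A E] (C : Type u) [CommRing C] [Algebra A C]
    (J' : Ideal C) [HenselianRing C J'] (hIJ : I.map (algebraMap A C) ≤ J') :
    ∃ φ : Loc I σ →ₐ[A] C, True := by
  obtain ⟨φ₀, hφ₀⟩ := exists_algHom_etale_of_henselian I σ C J' hIJ
  exact ⟨IsLocalization.liftAlgHom (M := mset I σ) (f := φ₀) (fun y =>
    hφ₀ y ((mem_mset I σ).mp y.2)), trivial⟩

end Basic

section GabberStep

variable {A : Type u} [CommRing A] (I : Ideal A)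
variable {E : Type u} [CommRing E] [Algebra A E] [Algebra.Etale A E] (σ : E →ₐ[A] A ⧸ I)

/-- The key step: adjoining a root of a Gabber polynomial to a pointed étale algebra. -/
theorem gabber_step (b : E) (hb : σ b = 1) (n : ℕ) (q : E[X]) (hq : q.natDegree ≤ n)
    (hσq : ∀ j, σ (q.coeff j) = 0) :
    ∃ (E' : Type u) (_ : CommRing E') (_ : Algebra A E') (_ : Algebra.Etale A E')
      (σ' : E' →ₐ[A] A ⧸ I) (ψ : E →ₐ[A] E') (x : E'),
      (∀ e, σ' (ψ e) = σ e) ∧ σ' x = 1 ∧
      ψ b * (x ^ n * (x - 1)) + q.eval₂ (ψ : E →+* E') x = 0 := by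
  let B₁ := Localization.Away b
  let binv : B₁ := IsLocalization.Away.invSelf b
  have hbinv : algebraMap E B₁ b * binv = 1 := IsLocalization.Away.mul_invSelf b
  let q₁ : B₁[X] := C binv * q.map (algebraMap E B₁)
  have hq₁ : q₁.natDegree ≤ n := (natDegree_C_mul_le _ _).trans (natDegree_map_le.trans hq)
  let F₁ : B₁[X] := X ^ n * (X - 1) + q₁
  have hF₁ : F₁.Monic := monic_gabber n q₁ hq₁
  let P : StandardEtalePair B₁ := ⟨F₁, hF₁, X * derivative F₁, ⟨X, 0, 1, by ring⟩⟩
  let σ₁ : B₁ →ₐ[A] A ⧸ I :=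
    IsLocalization.Away.liftAlgHom (f := σ) b (by rw [hb]; exact isUnit_one)
  have hσ₁ : ∀ e, σ₁ (algebraMap E B₁ e) = σ e := fun e => by simp [σ₁]
  have hqmap : q₁.map (σ₁ : B₁ →+* A ⧸ I) = 0 := by
    ext j
    simp only [q₁, Polynomial.coeff_map, Polynomial.coeff_C_mul, map_mul, RingHom.coe_coe, hσ₁,
      hσq, mul_zero, Polynomial.coeff_zero]
  have hFmap : F₁.map (σ₁ : B₁ →+* A ⧸ I) = X ^ n * (X - 1) := by
    simp only [F₁, Polynomial.map_add, hqmap, add_zero, Polynomial.map_mul, Polynomial.map_pow,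
      Polynomial.map_X, Polynomial.map_sub, Polynomial.map_one]
  letI algB₁ : Algebra B₁ (A ⧸ I) := (σ₁ : B₁ →+* A ⧸ I).toAlgebra
  have hmap : P.HasMap (1 : A ⧸ I) := by
    constructor
    · show aeval (1 : A ⧸ I) F₁ = 0
      rw [aeval_def, eval₂_eq_eval_map]
      show eval 1 (F₁.map (σ₁ : B₁ →+* A ⧸ I)) = 0
      rw [hFmap]; simp
    · show IsUnit (aeval (1 : A ⧸ I) (X * derivative F₁))
      rw [aeval_def, eval₂_eq_eval_map]
      show IsUnit (eval 1 ((X * derivative F₁).map (σ₁ : B₁ →+* A ⧸ I)))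
      rw [Polynomial.map_mul, Polynomial.map_X, ← Polynomial.derivative_map, hFmap]
      simp
  letI algAE' : Algebra A P.Ring := ((algebraMap B₁ P.Ring).comp (algebraMap A B₁)).toAlgebra
  haveI : IsScalarTower A B₁ P.Ring := IsScalarTower.of_algebraMap_eq' rfl
  haveI : Algebra.Etale A P.Ring := Algebra.Etale.comp A B₁ P.Ring
  haveI : IsScalarTower A B₁ (A ⧸ I) :=
    IsScalarTower.of_algebraMap_eq (fun a => (σ₁.commutes a).symm)
  let σ' : P.Ring →ₐ[A] A ⧸ I := (P.lift 1 hmap).restrictScalars A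
  let ψ : E →ₐ[A] P.Ring :=
    (IsScalarTower.toAlgHom A B₁ P.Ring).comp (IsScalarTower.toAlgHom A E B₁)
  refine ⟨P.Ring, inferInstance, algAE', inferInstance, σ', ψ, P.X, ?_, ?_, ?_⟩
  · intro e
    show (P.lift 1 hmap) (algebraMap B₁ P.Ring (algebraMap E B₁ e)) = σ e
    rw [AlgHom.commutes]
    exact hσ₁ e
  · show (P.lift 1 hmap) P.X = 1
    exact P.lift_X 1 hmap
  · have h0 : aeval P.X F₁ = 0 := (StandardEtalePair.hasMap_X (P := P)).1
    have h1 : aeval P.X q₁ = algebraMap B₁ P.Ring binv * q.eval₂ (ψ : E →+* P.Ring) P.X := by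
      simp only [q₁, map_mul, aeval_C]
      congr 1
      rw [aeval_def, eval₂_map]; rfl
    have h2 : ψ b * algebraMap B₁ P.Ring binv = 1 := by
      show algebraMap B₁ P.Ring (algebraMap E B₁ b) * algebraMap B₁ P.Ring binv = 1
      rw [← map_mul, hbinv, map_one]
    simp only [F₁, map_add, map_mul, map_pow, aeval_X, map_sub, map_one, h1] at h0
    calc ψ b * (P.X ^ n * (P.X - 1)) + q.eval₂ (ψ : E →+* P.Ring) P.X
        = ψ b * (P.X ^ n * (P.X - 1) +
            algebraMap B₁ P.Ring binv * q.eval₂ (ψ : E →+* P.Ring) P.X) := by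
          rw [mul_add, ← mul_assoc (ψ b) (algebraMap B₁ P.Ring binv), h2, one_mul]
      _ = 0 := by rw [h0, mul_zero]

end GabberStep

section System

variable (A : Type u) [CommRing A] (I : Ideal A)

/-- The (small) index set: presented pointed étale algebras. -/
structure Idx : Type u where
  /-- number of variables -/
  n : ℕ
  /-- ideal of relations -/
  J : Ideal (MvPolynomial (Fin n) A)
  etale : Algebra.Etale A (MvPolynomial (Fin n) A ⧸ J)
  /-- the point -/
  σ : (MvPolynomial (Fin n) A ⧸ J) →ₐ[A] A ⧸ I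

variable {A I}

namespace Idx

/-- The étale algebra of an index. -/
abbrev E (i : Idx A I) : Type u := MvPolynomial (Fin i.n) A ⧸ i.J

instance (i : Idx A I) : Algebra.Etale A i.E := i.etale

/-- The localized algebra of an index. -/
abbrev L (i : Idx A I) : Type u := Loc I i.σ

/-- The point of the localized algebra. -/
noncomputable abbrev σL (i : Idx A I) : i.L →ₐ[A] A ⧸ I := sigmaL I i.σ

end Idx

theorem algHom_L_ext (i j : Idx A I) (φ ψ : i.L →ₐ[A] j.L) : φ = ψ :=
  algHom_loc_ext I i.σ (I.map (algebraMap A j.L)) (map_le_jacobson_loc I j.σ) le_rfl φ ψ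

theorem algHom_L_quot_ext (i : Idx A I) (φ ψ : i.L →ₐ[A] A ⧸ I) : φ = ψ :=
  algHom_loc_ext I i.σ ⊥ bot_le
    (le_of_eq (by rw [Ideal.Quotient.algebraMap_eq, Ideal.map_quotient_self])) φ ψ

instance : Preorder (Idx A I) where
  le i j := Nonempty (i.L →ₐ[A] j.L)
  le_refl i := ⟨AlgHom.id A _⟩
  le_trans := fun i j k ⟨f⟩ ⟨g⟩ => ⟨g.comp f⟩

/-- The transition maps. -/
noncomputable def tr (i j : Idx A I) (h : i ≤ j) : i.L →ₐ[A] j.L := Classical.choice h

instance : DirectedSystem (fun i : Idx A I => i.L) (fun i j h => tr i j h) where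
  map_self i x := by
    have := algHom_L_ext i i (tr i i le_rfl) (AlgHom.id A _)
    exact DFunLike.congr_fun this x
  map_map k j i hij hjk x := by
    have := algHom_L_ext i k ((tr j k hjk).comp (tr i j hij)) (tr i k (hij.trans hjk))
    exact DFunLike.congr_fun this x

theorem exists_idx {E' : Type u} [CommRing E'] [Algebra A E'] [Algebra.Etale A E']
    (σ' : E' →ₐ[A] A ⧸ I) :
    ∃ (k : Idx A I) (φ : E' →ₐ[A] k.L), ∀ x, k.σL (φ x) = σ' x := by
  obtain ⟨n, f, hf⟩ := Algebra.FiniteType.iff_quotient_mvPolynomial''.mp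
    (inferInstance : Algebra.FiniteType A E')
  let e : (MvPolynomial (Fin n) A ⧸ RingHom.ker f) ≃ₐ[A] E' :=
    Ideal.quotientKerAlgEquivOfSurjective hf
  let k : Idx A I := ⟨n, RingHom.ker f, Algebra.Etale.of_equiv e.symm, σ'.comp e.toAlgHom⟩
  refine ⟨k, (IsScalarTower.toAlgHom A k.E k.L).comp e.symm.toAlgHom, fun x => ?_⟩
  show sigmaL I k.σ (algebraMap k.E k.L (e.symm x)) = σ' x
  rw [sigmaL_algebraMap]
  show σ' (e (e.symm x)) = σ' x
  rw [AlgEquiv.apply_symm_apply]

theorem le_of_algHom (i k : Idx A I) (φ : i.E →ₐ[A] k.L) (h : ∀ x, k.σL (φ x) = i.σ x) :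
    i ≤ k :=
  ⟨IsLocalization.liftAlgHom (M := mset I i.σ) (f := φ) (fun y =>
    isUnit_of_sigmaL_eq_one I k.σ (by rw [h]; exact y.2))⟩

theorem tr_algebraMap (i k : Idx A I) (φ : i.E →ₐ[A] k.L) (h : ∀ x, k.σL (φ x) = i.σ x)
    (hik : i ≤ k) (e : i.E) : tr i k hik (algebraMap i.E i.L e) = φ e := by
  have := algHom_L_ext i k (tr i k hik)
    (IsLocalization.liftAlgHom (M := mset I i.σ) (f := φ) (fun y =>
      isUnit_of_sigmaL_eq_one I k.σ (by rw [h]; exact y.2)))
  rw [this]
  simp

instance : IsDirectedOrder (Idx A I) := ⟨fun i j => by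
  letI : Algebra.Etale A (i.E ⊗[A] j.E) := Algebra.Etale.comp A i.E (i.E ⊗[A] j.E)
  obtain ⟨k, φ, hφ⟩ := exists_idx (E' := i.E ⊗[A] j.E)
    (Algebra.TensorProduct.productMap i.σ j.σ)
  refine ⟨k, le_of_algHom i k (φ.comp Algebra.TensorProduct.includeLeft) (fun x => ?_),
    le_of_algHom j k (φ.comp Algebra.TensorProduct.includeRight) (fun x => ?_)⟩
  · rw [AlgHom.comp_apply, hφ]; simp
  · rw [AlgHom.comp_apply, hφ]; simp⟩

instance : Nonempty (Idx A I) := by
  obtain ⟨k, -, -⟩ := exists_idx (Ideal.Quotient.mkₐ A I)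
  exact ⟨k⟩

variable (A I) in
/-- The Henselization of the pair `(A, I)`. -/
abbrev PH : Type u := DirectLimit (fun i : Idx A I => i.L) tr

/-- The canonical maps into the Henselization. -/
noncomputable def ofL (i : Idx A I) : i.L →ₐ[A] PH A I where
  __ := DirectLimit.Ring.of (fun i : Idx A I => i.L) tr i
  commutes' r := (DirectLimit.algebraMap_def (f := tr) i r).symm

lemma ofL_tr (i j : Idx A I) (h : i ≤ j) (x : i.L) : ofL j (tr i j h x) = ofL i x :=
  DirectLimit.Ring.of_f (G := fun i : Idx A I => i.L) (f := tr) h x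

lemma exists_ofL (x : PH A I) : ∃ i y, ofL i y = x := by
  induction x using DirectLimit.induction with | _ i x
  exact ⟨i, x, rfl⟩

lemma exists_of_ofL_eq {i : Idx A I} {x y : i.L} (h : ofL i x = ofL i y) :
    ∃ (j : Idx A I) (hij : i ≤ j), tr i j hij x = tr i j hij y := by
  obtain ⟨k, hx, hy, hxy⟩ := Quotient.exact h
  exact ⟨k, hx, hxy⟩

lemma exists_of_ofL_eq_zero {i : Idx A I} {x : i.L} (h : ofL i x = 0) :
    ∃ (j : Idx A I) (hij : i ≤ j), tr i j hij x = 0 := by
  rw [← map_zero (ofL i)] at h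
  obtain ⟨j, hij, hj⟩ := exists_of_ofL_eq h
  exact ⟨j, hij, by rw [hj, map_zero]⟩

end System

section Properties

variable {A : Type u} [CommRing A] {I : Ideal A}

/-- The point of the Henselization. -/
noncomputable def σH : PH A I →ₐ[A] A ⧸ I where
  __ := DirectLimit.Ring.lift (fun i : Idx A I => i.L) tr (A ⧸ I)
    (fun i => (i.σL : i.L →+* A ⧸ I))
    (fun i j hij x => DFunLike.congr_fun (algHom_L_quot_ext i (j.σL.comp (tr i j hij)) i.σL) x)
  commutes' r := by
    obtain ⟨i⟩ := (inferInstance : Nonempty (Idx A I))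
    show DirectLimit.Ring.lift _ _ _ _ _ (algebraMap A (PH A I) r) = _
    rw [DirectLimit.algebraMap_def (f := tr) i r]
    exact i.σL.commutes r

lemma σH_ofL (i : Idx A I) (x : i.L) : σH (ofL i x) = i.σL x := rfl

lemma isUnit_of_σH_eq_one {x : PH A I} (h : σH x = 1) : IsUnit x := by
  obtain ⟨i, y, rfl⟩ := exists_ofL x
  exact (isUnit_of_sigmaL_eq_one I i.σ h).map (ofL i)

lemma map_le_jacobson_PH : I.map (algebraMap A (PH A I)) ≤ Ideal.jacobson ⊥ := by
  intro x hx
  rw [Ideal.mem_jacobson_bot]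
  intro y
  apply isUnit_of_σH_eq_one
  rw [map_add, map_mul, sigma_eq_zero_of_mem I σH hx, zero_mul, zero_add, map_one]

lemma mem_map_of_σH_eq_zero {x : PH A I} (h : σH x = 0) :
    x ∈ I.map (algebraMap A (PH A I)) := by
  obtain ⟨i, y, rfl⟩ := exists_ofL x
  exact algHom_map_mem I (ofL i) (mem_map_of_sigmaL_eq_zero I i.σ h)

lemma exists_sub_mem_PH (x : PH A I) :
    ∃ a : A, x - algebraMap A (PH A I) a ∈ I.map (algebraMap A (PH A I)) := by
  obtain ⟨a, ha⟩ := Ideal.Quotient.mk_surjective (σH x)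
  refine ⟨a, mem_map_of_σH_eq_zero ?_⟩
  rw [map_sub, AlgHom.commutes, Ideal.Quotient.algebraMap_eq, ha, sub_self]

lemma mem_of_algebraMap_mem_PH {a : A} (h : algebraMap A (PH A I) a ∈ I.map (algebraMap A (PH A I))) :
    a ∈ I := by
  have := sigma_eq_zero_of_mem I σH h
  rwa [AlgHom.commutes, Ideal.Quotient.algebraMap_eq, Ideal.Quotient.eq_zero_iff_mem] at this

lemma exists_stage (s : Finset (PH A I)) : ∃ i : Idx A I, ∀ x ∈ s, ∃ y, ofL i y = x := by
  classical
  induction s using Finset.induction_on with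
  | empty => exact ⟨Classical.arbitrary _, by simp⟩
  | insert a s _ ih =>
    obtain ⟨j₁, hj₁⟩ := ih
    obtain ⟨j₂, y, rfl⟩ := exists_ofL a
    obtain ⟨k, h₁, h₂⟩ := exists_ge_ge j₁ j₂
    refine ⟨k, fun x hx => ?_⟩
    rcases Finset.mem_insert.mp hx with rfl | hx
    · exact ⟨tr j₂ k h₂ y, ofL_tr _ _ _ _⟩
    · obtain ⟨z, rfl⟩ := hj₁ x hx
      exact ⟨tr j₁ k h₁ z, ofL_tr _ _ _ _⟩

lemma exists_poly_lift (p : (PH A I)[X]) : ∃ (i : Idx A I) (q : i.L[X]),
    q.map (ofL i : i.L →+* PH A I) = p ∧ q.natDegree = p.natDegree := by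
  obtain ⟨i, hi⟩ := exists_stage p.coeffs
  have : p ∈ Polynomial.lifts (ofL i : i.L →+* PH A I) := by
    rw [Polynomial.lifts_iff_coeff_lifts]
    intro n
    by_cases h : p.coeff n = 0
    · exact ⟨0, by rw [h]; exact map_zero _⟩
    · obtain ⟨y, hy⟩ := hi _ (Polynomial.coeff_mem_coeffs h)
      exact ⟨y, hy⟩
  obtain ⟨q, hq, hdeg⟩ := Polynomial.mem_lifts_and_degree_eq this
  exact ⟨i, q, hq, natDegree_eq_of_degree_eq hdeg⟩

theorem gabber_PH : Gabber (I.map (algebraMap A (PH A I))) := by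
  intro n hn p hp hpI
  obtain ⟨i, pi, hpi, hdeg⟩ := exists_poly_lift p
  obtain ⟨b, hbM, hb⟩ := IsLocalization.integerNormalization_spec (mset I i.σ) pi
  set q := IsLocalization.integerNormalization (mset I i.σ) pi with hq
  have hqdeg : q.natDegree ≤ n := by
    have hsupp := IsLocalization.integerNormalization_support (mset I i.σ) pi
    rw [Polynomial.natDegree_le_iff_coeff_eq_zero]
    intro N hN
    by_contra h
    have h1 : N ∈ pi.support := hsupp (Polynomial.mem_support_iff.mpr h)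
    have h2 := Polynomial.le_natDegree_of_mem_supp N h1
    omega
  have hσpi : ∀ j, i.σL (pi.coeff j) = 0 := by
    intro j
    have h1 : ofL i (pi.coeff j) = p.coeff j := by rw [← hpi, Polynomial.coeff_map]; rfl
    have := sigma_eq_zero_of_mem I σH (hpI j)
    rw [← h1] at this
    exact this
  have hσq : ∀ j, i.σ (q.coeff j) = 0 := by
    intro j
    have h1 := congrArg (fun r => Polynomial.coeff r j) hb
    simp only [Polynomial.coeff_map, Polynomial.coeff_smul] at h1
    have h2 := congrArg i.σL h1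
    rw [sigmaL_algebraMap, Algebra.smul_def, map_mul, hσpi, mul_zero] at h2
    exact h2
  obtain ⟨E', _, _, _, σ', ψ, x, hψ, hx, hroot⟩ := gabber_step I i.σ b hbM n q hqdeg hσq
  obtain ⟨k, φ, hφ⟩ := exists_idx σ'
  have hcomp : ∀ e, k.σL ((φ.comp ψ) e) = i.σ e := fun e => by
    rw [AlgHom.comp_apply, hφ, hψ]
  have hik : i ≤ k := le_of_algHom i k (φ.comp ψ) hcomp
  have htr : ∀ e, tr i k hik (algebraMap i.E i.L e) = φ (ψ e) := fun e =>
    tr_algebraMap i k (φ.comp ψ) hcomp hik e
  set y : k.L := φ x with hy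
  refine ⟨ofL k y, ?_, ?_⟩
  · have : ofL k y - 1 = ofL k (y - 1) := by rw [map_sub, map_one]
    rw [this]
    apply algHom_map_mem I (ofL k)
    apply mem_map_of_sigmaL_eq_zero
    rw [map_sub, map_one, hy, hφ, hx, sub_self]
  · have hofL : (ofL i : i.L →+* PH A I) =
        (ofL k : k.L →+* PH A I).comp (tr i k hik : i.L →+* k.L) :=
      RingHom.ext fun z => (ofL_tr i k hik z).symm
    have hp_eval : Polynomial.eval (ofL k y) p =
        ofL k (pi.eval₂ (tr i k hik : i.L →+* k.L) y) := by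
      rw [← hpi, Polynomial.eval_map, hofL]
      exact (Polynomial.hom_eval₂ pi (tr i k hik : i.L →+* k.L) (ofL k : k.L →+* PH A I) y).symm
    have hu : IsUnit (φ (ψ b)) := by
      apply isUnit_of_sigmaL_eq_one I k.σ
      rw [hφ, hψ]; exact hbM
    have h1 : φ (ψ b) * pi.eval₂ (tr i k hik : i.L →+* k.L) y = φ (q.eval₂ (ψ : i.E →+* E') x) := by
      have e1 : (b • pi).eval₂ (tr i k hik : i.L →+* k.L) y =
          φ (ψ b) * pi.eval₂ (tr i k hik : i.L →+* k.L) y := by
        rw [Algebra.smul_def, Polynomial.algebraMap_apply, Polynomial.eval₂_mul,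
          Polynomial.eval₂_C]
        congr 1
        exact htr b
      rw [← e1, ← hb, Polynomial.eval₂_map]
      have e2 : (tr i k hik : i.L →+* k.L).comp (algebraMap i.E i.L) =
          (φ : E' →+* k.L).comp (ψ : i.E →+* E') := RingHom.ext fun e => htr e
      rw [e2]
      exact (Polynomial.hom_eval₂ q (ψ : i.E →+* E') (φ : E' →+* k.L) x).symm
    have h2 : φ (ψ b) * (y ^ n * (y - 1) + pi.eval₂ (tr i k hik : i.L →+* k.L) y) = 0 := by
      rw [mul_add, h1]
      have := congrArg φ hroot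
      rw [map_add, map_mul, map_mul, map_pow, map_sub, map_one, map_zero] at this
      exact this
    have h3 := (hu.mul_right_eq_zero).mp h2
    simp only [Polynomial.IsRoot.def, Polynomial.eval_add, Polynomial.eval_mul,
      Polynomial.eval_pow, Polynomial.eval_X, Polynomial.eval_sub, Polynomial.eval_one, hp_eval]
    rw [← map_one (ofL k), ← map_sub, ← map_pow, ← map_mul, ← map_add, h3, map_zero]

instance henselianRing_PH : HenselianRing (PH A I) (I.map (algebraMap A (PH A I))) :=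
  henselianRing_of_gabber _ map_le_jacobson_PH gabber_PH

end Properties

section Universal

variable {A : Type u} [CommRing A] {I : Ideal A}

theorem isPairHenselization_PH : Hens2.IsPairHenselization A I (PH A I) := by
  refine ⟨henselianRing_PH, ?_⟩
  intro C _ J' g hC hgJ
  letI : Algebra A C := g.toAlgebra
  haveI := hC
  have hIJ : I.map (algebraMap A C) ≤ J' := hgJ
  have hex : ∀ i : Idx A I, ∃ φ : i.L →ₐ[A] C, True := fun i =>
    exists_algHom_of_henselian I i.σ C J' hIJ
  choose φ _ using hex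
  have huniq : ∀ (i : Idx A I) (φ₁ φ₂ : i.L →ₐ[A] C), φ₁ = φ₂ := fun i φ₁ φ₂ =>
    algHom_loc_ext I i.σ J' (HenselianRing.jac) hIJ φ₁ φ₂
  let G : PH A I →+* C := DirectLimit.Ring.lift (fun i : Idx A I => i.L) tr C
    (fun i => (φ i : i.L →+* C))
    (fun i j hij x => DFunLike.congr_fun (huniq i ((φ j).comp (tr i j hij)) (φ i)) x)
  refine ⟨G, ?_, ?_⟩
  · ext a
    obtain ⟨i⟩ := (inferInstance : Nonempty (Idx A I))
    show G (algebraMap A (PH A I) a) = g a
    rw [DirectLimit.algebraMap_def (f := tr) i a]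
    exact (φ i).commutes a
  · intro G' hG'
    apply DirectLimit.Ring.hom_ext
    intro i
    let ψ' : i.L →ₐ[A] C :=
      { toRingHom := G'.comp (ofL i : i.L →+* PH A I)
        commutes' := fun a => by
          show G' (ofL i (algebraMap A i.L a)) = g a
          rw [(ofL i).commutes]
          exact RingHom.congr_fun hG' a }
    have := huniq i ψ' (φ i)
    ext x
    exact DFunLike.congr_fun this x

instance flat_L (i : Idx A I) : Module.Flat A i.L := by
  haveI : Module.Flat i.E i.L := IsLocalization.flat i.L (mset I i.σ)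
  exact Module.Flat.trans A i.E i.L

instance flat_PH : Module.Flat A (PH A I) := by
  apply Module.Flat.of_forall_isTrivialRelation
  intro l f x hfx
  classical
  obtain ⟨i, hi⟩ := exists_stage (Finset.univ.image x)
  choose y hy using fun j : Fin l => hi (x j) (Finset.mem_image_of_mem x (Finset.mem_univ j))
  have h0 : ofL i (∑ j, f j • y j) = 0 := by
    rw [map_sum]; simp only [map_smul, hy]; exact hfx
  obtain ⟨k, hik, hk⟩ := exists_of_ofL_eq_zero h0
  rw [map_sum] at hk
  simp only [map_smul] at hk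
  obtain ⟨m, a, z, hz1, hz2⟩ := Module.Flat.isTrivialRelation_of_sum_smul_eq_zero
    (R := A) (M := k.L) (f := f) (x := fun j => tr i k hik (y j)) hk
  refine ⟨m, a, fun t => ofL k (z t), fun j => ?_, hz2⟩
  have hz1' : tr i k hik (y j) = ∑ t, a j t • z t := hz1 j
  rw [← hy j, ← ofL_tr i k hik, hz1', map_sum]
  simp only [map_smul]

theorem nonempty_algEquiv_of_isPairHenselization {B B' : Type u} [CommRing B] [CommRing B']
    [Algebra A B] [Algebra A B'] (hB : Hens2.IsPairHenselization A I B)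
    (hB' : Hens2.IsPairHenselization A I B') : Nonempty (B ≃ₐ[A] B') := by
  obtain ⟨g, hg, -⟩ := hB.2 B' _ (algebraMap A B') hB'.1 le_rfl
  obtain ⟨g', hg', -⟩ := hB'.2 B _ (algebraMap A B) hB.1 le_rfl
  obtain ⟨_, -, hu⟩ := hB.2 B _ (algebraMap A B) hB.1 le_rfl
  obtain ⟨_, -, hu'⟩ := hB'.2 B' _ (algebraMap A B') hB'.1 le_rfl
  have h1 : g'.comp g = RingHom.id B :=
    (hu (g'.comp g) (by
      show (g'.comp g).comp (algebraMap A B) = algebraMap A B
      rw [RingHom.comp_assoc, hg, hg'])).trans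
      (hu (RingHom.id B) (RingHom.id_comp _)).symm
  have h2 : g.comp g' = RingHom.id B' :=
    (hu' (g.comp g') (by
      show (g.comp g').comp (algebraMap A B') = algebraMap A B'
      rw [RingHom.comp_assoc, hg', hg])).trans
      (hu' (RingHom.id B') (RingHom.id_comp _)).symm
  exact ⟨AlgEquiv.ofRingEquiv (f := RingEquiv.ofRingHom g g' h2 h1)
    (fun a => RingHom.congr_fun hg a)⟩

theorem flat_of_isPairHenselization {B : Type u} [CommRing B] [Algebra A B]
    (hB : Hens2.IsPairHenselization A I B) : Module.Flat A B := by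
  obtain ⟨e⟩ := nonempty_algEquiv_of_isPairHenselization isPairHenselization_PH hB
  exact Module.Flat.of_linearEquiv e.symm.toLinearEquiv

end Universal

end Groth.Agent.Lib.Helper26.PairHensConstr
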