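import Groth.Agent.Lib.Helper26.PairHensConstr
import Mathlib

/-!
# Étale neighbourhoods of a pair and the Henselization (helper26)
-/

set_option autoImplicit false
universe u

namespace Groth.Agent.Lib.Helper26.PairHensNbhd

open Polynomial TensorProduct Groth.Agent.Lib.Helper26.HenselBasic Groth.Agent.Lib.Helper3
  Groth.Agent.Lib.Helper26.HenselGabber Groth.Agent.Lib.Helper26.HenselTFAE
  Groth.Agent.Lib.Helper26.PairHensConstr Groth.Agent.Lib.Helper26.PairHens

section QuotBij

variable {A : Type u} [CommRing A] (I : Ideal A)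

lemma sigma_eq_zero_of_mem' {B : Type*} [CommRing B] [Algebra A B] (σ : B →ₐ[A] A ⧸ I) {x : B}
    (hx : x ∈ I.map (algebraMap A B)) : σ x = 0 := by
  have : I.map (algebraMap A B) ≤ RingHom.ker σ.toRingHom := by
    rw [Ideal.map_le_iff_le_comap]
    intro a ha
    rw [Ideal.mem_comap, RingHom.mem_ker]
    show σ (algebraMap A B a) = 0
    rw [σ.commutes, Ideal.Quotient.algebraMap_eq, Ideal.Quotient.eq_zero_iff_mem]
    exact ha
  exact this hx

/-- `A/I → B/IB` is bijective. -/
def QuotBij (B : Type*) [CommRing B] [Algebra A B] : Prop :=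
  Function.Bijective
    (Ideal.quotientMap (I.map (algebraMap A B)) (algebraMap A B) Ideal.le_comap_map)

theorem quotBij_iff (B : Type*) [CommRing B] [Algebra A B] : QuotBij I B ↔
    (∀ x : B, ∃ a : A, x - algebraMap A B a ∈ I.map (algebraMap A B)) ∧
    (∀ a : A, algebraMap A B a ∈ I.map (algebraMap A B) → a ∈ I) := by
  unfold QuotBij
  rw [Function.Bijective, and_comm]
  constructor
  · rintro ⟨hs, hi⟩
    refine ⟨fun x => ?_, fun a ha => ?_⟩
    · obtain ⟨z, hz⟩ := hs (Ideal.Quotient.mk _ x)
      obtain ⟨a, rfl⟩ := Ideal.Quotient.mk_surjective z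
      rw [Ideal.quotientMap_mk] at hz
      exact ⟨a, Ideal.Quotient.eq.mp hz.symm⟩
    · have : Ideal.quotientMap (I.map (algebraMap A B)) (algebraMap A B) Ideal.le_comap_map
          (Ideal.Quotient.mk I a) = 0 := by
        rw [Ideal.quotientMap_mk, Ideal.Quotient.eq_zero_iff_mem]; exact ha
      rw [← map_zero (Ideal.quotientMap (I.map (algebraMap A B)) (algebraMap A B)
        Ideal.le_comap_map)] at this
      exact Ideal.Quotient.eq_zero_iff_mem.mp (hi this)
  · rintro ⟨hs, hi⟩
    refine ⟨fun z => ?_, ?_⟩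
    · obtain ⟨x, rfl⟩ := Ideal.Quotient.mk_surjective z
      obtain ⟨a, ha⟩ := hs x
      exact ⟨Ideal.Quotient.mk I a, by
        rw [Ideal.quotientMap_mk]; exact (Ideal.Quotient.eq.mpr ha).symm⟩
    · rw [injective_iff_map_eq_zero]
      intro z hz
      obtain ⟨a, rfl⟩ := Ideal.Quotient.mk_surjective z
      rw [Ideal.quotientMap_mk, Ideal.Quotient.eq_zero_iff_mem] at hz
      exact Ideal.Quotient.eq_zero_iff_mem.mpr (hi a hz)

variable {I}

/-- The point of an étale neighbourhood. -/
theorem QuotBij.exists_sigma {B : Type*} [CommRing B] [Algebra A B] (h : QuotBij I B) :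
    ∃ σ : B →ₐ[A] A ⧸ I, True := by
  let e := RingEquiv.ofBijective _ h
  refine ⟨{ toRingHom := (e.symm.toRingHom).comp (Ideal.Quotient.mk _)
            commutes' := fun a => ?_ }, trivial⟩
  show e.symm (Ideal.Quotient.mk _ (algebraMap A B a)) = _
  rw [RingEquiv.symm_apply_eq]
  show _ = Ideal.quotientMap (I.map (algebraMap A B)) (algebraMap A B) Ideal.le_comap_map
    (Ideal.Quotient.mk I a)
  rw [Ideal.quotientMap_mk]

theorem quotBij_of_sigma {B : Type*} [CommRing B] [Algebra A B] (σ : B →ₐ[A] A ⧸ I)
    (hs : ∀ x : B, ∃ a : A, x - algebraMap A B a ∈ I.map (algebraMap A B)) : QuotBij I B := by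
  rw [quotBij_iff]
  refine ⟨hs, fun a ha => ?_⟩
  have := sigma_eq_zero_of_mem' I σ ha
  rwa [AlgHom.commutes, Ideal.Quotient.algebraMap_eq, Ideal.Quotient.eq_zero_iff_mem] at this

theorem quotBij_trans {A' A'' : Type*} [CommRing A'] [CommRing A''] [Algebra A A'] [Algebra A A'']
    [Algebra A' A''] [IsScalarTower A A' A''] (h1 : QuotBij I A')
    (h2 : QuotBij (I.map (algebraMap A A')) A'') : QuotBij I A'' := by
  rw [quotBij_iff] at h1 h2 ⊢
  have hmap : (I.map (algebraMap A A')).map (algebraMap A' A'') = I.map (algebraMap A A'') := by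
    rw [Ideal.map_map, ← IsScalarTower.algebraMap_eq]
  rw [hmap] at h2
  refine ⟨fun x => ?_, fun a ha => ?_⟩
  · obtain ⟨a', ha'⟩ := h2.1 x
    obtain ⟨a, ha⟩ := h1.1 a'
    refine ⟨a, ?_⟩
    have h3 : algebraMap A' A'' (a' - algebraMap A A' a) ∈ I.map (algebraMap A A'') := by
      rw [← hmap]; exact Ideal.mem_map_of_mem _ ha
    have : x - algebraMap A A'' a = (x - algebraMap A' A'' a') +
        algebraMap A' A'' (a' - algebraMap A A' a) := by
      rw [map_sub, ← IsScalarTower.algebraMap_apply]; ring
    rw [this]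
    exact Ideal.add_mem _ ha' h3
  · apply h1.2
    apply h2.2
    rwa [← IsScalarTower.algebraMap_apply]

/-- Uniqueness of maps from an étale neighbourhood. -/
theorem algHom_nbhd_ext {A' : Type*} [CommRing A'] [Algebra A A'] [Algebra.EssFiniteType A A']
    [Algebra.FormallyUnramified A A']
    (hs : ∀ x : A', ∃ a : A, x - algebraMap A A' a ∈ I.map (algebraMap A A'))
    {C : Type*} [CommRing C] [Algebra A C] (J' : Ideal C) (hJ' : J' ≤ Ideal.jacobson ⊥)
    (hIJ : I.map (algebraMap A C) ≤ J') (φ ψ : A' →ₐ[A] C) : φ = ψ := by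
  apply algHom_eq_of_sub_mem_jacobson J' hJ'
  intro x
  obtain ⟨a, ha⟩ := hs x
  have h1 := algHom_map_mem I φ ha
  have h2 := algHom_map_mem I ψ ha
  have : φ x - ψ x = φ (x - algebraMap A A' a) - ψ (x - algebraMap A A' a) := by
    rw [map_sub, map_sub, φ.commutes, ψ.commutes]; ring
  rw [this]
  exact hIJ (Ideal.sub_mem _ h1 h2)

end QuotBij

section Pow

variable {A : Type u} [CommRing A] {I : Ideal A}

theorem henselianRing_bot (B : Type*) [CommRing B] : HenselianRing B ⊥ where
  jac := bot_le
  is_henselian := by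
    intro f _ a₀ h₁ _
    exact ⟨a₀, Ideal.mem_bot.mp h₁, by simp⟩

theorem henselianRing_of_le_nilradical {B : Type*} [CommRing B] {N : Ideal B}
    (h : N ≤ nilradical B) : HenselianRing B N :=
  henselianRing_of_le_radical (henselianRing_bot B) (by rw [← Ideal.zero_eq_bot]; exact h)

/-- `A/Iⁿ → B/IⁿB` is bijective for a henselization `B` of `(A, I)`. -/
theorem quotBij_pow {B : Type u} [CommRing B] [Algebra A B]
    (hB : Hens2.IsPairHenselization A I B) (n : ℕ) : QuotBij (I ^ n) B := by
  rw [quotBij_iff]
  let πA : A →+* A ⧸ I ^ n := Ideal.Quotient.mk (I ^ n)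
  have hJ'nil : I.map πA ≤ nilradical (A ⧸ I ^ n) := by
    intro x hx
    refine ⟨n, ?_⟩
    have h1 : x ^ n ∈ (I.map πA) ^ n := Ideal.pow_mem_pow hx n
    rw [← Ideal.map_pow, Ideal.map_quotient_self] at h1
    exact Ideal.mem_bot.mp h1
  have hC : HenselianRing (A ⧸ I ^ n) (I.map πA) := henselianRing_of_le_nilradical hJ'nil
  obtain ⟨g, hg, -⟩ := hB.2 (A ⧸ I ^ n) (I.map πA) πA hC le_rfl
  refine ⟨fun x => ?_, fun a ha => ?_⟩
  · rcases Nat.eq_zero_or_pos n with hn | hn
    · subst hn
      refine ⟨0, ?_⟩
      rw [pow_zero, Ideal.one_eq_top, Ideal.map_top]; trivial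
    set K := (I ^ n).map (algebraMap A B) with hK
    have hKI : K ≤ I.map (algebraMap A B) := Ideal.map_mono (Ideal.pow_le_self hn.ne')
    have hD : HenselianRing (B ⧸ K) ((I.map (algebraMap A B)).map (Ideal.Quotient.mk K)) :=
      henselianRing_quotient_of_le K _ hKI hB.1
    let q : A ⧸ I ^ n →+* B ⧸ K := Ideal.quotientMap K (algebraMap A B) Ideal.le_comap_map
    let f : A →+* B ⧸ K := (Ideal.Quotient.mk K).comp (algebraMap A B)
    have hf : I.map f ≤ (I.map (algebraMap A B)).map (Ideal.Quotient.mk K) := by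
      rw [Ideal.map_map]
    obtain ⟨g₀, -, hu⟩ := hB.2 (B ⧸ K) _ f hD hf
    have e1 : Ideal.Quotient.mk K = g₀ := hu _ rfl
    have e2 : q.comp g = g₀ := hu _ (by
      show (q.comp g).comp (algebraMap A B) = f
      rw [RingHom.comp_assoc, hg]
      ext a
      simp [q, f, πA])
    obtain ⟨a, ha⟩ := Ideal.Quotient.mk_surjective (g x)
    refine ⟨a, ?_⟩
    rw [← Ideal.Quotient.eq]
    have : Ideal.Quotient.mk K x = q (g x) := by rw [e1, ← e2]; rfl
    rw [this, ← ha]
    simp [q]
  · have h1 : g (algebraMap A B a) = πA a := RingHom.congr_fun hg a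
    have h2 : g (algebraMap A B a) ∈ ((I ^ n).map (algebraMap A B)).map g :=
      Ideal.mem_map_of_mem g ha
    rw [Ideal.map_map, hg, Ideal.map_quotient_self, Ideal.mem_bot, h1] at h2
    exact Ideal.Quotient.eq_zero_iff_mem.mp h2

end Pow

section Away

variable {A : Type u} [CommRing A] {I : Ideal A}
variable {E : Type u} [CommRing E] [Algebra A E] (σ : E →ₐ[A] A ⧸ I)

/-- A pointed étale algebra becomes an étale neighbourhood after a Zariski localization. -/
theorem quotBij_away (g : E) (hg : ∀ y, σ y = 0 → g * y ∈ I.map (algebraMap A E)) (t : E)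
    (hu : σ (g * t) = 1) : QuotBij I (Localization.Away (g * t)) := by
  set u := g * t with hu_def
  let σu : Localization.Away u →ₐ[A] A ⧸ I :=
    IsLocalization.Away.liftAlgHom (f := σ) u (by rw [hu]; exact isUnit_one)
  apply quotBij_of_sigma σu
  have hmap : I.map (algebraMap A (Localization.Away u)) =
      (I.map (algebraMap A E)).map (algebraMap E (Localization.Away u)) := by
    rw [Ideal.map_map, ← IsScalarTower.algebraMap_eq]
  have hinv : algebraMap E (Localization.Away u) u * IsLocalization.Away.invSelf u = 1 :=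
    IsLocalization.Away.mul_invSelf u
  have hker : ∀ y, σ y = 0 →
      algebraMap E (Localization.Away u) y ∈ I.map (algebraMap A (Localization.Away u)) := by
    intro y hy
    have h1 : u * y ∈ I.map (algebraMap A E) := by
      have : u * y = t * (g * y) := by rw [hu_def]; ring
      rw [this]; exact Ideal.mul_mem_left _ _ (hg y hy)
    have h2 : algebraMap E (Localization.Away u) (u * y) ∈
        I.map (algebraMap A (Localization.Away u)) := by
      rw [hmap]; exact Ideal.mem_map_of_mem _ h1
    have : algebraMap E (Localization.Away u) y =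
        IsLocalization.Away.invSelf u * algebraMap E (Localization.Away u) (u * y) := by
      rw [map_mul, ← mul_assoc, mul_comm (IsLocalization.Away.invSelf u), hinv, one_mul]
    rw [this]; exact Ideal.mul_mem_left _ _ h2
  have hE : ∀ e : E, algebraMap E (Localization.Away u) e ∈
      subringAdd I (B := Localization.Away u) := by
    intro e
    obtain ⟨a, ha⟩ := Ideal.Quotient.mk_surjective (σ e)
    refine ⟨a, ?_⟩
    have : algebraMap E (Localization.Away u) e - algebraMap A (Localization.Away u) a =
        algebraMap E (Localization.Away u) (e - algebraMap A E a) := by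
      rw [map_sub, ← IsScalarTower.algebraMap_apply]
    rw [this]
    apply hker
    rw [map_sub, σ.commutes, Ideal.Quotient.algebraMap_eq, ha, sub_self]
  have hinvmem : (IsLocalization.Away.invSelf u : Localization.Away u) ∈
      subringAdd I (B := Localization.Away u) := by
    refine ⟨1, ?_⟩
    have h1 : algebraMap E (Localization.Away u) (u - 1) ∈
        I.map (algebraMap A (Localization.Away u)) :=
      hker _ (by rw [map_sub, hu, map_one, sub_self])
    have : (IsLocalization.Away.invSelf u : Localization.Away u) -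
        algebraMap A (Localization.Away u) 1 =
        - (IsLocalization.Away.invSelf u * algebraMap E (Localization.Away u) (u - 1)) := by
      rw [map_one, map_sub, map_one, mul_sub, mul_comm _ (algebraMap E (Localization.Away u) u),
        hinv]; ring
    rw [this]
    exact (Ideal.neg_mem_iff _).mpr (Ideal.mul_mem_left _ _ h1)
  intro x
  obtain ⟨⟨e, s⟩, hes⟩ := IsLocalization.surj (Submonoid.powers u) x
  obtain ⟨m, hm⟩ := s.2
  have hm' : u ^ m = (s : E) := hm
  have hes' : x * algebraMap E (Localization.Away u) (s : E) =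
      algebraMap E (Localization.Away u) e := hes
  have hx : x = algebraMap E (Localization.Away u) e * IsLocalization.Away.invSelf u ^ m := by
    have h1 : x * algebraMap E (Localization.Away u) u ^ m =
        algebraMap E (Localization.Away u) e := by
      rw [← map_pow, hm']; exact hes'
    calc x = x * (algebraMap E (Localization.Away u) u * IsLocalization.Away.invSelf u) ^ m := by
          rw [hinv, one_pow, mul_one]
      _ = (x * algebraMap E (Localization.Away u) u ^ m) * IsLocalization.Away.invSelf u ^ m := by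
          rw [mul_pow]; ring
      _ = _ := by rw [h1]
  rw [hx]
  exact (mem_subringAdd I).mp ((subringAdd I (B := Localization.Away u)).mul_mem (hE e)
    ((subringAdd I (B := Localization.Away u)).pow_mem hinvmem m))

end Away

section Transfer

variable {A : Type u} [CommRing A] {I : Ideal A}

/-- A henselization of `(A, I)` is also a henselization of any étale neighbourhood. -/
theorem isPairHenselization_of_nbhd {B : Type u} [CommRing B] [Algebra A B]
    (hB : Hens2.IsPairHenselization A I B) {A' : Type u} [CommRing A'] [Algebra A A']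
    [Algebra.Etale A A'] (hA' : QuotBij I A') [Algebra A' B] [IsScalarTower A A' B] :
    Hens2.IsPairHenselization A' (I.map (algebraMap A A')) B := by
  have hmap : (I.map (algebraMap A A')).map (algebraMap A' B) = I.map (algebraMap A B) := by
    rw [Ideal.map_map, ← IsScalarTower.algebraMap_eq]
  refine ⟨by rw [hmap]; exact hB.1, ?_⟩
  intro C _ J' f hC hf
  have hf₀ : I.map (f.comp (algebraMap A A')) ≤ J' := by rw [← Ideal.map_map]; exact hf
  obtain ⟨g, hg, hgu⟩ := hB.2 C J' (f.comp (algebraMap A A')) hC hf₀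
  letI : Algebra A C := (f.comp (algebraMap A A')).toAlgebra
  have key : g.comp (algebraMap A' B) = f := by
    let ψ₁ : A' →ₐ[A] C :=
      { toRingHom := g.comp (algebraMap A' B)
        commutes' := fun a => by
          show g (algebraMap A' B (algebraMap A A' a)) = f (algebraMap A A' a)
          rw [← IsScalarTower.algebraMap_apply]; exact RingHom.congr_fun hg a }
    let ψ₂ : A' →ₐ[A] C := { toRingHom := f, commutes' := fun a => rfl }
    have := algHom_nbhd_ext ((quotBij_iff I A').mp hA').1 J' hC.jac hf₀ ψ₁ ψ₂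
    ext x; exact DFunLike.congr_fun this x
  refine ⟨g, key, fun g' hg' => hgu g' ?_⟩
  show g'.comp (algebraMap A B) = f.comp (algebraMap A A')
  rw [IsScalarTower.algebraMap_eq A A' B, ← RingHom.comp_assoc, hg']

/-- There is exactly one map from an étale neighbourhood to a Henselian pair over `(A, I)`. -/
theorem nonempty_unique_algHom_nbhd {B : Type u} [CommRing B] [Algebra A B]
    [hB : HenselianRing B (I.map (algebraMap A B))] {A' : Type u} [CommRing A'] [Algebra A A']
    [Algebra.Etale A A'] (hA' : QuotBij I A') : Nonempty (Unique (A' →ₐ[A] B)) := by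
  obtain ⟨σ, -⟩ := hA'.exists_sigma
  obtain ⟨φ, -⟩ := exists_algHom_etale_of_henselian I σ B (I.map (algebraMap A B)) le_rfl
  exact ⟨{ default := φ
           uniq := fun ψ => algHom_nbhd_ext ((quotBij_iff I A').mp hA').1 _ hB.jac le_rfl ψ φ }⟩

/-- Every element of a henselization comes from an étale neighbourhood. -/
theorem exists_nbhd_of_elem {B : Type u} [CommRing B] [Algebra A B]
    (hB : Hens2.IsPairHenselization A I B) (x : B) :
    ∃ (A' : Type u) (_ : CommRing A') (_ : Algebra A A') (_ : Algebra.Etale A A'),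
      QuotBij I A' ∧ ∃ (φ : A' →ₐ[A] B) (s : A'), φ s = x := by
  obtain ⟨e⟩ := nonempty_algEquiv_of_isPairHenselization isPairHenselization_PH hB
  obtain ⟨i, y, hy⟩ := exists_ofL (e.symm x)
  obtain ⟨e0, s0, rfl⟩ := IsLocalization.exists_mk'_eq (mset I i.σ) y
  obtain ⟨g, hg1, hg⟩ := exists_mul_mem I i.σ
  have hu : i.σ (g * s0) = 1 := by rw [map_mul, hg1, (mem_mset I i.σ).mp s0.2, one_mul]
  set u := g * (s0 : i.E) with hu_def
  have hunit : IsUnit (algebraMap i.E i.L u) :=
    IsLocalization.map_units i.L (⟨u, hu⟩ : mset I i.σ)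
  let ρ : Localization.Away u →ₐ[A] i.L :=
    IsLocalization.Away.liftAlgHom (f := IsScalarTower.toAlgHom A i.E i.L) u hunit
  refine ⟨Localization.Away u, inferInstance, inferInstance, inferInstance,
    quotBij_away i.σ g hg s0 hu, (e.toAlgHom.comp (ofL i)).comp ρ,
    algebraMap i.E _ (e0 * g) * IsLocalization.Away.invSelf u, ?_⟩
  have hρ : ∀ z, ρ (algebraMap i.E (Localization.Away u) z) = algebraMap i.E i.L z := by
    intro z; simp [ρ]
  have h1 : ρ (algebraMap i.E _ (e0 * g) * IsLocalization.Away.invSelf u) =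
      IsLocalization.mk' i.L e0 s0 := by
    rw [IsLocalization.eq_mk'_iff_mul_eq, map_mul, hρ]
    have h3 : ρ (IsLocalization.Away.invSelf u) * algebraMap i.E i.L u = 1 := by
      have := congrArg ρ (IsLocalization.Away.mul_invSelf (S := Localization.Away u) u)
      rw [map_mul, map_one, hρ, mul_comm] at this
      exact this
    calc algebraMap i.E i.L (e0 * g) * ρ (IsLocalization.Away.invSelf u) * algebraMap i.E i.L s0
        = algebraMap i.E i.L e0 * (ρ (IsLocalization.Away.invSelf u) * algebraMap i.E i.L u) := by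
          have hmu : algebraMap i.E i.L u = algebraMap i.E i.L g * algebraMap i.E i.L s0 := by
            rw [← map_mul]
          rw [hmu, map_mul]; ring
      _ = _ := by rw [h3, mul_one]
  show e (ofL i (ρ _)) = x
  rw [h1, hy, AlgEquiv.apply_symm_apply]

/-- Auxiliary: composing étale neighbourhoods. -/
theorem exists_nbhd_aux {A' E'' : Type u} [CommRing A'] [CommRing E''] [Algebra A A']
    [Algebra A' E''] [Algebra.Etale A A'] [Algebra.Etale A' E''] (hA' : QuotBij I A')
    (h'' : QuotBij (I.map (algebraMap A A')) E'') (s : A') (hs : algebraMap A' E'' s = 0) :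
    ∃ (A'' : Type u) (_ : CommRing A'') (_ : Algebra A A'') (_ : Algebra.Etale A A''),
      QuotBij I A'' ∧ ∃ ψ : A' →ₐ[A] A'', ψ s = 0 := by
  letI : Algebra A E'' := ((algebraMap A' E'').comp (algebraMap A A')).toAlgebra
  haveI : IsScalarTower A A' E'' := IsScalarTower.of_algebraMap_eq' rfl
  haveI := Algebra.Etale.comp A A' E''
  exact ⟨E'', inferInstance, inferInstance, inferInstance, quotBij_trans hA' h'',
    IsScalarTower.toAlgHom A A' E'', hs⟩

/-- Elements of an étale neighbourhood that die in the henselization die in a further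
étale neighbourhood. -/
theorem exists_nbhd_of_map_eq_zero {B : Type u} [CommRing B] [Algebra A B]
    (hB : Hens2.IsPairHenselization A I B) {A' : Type u} [CommRing A'] [Algebra A A']
    [Algebra.Etale A A'] (hA' : QuotBij I A') (φ : A' →ₐ[A] B) (s : A') (hs : φ s = 0) :
    ∃ (A'' : Type u) (_ : CommRing A'') (_ : Algebra A A'') (_ : Algebra.Etale A A''),
      QuotBij I A'' ∧ ∃ ψ : A' →ₐ[A] A'', ψ s = 0 := by
  letI : Algebra A' B := φ.toRingHom.toAlgebra
  haveI : IsScalarTower A A' B := IsScalarTower.of_algebraMap_eq (fun a => (φ.commutes a).symm)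
  have hB' := isPairHenselization_of_nbhd hB hA'
  set I' := I.map (algebraMap A A') with hI'
  obtain ⟨e⟩ := nonempty_algEquiv_of_isPairHenselization
    (isPairHenselization_PH (A := A') (I := I')) hB'
  have h0 : algebraMap A' (PH A' I') s = 0 := by
    have : e (algebraMap A' (PH A' I') s) = 0 := by rw [e.commutes]; exact hs
    exact e.injective (by rw [this, map_zero])
  obtain ⟨i₀⟩ := (inferInstance : Nonempty (Idx A' I'))
  have h1 : ofL i₀ (algebraMap A' i₀.L s) = 0 := by rw [(ofL i₀).commutes]; exact h0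
  obtain ⟨k, hik, hk⟩ := exists_of_ofL_eq_zero h1
  rw [(tr i₀ k hik).commutes, IsScalarTower.algebraMap_apply A' k.E k.L,
    IsLocalization.map_eq_zero_iff (mset I' k.σ)] at hk
  obtain ⟨t, ht⟩ := hk
  obtain ⟨g, hg1, hg⟩ := exists_mul_mem I' k.σ
  have hu : k.σ (g * t) = 1 := by rw [map_mul, hg1, (mem_mset I' k.σ).mp t.2, one_mul]
  have hzero : algebraMap A' (Localization.Away (g * (t : k.E))) s = 0 := by
    rw [IsScalarTower.algebraMap_apply A' k.E (Localization.Away (g * (t : k.E))),
      IsLocalization.map_eq_zero_iff (Submonoid.powers (g * (t : k.E)))]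
    exact ⟨⟨g * t, Submonoid.mem_powers _⟩, by rw [mul_assoc, ht, mul_zero]⟩
  exact exists_nbhd_aux hA' (quotBij_away k.σ g hg t hu) s hzero

end Transfer

end Groth.Agent.Lib.Helper26.PairHensNbhd
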