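import Mathlib
import Groth.Agent.Lib.Helper26.SmoothLift
import Groth.Agent.Lib.Helper26.PairHensOps

/-!
# Étale-local lifting of sections of smooth algebras (helper26)

`exists_nbhd_lift_of_smooth`: for `B` smooth over `A` and `σ : B → A/I` there is an étale
neighbourhood `A'` of `(A, I)` and a lift `B → A'` of `σ`.
-/

set_option autoImplicit false
universe u

namespace Groth.Agent.Lib.Helper26.SmoothNbhd

open Groth.Agent.Lib.Helper26.PairHensConstr Groth.Agent.Lib.Helper26.PairHensNbhd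
  Groth.Agent.Lib.Helper26.PairHensOps Groth.Agent.Lib.Helper26.SmoothLift

variable {A : Type u} [CommRing A] (I : Ideal A)

/-- A section of a smooth algebra over `V(I)` lifts to the henselization `PH A I`. -/
theorem exists_lift_PH {B : Type u} [CommRing B] [Algebra A B] [Algebra.Smooth A B]
    (σ : B →ₐ[A] A ⧸ I) : ∃ τ₀ : B →ₐ[A] PH A I, ∀ b, σH (τ₀ b) = σ b := by
  classical
  let θ : (A ⧸ I) →ₐ[A] (PH A I ⧸ I.map (algebraMap A (PH A I))) :=
    Ideal.Quotient.liftₐ I (Algebra.ofId A (PH A I ⧸ I.map (algebraMap A (PH A I)))) (by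
      intro a ha
      show algebraMap A (PH A I ⧸ I.map (algebraMap A (PH A I))) a = 0
      rw [IsScalarTower.algebraMap_apply A (PH A I) (PH A I ⧸ I.map (algebraMap A (PH A I))),
        Ideal.Quotient.algebraMap_eq, Ideal.Quotient.eq_zero_iff_mem]
      exact Ideal.mem_map_of_mem _ ha)
  have hθ : ∀ a : A, θ (Ideal.Quotient.mk I a)
      = Ideal.Quotient.mk (I.map (algebraMap A (PH A I))) (algebraMap A (PH A I) a) := by
    intro a
    show algebraMap A (PH A I ⧸ I.map (algebraMap A (PH A I))) a = _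
    rw [IsScalarTower.algebraMap_apply A (PH A I) (PH A I ⧸ I.map (algebraMap A (PH A I))),
      Ideal.Quotient.algebraMap_eq]
  let σ' : TensorProduct A (PH A I) B →ₐ[PH A I] (PH A I ⧸ I.map (algebraMap A (PH A I))) :=
    Algebra.TensorProduct.lift
      (Algebra.ofId (PH A I) (PH A I ⧸ I.map (algebraMap A (PH A I)))) (θ.comp σ)
      (fun _ _ => Commute.all _ _)
  obtain ⟨τ', hτ'⟩ := exists_lift_of_smooth (I.map (algebraMap A (PH A I)))
    (TensorProduct A (PH A I) B) σ'
  refine ⟨(τ'.restrictScalars A).comp Algebra.TensorProduct.includeRight, fun b => ?_⟩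
  obtain ⟨a, ha⟩ := Ideal.Quotient.mk_surjective (σ b)
  have h1 := AlgHom.congr_fun hτ' ((1 : PH A I) ⊗ₜ[A] b)
  have h2 : σ' ((1 : PH A I) ⊗ₜ[A] b)
      = Ideal.Quotient.mk (I.map (algebraMap A (PH A I))) (algebraMap A (PH A I) a) := by
    simp only [σ', Algebra.TensorProduct.lift_tmul, map_one, one_mul, AlgHom.comp_apply]
    rw [← ha, hθ]
  have h3 : τ' ((1 : PH A I) ⊗ₜ[A] b) - algebraMap A (PH A I) a
      ∈ I.map (algebraMap A (PH A I)) := Ideal.Quotient.eq.mp (h1.trans h2)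
  show σH (τ' ((1 : PH A I) ⊗ₜ[A] b)) = σ b
  have h4 := sigma_eq_zero_of_mem' I σH h3
  rw [map_sub, AlgHom.commutes, Ideal.Quotient.algebraMap_eq, ha, sub_eq_zero] at h4
  exact h4

theorem exists_nbhd_lift_of_smooth {B : Type u} [CommRing B] [Algebra A B] [Algebra.Smooth A B]
    (σ : B →ₐ[A] A ⧸ I) :
    ∃ (A' : Type u) (_ : CommRing A') (_ : Algebra A A') (_ : Algebra.Etale A A'), QuotBij I A' ∧
      ∃ τ : B →ₐ[A] A', ∀ b : B, Ideal.Quotient.mk (I.map (algebraMap A A')) (τ b) =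
        algebraMap (A ⧸ I) (A' ⧸ I.map (algebraMap A A')) (σ b) := by
  classical
  obtain ⟨τ₀, hτ₀⟩ := exists_lift_PH I σ
  obtain ⟨n, π, hπ, s, hs⟩ := Algebra.FinitePresentation.out (R := A) (A := B)
  let c : Fin n → PH A I := fun i => τ₀ (π (MvPolynomial.X i))
  obtain ⟨N, _, _, _, hN, φ, hφ⟩ :=
    exists_nbhd_of_finset (isPairHenselization_PH (A := A) (I := I)) (Finset.univ.image c)
  choose y hy using fun i => hφ (c i) (Finset.mem_image_of_mem c (Finset.mem_univ i))
  let ev : MvPolynomial (Fin n) A →ₐ[A] N := MvPolynomial.aeval y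
  have hφev : φ.comp ev = τ₀.comp π := by
    apply MvPolynomial.algHom_ext
    intro i
    show φ (MvPolynomial.aeval y (MvPolynomial.X i)) = c i
    rw [MvPolynomial.aeval_X, hy]
  have hφev' : ∀ p, φ (ev p) = τ₀ (π p) := fun p => AlgHom.congr_fun hφev p
  obtain ⟨N', _, _, _, hN', ψ, hψ⟩ :=
    exists_nbhd_of_finset_map_eq_zero (isPairHenselization_PH (A := A) (I := I)) hN φ
      (s.image ev) (by
    intro x hx
    obtain ⟨p, hp, rfl⟩ := Finset.mem_image.mp hx
    have hpk : p ∈ RingHom.ker π.toRingHom := by rw [← hs]; exact Ideal.subset_span hp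
    have hp0 : π p = 0 := hpk
    rw [hφev', hp0, map_zero])
  let g : MvPolynomial (Fin n) A →ₐ[A] N' := ψ.comp ev
  have H : RingHom.ker π.toRingHom ≤ RingHom.ker g.toRingHom := by
    rw [← hs, Ideal.span_le]
    intro p hp
    show g p = 0
    exact hψ (ev p) (Finset.mem_image_of_mem ev hp)
  let ρ : B →ₐ[A] N' := AlgHom.liftOfSurjective π hπ g H
  obtain ⟨u'⟩ := nonempty_unique_algHom_nbhd (I := I) (B := PH A I) hN'
  obtain ⟨u⟩ := nonempty_unique_algHom_nbhd (I := I) (B := PH A I) hN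
  let φ' : N' →ₐ[A] PH A I := u'.default
  have hφ'ψ : φ'.comp ψ = φ := (u.uniq _).trans (u.uniq _).symm
  have hcompat : ∀ b : B, φ' (ρ b) = τ₀ b := by
    intro b
    obtain ⟨p, rfl⟩ := hπ b
    rw [AlgHom.liftOfSurjective_apply, ← hφev']
    exact AlgHom.congr_fun hφ'ψ (ev p)
  refine ⟨N', inferInstance, inferInstance, inferInstance, hN', ρ, fun b => ?_⟩
  obtain ⟨a, ha⟩ := Ideal.Quotient.mk_surjective (σ b)
  obtain ⟨a', ha'⟩ := ((quotBij_iff I N').mp hN').1 (ρ b)
  have h1 : τ₀ b - algebraMap A (PH A I) a' ∈ I.map (algebraMap A (PH A I)) := by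
    have := algHom_map_mem I φ' ha'
    rwa [map_sub, hcompat, AlgHom.commutes] at this
  have h2 := sigma_eq_zero_of_mem' I σH h1
  rw [map_sub, hτ₀, AlgHom.commutes, Ideal.Quotient.algebraMap_eq, ← ha, sub_eq_zero,
    Ideal.Quotient.eq] at h2
  rw [← ha]
  show Ideal.Quotient.mk _ (ρ b) = Ideal.Quotient.mk _ (algebraMap A N' a)
  rw [Ideal.Quotient.eq]
  have : ρ b - algebraMap A N' a = (ρ b - algebraMap A N' a') - algebraMap A N' (a - a') := by
    rw [map_sub]; ring
  rw [this]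
  exact Ideal.sub_mem _ ha' (Ideal.mem_map_of_mem _ h2)

end Groth.Agent.Lib.Helper26.SmoothNbhd
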