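import Mathlib
import Groth.Agent.Lib.Helper14.FlatStage.Main
import Groth.Agent.Lib.Helper14.FlatStage.Interface
import Groth.Agent.Lib.Helper28.GenFreeMain
import Groth.Agent.Lib.Helper9.NilpFlat
import Groth.Agent.Lib.Helper27.NilpFree

/-!
# Generic freeness over a base with irreducible spectrum (helper26)

`main`: `A` a ring with a unique minimal prime `p`, `B` a finitely presented `A`-algebra, `M` a
finitely presented `B`-module with `M_p` flat over `A_p`.  Then `M_t` is free over `A_t` for some
`t ∉ p`.  (No reducedness, no Noetherian hypothesis.)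

Ingredients: helper14's model modules and descent of flatness to a finitely generated subalgebra
(`FlatStage.exists_fg_flat`), helper28's generic freeness over domains, helper9/helper27 nilpotent
Nakayama arguments.

Reusable: `free_of_algHom`, `locEquiv`, `free_of_flat_of_nilpotent`, `exists_algHom_away`.
-/

set_option autoImplicit false
universe u
open TensorProduct

attribute [local instance] MvPolynomial.algebraMvPolynomial

namespace Groth.Agent.Lib.Helper26.GenFreeNil

open Groth.Agent.Lib.Helper14.FlatStage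

section FreeBC
variable {R₀ : Type u} [CommRing R₀] {n b : ℕ} {κ : Type} (L : κ → Fm n b R₀)

/-- freeness of the model module passes along any algebra homomorphism. -/
theorem free_of_algHom {D D' : Type u} [CommRing D] [Algebra R₀ D] [CommRing D'] [Algebra R₀ D']
    (φ : D →ₐ[R₀] D') (h : Module.Free D (Mm L D)) : Module.Free D' (Mm L D') := by
  letI := φ.toRingHom.toAlgebra
  haveI : IsScalarTower R₀ D D' := IsScalarTower.of_algebraMap_eq (fun r => (φ.commutes r).symm)
  haveI := h
  exact Module.Free.of_equiv (isBaseChange_mapM L D D').equiv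

/-- localisations of a module with a model are model modules over the localised ring. -/
noncomputable def locEquiv {A : Type u} [CommRing A] [Algebra R₀ A] (S : Submonoid A)
    {M : Type u} [AddCommGroup M] [Module A M] (e : M ≃ₗ[A] Mm L A) :
    LocalizedModule S M ≃ₗ[Localization S] Mm L (Localization S) :=
  (LocalizedModule.isBaseChange S M).equiv.symm ≪≫ₗ
    (TensorProduct.AlgebraTensorModule.congr
      (LinearEquiv.refl (Localization S) (Localization S)) e) ≪≫ₗ
    (isBaseChange_mapM L A (Localization S)).equiv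

end FreeBC

/-- a flat module which is free modulo a nilpotent ideal is free. -/
theorem free_of_flat_of_nilpotent {R : Type u} [CommRing R] (I : Ideal R) (hI : IsNilpotent I)
    (N : Type u) [AddCommGroup N] [Module R N] [Module.Flat R N]
    (hfree : Module.Free (R ⧸ I) ((R ⧸ I) ⊗[R] N)) : Module.Free R N := by
  classical
  obtain ⟨⟨ι, bb⟩⟩ := hfree.exists_basis
  let ψ : N →ₗ[R] (R ⧸ I) ⊗[R] N := TensorProduct.mk R (R ⧸ I) N 1
  have hψsurj : Function.Surjective ψ :=
    TensorProduct.mk_surjective R N (R ⧸ I) Ideal.Quotient.mk_surjective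
  choose m hm using fun j => hψsurj (bb j)
  let φ : (ι →₀ R) →ₗ[R] N := Finsupp.linearCombination R m
  let θ : (ι →₀ R) →ₗ[R] (ι →₀ R ⧸ I) :=
    Finsupp.mapRange.linearMap (Ideal.Quotient.mkₐ R I).toLinearMap
  have hθ : ∀ x j, θ x j = Ideal.Quotient.mk I (x j) := fun x j => rfl
  have hkey : ∀ x, ψ (φ x) = bb.repr.symm (θ x) := by
    have : ψ.comp φ = (bb.repr.symm.toLinearMap.restrictScalars R).comp θ := by
      apply Finsupp.lhom_ext
      intro j r
      have h1 : θ (Finsupp.single j r) = Finsupp.single j (Ideal.Quotient.mk I r) := by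
        ext j'
        rw [hθ]
        by_cases hjj : j = j'
        · subst hjj; simp
        · simp [Finsupp.single_apply, hjj]
      show ψ (φ (Finsupp.single j r)) = bb.repr.symm (θ (Finsupp.single j r))
      rw [h1, Finsupp.linearCombination_single, map_smul, hm, bb.repr_symm_single]
      rw [← Ideal.Quotient.algebraMap_eq, algebraMap_smul]
    intro x
    exact LinearMap.congr_fun this x
  have hθsurj : Function.Surjective θ := by
    intro c
    induction c using Finsupp.induction_linear with
    | zero => exact ⟨0, map_zero _⟩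
    | add c d hc hd =>
      obtain ⟨x, rfl⟩ := hc
      obtain ⟨y, rfl⟩ := hd
      exact ⟨x + y, map_add _ _ _⟩
    | single j r =>
      obtain ⟨r', rfl⟩ := Ideal.Quotient.mk_surjective r
      refine ⟨Finsupp.single j r', ?_⟩
      ext j'
      rw [hθ]
      by_cases hjj : j = j'
      · subst hjj; simp
      · simp [Finsupp.single_apply, hjj]
  have hsurj : Function.Surjective φ := by
    rw [← LinearMap.range_eq_top]
    apply Groth.Agent.Lib.Helper27.NilpFree.nakayama_nilpotent hI
    rw [eq_top_iff]
    intro y _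
    obtain ⟨x, hx⟩ := hθsurj (bb.repr (ψ y))
    have h1 : (1 : R ⧸ I) ⊗ₜ[R] (y - φ x) = 0 := by
      show ψ (y - φ x) = 0
      rw [map_sub, hkey, hx, LinearEquiv.symm_apply_apply, sub_self]
    have h2 : y - φ x ∈ I • (⊤ : Submodule R N) :=
      (Groth.Agent.Lib.Helper9.NilpFlat.one_tmul_eq_zero_iff I N _).1 h1
    have : y = φ x + (y - φ x) := by abel
    rw [this]
    exact Submodule.add_mem_sup (LinearMap.mem_range_self φ x) h2
  have hinj : Function.Injective φ := by
    apply Groth.Agent.Lib.Helper9.NilpFlat.injective_of_surjective_of_flat I hI φ hsurj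
    intro x hx
    have h1 : ψ (φ x) = 0 := (Groth.Agent.Lib.Helper9.NilpFlat.one_tmul_eq_zero_iff I N _).2 hx
    rw [hkey] at h1
    have h2 : θ x = 0 := (LinearEquiv.map_eq_zero_iff _).1 h1
    have h3 : ∀ j, x j ∈ I := fun j => by
      have := DFunLike.congr_fun h2 j
      rw [hθ] at this
      exact Ideal.Quotient.eq_zero_iff_mem.1 this
    have hmem : (∑ j ∈ x.support, Finsupp.single j (x j)) ∈ I • (⊤ : Submodule R (ι →₀ R)) := by
      refine Submodule.sum_mem _ (fun j _ => ?_)
      have : Finsupp.single j (x j) = (x j) • (Finsupp.single j (1 : R)) := by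
        rw [Finsupp.smul_single, smul_eq_mul, mul_one]
      rw [this]
      exact Submodule.smul_mem_smul (h3 j) Submodule.mem_top
    have hx' : (∑ j ∈ x.support, Finsupp.single j (x j)) = x := Finsupp.sum_single x
    rw [hx'] at hmem
    exact hmem
  exact Module.Free.of_equiv (LinearEquiv.ofBijective φ ⟨hinj, hsurj⟩)

/-- model version of `free_of_flat_of_nilpotent`. -/
theorem free_model_of_nilpotent {R₀ : Type u} [CommRing R₀] {n b : ℕ} {κ : Type} (L : κ → Fm n b R₀)
    {D : Type u} [CommRing D] [Algebra R₀ D] (I : Ideal D) (hI : IsNilpotent I)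
    (hfl : Module.Flat D (Mm L D)) (hfr : Module.Free (D ⧸ I) (Mm L (D ⧸ I))) :
    Module.Free D (Mm L D) := by
  haveI := hfl
  haveI := hfr
  apply free_of_flat_of_nilpotent I hI
  exact Module.Free.of_equiv (isBaseChange_mapM L D (D ⧸ I)).equiv.symm

/-- a finitely presented algebra mapping to a local ring `A_p` maps to some `A_t`, `t ∉ p`. -/
theorem exists_algHom_away {R₀ A E : Type u} [CommRing R₀] [CommRing A] [Algebra R₀ A]
    [CommRing E] [Algebra R₀ E] [Algebra.FinitePresentation R₀ E]
    (p : Ideal A) [p.IsPrime] (ρ : E →ₐ[R₀] Localization.AtPrime p) :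
    ∃ t : A, t ∉ p ∧ Nonempty (E →ₐ[R₀] Localization.Away t) := by
  classical
  obtain ⟨m, π, hπ, G, hG⟩ := Algebra.FinitePresentation.out (R := R₀) (A := E)
  have hfrac : ∀ i : Fin m, ∃ (a : A) (s : p.primeCompl),
      IsLocalization.mk' (Localization.AtPrime p) a s = ρ (π (MvPolynomial.X i)) :=
    fun i => IsLocalization.exists_mk'_eq p.primeCompl _
  choose a s has using hfrac
  set t₀ : A := ∏ i, (s i : A) with ht₀
  have ht₀p : t₀ ∈ p.primeCompl := Submonoid.prod_mem _ (fun i _ => (s i).2)
  have hu : ∀ i, IsUnit (algebraMap A (Localization.Away t₀) (s i)) :=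
    fun i => IsLocalization.Away.isUnit_of_dvd t₀ (Finset.dvd_prod_of_mem _ (Finset.mem_univ i))
  let y : Fin m → Localization.Away t₀ :=
    fun i => algebraMap A _ (a i) * ((hu i).unit⁻¹ : (Localization.Away t₀)ˣ)
  let φ₀ : MvPolynomial (Fin m) R₀ →ₐ[R₀] Localization.Away t₀ := MvPolynomial.aeval y
  have hunit₀ : IsUnit ((IsScalarTower.toAlgHom R₀ A (Localization.AtPrime p)) t₀) :=
    IsLocalization.map_units (Localization.AtPrime p) (⟨t₀, ht₀p⟩ : p.primeCompl)
  let lam : Localization.Away t₀ →ₐ[R₀] Localization.AtPrime p :=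
    IsLocalization.Away.liftAlgHom t₀
      (f := IsScalarTower.toAlgHom R₀ A (Localization.AtPrime p)) hunit₀
  have hlam : ∀ x : A, lam (algebraMap A _ x) = algebraMap A (Localization.AtPrime p) x := by
    intro x
    rw [IsLocalization.Away.liftAlgHom_apply, IsLocalization.Away.lift_eq]
    rfl
  have hcomp : ∀ q : MvPolynomial (Fin m) R₀, lam (φ₀ q) = ρ (π q) := by
    have : lam.comp φ₀ = ρ.comp π := by
      apply MvPolynomial.algHom_ext
      intro i
      show lam (MvPolynomial.aeval y (MvPolynomial.X i)) = ρ (π (MvPolynomial.X i))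
      rw [MvPolynomial.aeval_X, ← has i]
      show lam (algebraMap A _ (a i) * ((hu i).unit⁻¹ : (Localization.Away t₀)ˣ)) = _
      rw [map_mul, hlam]
      have h1 : lam (((hu i).unit⁻¹ : (Localization.Away t₀)ˣ) : Localization.Away t₀) *
          algebraMap A (Localization.AtPrime p) (s i) = 1 := by
        rw [← hlam, ← map_mul, IsUnit.val_inv_mul, map_one]
      symm
      rw [IsLocalization.mk'_eq_iff_eq_mul, mul_assoc, h1, mul_one]
    intro q
    exact AlgHom.congr_fun this q
  have hzero : ∀ z : Localization.Away t₀, lam z = 0 →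
      ∃ u ∈ p.primeCompl, ∃ (c : A) (k : ℕ),
        z * algebraMap A (Localization.Away t₀) (t₀ ^ k) = algebraMap A _ c ∧ u * c = 0 := by
    intro z hz
    obtain ⟨c, ⟨_, k, rfl⟩, hc⟩ := IsLocalization.exists_mk'_eq (Submonoid.powers t₀) z
    have h1 : z * algebraMap A (Localization.Away t₀) (t₀ ^ k) = algebraMap A _ c := by
      rw [← hc]
      exact IsLocalization.mk'_spec _ c _
    have h2 : algebraMap A (Localization.AtPrime p) c = 0 := by
      rw [← hlam, ← h1, map_mul, hz, zero_mul]
    obtain ⟨u, hu'⟩ := (IsLocalization.map_eq_zero_iff p.primeCompl (Localization.AtPrime p) c).1 h2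
    exact ⟨u, u.2, c, k, h1, hu'⟩
  have hG' : ∀ g ∈ G, lam (φ₀ g) = 0 := by
    intro g hg
    rw [hcomp]
    have h1 : g ∈ RingHom.ker π.toRingHom := hG ▸ Ideal.subset_span hg
    have h2 : π g = 0 := (RingHom.mem_ker).1 h1
    rw [h2, map_zero]
  choose! u hu' c k hc1 hc2 using fun g (hg : g ∈ G) => hzero (φ₀ g) (hG' g hg)
  set u' : A := ∏ g ∈ G, u g with hu'def
  have hu'p : u' ∈ p.primeCompl := Submonoid.prod_mem _ (fun g hg => hu' g hg)
  refine ⟨t₀ * u', p.primeCompl.mul_mem ht₀p hu'p, ?_⟩
  have hdvd : t₀ ∣ t₀ * u' := dvd_mul_right t₀ u'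
  let μ : Localization.Away t₀ →ₐ[R₀] Localization.Away (t₀ * u') :=
    IsLocalization.Away.liftAlgHom t₀ (f := IsScalarTower.toAlgHom R₀ A (Localization.Away (t₀ * u')))
      (IsLocalization.Away.isUnit_of_dvd (t₀ * u') hdvd)
  have hμ : ∀ x : A, μ (algebraMap A _ x) = algebraMap A (Localization.Away (t₀ * u')) x := by
    intro x
    rw [IsLocalization.Away.liftAlgHom_apply, IsLocalization.Away.lift_eq]
    rfl
  let φ : MvPolynomial (Fin m) R₀ →ₐ[R₀] Localization.Away (t₀ * u') := μ.comp φ₀
  have hφG : ∀ g ∈ G, φ g = 0 := by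
    intro g hg
    have h1 : μ (φ₀ g) * algebraMap A (Localization.Away (t₀ * u')) (t₀ ^ k g) =
        algebraMap A (Localization.Away (t₀ * u')) (c g) := by
      rw [← hμ, ← map_mul, hc1 g hg, hμ]
    have h2 : algebraMap A (Localization.Away (t₀ * u')) (c g) = 0 := by
      have hunit : IsUnit (algebraMap A (Localization.Away (t₀ * u')) (u g)) :=
        IsLocalization.Away.isUnit_of_dvd (t₀ * u')
          (Dvd.dvd.mul_left (Finset.dvd_prod_of_mem u hg) t₀)
      have h3 : algebraMap A (Localization.Away (t₀ * u')) (u g) *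
          algebraMap A (Localization.Away (t₀ * u')) (c g) = 0 := by
        rw [← map_mul, hc2 g hg, map_zero]
      exact (hunit.mul_right_eq_zero).1 h3
    have hunit2 : IsUnit (algebraMap A (Localization.Away (t₀ * u')) (t₀ ^ k g)) := by
      rw [map_pow]
      exact (IsLocalization.Away.isUnit_of_dvd (t₀ * u') hdvd).pow _
    rw [h2] at h1
    exact (hunit2.mul_left_eq_zero).1 h1
  have hker : ∀ q, π q = 0 → φ q = 0 := by
    intro q hq
    have h1 : q ∈ RingHom.ker π.toRingHom := (RingHom.mem_ker).2 hq
    rw [← hG] at h1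
    have hle : Ideal.span (G : Set (MvPolynomial (Fin m) R₀)) ≤ RingHom.ker φ.toRingHom :=
      Ideal.span_le.2 (fun g hg => (RingHom.mem_ker).2 (hφG g hg))
    exact (RingHom.mem_ker).1 (hle h1)
  let ψ₀ : (MvPolynomial (Fin m) R₀ ⧸ RingHom.ker π) →ₐ[R₀] Localization.Away (t₀ * u') :=
    Ideal.Quotient.liftₐ (RingHom.ker π) φ (fun q hq => hker q ((RingHom.mem_ker).1 hq))
  exact ⟨ψ₀.comp (Ideal.quotientKerAlgEquivOfSurjective hπ).symm.toAlgHom⟩

/-- `main` for a module already presented as a model module over a Noetherian coefficient ring. -/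
theorem main_aux {A : Type u} [CommRing A] {R₀ : Type u} [CommRing R₀] [IsNoetherianRing R₀]
    [Algebra R₀ A] {n b e : ℕ} (L : Fin e → Fm n b R₀)
    (p : Ideal A) [p.IsPrime] (hp : minimalPrimes A = {p})
    (M : Type u) [AddCommGroup M] [Module A M] (eM : M ≃ₗ[A] Mm L A)
    (hflat : Module.Flat (Localization.AtPrime p) (LocalizedModule p.primeCompl M)) :
    ∃ t : A, t ∉ p ∧
      Module.Free (Localization.Away t) (LocalizedModule (Submonoid.powers t) M) := by
  classical
  -- flatness of the model over `A_p`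
  have hfl : Module.Flat (Localization.AtPrime p) (Mm L (Localization.AtPrime p)) := by
    haveI := hflat
    exact Module.Flat.of_linearEquiv (locEquiv L p.primeCompl eM).symm
  obtain ⟨C, hC, hCfl⟩ := exists_fg_flat L (Localization.AtPrime p) hfl
  haveI : Algebra.FiniteType R₀ C := (Subalgebra.fg_iff_finiteType C).1 hC
  haveI : IsNoetherianRing C := Algebra.FiniteType.isNoetherianRing R₀ C
  -- `p` is the nilradical
  have hpnil : ∀ a ∈ p, IsNilpotent a := by
    intro a ha
    have h := Ideal.sInf_minimalPrimes (I := (⊥ : Ideal A))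
    rw [show (⊥ : Ideal A).minimalPrimes = {p} from hp, sInf_singleton] at h
    have h1 : a ∈ nilradical A := by
      show a ∈ (0 : Ideal A).radical
      rw [Ideal.zero_eq_bot, ← h]
      exact ha
    exact mem_nilradical.1 h1
  have hmaxnil : ∀ x ∈ IsLocalRing.maximalIdeal (Localization.AtPrime p), IsNilpotent x := by
    intro x hx
    have hx' : x ∈ p.map (algebraMap A (Localization.AtPrime p)) := by
      rw [Localization.AtPrime.map_eq_maximalIdeal]
      exact hx
    have hle : p.map (algebraMap A (Localization.AtPrime p)) ≤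
        nilradical (Localization.AtPrime p) := by
      rw [Ideal.map_le_iff_le_comap]
      intro a ha
      exact mem_nilradical.2 ((hpnil a ha).map _)
    exact mem_nilradical.1 (hle hx')
  have hinjC : Function.Injective (algebraMap C (Localization.AtPrime p)) :=
    fun x y h => Subtype.ext h
  -- the prime ideal of `C`
  set 𝔫 : Ideal C := (IsLocalRing.maximalIdeal (Localization.AtPrime p)).comap
    (algebraMap C (Localization.AtPrime p)) with h𝔫
  haveI : 𝔫.IsPrime := Ideal.comap_isPrime _ _
  have h𝔫nil : IsNilpotent 𝔫 := by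
    have hle : 𝔫 ≤ nilradical C := by
      intro x hx
      have h1 : IsNilpotent (algebraMap C (Localization.AtPrime p) x) := hmaxnil _ hx
      exact mem_nilradical.2 ((IsNilpotent.map_iff hinjC).1 h1)
    obtain ⟨k, hk⟩ := IsNoetherianRing.isNilpotent_nilradical C
    refine ⟨k, ?_⟩
    have := Ideal.pow_right_mono hle k
    rw [hk] at this
    exact le_bot_iff.1 this
  -- generic freeness over the domain `C ⧸ 𝔫`
  obtain ⟨fbar, hfbar, hfree⟩ :=
    Groth.Agent.Lib.Helper28.GenFree.genFree_mvPolynomial (R := C ⧸ 𝔫) n (Mm L (C ⧸ 𝔫))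
  obtain ⟨f, rfl⟩ := Ideal.Quotient.mk_surjective fbar
  have hfn : f ∉ 𝔫 := fun h => hfbar (Ideal.Quotient.eq_zero_iff_mem.2 h)
  have hfreeD : Module.Free (Localization.Away (Ideal.Quotient.mk 𝔫 f))
      (Mm L (Localization.Away (Ideal.Quotient.mk 𝔫 f))) := by
    have hfree' : Module.Free (Localization.Away (Ideal.Quotient.mk 𝔫 f))
        (Localization.Away (Ideal.Quotient.mk 𝔫 f) ⊗[C ⧸ 𝔫] Mm L (C ⧸ 𝔫)) := hfree
    haveI := hfree'
    exact Module.Free.of_equiv
      (isBaseChange_mapM L (C ⧸ 𝔫) (Localization.Away (Ideal.Quotient.mk 𝔫 f))).equiv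
  -- the localisation `C₁ = C_f`
  have hC₁fl : Module.Flat (Localization.Away f) (Mm L (Localization.Away f)) :=
    flat_of_algHom L (IsScalarTower.toAlgHom R₀ C (Localization.Away f)) hCfl
  set I : Ideal (Localization.Away f) := 𝔫.map (algebraMap C (Localization.Away f)) with hIdef
  have hI : IsNilpotent I := Groth.Agent.Lib.Helper27.NilpFree.isNilpotent_map _ h𝔫nil
  let δ : (C ⧸ 𝔫) →ₐ[R₀] (Localization.Away f ⧸ I) :=
    Ideal.Quotient.liftₐ 𝔫
      ((Ideal.Quotient.mkₐ R₀ I).comp (IsScalarTower.toAlgHom R₀ C (Localization.Away f))) (by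
        intro a ha
        show Ideal.Quotient.mk I (algebraMap C (Localization.Away f) a) = 0
        exact Ideal.Quotient.eq_zero_iff_mem.2 (Ideal.mem_map_of_mem _ ha))
  have hδ : IsUnit (δ (Ideal.Quotient.mk 𝔫 f)) := by
    have : δ (Ideal.Quotient.mk 𝔫 f) =
        Ideal.Quotient.mk I (algebraMap C (Localization.Away f) f) := rfl
    rw [this]
    exact (IsLocalization.Away.algebraMap_isUnit f).map _
  let δ' : Localization.Away (Ideal.Quotient.mk 𝔫 f) →ₐ[R₀] (Localization.Away f ⧸ I) :=
    IsLocalization.Away.liftAlgHom (Ideal.Quotient.mk 𝔫 f) (f := δ) hδ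
  have hfreeE : Module.Free (Localization.Away f ⧸ I) (Mm L (Localization.Away f ⧸ I)) :=
    free_of_algHom L δ' hfreeD
  have hfreeC₁ : Module.Free (Localization.Away f) (Mm L (Localization.Away f)) :=
    free_model_of_nilpotent L I hI hC₁fl hfreeE
  -- lift to some `A_t`
  haveI : Algebra.FinitePresentation C (Localization.Away f) :=
    IsLocalization.Away.finitePresentation f
  haveI : Algebra.FiniteType R₀ (Localization.Away f) :=
    Algebra.FiniteType.trans (inferInstance : Algebra.FiniteType R₀ C)
      (inferInstance : Algebra.FiniteType C (Localization.Away f))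
  haveI : Algebra.FinitePresentation R₀ (Localization.Away f) :=
    Algebra.FinitePresentation.of_finiteType.1 inferInstance
  have hfunit : IsUnit ((IsScalarTower.toAlgHom R₀ C (Localization.AtPrime p)) f) := by
    show IsUnit (algebraMap C (Localization.AtPrime p) f)
    by_contra h
    exact hfn ((IsLocalRing.mem_maximalIdeal _).2 h)
  let ρ : Localization.Away f →ₐ[R₀] Localization.AtPrime p :=
    IsLocalization.Away.liftAlgHom f
      (f := IsScalarTower.toAlgHom R₀ C (Localization.AtPrime p)) hfunit
  obtain ⟨t, htp, ⟨ψ⟩⟩ := exists_algHom_away (R₀ := R₀) (A := A) (E := Localization.Away f) p ρ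
  refine ⟨t, htp, ?_⟩
  have hfreeT : Module.Free (Localization.Away t) (Mm L (Localization.Away t)) :=
    free_of_algHom L ψ hfreeC₁
  haveI := hfreeT
  exact Module.Free.of_equiv (locEquiv L (Submonoid.powers t) eM).symm

/-- **Generic freeness over a base with a unique minimal prime** (EGA IV 11.3-type, no Noetherian or
reducedness hypothesis). -/
theorem main {A B : Type u} [CommRing A] [CommRing B] [Algebra A B]
    [Algebra.FinitePresentation A B] (p : Ideal A) [p.IsPrime] (hp : minimalPrimes A = {p})
    (M : Type u) [AddCommGroup M] [Module B M] [Module A M] [IsScalarTower A B M]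
    [Module.FinitePresentation B M]
    (hflat : Module.Flat (Localization.AtPrime p) (LocalizedModule p.primeCompl M)) :
    ∃ t : A, t ∉ p ∧
      Module.Free (Localization.Away t) (LocalizedModule (Submonoid.powers t) M) := by
  obtain ⟨n, b, e, R₀, hR₀, L, ⟨eM⟩⟩ := exists_model A B M
  haveI : Algebra.FiniteType ℤ R₀ := (Subalgebra.fg_iff_finiteType R₀).1 hR₀
  haveI : IsNoetherianRing R₀ := Algebra.FiniteType.isNoetherianRing ℤ R₀
  exact main_aux L p hp M eM hflat

end Groth.Agent.Lib.Helper26.GenFreeNil
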