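import Groth.Agent.Lib.Helper26.HenselIdem
import Groth.Agent.S0526
import Mathlib

/-!
# Henselian pairs and maps of finite étale algebras
-/

set_option autoImplicit false
universe u

namespace Groth.Agent.Lib.Helper26.HenselFEt

open TensorProduct Groth.Agent.Lib.Helper26.HenselBasic Groth.Agent.Lib.Helper3
  Groth.Agent.Lib.Helper26.HenselTFAE Groth.Agent.Lib.Helper26.HenselIdem

variable {A : Type u} [CommRing A] (I : Ideal A)

/-- The kernel of `P → A/I ⊗ P`. -/
theorem mem_map_of_tmul_eq_zero {B : Type*} [CommRing B] [Algebra A B] (x : B)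
    (hx : (1 : A ⧸ I) ⊗ₜ[A] x = 0) : x ∈ I.map (algebraMap A B) := by
  have h := congrArg (TensorProduct.quotTensorEquivQuotSMul B I) hx
  rw [TensorProduct.quotTensorEquivQuotSMul_mk_one_tmul, map_zero,
    Submodule.Quotient.mk_eq_zero, Ideal.smul_top_eq_map] at h
  exact h

/-- Two maps from an unramified algebra to an integral algebra that agree modulo `I ≤ rad A`
are equal. -/
theorem algHom_eq_of_sub_mem (hI : I ≤ Ideal.jacobson ⊥) {B₁ B₂ : Type*} [CommRing B₁]
    [CommRing B₂] [Algebra A B₁] [Algebra A B₂] [Algebra.EssFiniteType A B₁]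
    [Algebra.FormallyUnramified A B₁] [Algebra.IsIntegral A B₂] (φ φ' : B₁ →ₐ[A] B₂)
    (h : ∀ s, φ s - φ' s ∈ I.map (algebraMap A B₂)) : φ = φ' := by
  set IB := I.map (algebraMap A B₂) with hIB
  let Φ : B₁ ⊗[A] B₁ →ₐ[A] B₂ := Algebra.TensorProduct.productMap φ φ'
  set θ := Φ (Algebra.FormallyUnramified.elem A B₁) with hθ
  have h1 : ∀ s, (φ' s - φ s) * θ = 0 := by
    intro s
    have := congrArg Φ (Algebra.FormallyUnramified.one_tmul_sub_tmul_one_mul_elem (R := A) (S := B₁) s)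
    rw [map_mul, map_zero, map_sub] at this
    simpa [Φ] using this
  have h2 : θ - 1 ∈ IB := by
    let π : B₂ →ₐ[A] B₂ ⧸ IB := Ideal.Quotient.mkₐ A IB
    have hππ : π.comp φ = π.comp φ' := by
      ext s
      exact Ideal.Quotient.eq.mpr (h s)
    have e1 : π.comp Φ = (π.comp φ).comp (Algebra.TensorProduct.lmul' A) := by
      apply Algebra.TensorProduct.ext'
      intro a b
      simp only [Φ, AlgHom.comp_apply, Algebra.TensorProduct.productMap_apply_tmul,
        Algebra.TensorProduct.lmul'_apply_tmul, map_mul]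
      congr 1
      exact (DFunLike.congr_fun hππ b).symm
    have e2 : π θ = 1 := by
      have := DFunLike.congr_fun e1 (Algebra.FormallyUnramified.elem A B₁)
      simp only [AlgHom.comp_apply] at this
      rw [this, Algebra.FormallyUnramified.lmul_elem, map_one, map_one]
    rw [← Ideal.Quotient.eq_zero_iff_mem, map_sub, map_one, sub_eq_zero]
    exact e2
  have hθu : IsUnit θ := by
    apply isUnit_of_isUnit_mk (map_le_jacobson_of_isIntegral I hI (B := B₂))
    have : Ideal.Quotient.mk (I.map (algebraMap A B₂)) θ = 1 := by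
      rw [← map_one (Ideal.Quotient.mk _), Ideal.Quotient.eq]; exact h2
    rw [this]; exact isUnit_one
  ext s
  have := (hθu.mul_left_eq_zero).mp (h1 s)
  exact (sub_eq_zero.mp this).symm


section Lift

variable [HenselianRing A I] (B₁ B₂ : Type u) [CommRing B₁] [CommRing B₂] [Algebra A B₁]
  [Algebra A B₂] [Algebra.Etale A B₁] [Algebra.IsIntegral A B₂]

/-- The comparison map `A/I ⊗ B₂ → B₂ / I B₂`. -/
noncomputable def kappa : (A ⧸ I) ⊗[A] B₂ →ₐ[A] B₂ ⧸ I.map (algebraMap A B₂) :=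
  Algebra.TensorProduct.productMap
    (Ideal.Quotient.liftₐ I (Algebra.ofId A (B₂ ⧸ I.map (algebraMap A B₂))) (by
      intro a ha
      rw [Algebra.ofId_apply, IsScalarTower.algebraMap_apply A B₂ (B₂ ⧸ I.map (algebraMap A B₂)),
        Ideal.Quotient.algebraMap_eq, Ideal.Quotient.eq_zero_iff_mem]
      exact Ideal.mem_map_of_mem _ ha))
    (Ideal.Quotient.mkₐ A (I.map (algebraMap A B₂)))

lemma kappa_one_tmul (b : B₂) :
    kappa I B₂ ((1 : A ⧸ I) ⊗ₜ[A] b) = Ideal.Quotient.mk (I.map (algebraMap A B₂)) b := by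
  simp [kappa]

/-- The inverse direction `B₂ / I B₂ → A/I ⊗ B₂`. -/
noncomputable def lam : B₂ ⧸ I.map (algebraMap A B₂) →+* (A ⧸ I) ⊗[A] B₂ :=
  Ideal.Quotient.lift (I.map (algebraMap A B₂))
    (Algebra.TensorProduct.includeRight : B₂ →ₐ[A] (A ⧸ I) ⊗[A] B₂).toRingHom (by
      have : I.map (algebraMap A B₂) ≤ RingHom.ker
          (Algebra.TensorProduct.includeRight : B₂ →ₐ[A] (A ⧸ I) ⊗[A] B₂).toRingHom := by
        rw [Ideal.map_le_iff_le_comap]
        intro a ha
        rw [Ideal.mem_comap, RingHom.mem_ker]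
        show (1 : A ⧸ I) ⊗ₜ[A] (algebraMap A B₂ a) = 0
        rw [Algebra.algebraMap_eq_smul_one, ← TensorProduct.smul_tmul, Algebra.smul_def, mul_one]
        have : algebraMap A (A ⧸ I) a = 0 := Ideal.Quotient.eq_zero_iff_mem.mpr ha
        rw [this, TensorProduct.zero_tmul]
      exact fun b hb => this hb)

lemma lam_kappa (x : (A ⧸ I) ⊗[A] B₂) : lam I B₂ (kappa I B₂ x) = x := by
  induction x using TensorProduct.induction_on with
  | zero => simp
  | tmul a b =>
    obtain ⟨a, rfl⟩ := Ideal.Quotient.mk_surjective a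
    have : (Ideal.Quotient.mk I a) ⊗ₜ[A] b = a • ((1 : A ⧸ I) ⊗ₜ[A] b) := by
      rw [TensorProduct.smul_tmul', Algebra.smul_def, mul_one]; rfl
    rw [this, map_smul, kappa_one_tmul]
    have h2 : a • Ideal.Quotient.mk (I.map (algebraMap A B₂)) b =
        Ideal.Quotient.mk (I.map (algebraMap A B₂)) (a • b) := rfl
    rw [h2]
    show (1 : A ⧸ I) ⊗ₜ[A] (a • b) = _
    rw [TensorProduct.tmul_smul]
  | add x y hx hy => rw [map_add, map_add, hx, hy]

/-- Surjectivity: every `A/I`-algebra map between the reductions lifts. -/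
theorem exists_algHom_lift
    (ψ : (A ⧸ I) ⊗[A] B₁ →ₐ[A ⧸ I] (A ⧸ I) ⊗[A] B₂) :
    ∃ φ : B₁ →ₐ[A] B₂, Algebra.TensorProduct.map (AlgHom.id (A ⧸ I) (A ⧸ I)) φ = ψ := by
  haveI : HenselianRing B₂ (I.map (algebraMap A B₂)) := Groth.Agent.S0526.result A I B₂
  let g : B₁ →ₐ[A] B₂ ⧸ I.map (algebraMap A B₂) :=
    ((kappa I B₂).comp (ψ.restrictScalars A)).comp
      (Algebra.TensorProduct.includeRight : B₁ →ₐ[A] (A ⧸ I) ⊗[A] B₁)
  let σ : B₂ ⊗[A] B₁ →ₐ[B₂] B₂ ⧸ I.map (algebraMap A B₂) :=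
    Algebra.TensorProduct.lift (Algebra.ofId B₂ _) g (fun _ _ => Commute.all _ _)
  obtain ⟨τ, hτ⟩ := liftsEtale_of_henselianRing (I.map (algebraMap A B₂)) (B₂ ⊗[A] B₁) σ
  let φ : B₁ →ₐ[A] B₂ := (τ.restrictScalars A).comp
    (Algebra.TensorProduct.includeRight : B₁ →ₐ[A] B₂ ⊗[A] B₁)
  refine ⟨φ, ?_⟩
  apply Algebra.TensorProduct.ext'
  intro a b
  have hb : (1 : A ⧸ I) ⊗ₜ[A] φ b = ψ ((1 : A ⧸ I) ⊗ₜ[A] b) := by
    have e1 : kappa I B₂ ((1 : A ⧸ I) ⊗ₜ[A] φ b) = kappa I B₂ (ψ ((1 : A ⧸ I) ⊗ₜ[A] b)) := by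
      rw [kappa_one_tmul]
      have := DFunLike.congr_fun hτ ((1 : B₂) ⊗ₜ[A] b)
      simp only [AlgHom.comp_apply] at this
      have e2 : σ ((1 : B₂) ⊗ₜ[A] b) = g b := by simp [σ]
      rw [e2] at this
      exact this
    have := congrArg (lam I B₂) e1
    rwa [lam_kappa, lam_kappa] at this
  have ha : a ⊗ₜ[A] b = a • ((1 : A ⧸ I) ⊗ₜ[A] b) := by
    rw [TensorProduct.smul_tmul', smul_eq_mul, mul_one]
  rw [Algebra.TensorProduct.map_tmul, AlgHom.id_apply, ha, map_smul, ← hb,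
    TensorProduct.smul_tmul', smul_eq_mul, mul_one]

end Lift

end Groth.Agent.Lib.Helper26.HenselFEt
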