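import Mathlib
import Groth.Prelude.Def_GSzMilK

/-!
# Basic lemmas on the prelude's Milnor K-groups `MilK.K` (helper26)

* `hom_ext_symbol` : additive maps out of `K F n` agreeing on symbols are equal.
* `symbol_cons_mul` : `{ab, v} = {a, v} + {b, v}`.
* `symbol_update_mul` : multiplicativity in any slot.
* `tame_units_eq_zero` : a tame symbol kills symbols of units.
-/

set_option autoImplicit false
universe u v w

namespace Groth.Agent.Lib.Helper26.MilKBasic

open MilK

variable {F : Type u} [Field F]

theorem hom_ext_symbol {M : Type w} [AddCommGroup M] {n : ℕ} (f g : K F n →+ M)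
    (h : ∀ x : Fin n → Fˣ, f (symbol x) = g (symbol x)) : f = g := by
  ext y
  obtain ⟨t, rfl⟩ := mk_surjective F n y
  induction t using PiTensorProduct.induction_on with
  | smul_tprod r x =>
    rw [map_zsmul, map_zsmul, map_zsmul, mk_tprod, h]
  | add a b ha hb => rw [map_add, map_add, map_add, ha, hb]

theorem symbol_induction {n : ℕ} {p : K F n → Prop} (h0 : p 0)
    (hadd : ∀ a b, p a → p b → p (a + b)) (hneg : ∀ a, p a → p (-a))
    (hs : ∀ x : Fin n → Fˣ, p (symbol x)) (y : K F n) : p y := by
  obtain ⟨t, rfl⟩ := mk_surjective F n y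
  have hz : ∀ (r : ℤ) (a : K F n), p a → p (r • a) := by
    intro r a ha
    induction r using Int.induction_on with
    | zero => simpa using h0
    | succ i ih => rw [add_smul, one_smul]; exact hadd _ _ ih ha
    | pred i ih => rw [sub_smul, one_smul, sub_eq_add_neg]; exact hadd _ _ ih (hneg _ ha)
  induction t using PiTensorProduct.induction_on with
  | smul_tprod r x =>
    rw [map_zsmul, mk_tprod]
    exact hz r _ (hs _)
  | add a b ha hb => rw [map_add]; exact hadd _ _ ha hb

theorem symbol_update_mul {n : ℕ} (x : Fin n → Fˣ) (i : Fin n) (a b : Fˣ) :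
    symbol (Function.update x i (a * b)) =
      symbol (Function.update x i a) + symbol (Function.update x i b) := by
  classical
  have e : ∀ c : Fˣ, (fun k => Additive.ofMul (Function.update x i c k)) =
      Function.update (fun k => Additive.ofMul (x k)) i (Additive.ofMul c) := by
    intro c
    funext k
    by_cases hk : k = i
    · subst hk; simp
    · simp [Function.update_of_ne hk]
  unfold symbol
  rw [e, e, e, ofMul_mul]
  have := (PiTensorProduct.tprod ℤ).map_update_add (fun k => Additive.ofMul (x k)) i
    (Additive.ofMul a) (Additive.ofMul b)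
  rw [this, map_add]

theorem symbol_cons_mul {n : ℕ} (a b : Fˣ) (v : Fin n → Fˣ) :
    symbol (Fin.cons (a * b) v : Fin (n + 1) → Fˣ) =
      symbol (Fin.cons a v : Fin (n + 1) → Fˣ) + symbol (Fin.cons b v : Fin (n + 1) → Fˣ) := by
  have h := symbol_update_mul (Fin.cons 1 v : Fin (n + 1) → Fˣ) 0 a b
  simpa only [Fin.update_cons_zero] using h

section Valuation

variable (A : Type u) [CommRing A] [IsDomain A] [IsDiscreteValuationRing A]
  (L : Type v) [Field L] [Algebra A L] [IsFractionRing A L]

theorem unitFrac_mul_unit (u : Aˣ) (ϖ : A) (h : ϖ ≠ 0) (h' : (u : A) * ϖ ≠ 0) :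
    unitFrac A L ((u : A) * ϖ) h' = unitToFrac A L u * unitFrac A L ϖ h := by
  apply Units.ext
  simp [unitToFrac]

/-- A tame symbol kills symbols all of whose entries are units of the valuation ring. -/
theorem tame_units_eq_zero (n : ℕ) (d : K L (n + 1) →+ K (IsLocalRing.ResidueField A) n)
    (hd : IsTameSymbol A L n d) (u : Fin (n + 1) → Aˣ) :
    d (symbol fun i => unitToFrac A L (u i)) = 0 := by
  obtain ⟨ϖ, hϖ⟩ := IsDiscreteValuationRing.exists_irreducible A
  have hϖ' : Irreducible ((u 0 : A) * ϖ) :=
    (irreducible_units_mul (u 0) ).mpr hϖ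
  have h1 := hd ϖ hϖ (fun i => u i.succ)
  have h2 := hd _ hϖ' (fun i => u i.succ)
  rw [unitFrac_mul_unit A L (u 0) ϖ hϖ.ne_zero, symbol_cons_mul, map_add, h1] at h2
  have h3 : (fun i => unitToFrac A L (u i)) =
      (Fin.cons (unitToFrac A L (u 0)) fun i => unitToFrac A L (u i.succ) : Fin (n + 1) → Lˣ) := by
    funext i
    refine Fin.cases ?_ (fun j => ?_) i
    · simp
    · simp
  rw [h3]
  exact add_eq_right.mp h2

end Valuation

end Groth.Agent.Lib.Helper26.MilKBasic
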