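import Mathlib.RingTheory.Flat.EquationalCriterion
import Mathlib.RingTheory.Ideal.Operations
import Mathlib.RingTheory.Nilpotent.Defs

/-!
# Nakayama-type lemmas for a nilpotent ideal, and a flatness consequence (helper26)

* `eq_top_of_le_sup_smul_top` : `⊤ ≤ P ⊔ I • ⊤`, `I` nilpotent ⟹ `P = ⊤` (no finiteness).
* `eq_bot_of_le_smul` : `K ≤ I • K`, `I` nilpotent ⟹ `K = ⊥`.
* `ker_inf_smul_top_le` : for `φ : M → N` surjective with `N` flat, `ker φ ⊓ I • ⊤ ≤ I • ker φ`
  (i.e. `Tor₁(R/I, N) = 0`, proved via the equational criterion).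
* `bijective_of_flat_of_nilpotent`: a linear map `φ : M → N`, `N` flat, `I` nilpotent, which is
  "an isomorphism modulo `I`" in the sense `⊤ ≤ range φ ⊔ I • ⊤` and `ker φ ≤ I • ⊤`, is bijective.
-/

namespace Groth.Agent.Lib.Helper26.NilNak

variable {R : Type*} [CommRing R] {M N : Type*} [AddCommGroup M] [Module R M]
  [AddCommGroup N] [Module R N]

lemma eq_top_of_le_sup_smul_top (I : Ideal R) (hI : IsNilpotent I) (P : Submodule R M)
    (h : (⊤ : Submodule R M) ≤ P ⊔ I • (⊤ : Submodule R M)) : P = ⊤ := by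
  obtain ⟨n, hn⟩ := hI
  have key : ∀ j : ℕ, (⊤ : Submodule R M) ≤ P ⊔ I ^ j • (⊤ : Submodule R M) := by
    intro j
    induction j with
    | zero => simp
    | succ j ih =>
      calc (⊤ : Submodule R M) ≤ P ⊔ I ^ j • (⊤ : Submodule R M) := ih
        _ ≤ P ⊔ I ^ j • (P ⊔ I • (⊤ : Submodule R M)) :=
            sup_le_sup_left (Submodule.smul_mono le_rfl h) _
        _ = P ⊔ (I ^ j • P ⊔ I ^ j • (I • (⊤ : Submodule R M))) := by rw [Submodule.smul_sup]
        _ ≤ P ⊔ I ^ (j + 1) • (⊤ : Submodule R M) := by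
            rw [← Submodule.mul_smul, ← pow_succ]
            exact sup_le le_sup_left
              (sup_le (le_sup_of_le_left Submodule.smul_le_right) le_sup_right)
  have h1 := key n
  rw [hn, Ideal.zero_eq_bot, Submodule.bot_smul, sup_bot_eq] at h1
  exact top_le_iff.mp h1

lemma eq_bot_of_le_smul (I : Ideal R) (hI : IsNilpotent I) (K : Submodule R M)
    (h : K ≤ I • K) : K = ⊥ := by
  obtain ⟨n, hn⟩ := hI
  have key : ∀ j : ℕ, K ≤ I ^ j • K := by
    intro j
    induction j with
    | zero => simp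
    | succ j ih =>
      calc K ≤ I ^ j • K := ih
        _ ≤ I ^ j • (I • K) := Submodule.smul_mono le_rfl h
        _ = I ^ (j + 1) • K := by rw [← Submodule.mul_smul, ← pow_succ]
  have h1 := key n
  rw [hn, Ideal.zero_eq_bot, Submodule.bot_smul] at h1
  exact le_bot_iff.mp h1

lemma ker_inf_smul_top_le (I : Ideal R) (φ : M →ₗ[R] N) (hφ : Function.Surjective φ)
    [Module.Flat R N] :
    LinearMap.ker φ ⊓ I • (⊤ : Submodule R M) ≤ I • LinearMap.ker φ := by
  classical
  rintro x ⟨hxK, hxI⟩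
  have hx' : x ∈ I • Submodule.span R (Set.range (id : M → M)) := by simpa using hxI
  obtain ⟨a, ha, rfl⟩ := (Submodule.mem_ideal_smul_span_iff_exists_sum I id x).mp hx'
  rw [Finsupp.sum] at hxK ⊢
  simp only [id_eq] at hxK ⊢
  have hrel : ∑ m : a.support, a m • φ m = 0 := by
    rw [Finset.sum_coe_sort a.support (fun m => a m • φ m)]
    have := (LinearMap.mem_ker).mp hxK
    simpa [map_sum] using this
  obtain ⟨k, b, z, hz, hb⟩ := Module.Flat.isTrivialRelation_of_sum_smul_eq_zero hrel
  choose w hw using fun j => hφ (z j)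
  have hzero : ∑ m : a.support, a m • ∑ j, b m j • w j = 0 := by
    simp only [Finset.smul_sum, smul_smul]
    rw [Finset.sum_comm]
    apply Finset.sum_eq_zero
    intro j _
    rw [← Finset.sum_smul, hb j, zero_smul]
  have hx : ∑ m ∈ a.support, a m • m =
      ∑ m : a.support, a m • ((m : M) - ∑ j, b m j • w j) := by
    rw [← Finset.sum_coe_sort a.support (fun m => a m • m)]
    simp only [smul_sub, Finset.sum_sub_distrib]
    rw [hzero, sub_zero]
  rw [hx]
  refine Submodule.sum_mem _ fun m _ => Submodule.smul_mem_smul (ha m) ?_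
  have hzm : φ (m : M) = ∑ j, b m j • z j := hz m
  rw [LinearMap.mem_ker, map_sub, map_sum, hzm, sub_eq_zero]
  apply Finset.sum_congr rfl
  intro j _
  rw [map_smul, hw]

theorem bijective_of_flat_of_nilpotent (I : Ideal R) (hI : IsNilpotent I) (φ : M →ₗ[R] N)
    [Module.Flat R N]
    (hsurj : (⊤ : Submodule R N) ≤ LinearMap.range φ ⊔ I • (⊤ : Submodule R N))
    (hker : LinearMap.ker φ ≤ I • (⊤ : Submodule R M)) : Function.Bijective φ := by
  have hs : Function.Surjective φ :=
    LinearMap.range_eq_top.mp (eq_top_of_le_sup_smul_top I hI _ hsurj)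
  refine ⟨?_, hs⟩
  rw [← LinearMap.ker_eq_bot]
  apply eq_bot_of_le_smul I hI
  exact le_trans (le_inf le_rfl hker) (ker_inf_smul_top_le I φ hs)

end Groth.Agent.Lib.Helper26.NilNak
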