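import Mathlib

set_option autoImplicit false
set_option linter.style.haveILetI false
set_option linter.unusedSectionVars false
universe u v

namespace Groth.Agent.Lib.Helper26.IntegralUnit

/-- Horner evaluation of the monic polynomial with lower coefficients `l` (lowest first). -/
def hval {R : Type*} [CommRing R] : List ℤ → R → R
  | [], _ => 1
  | c :: l, r => hval l r * r + (c : R)

theorem hval_nil {R : Type*} [CommRing R] (r : R) : hval [] r = 1 := rfl

theorem hval_cons {R : Type*} [CommRing R] (c : ℤ) (l : List ℤ) (r : R) :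
    hval (c :: l) r = hval l r * r + (c : R) := rfl

theorem hval_map {R S : Type*} [CommRing R] [CommRing S] (φ : R →+* S) (l : List ℤ) (r : R) :
    φ (hval l r) = hval l (φ r) := by
  induction l with
  | nil => simp [hval]
  | cons c l ih => simp [hval, ih]

theorem hval_replicate_zero {R : Type*} [CommRing R] (m : ℕ) (r : R) :
    hval (List.replicate m 0) r = r ^ m := by
  induction m with
  | zero => simp [hval]
  | succ m ih => simp [List.replicate_succ, hval, ih, pow_succ]

theorem hval_AS {R : Type*} [CommRing R] (m : ℕ) (r : R) :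
    hval (1 :: (-1) :: List.replicate m 0) r = r ^ (m + 2) - r + 1 := by
  simp only [hval_cons, hval_replicate_zero]
  push_cast
  ring

theorem exists_unit_charZero (k : Type*) (A : Type*) [Field k] [CharZero k] [CommRing A] [Algebra k A]
    (a : A) (ha : IsIntegral k a) : ∃ n : ℕ, IsUnit (a - (n : A)) := by
  classical
  have hP0 : minpoly k a ≠ 0 := minpoly.ne_zero ha
  obtain ⟨x, ⟨n, rfl⟩, hn⟩ := (Set.infinite_range_of_injective
    (Nat.cast_injective (R := k))).exists_notMem_finset (minpoly k a).roots.toFinset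
  have hPn : (minpoly k a).eval (n : k) ≠ 0 := by
    intro h
    apply hn
    rw [Multiset.mem_toFinset, Polynomial.mem_roots hP0]
    exact h
  refine ⟨n, ?_⟩
  have hdiv := Polynomial.modByMonic_add_div (minpoly k a) (Polynomial.X - Polynomial.C (n : k))
  rw [Polynomial.modByMonic_X_sub_C_eq_C_eval] at hdiv
  have h2 := congrArg (Polynomial.aeval a) hdiv
  rw [minpoly.aeval, map_add, map_mul, Polynomial.aeval_C, map_sub, Polynomial.aeval_X,
    Polynomial.aeval_C, map_natCast] at h2
  have hu : IsUnit (algebraMap k A ((minpoly k a).eval (n : k))) :=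
    (isUnit_iff_ne_zero.mpr hPn).map _
  have h3 : (a - (n : A)) * (-(Polynomial.aeval a
      (minpoly k a /ₘ (Polynomial.X - Polynomial.C (n : k))))) =
      algebraMap k A ((minpoly k a).eval (n : k)) := by
    linear_combination (-1 : A) * h2
  exact isUnit_of_mul_isUnit_left (h3 ▸ hu)

/-- `θ` is fixed by some positive power of the `p`-power map. -/
def Per {R : Type*} [Monoid R] (p : ℕ) (θ : R) : Prop := ∃ n : ℕ, 0 < n ∧ θ ^ p ^ n = θ

section CharP

variable {K : Type*} [Field K] (p : ℕ) [Fact p.Prime] [CharP K p]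

theorem pow_of_per {θ : K} {n : ℕ} (h : θ ^ p ^ n = θ) (m : ℕ) : θ ^ p ^ (n * m) = θ := by
  induction m with
  | zero => simp
  | succ m ih => rw [Nat.mul_succ, pow_add, pow_mul, ih, h]

theorem per_of_AS {θ : K} {N : ℕ} (hN : 0 < N) (h : θ ^ p ^ N = θ - 1) : Per p θ := by
  haveI : ExpChar K p := ExpChar.prime Fact.out
  have key : ∀ j : ℕ, θ ^ p ^ (N * j) = θ - j := by
    intro j
    induction j with
    | zero => simp
    | succ j ih =>
      rw [Nat.mul_succ, pow_add, pow_mul, ih]
      have h1 : (θ - (j : K)) ^ p ^ N = iterateFrobenius K p N (θ - (j : K)) := rfl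
      rw [h1, map_sub, map_natCast, iterateFrobenius_def, h]
      push_cast
      ring
  refine ⟨N * p, Nat.mul_pos hN (Fact.out : p.Prime).pos, ?_⟩
  rw [key, CharP.cast_eq_zero, sub_zero]

theorem AS_ne_zero {θ : K} {N : ℕ} (hN : 0 < N)
    (hdvd : Per p θ → ∃ n : ℕ, θ ^ p ^ n = θ ∧ n ∣ N) : θ ^ p ^ N - θ + 1 ≠ 0 := by
  intro h0
  have h1 : θ ^ p ^ N = θ - 1 := by linear_combination h0
  obtain ⟨n, hn, m, rfl⟩ := hdvd (per_of_AS p hN h1)
  rw [pow_of_per p hn m] at h1
  have : (1 : K) = 0 := by linear_combination h1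
  exact one_ne_zero this

end CharP

theorem exists_unit_charP (k : Type*) (A : Type*) [Field k] [CommRing A] [Algebra k A] (p : ℕ)
    [Fact p.Prime] [CharP k p] (a : A) (ha : IsIntegral k a) :
    ∃ N : ℕ, 0 < N ∧ IsUnit (a ^ p ^ N - a + 1) := by
  classical
  let B := Algebra.adjoin k {a}
  haveI : Module.Finite k B := Algebra.finite_adjoin_simple_of_isIntegral ha
  haveI : IsArtinianRing B := IsArtinianRing.of_finite k B
  let a' : B := ⟨a, Algebra.self_mem_adjoin_singleton k a⟩
  haveI : Fintype (MaximalSpectrum B) := Fintype.ofFinite _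
  let θ : ∀ m : MaximalSpectrum B, B ⧸ m.asIdeal := fun m => Ideal.Quotient.mk _ a'
  let nn : MaximalSpectrum B → ℕ := fun m =>
    if h : Per p (θ m) then h.choose else 1
  have hnn : ∀ m, 0 < nn m := by
    intro m
    dsimp only [nn]
    split_ifs with h
    · exact h.choose_spec.1
    · exact Nat.one_pos
  let N := ∏ m, nn m
  have hN : 0 < N := Finset.prod_pos (fun m _ => hnn m)
  refine ⟨N, hN, ?_⟩
  have hB : IsUnit (a' ^ p ^ N - a' + 1) := by
    by_contra hnu
    obtain ⟨I, hI, hmem⟩ := exists_max_ideal_of_mem_nonunits hnu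
    let m : MaximalSpectrum B := ⟨I, hI⟩
    haveI := hI
    letI : Field (B ⧸ I) := Ideal.Quotient.field I
    haveI : CharP (B ⧸ I) p :=
      charP_of_injective_algebraMap (algebraMap k (B ⧸ I)).injective p
    have h0 : (θ m) ^ p ^ N - θ m + 1 = 0 := by
      have := (Ideal.Quotient.eq_zero_iff_mem (I := I)).mpr hmem
      simpa using this
    refine AS_ne_zero (K := B ⧸ I) p hN ?_ h0
    intro hper
    have hnm : nn m = hper.choose := by
      dsimp only [nn]
      rw [dif_pos hper]
    refine ⟨nn m, ?_, Finset.dvd_prod_of_mem nn (Finset.mem_univ m)⟩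
    rw [hnm]
    exact hper.choose_spec.2
  have := hB.map B.val
  simpa using this

theorem exists_isUnit_hval (k : Type*) (A : Type*) [Field k] [CommRing A] [Algebra k A]
    [Algebra.IsIntegral k A] (a : A) : ∃ l : List ℤ, l ≠ [] ∧ IsUnit (hval l a) := by
  obtain ⟨p, hp⟩ := CharP.exists k
  rcases CharP.char_is_prime_or_zero k p with hpp | hp0
  · haveI : Fact p.Prime := ⟨hpp⟩
    obtain ⟨N, hN, hu⟩ := exists_unit_charP k A p a (Algebra.IsIntegral.isIntegral a)
    have h2 : 2 ≤ p ^ N := by
      calc 2 ≤ p := hpp.two_le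
        _ = p ^ 1 := (pow_one p).symm
        _ ≤ p ^ N := Nat.pow_le_pow_right hpp.pos hN
    obtain ⟨m, hm⟩ : ∃ m, p ^ N = m + 2 := ⟨p ^ N - 2, by omega⟩
    refine ⟨1 :: (-1) :: List.replicate m 0, by simp, ?_⟩
    rw [hval_AS, ← hm]
    exact hu
  · subst hp0
    haveI : CharZero k := CharP.charP_to_charZero k
    obtain ⟨n, hu⟩ := exists_unit_charZero k A a (Algebra.IsIntegral.isIntegral a)
    refine ⟨[-(n : ℤ)], by simp, ?_⟩
    have : hval [-(n : ℤ)] a = a - (n : A) := by
      simp only [hval_cons, hval_nil]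
      push_cast
      ring
    rw [this]
    exact hu

end Groth.Agent.Lib.Helper26.IntegralUnit
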