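import Mathlib
import Groth.Agent.Lib.Helper3.InvSum
import Groth.Agent.Lib.Helper26.IntegralUnit

set_option autoImplicit false
set_option linter.style.haveILetI false
set_option linter.unusedSectionVars false
universe u
open CategoryTheory CategoryTheory.Limits AlgebraicGeometry TopologicalSpace Opposite
open Scheme.Modules

namespace Groth.Agent.Lib.Helper26.TwoChart

open Groth.Agent.Lib.Helper3 Groth.Agent.Lib.Helper3.QCSec Groth.Agent.Lib.Helper3.InvGen
  Groth.Agent.Lib.Helper3.InvTensor Groth.Agent.Lib.Helper3.InvTwist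
  Groth.Agent.Lib.Helper3.InvMonoidal Groth.Agent.Lib.Helper3.InvCoh
  Groth.Agent.Lib.Helper3.InvAmple Groth.Agent.Lib.Helper3.InvSum
open Groth.Agent.Lib.Helper26.IntegralUnit

variable {X : Scheme.{u}}

section Binary

variable {M : X.Modules} (hM : PicF.IsInvertible M)

theorem add_eq_sum (a b : Coh.structureModule X ⟶ M) :
    a + b = ∑ i ∈ (Finset.univ : Finset Bool), (fun i : Bool => cond i a b) i := by
  rw [Fintype.sum_bool]
  rfl

include hM in
theorem genLocus_add_le (a b : Coh.structureModule X ⟶ M) :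
    CohB1.genLocus M (a + b) ≤ CohB1.genLocus M a ⊔ CohB1.genLocus M b := by
  intro x hx
  have hx' : x ∈ CohB1.genLocus M
      (∑ i ∈ (Finset.univ : Finset Bool), (fun i : Bool => cond i a b) i) :=
    (add_eq_sum a b) ▸ hx
  obtain ⟨i, -, hi⟩ := exists_mem_genLocus_of_mem_genLocus_sum hM
    (Finset.univ : Finset Bool) (fun i : Bool => cond i a b) x hx'
  cases i
  · exact Or.inr hi
  · exact Or.inl hi

include hM in
theorem mem_genLocus_add_of_left (a b : Coh.structureModule X ⟶ M) (x : X)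
    (ha : x ∈ CohB1.genLocus M a) (hb : x ∉ CohB1.genLocus M b) :
    x ∈ CohB1.genLocus M (a + b) := by
  rw [add_eq_sum]
  apply mem_genLocus_sum_of_unique hM (Finset.univ : Finset Bool)
    (fun i : Bool => cond i a b) x true (Finset.mem_univ _) ha
  intro i _ hi
  cases i
  · exact hb
  · exact absurd rfl hi

include hM in
theorem isAffineOpen_genLocus_add (a b : Coh.structureModule X ⟶ M)
    (ha : IsAffineOpen (CohB1.genLocus M a)) (hb : IsAffineOpen (CohB1.genLocus M b)) :
    IsAffineOpen (CohB1.genLocus M (a + b)) := by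
  rw [add_eq_sum]
  apply isAffineOpen_genLocus_sum hM (Finset.univ : Finset Bool) (fun i : Bool => cond i a b)
  intro i _
  cases i
  · exact hb
  · exact ha

theorem sec_zsmul (c : ℤ) (t : Coh.structureModule X ⟶ M) (U : X.Opens) :
    sec (c • t) U = c • sec t U := by
  let φ : (Coh.structureModule X ⟶ M) →+ Γ(M, U) :=
    { toFun := fun s => sec s U, map_zero' := rfl, map_add' := fun _ _ => rfl }
  exact map_zsmul φ c t

include hM in
theorem genLocus_zsmul_le (c : ℤ) (t : Coh.structureModule X ⟶ M) :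
    CohB1.genLocus M (c • t) ≤ CohB1.genLocus M t := by
  intro x hx
  obtain ⟨V, e, hxV, hg⟩ := exists_isGen hM x
  obtain ⟨φ, hφ⟩ := hg.self.exists_coord (sec t V)
  have h1 : CohB1.genLocus M t ⊓ V = X.basicOpen φ :=
    genLocus_inf_eq_basicOpen t hg φ hφ.symm
  have h2 : CohB1.genLocus M (c • t) ⊓ V = X.basicOpen ((c : Γ(X, V)) * φ) := by
    apply genLocus_inf_eq_basicOpen (c • t) hg
    rw [sec_zsmul, ← hφ, mul_smul, Int.cast_smul_eq_zsmul]
  have h3 : x ∈ X.basicOpen ((c : Γ(X, V)) * φ) := h2 ▸ ⟨hx, hxV⟩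
  rw [Scheme.basicOpen_mul] at h3
  have h4 : x ∈ CohB1.genLocus M t ⊓ V := h1 ▸ h3.2
  exact h4.1

include hM in
theorem isAffineOpen_genLocus_zsmul (c : ℤ) (t : Coh.structureModule X ⟶ M)
    (ht : IsAffineOpen (CohB1.genLocus M t)) : IsAffineOpen (CohB1.genLocus M (c • t)) := by
  have hg := isGen_genLocus t
  have h2 : CohB1.genLocus M (c • t) ⊓ CohB1.genLocus M t =
      X.basicOpen ((c : Γ(X, CohB1.genLocus M t))) := by
    apply genLocus_inf_eq_basicOpen (c • t) hg
    rw [sec_zsmul, Int.cast_smul_eq_zsmul]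
  rw [inf_eq_left.mpr (genLocus_zsmul_le hM c t)] at h2
  rw [h2]
  exact ht.basicOpen _

end Binary

section Horner

variable {N : X.Modules} (hN : PicF.IsInvertible N) (s₁ s₂ : Coh.structureModule X ⟶ N)

/-- product of a section of `N^k` with a section of `N`, as a section of `N^(k+1)` -/
noncomputable def tmulS {k : ℕ} (a : Coh.structureModule X ⟶ CohB1.tensorPow N k)
    (s : Coh.structureModule X ⟶ N) : Coh.structureModule X ⟶ CohB1.tensorPow N (k + 1) :=
  SecTwist.tmulHom a s

include hN in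
theorem genLocus_tmulS {k : ℕ} (a : Coh.structureModule X ⟶ CohB1.tensorPow N k)
    (s : Coh.structureModule X ⟶ N) :
    CohB1.genLocus _ (tmulS a s) = CohB1.genLocus _ a ⊓ CohB1.genLocus N s :=
  genLocus_tmulHom (isInvertible_tensorPow hN k) hN a s

theorem sec_tmulS {k : ℕ} (a : Coh.structureModule X ⟶ CohB1.tensorPow N k)
    (s : Coh.structureModule X ⟶ N) (U : X.Opens) :
    sec (tmulS a s) U = tm (CohB1.tensorPow N k) N U (sec a U) (sec s U) :=
  sec_tmulHom a s U

/-- The homogeneous Horner form `s₁^e + c₁ s₁^{e-1} s₂ + ⋯ + c_e s₂^e` with coefficient list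
`l` (constant coefficient first). -/
noncomputable def H : (l : List ℤ) → (Coh.structureModule X ⟶ CohB1.tensorPow N l.length)
  | [] => 𝟙 _
  | c :: l => tmulS (H l) s₁ + c • SecTwist.powHom s₂ (l.length + 1)

theorem H_cons (c : ℤ) (l : List ℤ) :
    H s₁ s₂ (c :: l) = tmulS (H s₁ s₂ l) s₁ + c • SecTwist.powHom s₂ (l.length + 1) :=
  rfl

theorem sec_H {U : X.Opens} {e : Γ(N, U)} (ρ : Γ(X, U)) (h₂ : sec s₂ U = e)
    (h₁ : sec s₁ U = ρ • e) (l : List ℤ) :
    sec (H s₁ s₂ l) U = hval l ρ • lpow N e l.length := by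
  induction l with
  | nil =>
    rw [hval_nil, one_smul]
    rfl
  | cons c l ih =>
    rw [H_cons, sec_add, sec_zsmul, sec_tmulS, sec_powHom, ih, h₁, h₂, hval_cons]
    rw [tm_smul_left, tm_smul_right, ← mul_smul, add_smul, Int.cast_smul_eq_zsmul]
    rfl

include hN in
theorem genLocus_H_inf {U : X.Opens} {e : Γ(N, U)} (hg : IsGen N U e) (ρ : Γ(X, U))
    (h₂ : sec s₂ U = e) (h₁ : sec s₁ U = ρ • e) (l : List ℤ) :
    CohB1.genLocus _ (H s₁ s₂ l) ⊓ U = X.basicOpen (hval l ρ) :=
  genLocus_inf_eq_basicOpen _ (isGen_lpow hg l.length) _ (sec_H s₁ s₂ ρ h₂ h₁ l)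

include hN in
theorem genLocus_H_le (c : ℤ) (l : List ℤ) :
    CohB1.genLocus _ (H s₁ s₂ (c :: l)) ≤ CohB1.genLocus N s₁ ⊔ CohB1.genLocus N s₂ := by
  have hk := isInvertible_tensorPow hN (l.length + 1)
  refine (genLocus_add_le (M := CohB1.tensorPow N (l.length + 1)) hk _ _).trans ?_
  apply sup_le_sup
  · rw [genLocus_tmulS hN]
    exact inf_le_right
  · refine (genLocus_zsmul_le hk c _).trans ?_
    rw [genLocus_powHom hN]

include hN in
theorem isAffineOpen_genLocus_H (h₁ : IsAffineOpen (CohB1.genLocus N s₁))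
    (h₂ : IsAffineOpen (CohB1.genLocus N s₂)) (c : ℤ) (l : List ℤ) :
    IsAffineOpen (CohB1.genLocus _ (H s₁ s₂ (c :: l))) := by
  have hk := isInvertible_tensorPow hN (l.length + 1)
  apply isAffineOpen_genLocus_add (M := CohB1.tensorPow N (l.length + 1)) hk
  · rw [genLocus_tmulS hN]
    exact isAffineOpen_genLocus_inf (isInvertible_tensorPow hN l.length) _ h₁
  · apply isAffineOpen_genLocus_zsmul hk
    rw [genLocus_powHom hN]
    exact h₂

include hN in
theorem mem_genLocus_H_of_left (x : X) (hx₁ : x ∈ CohB1.genLocus N s₁)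
    (hx₂ : x ∉ CohB1.genLocus N s₂) (l : List ℤ) : x ∈ CohB1.genLocus _ (H s₁ s₂ l) := by
  induction l with
  | nil =>
    change x ∈ CohB1.genLocus (Coh.structureModule X) (𝟙 _)
    rw [genLocus_id]
    trivial
  | cons c l ih =>
    have hk := isInvertible_tensorPow hN (l.length + 1)
    apply mem_genLocus_add_of_left (M := CohB1.tensorPow N (l.length + 1)) hk
    · rw [genLocus_tmulS hN]
      exact ⟨ih, hx₁⟩
    · intro h
      apply hx₂
      have := genLocus_zsmul_le hk c _ h
      rwa [genLocus_powHom hN] at this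

end Horner

end Groth.Agent.Lib.Helper26.TwoChart
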