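import Groth.Agent.Lib.Helper26.RefShC
import Groth.Agent.Lib.Helper17.DepthTwoLocal
import Groth.Agent.Lib.Helper17.HartogsConv
import Groth.Agent.Lib.Helper17.CohStalk
import Groth.Agent.Lib.Helper17.CohBijLocus
import Groth.Agent.Lib.Helper4.HomDepth
import Groth.Agent.Lib.Helper4.Reflexive
import Groth.Agent.Lib.Helper4.FaltPd
import Groth.Agent.Lib.Helper7.SyzFree
import Groth.Agent.Lib.Helper26.RegularNormal
import Groth.Agent.Lib.Helper3.QCExact
import Groth.Prelude.Def_TorSh

/-!
# Reflexive coherent modules on regular schemes: normality (helper26)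
-/

set_option autoImplicit false
set_option linter.style.haveILetI false
set_option linter.unusedSectionVars false
universe u
open CategoryTheory CategoryTheory.Limits AlgebraicGeometry TopologicalSpace Opposite

namespace Groth.Agent.Lib.Helper26.RefSh

open Groth.Agent.Lib.Helper3 Groth.Agent.Lib.Helper3.QCSec Groth.Agent.Lib.Helper17

section algebra

open IsLocalRing

theorem two_le_depth_of_isReflexive (R : Type u) [CommRing R] [IsLocalRing R] (M : Type u)
    [AddCommGroup M] [Module R M] [Module.IsReflexive R M]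
    (h : (2 : ℕ∞) ≤ LocCoh.depth R R) : (2 : ℕ∞) ≤ LocCoh.depth R M := by
  have hd : LocCoh.depth R M =
      LocCoh.idealDepth (maximalIdeal R) (Module.Dual R M →ₗ[R] R) :=
    Groth.Agent.Lib.Helper4.idealDepth_congr _ (Module.evalEquiv R M)
  rw [hd]
  exact Groth.Agent.Lib.Helper4.two_le_idealDepth_linearMap (M := Module.Dual R M)
    (maximalIdeal R) h

theorem two_le_depth_of_regular (R : Type u) [CommRing R] [IsRegularLocalRing R]
    (h : (2 : WithBot ℕ∞) ≤ ringKrullDim R) : (2 : ℕ∞) ≤ LocCoh.depth R R := by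
  have hht : ((maximalIdeal R).height : WithBot ℕ∞) = ringKrullDim R :=
    IsLocalRing.maximalIdeal_height_eq_ringKrullDim
  rw [← hht] at h
  have h2 : (2 : ℕ∞) ≤ (maximalIdeal R).height :=
    WithBot.coe_le_coe.mp (show ((2 : ℕ∞) : WithBot ℕ∞) ≤ ((maximalIdeal R).height : WithBot ℕ∞) from h)
  exact h2.trans (Groth.Agent.Lib.Helper26.RegularNormal.height_maximalIdeal_le_depth R)

/-- A finite torsion-free module over a regular local domain of dimension at most one is free. -/
theorem free_of_torsionFree_regular_dim_le_one (R : Type u) [CommRing R] [IsDomain R]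
    [IsRegularLocalRing R] (hdim : ¬ (2 : WithBot ℕ∞) ≤ ringKrullDim R) (M : Type u)
    [AddCommGroup M] [Module R M] [Module.Finite R M] [Module.IsTorsionFree R M] :
    Module.Free R M := by
  obtain ⟨d, hd⟩ := Groth.Agent.Lib.Helper26.SerreReg.exists_nat_ringKrullDim R
  have hd1 : d ≤ 1 := by
    by_contra h
    apply hdim
    rw [hd]
    have : 2 ≤ d := by omega
    exact_mod_cast this
  have hht : ((maximalIdeal R).height : WithBot ℕ∞) = ringKrullDim R :=
    IsLocalRing.maximalIdeal_height_eq_ringKrullDim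
  have hht' : (maximalIdeal R).height = (d : ℕ∞) := by
    rw [hd] at hht
    exact_mod_cast hht
  have hdepR : (d : ℕ∞) ≤ LocCoh.depth R R := by
    rw [← hht']
    exact Groth.Agent.Lib.Helper26.RegularNormal.height_maximalIdeal_le_depth R
  have hdepM : (d : ℕ∞) ≤ LocCoh.depth R M := by
    interval_cases d
    · exact bot_le
    · by_cases hIM : maximalIdeal R • (⊤ : Submodule R M) = ⊤
      · unfold LocCoh.depth
        rw [Groth.Agent.Lib.Helper4.idealDepth_of_smul_top_eq _ hIM]
        exact le_top
      · have hR : maximalIdeal R • (⊤ : Submodule R R) ≠ ⊤ :=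
          Groth.Agent.Lib.Helper4.maximalIdeal_smul_top_ne_top
        have h1R : (1 : ℕ∞) ≤ LocCoh.idealDepth (maximalIdeal R) R := by exact_mod_cast hdepR
        obtain ⟨x, hx, hxreg⟩ := (Groth.Agent.Lib.Helper4.one_le_idealDepth_iff _ hR).mp h1R
        have hx0 : x ≠ 0 := by
          rintro rfl
          have := hxreg (show (0 : R) • (1 : R) = (0 : R) • (0 : R) by simp)
          exact one_ne_zero this
        have h1M : (1 : ℕ∞) ≤ LocCoh.idealDepth (maximalIdeal R) M :=
          (Groth.Agent.Lib.Helper4.one_le_idealDepth_iff _ hIM).mpr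
            ⟨x, hx, Module.IsTorsionFree.isSMulRegular (isRegular_of_ne_zero hx0)⟩
        exact_mod_cast h1M
  have h := Groth.Agent.Lib.Helper4.Falt.hasProjectiveDimensionLE_of_depth R d hd d M 0 hdepM
    (by omega)
  exact Groth.Agent.Lib.Helper7.SyzFree.free_of_hasProjectiveDimensionLT_one R M h

end algebra

variable {X : Scheme.{u}}

/-- **Local Hartogs**: restriction `Γ(U, F) → Γ(V, F)` is bijective when `F` has depth at least two
at the points of `U ∖ V`. -/
theorem bijective_res_of_depth_two_local [IsLocallyNoetherian X] (F : X.Modules)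
    [F.IsQuasicoherent] [F.IsFiniteType] {U V : X.Opens} (hVU : V ≤ U)
    (hdepth : ∀ x : X, x ∈ U → x ∉ V →
      (2 : ℕ∞) ≤ LocCoh.depth (X.presheaf.stalk x) (F.presheaf.stalk x)) :
    Function.Bijective (F.presheaf.map (homOfLE hVU).op) := by
  have hst : ∀ x ∈ U, Function.Bijective (RefHull.stalkMapₗ (Hartogs.unit F V) x) := by
    intro x hxU
    apply DepthTwoLocal.stalk_bijective_at
    intro x' hx'
    have hx'U : x' ∈ U := hx'.mem_open U.2 hxU
    by_cases hx'V : x' ∈ V
    · left
      apply Hartogs.stalkMap_bijective_of_bijective_below (Hartogs.unit F V) V _ x' hx'V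
      intro W hW
      rw [Hartogs.unit_app]
      apply Hartogs.bijective_map_of_ge
      rw [Hartogs.image_preimage_eq_inf]
      exact le_inf le_rfl hW
    · right
      refine ⟨hdepth x' hx'U hx'V, ?_⟩
      apply Hartogs.not_isAssPoint_of_injective _ V _ x' hx'V
      intro W
      exact (Hartogs.pushRestrict_res_bijective F V W).1
  have happ : Function.Bijective ((Hartogs.unit F V).app U) := by
    let M' := (Scheme.Modules.pushforward V.ι).obj ((Scheme.Modules.restrictFunctor V.ι).obj F)
    let Fs : TopCat.Sheaf Ab X := ⟨F.presheaf, F.isSheaf⟩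
    let Gs : TopCat.Sheaf Ab X := ⟨M'.presheaf, M'.isSheaf⟩
    let f : Fs ⟶ Gs := ⟨(Hartogs.unit F V).mapPresheaf⟩
    exact TopCat.Presheaf.app_bijective_of_stalkFunctor_map_bijective f U (fun x hx => hst x hx)
  have h1 := (Hartogs.bijective_unit_app_iff F V U).1 happ
  have h2 : Function.Bijective (F.presheaf.map (homOfLE (le_inf hVU le_rfl : V ≤ U ⊓ V)).op) :=
    Hartogs.bijective_map_of_ge F _ inf_le_right
  have hcomp : F.presheaf.map (homOfLE hVU).op =
      F.presheaf.map (homOfLE (inf_le_left : U ⊓ V ≤ U)).op ≫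
        F.presheaf.map (homOfLE (le_inf hVU le_rfl : V ≤ U ⊓ V)).op := by
    rw [← F.presheaf.map_comp]
    rfl
  have hfun : ⇑(ConcreteCategory.hom (F.presheaf.map (homOfLE hVU).op)) =
      ⇑(ConcreteCategory.hom (F.presheaf.map (homOfLE (le_inf hVU le_rfl : V ≤ U ⊓ V)).op)) ∘
        ⇑(ConcreteCategory.hom (F.presheaf.map (homOfLE (inf_le_left : U ⊓ V ≤ U)).op)) := by
    rw [hcomp]
    rfl
  rw [hfun]
  exact h2.comp h1

/-- On a regular scheme, a coherent module with reflexive stalks is normal. -/
theorem normal_of_reflexiveAt [IsLocallyNoetherian X]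
    (hreg : ∀ x : X, IsRegularLocalRing (X.presheaf.stalk x)) {F : X.Modules} (hF : Coh.IsCoh F)
    (h : ∀ x : X, RefHull.IsReflexiveAt F x) (U V : X.Opens) (hVU : V ≤ U)
    (hcod : ∀ x : X, x ∈ U → x ∉ V → (2 : WithBot ℕ∞) ≤ ringKrullDim (X.presheaf.stalk x)) :
    Function.Bijective (F.presheaf.map (homOfLE hVU).op) := by
  haveI : F.IsQuasicoherent := hF.1
  haveI : F.IsFiniteType := hF.2
  apply bijective_res_of_depth_two_local F hVU
  intro x hxU hxV
  haveI := hreg x
  haveI : Module.IsReflexive (X.presheaf.stalk x) (F.presheaf.stalk x) := h x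
  exact two_le_depth_of_isReflexive _ _ (two_le_depth_of_regular _ (hcod x hxU hxV))

/-- The dual of a coherent module has reflexive stalks. -/
theorem isReflexiveAt_dual [IsIntegral X] [IsLocallyNoetherian X] {F : X.Modules}
    (hF : Coh.IsCoh F) (x : X) : RefHull.IsReflexiveAt (RefHull.dual F) x := by
  haveI : F.IsQuasicoherent := hF.1
  haveI : F.IsFiniteType := hF.2
  haveI : Module.Finite (X.presheaf.stalk x) (F.presheaf.stalk x) := CohStalk.finite_stalk F x
  haveI : Module.Finite (X.presheaf.stalk x) ↑((Coh.structureModule X).presheaf.stalk x) :=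
    Module.Finite.equiv (unitEquiv x).symm
  haveI : Module.IsReflexive (X.presheaf.stalk x) ↑((Coh.structureModule X).presheaf.stalk x) :=
    Module.equiv (unitEquiv x).symm
  haveI : Module.IsReflexive (X.presheaf.stalk x)
      (F.presheaf.stalk x →ₗ[X.presheaf.stalk x] ↑((Coh.structureModule X).presheaf.stalk x)) :=
    Groth.Agent.Lib.Helper4.isReflexive_linearMap (X.presheaf.stalk x) (F.presheaf.stalk x) _
  exact Module.equiv (stalkEquiv F (Coh.structureModule X) (isFP_of_isCoh' hF) x).symm

/-- On a regular integral scheme, a torsion-free normal coherent module is reflexive. -/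
theorem isReflexive_of_torsionFree_normal [IsIntegral X] [IsLocallyNoetherian X]
    (hreg : ∀ x : X, IsRegularLocalRing (X.presheaf.stalk x)) {F : X.Modules} (hF : Coh.IsCoh F)
    (htf : TorSh.IsTorsionFree F)
    (hnorm : ∀ (U V : X.Opens) (hVU : V ≤ U),
      (∀ x : X, x ∈ U → x ∉ V → (2 : WithBot ℕ∞) ≤ ringKrullDim (X.presheaf.stalk x)) →
        Function.Bijective (F.presheaf.map (homOfLE hVU).op)) :
    RefHull.IsReflexive F := by
  haveI : F.IsQuasicoherent := hF.1
  haveI : F.IsFiniteType := hF.2
  have hD := isCoh_ddual hF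
  haveI : (RefHull.ddual F).IsQuasicoherent := hD.1
  haveI : (RefHull.ddual F).IsFiniteType := hD.2
  let V₀ : X.Opens := ⟨{x : X | Function.Bijective (RefHull.stalkMapₗ (RefHull.bidualMap F) x)},
    CohBijLocus.isOpen_bijective_stalk (RefHull.bidualMap F)⟩
  have hV₀ : ∀ x : X, x ∉ V₀ → (2 : WithBot ℕ∞) ≤ ringKrullDim (X.presheaf.stalk x) := by
    intro x hx
    by_contra hlt
    apply hx
    change Function.Bijective (RefHull.stalkMapₗ (RefHull.bidualMap F) x)
    rw [stalkMap_bidual_bijective_iff hF x]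
    haveI := hreg x
    haveI : Module.Finite (X.presheaf.stalk x) (F.presheaf.stalk x) := CohStalk.finite_stalk F x
    haveI : Module.IsTorsionFree (X.presheaf.stalk x) (F.presheaf.stalk x) := htf x
    haveI : Module.Free (X.presheaf.stalk x) (F.presheaf.stalk x) :=
      free_of_torsionFree_regular_dim_le_one _ hlt _
    change Module.IsReflexive (X.presheaf.stalk x) (F.presheaf.stalk x)
    infer_instance
  have hDD : ∀ x : X, RefHull.IsReflexiveAt (RefHull.ddual F) x :=
    fun x => isReflexiveAt_dual (isCoh_dual hF) x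
  have key : ∀ U : X.Opens, Function.Bijective ((RefHull.bidualMap F).app U) := by
    intro U
    have hcod : ∀ x : X, x ∈ U → x ∉ U ⊓ V₀ →
        (2 : WithBot ℕ∞) ≤ ringKrullDim (X.presheaf.stalk x) :=
      fun x hxU hxV => hV₀ x (fun h => hxV ⟨hxU, h⟩)
    have hl := hnorm U (U ⊓ V₀) inf_le_left hcod
    have hr := normal_of_reflexiveAt hreg hD hDD U (U ⊓ V₀) inf_le_left hcod
    have hb : Function.Bijective ((RefHull.bidualMap F).app (U ⊓ V₀)) := by
      let Fs : TopCat.Sheaf Ab X := ⟨F.presheaf, F.isSheaf⟩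
      let Gs : TopCat.Sheaf Ab X := ⟨(RefHull.ddual F).presheaf, (RefHull.ddual F).isSheaf⟩
      let f : Fs ⟶ Gs := ⟨(RefHull.bidualMap F).mapPresheaf⟩
      exact TopCat.Presheaf.app_bijective_of_stalkFunctor_map_bijective f (U ⊓ V₀)
        (fun x hx => hx.2)
    have hsq : (fun s => res (RefHull.ddual F) (inf_le_left : U ⊓ V₀ ≤ U)
        ((RefHull.bidualMap F).app U s)) =
        (fun s => (RefHull.bidualMap F).app (U ⊓ V₀) (res F (inf_le_left : U ⊓ V₀ ≤ U) s)) :=
      funext fun s => (QCExact.app_res' (RefHull.bidualMap F) inf_le_left s).symm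
    have h3 : Function.Bijective (fun s => res (RefHull.ddual F) (inf_le_left : U ⊓ V₀ ≤ U)
        ((RefHull.bidualMap F).app U s)) := by
      rw [hsq]
      exact hb.comp hl
    exact (Function.Bijective.of_comp_iff' hr _).mp h3
  apply ModIso.isIso_of_stalkMapₗ_bijective
  intro x
  exact Hartogs.stalkMap_bijective_of_bijective_below _ ⊤ (fun W _ => key W) x trivial

end Groth.Agent.Lib.Helper26.RefSh
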