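import Mathlib
import Groth.Prelude

/-!
# (A) for S19496 (helper23): the scheme-theoretic fibre over `V(m)` is proper over `A/m`.
The ideal `fibIdeal f m` is stated with its body unfolded:
`(Spec.map (CommRingCat.ofHom (Ideal.Quotient.mk m))).ker.comap f`.
-/

set_option autoImplicit false
set_option linter.style.haveILetI false
universe u
open CategoryTheory CategoryTheory.Limits AlgebraicGeometry

namespace Groth.Agent.Lib.Helper26.RelNefA

/-- the ideal sheaf of the scheme-theoretic fibre of `f` over the closed subscheme `V(m)`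
(same body as helper23's `fibIdeal`). -/
noncomputable def fibIdeal {A : Type u} [CommRing A] {X : Scheme.{u}}
    (f : X ⟶ Spec (CommRingCat.of A)) (m : Ideal A) : X.IdealSheafData :=
  (Spec.map (CommRingCat.ofHom (Ideal.Quotient.mk m))).ker.comap f

/-- general form: the closed subscheme `f⁻¹(Z)` of a proper `X ⟶ S` is proper over the closed
subscheme `Z` of `S`. -/
theorem exists_lift_isProper {X S Z : Scheme.{u}} (f : X ⟶ S) [IsProper f] (i : Z ⟶ S)
    [IsClosedImmersion i] :
    ∃ t : (i.ker.comap f).subscheme ⟶ Z,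
      t ≫ i = (i.ker.comap f).subschemeι ≫ f ∧ IsProper t := by
  have H : i.ker ≤ ((i.ker.comap f).subschemeι ≫ f).ker := by
    rw [Scheme.Hom.ker_comp, Scheme.IdealSheafData.ker_subschemeι]
    exact Scheme.IdealSheafData.le_map_comap (f := f) (J := i.ker)
  refine ⟨IsClosedImmersion.lift i _ H, IsClosedImmersion.lift_fac i _ H, ?_⟩
  haveI : IsProper (IsClosedImmersion.lift i ((i.ker.comap f).subschemeι ≫ f) H ≫ i) := by
    rw [IsClosedImmersion.lift_fac]
    infer_instance
  exact MorphismProperty.of_postcomp (W := @IsProper) (W' := @IsSeparated)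
    (IsClosedImmersion.lift i ((i.ker.comap f).subschemeι ≫ f) H) i inferInstance inferInstance

/-- (A) the fibre is a proper scheme over `A/m`. -/
theorem A_exists_structure {A : Type u} [CommRing A] {X : Scheme.{u}}
    (f : X ⟶ Spec (CommRingCat.of A)) [IsProper f] (m : Ideal A) :
    ∃ t : ((Spec.map (CommRingCat.ofHom (Ideal.Quotient.mk m))).ker.comap f).subscheme ⟶
        Spec (CommRingCat.of (A ⧸ m)),
      t ≫ Spec.map (CommRingCat.ofHom (Ideal.Quotient.mk m)) =
        ((Spec.map (CommRingCat.ofHom (Ideal.Quotient.mk m))).ker.comap f).subschemeι ≫ f ∧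
        IsProper t := by
  haveI : IsClosedImmersion (Spec.map (CommRingCat.ofHom (Ideal.Quotient.mk m))) :=
    IsClosedImmersion.spec_of_surjective _ Ideal.Quotient.mk_surjective
  exact exists_lift_isProper f (Spec.map (CommRingCat.ofHom (Ideal.Quotient.mk m)))

/-- (A) in terms of the local copy of `fibIdeal`. -/
theorem A_exists_structure' {A : Type u} [CommRing A] {X : Scheme.{u}}
    (f : X ⟶ Spec (CommRingCat.of A)) [IsProper f] (m : Ideal A) :
    ∃ t : (fibIdeal f m).subscheme ⟶ Spec (CommRingCat.of (A ⧸ m)),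
      t ≫ Spec.map (CommRingCat.ofHom (Ideal.Quotient.mk m)) = (fibIdeal f m).subschemeι ≫ f ∧
        IsProper t :=
  A_exists_structure f m

end Groth.Agent.Lib.Helper26.RelNefA
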