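import Mathlib
import Groth.Agent.S2733

/-!
# Purity of the branch locus for finite flat algebras (ring level)

A finite flat algebra `B` over a Noetherian ring `A` which is étale over all primes of height `≤ 1`
is étale: locally the non-étale locus is cut out by one equation, the discriminant.
-/

set_option autoImplicit false
set_option linter.style.haveILetI false
set_option linter.unusedSectionVars false

open TensorProduct

universe u

namespace Groth.Agent.Lib.Helper26.FinFlatPurity

section discr

variable {R S : Type*} [CommRing R] [CommRing S] [Algebra R S]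

/-- The trace form is bijective iff the discriminant of a basis is a unit. -/
theorem traceForm_bijective_iff_isUnit_discr {ι : Type*} [Fintype ι] [DecidableEq ι]
    (b : Module.Basis ι R S) :
    Function.Bijective (Algebra.traceForm R S) ↔ IsUnit (Algebra.discr R b) := by
  have hM : LinearMap.toMatrix b b.dualBasis (Algebra.traceForm R S) =
      (Algebra.traceMatrix R b).transpose := by
    ext i j
    rw [LinearMap.toMatrix_apply, Module.Basis.dualBasis_repr, Matrix.transpose_apply,
      Algebra.traceMatrix_apply]
  have hdet : (LinearMap.toMatrix b b.dualBasis (Algebra.traceForm R S)).det =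
      Algebra.discr R b := by
    rw [hM, Matrix.det_transpose, Algebra.discr_def]
  constructor
  · intro h
    have := LinearEquiv.isUnit_det (LinearEquiv.ofBijective (Algebra.traceForm R S) h) b
      b.dualBasis
    rw [← hdet]
    exact this
  · intro h
    rw [← hdet] at h
    exact (LinearEquiv.ofIsUnitDet h).bijective

theorem lmul_one_tmul (C' : Type*) [CommRing C'] [Algebra R C'] (x : S) :
    Algebra.lmul C' (C' ⊗[R] S) ((1 : C') ⊗ₜ[R] x) = (Algebra.lmul R S x).baseChange C' := by
  apply TensorProduct.AlgebraTensorModule.curry_injective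
  ext s
  simp [Algebra.TensorProduct.tmul_mul_tmul]

theorem trace_one_tmul (C' : Type*) [CommRing C'] [Algebra R C'] [Module.Free R S]
    [Module.Finite R S] (x : S) :
    Algebra.trace C' (C' ⊗[R] S) ((1 : C') ⊗ₜ[R] x) = algebraMap R C' (Algebra.trace R S x) := by
  rw [Algebra.trace_apply, Algebra.trace_apply, ← LinearMap.trace_baseChange, lmul_one_tmul]

theorem discr_baseChange (C' : Type*) [CommRing C'] [Algebra R C'] {ι : Type*} [Fintype ι]
    [DecidableEq ι] (b : Module.Basis ι R S) :
    Algebra.discr C' (Algebra.TensorProduct.basis C' b) = algebraMap R C' (Algebra.discr R b) := by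
  haveI := Module.Free.of_basis b
  haveI := Module.Finite.of_basis b
  rw [Algebra.discr_def, Algebra.discr_def, RingHom.map_det]
  congr 1
  ext i j
  rw [RingHom.mapMatrix_apply, Matrix.map_apply, Algebra.traceMatrix_apply,
    Algebra.traceMatrix_apply, Algebra.traceForm_apply, Algebra.traceForm_apply,
    Algebra.TensorProduct.basis_apply, Algebra.TensorProduct.basis_apply,
    Algebra.TensorProduct.tmul_mul_tmul, mul_one, trace_one_tmul]

end discr

attribute [local instance] Algebra.TensorProduct.rightAlgebra

/-- Transfer of étaleness along base change, phrased with `Algebra.IsPushout`. -/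
theorem etale_tensor_of_isPushout (A : Type u) [CommRing A] (B : Type u) [CommRing B] [Algebra A B]
    (C₁ B₁ : Type u) [CommRing C₁] [CommRing B₁] [Algebra A C₁] [Algebra C₁ B₁] [Algebra B B₁]
    [Algebra A B₁] [IsScalarTower A C₁ B₁] [IsScalarTower A B B₁]
    [Algebra.IsPushout A C₁ B B₁] [Algebra.Etale C₁ B₁]
    (C₂ : Type u) [CommRing C₂] [Algebra A C₂] [Algebra C₁ C₂] [IsScalarTower A C₁ C₂] :
    Algebra.Etale C₂ (C₂ ⊗[A] B) := by
  haveI : Algebra.Etale C₁ (C₁ ⊗[A] B) :=
    Algebra.Etale.of_equiv (Algebra.IsPushout.equiv A C₁ B B₁).symm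
  haveI : Algebra.Etale C₂ (C₂ ⊗[C₁] (C₁ ⊗[A] B)) := inferInstance
  exact Algebra.Etale.of_equiv (Algebra.TensorProduct.cancelBaseChange A C₁ C₂ C₂ B)

/-- Étale after inverting `g` implies étale after localizing at a prime not containing `g`. -/
theorem etale_atPrime_of_away (A B : Type u) [CommRing A] [CommRing B] [Algebra A B] (g : A)
    (A' B' : Type u) [CommRing A'] [CommRing B'] [Algebra A A'] [Algebra A' B'] [Algebra B B']
    [Algebra A B'] [IsScalarTower A A' B'] [IsScalarTower A B B']
    [IsLocalization.Away g A'] [hB' : IsLocalization.Away (algebraMap A B g) B']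
    [Algebra.Etale A' B'] (p : Ideal A) [p.IsPrime] (hg : g ∉ p) :
    Algebra.Etale (Localization.AtPrime p) (Localization.AtPrime p ⊗[A] B) := by
  haveI : IsLocalization (Algebra.algebraMapSubmonoid B (Submonoid.powers g)) B' := by
    have : Algebra.algebraMapSubmonoid B (Submonoid.powers g) =
        Submonoid.powers (algebraMap A B g) := Submonoid.map_powers _ _
    rw [this]
    exact hB'
  haveI : Algebra.IsPushout A B A' B' :=
    Algebra.isPushout_of_isLocalization (Submonoid.powers g) A' B B'
  haveI : Algebra.IsPushout A A' B B' := Algebra.IsPushout.symm inferInstance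
  have hu : IsUnit (algebraMap A (Localization.AtPrime p) g) :=
    IsLocalization.map_units _ (⟨g, hg⟩ : p.primeCompl)
  letI : Algebra A' (Localization.AtPrime p) := (IsLocalization.Away.lift g hu).toAlgebra
  haveI : IsScalarTower A A' (Localization.AtPrime p) :=
    IsScalarTower.of_algebraMap_eq (fun a => (IsLocalization.Away.lift_eq g hu a).symm)
  exact etale_tensor_of_isPushout A B A' B' (Localization.AtPrime p)

/-- Local step: étaleness at each localization. -/
theorem etale_atPrime (A B : Type u) [CommRing A] [CommRing B] [Algebra A B] [IsNoetherianRing A]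
    [Module.Finite A B] [Module.Flat A B]
    (H : ∀ (p : Ideal A) [p.IsPrime], p.height ≤ 1 →
      Algebra.Etale (Localization.AtPrime p) (Localization.AtPrime p ⊗[A] B))
    (m : Ideal A) [m.IsPrime] :
    Algebra.Etale (Localization.AtPrime m) (Localization.AtPrime m ⊗[A] B) := by
  classical
  haveI : IsNoetherianRing (Localization.AtPrime m) :=
    IsLocalization.isNoetherianRing m.primeCompl _ inferInstance
  haveI : Module.Free (Localization.AtPrime m) (Localization.AtPrime m ⊗[A] B) :=
    Module.free_of_flat_of_isLocalRing
  let b := Module.Free.chooseBasis (Localization.AtPrime m) (Localization.AtPrime m ⊗[A] B)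
  rw [Groth.Agent.S2733.result, traceForm_bijective_iff_isUnit_discr b]
  by_contra hd
  have hdm : Algebra.discr (Localization.AtPrime m) b ∈
      IsLocalRing.maximalIdeal (Localization.AtPrime m) := hd
  obtain ⟨q, hq, -⟩ := Ideal.exists_minimalPrimes_le
    (I := Ideal.span {Algebra.discr (Localization.AtPrime m) b})
    (J := IsLocalRing.maximalIdeal (Localization.AtPrime m))
    ((Ideal.span_singleton_le_iff_mem _).mpr hdm)
  haveI : q.IsPrime := hq.1.1
  have hht : q.height ≤ 1 := Ideal.height_le_one_of_isPrincipal_of_mem_minimalPrimes _ q hq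
  have hdq : Algebra.discr (Localization.AtPrime m) b ∈ q :=
    hq.1.2 (Ideal.subset_span rfl)
  haveI : (q.under A).IsPrime := inferInstance
  have hpht : (q.under A).height ≤ 1 := by
    rw [IsLocalization.height_under m.primeCompl q]; exact hht
  haveI := H (q.under A) hpht
  haveI : IsLocalization.AtPrime (Localization.AtPrime q) (q.under A) :=
    IsLocalization.isLocalization_isLocalization_atPrime_isLocalization m.primeCompl
      (Localization.AtPrime q) q
  let e : Localization.AtPrime (q.under A) ≃ₐ[A] Localization.AtPrime q :=
    IsLocalization.algEquiv (q.under A).primeCompl _ _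
  letI : Algebra (Localization.AtPrime (q.under A)) (Localization.AtPrime q) :=
    e.toAlgHom.toRingHom.toAlgebra
  haveI : IsScalarTower A (Localization.AtPrime (q.under A)) (Localization.AtPrime q) :=
    IsScalarTower.of_algebraMap_eq (fun a => (e.commutes a).symm)
  haveI h1 : Algebra.Etale (Localization.AtPrime q) (Localization.AtPrime q ⊗[A] B) :=
    etale_tensor_of_isPushout A B (Localization.AtPrime (q.under A))
      (Localization.AtPrime (q.under A) ⊗[A] B) (Localization.AtPrime q)
  let e' : (Localization.AtPrime q ⊗[A] B) ≃ₐ[Localization.AtPrime q]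
      (Localization.AtPrime q ⊗[Localization.AtPrime m] (Localization.AtPrime m ⊗[A] B)) :=
    (Algebra.TensorProduct.cancelBaseChange A (Localization.AtPrime m)
      (Localization.AtPrime q) (Localization.AtPrime q) B).symm
  haveI h2 : Algebra.Etale (Localization.AtPrime q)
      (Localization.AtPrime q ⊗[Localization.AtPrime m] (Localization.AtPrime m ⊗[A] B)) :=
    Algebra.Etale.of_equiv (R := Localization.AtPrime q) (A := Localization.AtPrime q ⊗[A] B)
      (B := Localization.AtPrime q ⊗[Localization.AtPrime m] (Localization.AtPrime m ⊗[A] B)) e'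
  haveI : Module.Free (Localization.AtPrime q)
      (Localization.AtPrime q ⊗[Localization.AtPrime m] (Localization.AtPrime m ⊗[A] B)) :=
    Module.Free.of_basis (Algebra.TensorProduct.basis (Localization.AtPrime q) b)
  have h3 := (Groth.Agent.S2733.result (Localization.AtPrime q)
    (Localization.AtPrime q ⊗[Localization.AtPrime m] (Localization.AtPrime m ⊗[A] B))).mp h2
  rw [traceForm_bijective_iff_isUnit_discr (Algebra.TensorProduct.basis (Localization.AtPrime q) b),
    discr_baseChange] at h3
  exact ((IsLocalization.AtPrime.isUnit_to_map_iff (Localization.AtPrime q) q _).mp h3) hdq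

/-- **Purity of the branch locus for finite flat algebras.** -/
theorem etale_of_finite_flat_of_height_le_one (A B : Type u) [CommRing A] [CommRing B]
    [Algebra A B] [IsNoetherianRing A] [Module.Finite A B] [Module.Flat A B]
    (H : ∀ (p : Ideal A) [p.IsPrime], p.height ≤ 1 →
      Algebra.Etale (Localization.AtPrime p) (Localization.AtPrime p ⊗[A] B)) :
    Algebra.Etale A B := by
  haveI : Algebra.FinitePresentation A B :=
    Algebra.FinitePresentation.of_finiteType.mp inferInstance
  haveI : Algebra.FormallyUnramified A B := by
    rw [Algebra.formallyUnramified_iff_forall]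
    intro Q
    haveI : (Q.asIdeal.under A).IsPrime := inferInstance
    haveI := etale_atPrime A B H (Q.asIdeal.under A)
    have hunits : ∀ a : (Q.asIdeal.under A).primeCompl,
        IsUnit (Algebra.ofId A (Localization.AtPrime Q.asIdeal) a) := by
      intro a
      show IsUnit (algebraMap A (Localization.AtPrime Q.asIdeal) a)
      rw [IsScalarTower.algebraMap_apply A B (Localization.AtPrime Q.asIdeal)]
      exact IsLocalization.map_units (Localization.AtPrime Q.asIdeal)
        (⟨algebraMap A B a, a.2⟩ : Q.asIdeal.primeCompl)
    let f : Localization.AtPrime (Q.asIdeal.under A) →ₐ[A] Localization.AtPrime Q.asIdeal :=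
      IsLocalization.liftAlgHom (M := (Q.asIdeal.under A).primeCompl)
        (f := Algebra.ofId A (Localization.AtPrime Q.asIdeal)) hunits
    let F : Localization.AtPrime (Q.asIdeal.under A) ⊗[A] B →ₐ[A]
        Localization.AtPrime Q.asIdeal :=
      Algebra.TensorProduct.lift f (IsScalarTower.toAlgHom A B (Localization.AtPrime Q.asIdeal))
        (fun _ _ => Commute.all _ _)
    letI : Algebra (Localization.AtPrime (Q.asIdeal.under A)) (Localization.AtPrime Q.asIdeal) :=
      f.toRingHom.toAlgebra
    letI : Algebra (Localization.AtPrime (Q.asIdeal.under A) ⊗[A] B)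
        (Localization.AtPrime Q.asIdeal) := F.toRingHom.toAlgebra
    haveI : IsScalarTower A (Localization.AtPrime (Q.asIdeal.under A))
        (Localization.AtPrime Q.asIdeal) :=
      IsScalarTower.of_algebraMap_eq (fun a => (f.commutes a).symm)
    haveI : IsScalarTower A (Localization.AtPrime (Q.asIdeal.under A) ⊗[A] B)
        (Localization.AtPrime Q.asIdeal) :=
      IsScalarTower.of_algebraMap_eq (fun a => (F.commutes a).symm)
    haveI : IsScalarTower (Localization.AtPrime (Q.asIdeal.under A))
        (Localization.AtPrime (Q.asIdeal.under A) ⊗[A] B) (Localization.AtPrime Q.asIdeal) :=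
      IsScalarTower.of_algebraMap_eq (fun c => by
        show f c = F (c ⊗ₜ[A] (1 : B))
        simp [F])
    haveI : Algebra.FormallyUnramified A (Localization.AtPrime (Q.asIdeal.under A)) :=
      Algebra.FormallyUnramified.of_isLocalization (Q.asIdeal.under A).primeCompl
    haveI : Algebra.FormallyUnramified A (Localization.AtPrime (Q.asIdeal.under A) ⊗[A] B) :=
      Algebra.FormallyUnramified.comp A (Localization.AtPrime (Q.asIdeal.under A)) _
    haveI : IsScalarTower B (Localization.AtPrime (Q.asIdeal.under A) ⊗[A] B)
        (Localization.AtPrime Q.asIdeal) :=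
      IsScalarTower.of_algebraMap_eq (fun x => by
        show algebraMap B (Localization.AtPrime Q.asIdeal) x = F ((1 : _) ⊗ₜ[A] x)
        simp [F])
    haveI : Algebra.FormallyUnramified B (Localization.AtPrime Q.asIdeal) :=
      Algebra.FormallyUnramified.of_isLocalization Q.asIdeal.primeCompl
    haveI : Algebra.FormallyUnramified (Localization.AtPrime (Q.asIdeal.under A) ⊗[A] B)
        (Localization.AtPrime Q.asIdeal) :=
      Algebra.FormallyUnramified.of_restrictScalars B _ _
    exact Algebra.FormallyUnramified.comp A (Localization.AtPrime (Q.asIdeal.under A) ⊗[A] B)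
      (Localization.AtPrime Q.asIdeal)
  exact Algebra.Etale.of_formallyUnramified_of_flat

end Groth.Agent.Lib.Helper26.FinFlatPurity
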