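import Mathlib

/-!
# Colon ideals and flat base change (helper26, sub-lemma RA for helper25 / S12254)

`RA`: `B` flat over `A`, `(I : t) ⊆ m` and `m * t ⊆ I`; if `φ t * c ∈ I B` then `c ∈ m B`.
-/

set_option autoImplicit false
universe u

namespace Groth.Agent.Lib.Helper26.ColonFlat

open TensorProduct

/-- membership in `J B` in terms of the tensor product with `A ⧸ J` -/
lemma tmul_one_eq_zero_iff {A B : Type u} [CommRing A] [CommRing B] [Algebra A B] (J : Ideal A)
    (b : B) :
    b ⊗ₜ[A] (1 : A ⧸ J) = 0 ↔ b ∈ Ideal.map (algebraMap A B) J := by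
  have h1 : TensorProduct.tensorQuotEquivQuotSMul B J (b ⊗ₜ[A] (1 : A ⧸ J)) =
      Submodule.Quotient.mk b := by
    have := TensorProduct.tensorQuotEquivQuotSMul_tmul_mk (M := B) J b 1
    rw [one_smul] at this
    exact this
  rw [← (TensorProduct.tensorQuotEquivQuotSMul B J).map_eq_zero_iff, h1,
    Submodule.Quotient.mk_eq_zero, Ideal.smul_top_eq_map]
  rfl

/-- **RA** (colon ideals and flat base change). -/
theorem RA {A B : Type u} [CommRing A] [CommRing B] (φ : A →+* B) (hφ : φ.Flat)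
    (I m : Ideal A) (t : A) (hm : ∀ μ ∈ m, μ * t ∈ I) (hcol : ∀ α : A, α * t ∈ I → α ∈ m)
    (c : B) (hc : φ t * c ∈ Ideal.map φ I) : c ∈ Ideal.map φ m := by
  letI : Algebra A B := φ.toAlgebra
  haveI : Module.Flat A B := hφ
  -- the `A`-linear map `A ⧸ m → A ⧸ I`, `1 ↦ t`
  let g : A →ₗ[A] A ⧸ I := (Submodule.mkQ I).comp (LinearMap.toSpanSingleton A A t)
  have hg : ∀ a : A, g a = Ideal.Quotient.mk I (a * t) := fun a => rfl
  have hle : m ≤ LinearMap.ker g := by
    intro μ hμ
    rw [LinearMap.mem_ker, hg]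
    exact Ideal.Quotient.eq_zero_iff_mem.2 (hm μ hμ)
  let u : (A ⧸ m) →ₗ[A] (A ⧸ I) := Submodule.liftQ m g hle
  have hu : ∀ a : A, u (Ideal.Quotient.mk m a) = Ideal.Quotient.mk I (a * t) := fun a => rfl
  have hinj : Function.Injective u := by
    rw [injective_iff_map_eq_zero]
    intro x hx
    obtain ⟨a, rfl⟩ := Ideal.Quotient.mk_surjective x
    rw [hu] at hx
    exact Ideal.Quotient.eq_zero_iff_mem.2 (hcol a (Ideal.Quotient.eq_zero_iff_mem.1 hx))
  have hinj' := Module.Flat.lTensor_preserves_injective_linearMap (M := B) u hinj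
  have hmapI : Ideal.map φ I = Ideal.map (algebraMap A B) I := rfl
  have hmapm : Ideal.map φ m = Ideal.map (algebraMap A B) m := rfl
  rw [hmapm, ← tmul_one_eq_zero_iff]
  apply hinj'
  rw [map_zero, LinearMap.lTensor_tmul]
  have h1 : u (1 : A ⧸ m) = t • (1 : A ⧸ I) := by
    have := hu 1
    rw [one_mul] at this
    rw [show (1 : A ⧸ m) = Ideal.Quotient.mk m 1 from rfl, this, Algebra.smul_def, mul_one]
    rfl
  rw [h1, TensorProduct.tmul_smul, TensorProduct.smul_tmul', tmul_one_eq_zero_iff, ← hmapI,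
    Algebra.smul_def]
  exact hc

end Groth.Agent.Lib.Helper26.ColonFlat
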