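import Mathlib

/-! Products of the pure maps `Q i → S ⊗ Q i` (for `S` faithfully flat over `R`) are pure:
`M ⊗ ∏ Q i → M ⊗ ∏ (S ⊗ Q i)` is injective for every `M`. Also: solvability of finite linear
systems descends along faithfully flat maps. -/

set_option autoImplicit false
universe u

open TensorProduct

namespace Groth.Agent.Lib.Helper26.PureProd

section
variable {R : Type u} [CommRing R]

/-- every tensor is a combination of the generators on the left. -/
lemma exists_sum_tmul {M A : Type*} [AddCommGroup M] [Module R M] [AddCommGroup A] [Module R A]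
    {n : ℕ} (m : Fin n → M) (hm : Submodule.span R (Set.range m) = ⊤) (z : M ⊗[R] A) :
    ∃ a : Fin n → A, z = ∑ j, m j ⊗ₜ[R] a j := by
  induction z using TensorProduct.induction_on with
  | zero => exact ⟨0, by simp⟩
  | tmul x q =>
    have hx : x ∈ Submodule.span R (Set.range m) := hm ▸ Submodule.mem_top
    obtain ⟨c, rfl⟩ := (Submodule.mem_span_range_iff_exists_fun R).mp hx
    refine ⟨fun j => c j • q, ?_⟩
    rw [TensorProduct.sum_tmul]
    exact Finset.sum_congr rfl fun j _ => by rw [TensorProduct.smul_tmul]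
  | add x y hx hy =>
    obtain ⟨a, rfl⟩ := hx
    obtain ⟨b, rfl⟩ := hy
    refine ⟨a + b, ?_⟩
    rw [← Finset.sum_add_distrib]
    exact Finset.sum_congr rfl fun j _ => by rw [Pi.add_apply, TensorProduct.tmul_add]

variable {S : Type u} [CommRing S] [Algebra R S] [Module.FaithfullyFlat R S]

/-- Solvability of a finite linear system descends along a faithfully flat map. -/
lemma exists_solution {Q : Type u} [AddCommGroup Q] [Module R Q] {n k : ℕ}
    (c : Fin n → Fin k → R) (a : Fin n → Q) (y : Fin k → S ⊗[R] Q)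
    (h : ∀ i, (1 : S) ⊗ₜ[R] a i = ∑ j, c i j • y j) :
    ∃ y' : Fin k → Q, ∀ i, a i = ∑ j, c i j • y' j := by
  classical
  let C : (Fin k → Q) →ₗ[R] (Fin n → Q) :=
    LinearMap.pi fun i => ∑ j, c i j • (LinearMap.proj j : (Fin k → Q) →ₗ[R] Q)
  have hC : ∀ (y' : Fin k → Q) (i : Fin n), C y' i = ∑ j, c i j • y' j := by
    intro y' i
    simp only [C, LinearMap.pi_apply, LinearMap.sum_apply, LinearMap.smul_apply,
      LinearMap.proj_apply]
  let π : (Fin n → Q) →ₗ[R] ((Fin n → Q) ⧸ LinearMap.range C) := (LinearMap.range C).mkQ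
  suffices hπ : π a = 0 by
    have hmem : a ∈ LinearMap.range C := by
      rwa [Submodule.mkQ_apply, Submodule.Quotient.mk_eq_zero] at hπ
    obtain ⟨y', hy'⟩ := hmem
    exact ⟨y', fun i => by rw [← hy', hC]⟩
  have hinj : Function.Injective (TensorProduct.mk R S ((Fin n → Q) ⧸ LinearMap.range C) 1) :=
    Module.FaithfullyFlat.tensorProduct_mk_injective (A := R) (B := S) _
  apply hinj
  rw [map_zero]
  let Ψ : (Fin n → S ⊗[R] Q) →ₗ[R] S ⊗[R] ((Fin n → Q) ⧸ LinearMap.range C) :=
    ∑ i, (LinearMap.lTensor S (π ∘ₗ LinearMap.single R (fun _ => Q) i)) ∘ₗ LinearMap.proj i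
  have hΨ : ∀ u, Ψ u = ∑ i, (LinearMap.lTensor S (π ∘ₗ LinearMap.single R (fun _ => Q) i)) (u i) := by
    intro u
    simp only [Ψ, LinearMap.sum_apply, LinearMap.comp_apply, LinearMap.proj_apply]
  have hΨ1 : Ψ (fun i => (1 : S) ⊗ₜ[R] a i) = (1 : S) ⊗ₜ[R] π a := by
    rw [hΨ]
    simp only [LinearMap.lTensor_tmul, LinearMap.comp_apply, LinearMap.single_apply]
    rw [← TensorProduct.tmul_sum, ← map_sum, Finset.univ_sum_single]
  have key : ∀ (j : Fin k) (t : S ⊗[R] Q),
      ∑ i, c i j • (LinearMap.lTensor S (π ∘ₗ LinearMap.single R (fun _ => Q) i)) t = 0 := by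
    intro j t
    induction t using TensorProduct.induction_on with
    | zero => simp
    | tmul s q =>
      simp only [LinearMap.lTensor_tmul, LinearMap.comp_apply, LinearMap.single_apply]
      simp only [← TensorProduct.tmul_smul, ← TensorProduct.tmul_sum, ← map_smul, ← map_sum]
      have h1 : ∑ i, c i j • (Pi.single i q : Fin n → Q) = C (Pi.single j q) := by
        funext i'
        rw [hC, Finset.sum_apply]
        simp only [Pi.smul_apply, Pi.single_apply, smul_ite, smul_zero]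
        rw [Finset.sum_ite_eq Finset.univ i', Finset.sum_ite_eq' Finset.univ j]
        simp
      rw [h1]
      have h2 : π (C (Pi.single j q)) = 0 := by
        rw [Submodule.mkQ_apply, Submodule.Quotient.mk_eq_zero]
        exact ⟨_, rfl⟩
      rw [h2, TensorProduct.tmul_zero]
    | add x y hx hy =>
      simp only [map_add, smul_add, Finset.sum_add_distrib, hx, hy, add_zero]
  have hΨ2 : Ψ (fun i => ∑ j, c i j • y j) = 0 := by
    rw [hΨ]
    simp only [map_sum, map_smul]
    rw [Finset.sum_comm]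
    exact Finset.sum_eq_zero fun j _ => key j (y j)
  have hfun : (fun i => (1 : S) ⊗ₜ[R] a i) = fun i => ∑ j, c i j • y j := funext h
  rw [TensorProduct.mk_apply, ← hΨ1, hfun, hΨ2]

/-- The product of the pure maps `Q i → S ⊗ Q i` is pure. -/
theorem lTensor_pi_mk_injective (M : Type u) [AddCommGroup M] [Module R M]
    {ι : Type u} (Q : ι → Type u) [∀ i, AddCommGroup (Q i)] [∀ i, Module R (Q i)] :
    Function.Injective (LinearMap.lTensor M
      (LinearMap.pi fun i => (TensorProduct.mk R S (Q i) 1) ∘ₗ LinearMap.proj i :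
        (∀ i, Q i) →ₗ[R] (∀ i, S ⊗[R] Q i))) := by
  classical
  set J : (∀ i, Q i) →ₗ[R] (∀ i, S ⊗[R] Q i) :=
    LinearMap.pi fun i => (TensorProduct.mk R S (Q i) 1) ∘ₗ LinearMap.proj i with hJdef
  have hJapp : ∀ (q : ∀ i, Q i) (i : ι), J q i = (1 : S) ⊗ₜ[R] q i := fun q i => rfl
  rw [injective_iff_map_eq_zero]
  intro z hz
  obtain ⟨M₀, hM₀, z₀, rfl⟩ := Submodule.exists_fg_le_eq_rTensor_subtype z
  have e1 : (M₀.subtype.rTensor (∀ i, S ⊗[R] Q i)) (J.lTensor M₀ z₀) =
      J.lTensor M (M₀.subtype.rTensor (∀ i, Q i) z₀) := by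
    rw [← LinearMap.comp_apply, ← LinearMap.comp_apply, LinearMap.rTensor_comp_lTensor,
      LinearMap.lTensor_comp_rTensor]
  have h1 : (M₀.subtype.rTensor (∀ i, S ⊗[R] Q i)) (J.lTensor M₀ z₀) =
      (M₀.subtype.rTensor (∀ i, S ⊗[R] Q i)) 0 := by
    rw [e1, hz, map_zero]
  obtain ⟨M₁, hM₁, hle, h2⟩ := hM₀.exists_rTensor_fg_inclusion_eq h1
  rw [map_zero] at h2
  set z₁ := (M₀.inclusion hle).rTensor (∀ i, Q i) z₀ with hz₁
  have h3 : J.lTensor M₁ z₁ = 0 := by
    rw [hz₁, ← LinearMap.comp_apply, LinearMap.lTensor_comp_rTensor,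
      ← LinearMap.rTensor_comp_lTensor, LinearMap.comp_apply, h2]
  have h4 : M₀.subtype.rTensor (∀ i, Q i) z₀ = M₁.subtype.rTensor (∀ i, Q i) z₁ := by
    rw [hz₁, ← LinearMap.comp_apply, ← LinearMap.rTensor_comp]
    rfl
  rw [h4]
  suffices hz₁0 : z₁ = 0 by rw [hz₁0, map_zero]
  haveI : Module.Finite R M₁ := Module.Finite.iff_fg.mpr hM₁
  obtain ⟨n, m, hspan⟩ := Module.Finite.exists_fin (R := R) (M := M₁)
  obtain ⟨a, ha⟩ := exists_sum_tmul m hspan z₁
  have h5 : ∑ j, m j ⊗ₜ[R] J (a j) = (0 : M₁ ⊗[R] (∀ i, S ⊗[R] Q i)) := by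
    rw [← h3, ha, map_sum]
    exact Finset.sum_congr rfl fun j _ => by rw [LinearMap.lTensor_tmul]
  obtain ⟨k, c, y, hy1, hy2⟩ := TensorProduct.vanishesTrivially_of_sum_tmul_eq_zero R hspan h5
  have h6 : ∀ i : ι, ∃ y' : Fin k → Q i, ∀ j, a j i = ∑ l, c j l • y' l := by
    intro i
    apply exists_solution (S := S) c (fun j => a j i) (fun l => y l i)
    intro j
    have h : J (a j) i = (∑ l, c j l • y l) i := congrFun (hy1 j) i
    rw [hJapp] at h
    rw [h, Finset.sum_apply]
    exact Finset.sum_congr rfl fun l _ => by rw [Pi.smul_apply]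
  choose y' hy' using h6
  have h7 : TensorProduct.VanishesTrivially R m a := by
    refine ⟨k, c, fun l i => y' i l, fun j => ?_, hy2⟩
    funext i
    rw [hy' i j, Finset.sum_apply]
    exact Finset.sum_congr rfl fun l _ => by rw [Pi.smul_apply]
  rw [ha]
  exact TensorProduct.sum_tmul_eq_zero_of_vanishesTrivially R h7

end

end Groth.Agent.Lib.Helper26.PureProd
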