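import Mathlib

/-!
# Multiplication by a Teichmüller representative, coefficientwise (helper26)

* `teichmuller_mul_coeff` : `(teichmuller p r * x).coeff n = r ^ p ^ n * x.coeff n` over any commutative ring.
* `mul_teichmuller_coeff`, truncated versions `truncate_teichmuller_mul_coeff`, `mul_truncate_teichmuller_coeff`.
-/

set_option autoImplicit false
universe u v

namespace Groth.Agent.Lib.Helper26.WittTeich

open WittVector

variable {p : ℕ} [hp : Fact p.Prime]

/-- the candidate for `[r] * x` -/
def tmul {R : Type u} [CommRing R] (r : R) (x : WittVector p R) : WittVector p R :=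
  WittVector.mk p fun n => r ^ p ^ n * x.coeff n

lemma map_tmul {R : Type u} {S : Type v} [CommRing R] [CommRing S] (f : R →+* S) (r : R)
    (x : WittVector p R) : WittVector.map f (tmul r x) = tmul (f r) (WittVector.map f x) := by
  ext n
  simp [tmul, WittVector.map_coeff]

lemma ghostComponent_tmul {R : Type u} [CommRing R] (r : R) (x : WittVector p R) (n : ℕ) :
    ghostComponent n (tmul r x) = r ^ p ^ n * ghostComponent n x := by
  rw [ghostComponent_apply, ghostComponent_apply, aeval_wittPolynomial, aeval_wittPolynomial,
    Finset.mul_sum]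
  refine Finset.sum_congr rfl fun i hi => ?_
  have hi' : i ≤ n := Nat.lt_succ_iff.mp (Finset.mem_range.mp hi)
  simp only [tmul, coeff_mk]
  rw [mul_pow, ← pow_mul, ← pow_add, Nat.add_sub_cancel' hi']
  ring

lemma aux1 {σ : Type u} (r : MvPolynomial σ ℚ) (x : WittVector p (MvPolynomial σ ℚ)) :
    teichmuller p r * x = tmul r x := by
  apply (ghostMap.bijective_of_invertible p (MvPolynomial σ ℚ)).1
  ext1 n
  simp only [ghostMap_apply, map_mul, ghostComponent_tmul, ghostComponent_teichmuller]

lemma aux2 {σ : Type u} (r : MvPolynomial σ ℤ) (x : WittVector p (MvPolynomial σ ℤ)) :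
    teichmuller p r * x = tmul r x := by
  refine map_injective (MvPolynomial.map (Int.castRingHom ℚ))
    (MvPolynomial.map_injective _ Int.cast_injective) ?_
  rw [map_mul, map_teichmuller, map_tmul, aux1]

theorem teichmuller_mul_eq {R : Type u} [CommRing R] (r : R) (x : WittVector p R) :
    teichmuller p r * x = tmul r x := by
  obtain ⟨r', rfl⟩ := MvPolynomial.counit_surjective R r
  obtain ⟨x', rfl⟩ := map_surjective _ (MvPolynomial.counit_surjective R) x
  rw [← map_teichmuller, ← map_mul, aux2, map_tmul]

theorem teichmuller_mul_coeff {R : Type u} [CommRing R] (r : R) (x : WittVector p R) (n : ℕ) :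
    (teichmuller p r * x).coeff n = r ^ p ^ n * x.coeff n := by
  rw [teichmuller_mul_eq]
  simp [tmul]

theorem mul_teichmuller_coeff {R : Type u} [CommRing R] (r : R) (x : WittVector p R) (n : ℕ) :
    (x * teichmuller p r).coeff n = x.coeff n * r ^ p ^ n := by
  rw [mul_comm, teichmuller_mul_coeff, mul_comm]

theorem truncate_teichmuller_mul_coeff {R : Type u} [CommRing R] (m : ℕ) (r : R)
    (a : TruncatedWittVector p m R) (j : Fin m) :
    (WittVector.truncate m (teichmuller p r) * a).coeff j = r ^ p ^ (j : ℕ) * a.coeff j := by
  obtain ⟨x, rfl⟩ := WittVector.truncate_surjective (p := p) m R a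
  rw [← map_mul, WittVector.coeff_truncate, WittVector.coeff_truncate, teichmuller_mul_coeff]

theorem mul_truncate_teichmuller_coeff {R : Type u} [CommRing R] (m : ℕ) (r : R)
    (a : TruncatedWittVector p m R) (j : Fin m) :
    (a * WittVector.truncate m (teichmuller p r)).coeff j = a.coeff j * r ^ p ^ (j : ℕ) := by
  rw [mul_comm, truncate_teichmuller_mul_coeff, mul_comm]

end Groth.Agent.Lib.Helper26.WittTeich
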