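import Groth.Prelude.Def_W4c5adicflatcomplDec
import Mathlib.RingTheory.AdicCompletion.Basic
import Mathlib.RingTheory.Finiteness.Ideal

/-!
# `I`-adically decaying functions (prelude `W4c5adicflatcompl.decaying`): basic library (helper26)

* `ev`, `apply_mem_of_mem_smul_top`: evaluation at a point and its compatibility with `I^n • ⊤`.
* `exists_sum_of_mem_span_smul`: elements of `(span s) • P` are `∑ a • y a` with `y a ∈ P`.
* `mem_smul_top_of_forall_mem`: for `M` Hausdorff and `I^k` finitely generated, a decaying function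
  all of whose values lie in `I^k • M` lies in `I^k • decaying`.
* `isHausdorff_decaying`, `isAdicComplete_decaying`: `decaying I Z M` is Hausdorff / complete when
  `M` is (the latter when all `I^k` are finitely generated).
-/

namespace Groth.Agent.Lib.Helper26.Decaying

open W4c5adicflatcompl

variable {A : Type*} [CommRing A] (I : Ideal A) (Z : Type*) (M : Type*) [AddCommGroup M]
  [Module A M]

lemma map_mem_smul_top {N N' : Type*} [AddCommGroup N] [Module A N] [AddCommGroup N']
    [Module A N'] (φ : N →ₗ[A] N') (n : ℕ) {x : N} (hx : x ∈ (I ^ n • ⊤ : Submodule A N)) :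
    φ x ∈ (I ^ n • ⊤ : Submodule A N') := by
  have hle : (I ^ n • ⊤ : Submodule A N) ≤ (I ^ n • ⊤ : Submodule A N').comap φ := by
    rw [← Submodule.map_le_iff_le_comap, Submodule.map_smul'']
    exact Submodule.smul_mono le_rfl le_top
  exact hle hx

/-- evaluation at `z` -/
def ev (z : Z) : decaying I Z M →ₗ[A] M := (LinearMap.proj z).comp (decaying I Z M).subtype

@[simp] lemma ev_apply (z : Z) (f : decaying I Z M) : ev I Z M z f = (f : Z → M) z := rfl

variable {I Z M}

lemma apply_mem_of_mem_smul_top {n : ℕ} {f : decaying I Z M}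
    (hf : f ∈ (I ^ n • ⊤ : Submodule A (decaying I Z M))) (z : Z) :
    (f : Z → M) z ∈ (I ^ n • ⊤ : Submodule A M) :=
  map_mem_smul_top I (ev I Z M z) n hf

lemma pow_smul_top_mono {a b : ℕ} (hab : a ≤ b) :
    (I ^ b • ⊤ : Submodule A M) ≤ I ^ a • ⊤ :=
  Submodule.smul_mono (Ideal.pow_le_pow_right hab) le_rfl

lemma exists_sum_of_mem_span_smul (s : Finset A) (P : Submodule A M) (x : M)
    (hx : x ∈ (Ideal.span (s : Set A)) • P) :
    ∃ y : s → M, (∀ a, y a ∈ P) ∧ x = ∑ a : s, (a : A) • y a := by
  classical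
  refine Submodule.smul_induction_on hx ?_ ?_
  · intro r hr n hn
    obtain ⟨c, -, hc⟩ := Submodule.mem_span_finset.mp hr
    refine ⟨fun a => c a • n, fun a => P.smul_mem _ hn, ?_⟩
    rw [← hc, Finset.sum_smul, ← Finset.sum_coe_sort s (fun a => (c a • a) • n)]
    apply Finset.sum_congr rfl
    intro a _
    rw [smul_smul, smul_eq_mul, mul_comm]
  · rintro x₁ x₂ ⟨y₁, hy₁, rfl⟩ ⟨y₂, hy₂, rfl⟩
    refine ⟨fun a => y₁ a + y₂ a, fun a => P.add_mem (hy₁ a) (hy₂ a), ?_⟩
    simp only [smul_add, Finset.sum_add_distrib]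

theorem mem_smul_top_of_forall_mem [IsHausdorff I M] (k : ℕ) (hfg : (I ^ k).FG)
    (f : decaying I Z M) (hf : ∀ z, (f : Z → M) z ∈ (I ^ k • ⊤ : Submodule A M)) :
    f ∈ (I ^ k • ⊤ : Submodule A (decaying I Z M)) := by
  classical
  obtain ⟨s, hs⟩ := hfg
  have hsmem : ∀ a : s, (a : A) ∈ I ^ k := fun a => by
    rw [← hs]; exact Submodule.subset_span a.2
  have hex : ∀ z, ∃ y : s → M, (f : Z → M) z = ∑ a : s, (a : A) • y a ∧
      ∀ n, (f : Z → M) z ∈ (I ^ (n + k) • ⊤ : Submodule A M) →
        ∀ a, y a ∈ (I ^ n • ⊤ : Submodule A M) := by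
    intro z
    by_cases h : ∃ n, (f : Z → M) z ∉ (I ^ (n + k) • ⊤ : Submodule A M)
    · have hn0 : 1 ≤ Nat.find h := by
        rw [Nat.one_le_iff_ne_zero]
        intro h0
        have := Nat.find_spec h
        rw [h0, zero_add] at this
        exact this (hf z)
      have hmem : (f : Z → M) z ∈ (I ^ (Nat.find h - 1 + k) • ⊤ : Submodule A M) := by
        have := Nat.find_min h (show Nat.find h - 1 < Nat.find h by omega)
        exact not_not.mp this
      have hmem' : (f : Z → M) z ∈
          (Ideal.span (s : Set A)) • (I ^ (Nat.find h - 1) • ⊤ : Submodule A M) := by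
        have hs' : Ideal.span (s : Set A) = I ^ k := hs
        rw [hs', ← Submodule.mul_smul, ← pow_add, add_comm]
        exact hmem
      obtain ⟨y, hy, hxy⟩ := exists_sum_of_mem_span_smul s _ _ hmem'
      refine ⟨y, hxy, fun n hn a => ?_⟩
      have hle : n ≤ Nat.find h - 1 := by
        by_contra hlt
        have h2 : Nat.find h + k ≤ n + k := by omega
        exact Nat.find_spec h (pow_smul_top_mono h2 hn)
      exact pow_smul_top_mono hle (hy a)
    · push Not at h
      have h0 : (f : Z → M) z = 0 := by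
        apply IsHausdorff.haus ‹IsHausdorff I M›
        intro n
        rw [SModEq.zero]
        exact pow_smul_top_mono (Nat.le_add_right n k) (h n)
      exact ⟨fun _ => 0, by simp [h0], fun n _ a => Submodule.zero_mem _⟩
  choose y hy1 hy2 using hex
  have hdec : ∀ a : s, (fun z => y z a) ∈ decaying I Z M := by
    intro a m
    refine (f.2 (m + k)).subset ?_
    intro z hz hmem
    exact hz (hy2 z m hmem a)
  have hsum : f = ∑ a : s, (a : A) • (⟨fun z => y z a, hdec a⟩ : decaying I Z M) := by
    apply Subtype.ext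
    funext z
    rw [hy1 z]
    simp only [Submodule.coe_sum, Submodule.coe_smul, Finset.sum_apply, Pi.smul_apply]
  rw [hsum]
  exact Submodule.sum_mem _ fun a _ => Submodule.smul_mem_smul (hsmem a) Submodule.mem_top

variable (I Z M)

theorem isHausdorff_decaying [IsHausdorff I M] : IsHausdorff I (decaying I Z M) := by
  refine ⟨fun f hf => ?_⟩
  apply Subtype.ext
  funext z
  apply IsHausdorff.haus ‹IsHausdorff I M›
  intro n
  have h1 := hf n
  rw [SModEq.zero] at h1 ⊢
  exact apply_mem_of_mem_smul_top h1 z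

theorem isAdicComplete_decaying [IsAdicComplete I M] (hfg : ∀ k, (I ^ k).FG) :
    IsAdicComplete I (decaying I Z M) := by
  haveI := isHausdorff_decaying I Z M
  refine { toIsHausdorff := inferInstance, toIsPrecomplete := ⟨fun F hF => ?_⟩ }
  -- pointwise limits
  have hpt : ∀ z, ∃ L : M, ∀ k, (F k : Z → M) z ≡ L [SMOD (I ^ k • ⊤ : Submodule A M)] := by
    intro z
    apply IsPrecomplete.prec' (I := I) (M := M) (fun k => (F k : Z → M) z)
    intro m k hmk
    have h1 := hF hmk
    rw [SModEq.sub_mem] at h1 ⊢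
    exact apply_mem_of_mem_smul_top h1 z
  choose L hL using hpt
  have hLdec : L ∈ decaying I Z M := by
    intro n
    refine ((F n).2 n).subset ?_
    intro z hz hmem
    apply hz
    have h1 := (SModEq.sub_mem).mp (hL z n)
    have h2 : L z = (F n : Z → M) z - ((F n : Z → M) z - L z) := by abel
    rw [h2]
    exact Submodule.sub_mem _ hmem h1
  refine ⟨⟨L, hLdec⟩, fun k => ?_⟩
  rw [SModEq.sub_mem]
  apply mem_smul_top_of_forall_mem k (hfg k)
  intro z
  exact (SModEq.sub_mem).mp (hL z k)

end Groth.Agent.Lib.Helper26.Decaying
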