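import Groth.Prelude.Def_W4c5adicflatcomplDec
import Groth.Agent.Lib.Helper26.Decaying
import Mathlib.RingTheory.AdicCompletion.Basic
import Mathlib.RingTheory.AdicCompletion.Functoriality
import Mathlib.Algebra.BigOperators.Finprod
import Mathlib.RingTheory.AdicCompletion.Completeness

/-!
# Convergent sums over decaying functions (helper26)

For a family of linear maps `F z : N →ₗ[A] M` into an `I`-adically complete module `M`, the
map `g ↦ ∑ z, F z (g z)` on `decaying I Z N`, given by the `I`-adically convergent sum.

* `sumQ I F n` : the truncated sum with values in `M ⧸ I ^ n • ⊤`.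
* `decSum I F` : the convergent sum `decaying I Z N →ₗ[A] M`.
* `decSum_sub_sum_mem` : `decSum I F g - ∑ z ∈ S, F z (g z) ∈ I ^ n • ⊤` whenever `S` contains all
  `z` with `g z ∉ I ^ n • ⊤`.
* `decSum_single` : value on `single z m`.
* `ext_single` : two linear maps out of `decaying I Z N` into a Hausdorff module agreeing on all
  `single z m` are equal (`N` Hausdorff, powers of `I` finitely generated).
-/

namespace Groth.Agent.Lib.Helper26.DecSum

open W4c5adicflatcompl Groth.Agent.Lib.Helper26.Decaying

variable {A : Type*} [CommRing A] (I : Ideal A) {Z : Type*} {N : Type*} [AddCommGroup N]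
  [Module A N] {M : Type*} [AddCommGroup M] [Module A M] (F : Z → N →ₗ[A] M)

lemma support_subset (n : ℕ) (g : decaying I Z N) :
    Function.support (fun z => (Submodule.Quotient.mk (F z ((g : Z → N) z)) :
      M ⧸ (I ^ n • ⊤ : Submodule A M))) ⊆ {z | (g : Z → N) z ∉ (I ^ n • ⊤ : Submodule A N)} := by
  intro z hz
  simp only [Function.mem_support, ne_eq, Submodule.Quotient.mk_eq_zero] at hz
  intro h
  exact hz (map_mem_smul_top I (F z) n h)

lemma support_finite (n : ℕ) (g : decaying I Z N) :
    (Function.support (fun z => (Submodule.Quotient.mk (F z ((g : Z → N) z)) :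
      M ⧸ (I ^ n • ⊤ : Submodule A M)))).Finite :=
  (g.2 n).subset (support_subset I F n g)

/-- the truncated sum -/
noncomputable def sumQ (n : ℕ) : decaying I Z N →ₗ[A] M ⧸ (I ^ n • ⊤ : Submodule A M) where
  toFun g := ∑ᶠ z, (Submodule.Quotient.mk (F z ((g : Z → N) z)) :
      M ⧸ (I ^ n • ⊤ : Submodule A M))
  map_add' g h := by
    rw [← finsum_add_distrib (support_finite I F n g) (support_finite I F n h)]
    apply finsum_congr
    intro z
    simp only [Submodule.coe_add, Pi.add_apply, map_add, Submodule.Quotient.mk_add]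
  map_smul' a g := by
    rw [RingHom.id_apply, smul_finsum' a (support_finite I F n g)]
    apply finsum_congr
    intro z
    simp only [Submodule.coe_smul, Pi.smul_apply, map_smul, Submodule.Quotient.mk_smul]

lemma sumQ_apply (n : ℕ) (g : decaying I Z N) :
    sumQ I F n g = ∑ᶠ z, (Submodule.Quotient.mk (F z ((g : Z → N) z)) :
      M ⧸ (I ^ n • ⊤ : Submodule A M)) := rfl

lemma sumQ_eq_sum (n : ℕ) (g : decaying I Z N) (S : Finset Z)
    (hS : ∀ z, z ∉ S → (g : Z → N) z ∈ (I ^ n • ⊤ : Submodule A N)) :
    sumQ I F n g = Submodule.Quotient.mk (∑ z ∈ S, F z ((g : Z → N) z)) := by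
  have hsub : Function.support (fun z => (Submodule.Quotient.mk (F z ((g : Z → N) z)) :
      M ⧸ (I ^ n • ⊤ : Submodule A M))) ⊆ ↑S := by
    intro z hz
    by_contra h
    exact support_subset I F n g hz (hS z h)
  rw [sumQ_apply, finsum_eq_sum_of_support_subset _ hsub]
  exact (map_sum (Submodule.mkQ (I ^ n • ⊤ : Submodule A M)) _ S).symm

lemma sumQ_compat {m n : ℕ} (hle : m ≤ n) :
    Submodule.factorPow I M hle ∘ₗ sumQ I F n = sumQ I F m := by
  ext g
  classical
  let S : Finset Z := (g.2 n).toFinset
  have hS : ∀ z, z ∉ S → (g : Z → N) z ∈ (I ^ n • ⊤ : Submodule A N) := by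
    intro z hz
    by_contra h
    exact hz ((g.2 n).mem_toFinset.mpr h)
  have hS' : ∀ z, z ∉ S → (g : Z → N) z ∈ (I ^ m • ⊤ : Submodule A N) :=
    fun z hz => pow_smul_top_mono hle (hS z hz)
  rw [LinearMap.comp_apply, sumQ_eq_sum I F n g S hS, sumQ_eq_sum I F m g S hS']
  rfl

variable [IsAdicComplete I M]

/-- the `I`-adically convergent sum `g ↦ ∑ z, F z (g z)` -/
noncomputable def decSum : decaying I Z N →ₗ[A] M :=
  IsAdicComplete.lift I (sumQ I F) (fun hle => sumQ_compat I F hle)

lemma mk_decSum (n : ℕ) (g : decaying I Z N) :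
    (Submodule.Quotient.mk (decSum I F g) : M ⧸ (I ^ n • ⊤ : Submodule A M)) = sumQ I F n g :=
  IsAdicComplete.mk_lift I (fun hle => sumQ_compat I F hle) n g

theorem decSum_sub_sum_mem (n : ℕ) (g : decaying I Z N) (S : Finset Z)
    (hS : ∀ z, z ∉ S → (g : Z → N) z ∈ (I ^ n • ⊤ : Submodule A N)) :
    decSum I F g - ∑ z ∈ S, F z ((g : Z → N) z) ∈ (I ^ n • ⊤ : Submodule A M) := by
  rw [← Submodule.Quotient.eq, mk_decSum, sumQ_eq_sum I F n g S hS]

theorem decSum_single [DecidableEq Z] (z : Z) (m : N) :
    decSum I F (single I z m) = F z m := by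
  have h : ∀ n, decSum I F (single I z m) - F z m ∈ (I ^ n • ⊤ : Submodule A M) := by
    intro n
    have := decSum_sub_sum_mem I F n (single I z m) {z} (by
      intro z' hz'
      rw [Finset.mem_singleton] at hz'
      rw [coe_single, Pi.single_eq_of_ne hz']
      exact Submodule.zero_mem _)
    simpa using this
  have h0 : decSum I F (single I z m) - F z m = 0 :=
    IsHausdorff.haus' (I := I) _ (fun n => by
      rw [SModEq.zero]; exact h n)
  exact sub_eq_zero.mp h0

omit [IsAdicComplete I M] in
/-- linear maps out of `decaying I Z N` into a Hausdorff module are determined by their values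
on the functions `single z m`. -/
theorem ext_single [DecidableEq Z] [IsHausdorff I N] [IsHausdorff I M]
    (hfg : ∀ k, (I ^ k).FG) (φ ψ : decaying I Z N →ₗ[A] M)
    (h : ∀ z m, φ (single I z m) = ψ (single I z m)) : φ = ψ := by
  ext g
  have hmem : ∀ n, φ g - ψ g ∈ (I ^ n • ⊤ : Submodule A M) := by
    intro n
    let S : Finset Z := (g.2 n).toFinset
    have hS : ∀ z, z ∉ S → (g : Z → N) z ∈ (I ^ n • ⊤ : Submodule A N) := by
      intro z hz
      by_contra h
      exact hz ((g.2 n).mem_toFinset.mpr h)
    let g₁ : decaying I Z N := ∑ z ∈ S, single I z ((g : Z → N) z)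
    have hg₁ : ∀ z, (g₁ : Z → N) z = if z ∈ S then (g : Z → N) z else 0 := by
      intro z
      simp only [g₁, Submodule.coe_sum, Finset.sum_apply, coe_single]
      rw [Finset.sum_pi_single]
    have hrest : g - g₁ ∈ (I ^ n • ⊤ : Submodule A (decaying I Z N)) := by
      apply mem_smul_top_of_forall_mem n (hfg n)
      intro z
      rw [Submodule.coe_sub, Pi.sub_apply, hg₁]
      by_cases hz : z ∈ S
      · rw [if_pos hz, sub_self]; exact Submodule.zero_mem _
      · rw [if_neg hz, sub_zero]; exact hS z hz
    have h1 : φ g₁ = ψ g₁ := by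
      simp only [g₁, map_sum, h]
    have h2 : φ g - ψ g = (φ - ψ) (g - g₁) := by
      rw [LinearMap.sub_apply, map_sub, map_sub, h1]; abel
    rw [h2]
    exact map_mem_smul_top I (φ - ψ) n hrest
  have h0 : φ g - ψ g = 0 :=
    IsHausdorff.haus' (I := I) _ (fun n => by
      rw [SModEq.zero]; exact hmem n)
  exact sub_eq_zero.mp h0


section singleL

omit [IsAdicComplete I M]

/-- `single` as a linear map -/
def singleL [DecidableEq Z] (z : Z) : N →ₗ[A] decaying I Z N where
  toFun m := single I z m
  map_add' m m' := by
    apply Subtype.ext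
    simp only [coe_single, Submodule.coe_add, Pi.single_add]
  map_smul' a m := by
    apply Subtype.ext
    simp only [coe_single, Submodule.coe_smul, RingHom.id_apply, Pi.single_smul]

@[simp] lemma singleL_apply [DecidableEq Z] (z : Z) (m : N) :
    singleL I (Z := Z) z m = single I z m := rfl

omit [AddCommGroup M] [Module A M] in
lemma exists_of_sub_mem (hfg : I.FG) (m : AdicCompletion I A) (n : ℕ) :
    ∃ a : A, m - AdicCompletion.of I A a ∈
      (I ^ n • ⊤ : Submodule A (AdicCompletion I A)) := by
  obtain ⟨a, ha⟩ := Submodule.Quotient.mk_surjective _ (AdicCompletion.eval I A n m)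
  refine ⟨a, ?_⟩
  rw [AdicCompletion.pow_smul_top_eq_ker_eval hfg, LinearMap.mem_ker, map_sub,
    AdicCompletion.eval_of, Submodule.mkQ_apply, ha, sub_self]

/-- linear maps out of `decaying I Z Â` into a Hausdorff module are determined by their values
on the functions `single z 1`. -/
theorem ext_single_one [DecidableEq Z] [IsHausdorff I M]
    (hfg : ∀ k, (I ^ k).FG) (φ ψ : decaying I Z (AdicCompletion I A) →ₗ[A] M)
    (h : ∀ z, φ (single I z 1) = ψ (single I z 1)) : φ = ψ := by
  have hI : I.FG := by simpa using hfg 1
  apply ext_single I hfg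
  intro z m
  have hmem : ∀ n, φ (single I z m) - ψ (single I z m) ∈ (I ^ n • ⊤ : Submodule A M) := by
    intro n
    obtain ⟨a, ha⟩ := exists_of_sub_mem I hI m n
    have h1 : m = a • (1 : AdicCompletion I A) + (m - AdicCompletion.of I A a) := by
      have : a • (1 : AdicCompletion I A) = AdicCompletion.of I A a := by
        rw [Algebra.smul_def, mul_one, AdicCompletion.algebraMap_apply, Algebra.algebraMap_self,
          RingHom.id_apply]
      rw [this]; abel
    have h2 : single I z m = a • single I z (1 : AdicCompletion I A) +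
        singleL I (Z := Z) z (m - AdicCompletion.of I A a) := by
      conv_lhs => rw [h1]
      rw [← singleL_apply, map_add, map_smul, singleL_apply]
    have h3 : φ (single I z m) - ψ (single I z m) =
        (φ - ψ) (singleL I (Z := Z) z (m - AdicCompletion.of I A a)) := by
      rw [h2, LinearMap.sub_apply, map_add, map_add, map_smul, map_smul, h z]; abel
    rw [h3]
    exact map_mem_smul_top I ((φ - ψ) ∘ₗ singleL I (Z := Z) z) n ha
  have h0 : φ (single I z m) - ψ (single I z m) = 0 :=
    IsHausdorff.haus' (I := I) _ (fun n => by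
      rw [SModEq.zero]; exact hmem n)
  exact sub_eq_zero.mp h0

end singleL

/-- for `m` in a complete module, the linear map `Â → M`, `a ↦ a • m` -/
noncomputable def completionMap (m : M) : AdicCompletion I A →ₗ[A] M :=
  (AdicCompletion.ofLinearEquiv I M).symm.toLinearMap ∘ₗ
    (AdicCompletion.map I (LinearMap.toSpanSingleton A M m)).restrictScalars A

lemma completionMap_of (m : M) (a : A) :
    completionMap I m (AdicCompletion.of I A a) = a • m := by
  simp only [completionMap, LinearMap.coe_comp, LinearEquiv.coe_coe, Function.comp_apply,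
    LinearMap.coe_restrictScalars, AdicCompletion.map_of, AdicCompletion.ofLinearEquiv_symm_of,
    LinearMap.toSpanSingleton_apply]

lemma completionMap_one (m : M) : completionMap I m 1 = m := by
  have : (1 : AdicCompletion I A) = AdicCompletion.of I A 1 := by
    rw [← map_one (algebraMap A (AdicCompletion I A)), AdicCompletion.algebraMap_apply,
      Algebra.algebraMap_self, RingHom.id_apply]
  rw [this, completionMap_of, one_smul]

/-- existence and uniqueness of the linear map out of `decaying I Z Â` with prescribed values on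
the `single z 1`. -/
theorem existsUnique_single_one [DecidableEq Z] (hfg : ∀ k, (I ^ k).FG) (f : Z → M) :
    ∃! φ : decaying I Z (AdicCompletion I A) →ₗ[A] M,
      ∀ z, φ (single I z (1 : AdicCompletion I A)) = f z := by
  refine ⟨decSum I (fun z => completionMap I (f z)), ?_, ?_⟩
  · intro z
    rw [decSum_single, completionMap_one]
  · intro ψ hψ
    apply ext_single_one I hfg
    intro z
    rw [hψ z, decSum_single, completionMap_one]


omit [IsAdicComplete I M] in
/-- a retract of an adically complete module is adically complete -/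
theorem isAdicComplete_of_retract {D : Type*} [AddCommGroup D] [Module A D] [IsAdicComplete I D]
    (i : M →ₗ[A] D) (r : D →ₗ[A] M) (h : r ∘ₗ i = LinearMap.id) : IsAdicComplete I M := by
  have hri : ∀ x, r (i x) = x := fun x => LinearMap.congr_fun h x
  refine { haus' := ?_, prec' := ?_ }
  · intro x hx
    have : i x = 0 := by
      apply IsHausdorff.haus' (I := I)
      intro n
      rw [SModEq.zero]
      have := hx n
      rw [SModEq.zero] at this
      exact map_mem_smul_top I i n this
    rw [← hri x, this, map_zero]
  · intro f hf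
    obtain ⟨L, hL⟩ := IsPrecomplete.prec' (I := I) (fun n => i (f n)) (by
      intro m n hmn
      have := hf hmn
      rw [SModEq.sub_mem] at this ⊢
      rw [← map_sub]
      exact map_mem_smul_top I i m this)
    refine ⟨r L, fun n => ?_⟩
    have := hL n
    rw [SModEq.sub_mem] at this ⊢
    have h2 : f n - r L = r (i (f n) - L) := by rw [map_sub, hri]
    rw [h2]
    exact map_mem_smul_top I r n this

end Groth.Agent.Lib.Helper26.DecSum
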