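import Groth.Prelude.Def_W4c5adicflatcomplDec
import Groth.Agent.Lib.Helper26.DecSum
import Mathlib.RingTheory.AdicCompletion.Algebra
import Mathlib.RingTheory.TensorProduct.Basic

/-!
# Completed base change of adically free modules (helper26)

For `A → B`, ideals `I ⊆ A`, `J ⊆ B` with `I B ⊆ J` (powers of `I`, `J` finitely generated):
`AdicCompletion J (B ⊗[A] decaying I Z Â) ≃ₗ[B] decaying J Z B̂`.
-/

namespace Groth.Agent.Lib.Helper26.AdicBaseChange

open W4c5adicflatcompl Groth.Agent.Lib.Helper26.Decaying Groth.Agent.Lib.Helper26.DecSum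
open TensorProduct

variable {A B : Type*} [CommRing A] [CommRing B] [Algebra A B] (I : Ideal A) (J : Ideal B)

section basic

variable {I J}

/-- `A`-linear maps into `B`-modules respect the adic filtrations when `I B ⊆ J`. -/
lemma map_mem_smul_top_of_le (hIJ : I.map (algebraMap A B) ≤ J)
    {N M' : Type*} [AddCommGroup N] [Module A N] [AddCommGroup M']
    [Module A M'] [Module B M'] [IsScalarTower A B M'] (φ : N →ₗ[A] M') (n : ℕ) {x : N}
    (hx : x ∈ (I ^ n • ⊤ : Submodule A N)) : φ x ∈ (J ^ n • ⊤ : Submodule B M') := by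
  refine Submodule.smul_induction_on hx ?_ ?_
  · intro a ha y _
    rw [map_smul, ← algebraMap_smul B a (φ y)]
    refine Submodule.smul_mem_smul ?_ Submodule.mem_top
    have h1 : (I ^ n).map (algebraMap A B) ≤ J ^ n := by
      rw [Ideal.map_pow]; exact Ideal.pow_right_mono hIJ n
    exact h1 (Ideal.mem_map_of_mem _ ha)
  · intro x y hx hy
    rw [map_add]; exact Submodule.add_mem _ hx hy

lemma pow_le_comap (hIJ : I.map (algebraMap A B) ≤ J) (n : ℕ) :
    I ^ n ≤ (J ^ n).comap (Algebra.ofId A B) := by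
  have h1 : (I ^ n).map (algebraMap A B) ≤ J ^ n := by
    rw [Ideal.map_pow]; exact Ideal.pow_right_mono hIJ n
  intro a ha
  exact h1 (Ideal.mem_map_of_mem _ ha)

variable (I J) in
/-- the canonical map `Â → B̂` -/
noncomputable def iota (hIJ : I.map (algebraMap A B) ≤ J) :
    AdicCompletion I A →ₐ[A] AdicCompletion J B :=
  AdicCompletion.liftAlgHom J
    (fun n => (Ideal.quotientMapₐ (J ^ n) (Algebra.ofId A B) (pow_le_comap hIJ n)).comp
      (AdicCompletion.evalₐ I n))
    (by
      intro m n hle
      ext x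
      obtain ⟨y, rfl⟩ := AdicCompletion.mk_surjective I A x
      simp only [AlgHom.coe_comp, Function.comp_apply, AdicCompletion.evalₐ_mk,
        Ideal.quotient_map_mkₐ]
      rw [Ideal.Quotient.mkₐ_eq_mk, Ideal.Quotient.mkₐ_eq_mk, Ideal.Quotient.factorₐ_apply_mk,
        Ideal.Quotient.eq, ← map_sub]
      apply pow_le_comap hIJ m
      have h1 := y.2 hle
      rw [SModEq.sub_mem, smul_eq_mul, Ideal.mul_top] at h1
      have h2 : (y : ℕ → A) n - (y : ℕ → A) m = -((y : ℕ → A) m - (y : ℕ → A) n) := by ring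
      rw [h2]
      exact (I ^ m).neg_mem h1)

end basic

section main

variable {I J} (hIJ : I.map (algebraMap A B) ≤ J) (Z : Type*)

/-- post-composition with `iota` -/
noncomputable def rho :
    decaying I Z (AdicCompletion I A) →ₗ[A] decaying J Z (AdicCompletion J B) where
  toFun g := ⟨fun z => iota I J hIJ ((g : Z → AdicCompletion I A) z), fun n => (g.2 n).subset
    (fun z hz h => hz (map_mem_smul_top_of_le hIJ (iota I J hIJ).toLinearMap n h))⟩
  map_add' g h := by
    apply Subtype.ext; funext z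
    simp only [Submodule.coe_add, Pi.add_apply, map_add]
  map_smul' a g := by
    apply Subtype.ext; funext z
    simp only [Submodule.coe_smul, Pi.smul_apply, map_smul, RingHom.id_apply]
    rfl

lemma rho_single [DecidableEq Z] (z : Z) :
    rho hIJ Z (single I z 1) = single J z 1 := by
  apply Subtype.ext; funext w
  change iota I J hIJ ((Pi.single z (1 : AdicCompletion I A) : Z → AdicCompletion I A) w) =
    (Pi.single z (1 : AdicCompletion J B) : Z → AdicCompletion J B) w
  by_cases h : w = z
  · subst h; simp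
  · rw [Pi.single_eq_of_ne h, Pi.single_eq_of_ne h, map_zero]

lemma exists_of_sub_mem' {T : Type*} [AddCommGroup T] [Module B T] (hfg : J.FG)
    (x : AdicCompletion J T) (n : ℕ) :
    ∃ t : T, x - AdicCompletion.of J T t ∈
      (J ^ n • ⊤ : Submodule B (AdicCompletion J T)) := by
  obtain ⟨t, ht⟩ := Submodule.Quotient.mk_surjective _ (AdicCompletion.eval J T n x)
  refine ⟨t, ?_⟩
  rw [AdicCompletion.pow_smul_top_eq_ker_eval hfg, LinearMap.mem_ker, map_sub,
    AdicCompletion.eval_of, Submodule.mkQ_apply, ht, sub_self]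

include hIJ in
theorem exists_equiv (hfgA : ∀ k, (I ^ k).FG) (hfgB : ∀ k, (J ^ k).FG)
    (P : Type*) [AddCommGroup P] [Module A P]
    (e : P ≃ₗ[A] decaying I Z (AdicCompletion I A)) :
    Nonempty (AdicCompletion J (B ⊗[A] P) ≃ₗ[B] decaying J Z (AdicCompletion J B)) := by
  classical
  have hJ : J.FG := by simpa using hfgB 1
  haveI : IsAdicComplete J (AdicCompletion J (B ⊗[A] P)) := AdicCompletion.isAdicComplete hJ
  haveI : IsAdicComplete J (AdicCompletion J B) := AdicCompletion.isAdicComplete hJ
  haveI : IsAdicComplete J (decaying J Z (AdicCompletion J B)) :=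
    isAdicComplete_decaying J Z _ hfgB
  let τ : B ⊗[A] P →ₗ[B] decaying J Z (AdicCompletion J B) :=
    LinearMap.liftBaseChange B ((rho hIJ Z) ∘ₗ e.toLinearMap)
  let β : AdicCompletion J (B ⊗[A] P) →ₗ[B] decaying J Z (AdicCompletion J B) :=
    (AdicCompletion.ofLinearEquiv J (decaying J Z (AdicCompletion J B))).symm.toLinearMap ∘ₗ
      (AdicCompletion.map J τ).restrictScalars B
  have hβ : ∀ t, β (AdicCompletion.of J (B ⊗[A] P) t) = τ t := by
    intro t
    simp only [β, LinearMap.coe_comp, LinearEquiv.coe_coe, Function.comp_apply,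
      LinearMap.coe_restrictScalars, AdicCompletion.map_of, AdicCompletion.ofLinearEquiv_symm_of]
  let x : Z → AdicCompletion J (B ⊗[A] P) := fun z =>
    AdicCompletion.of J (B ⊗[A] P) (1 ⊗ₜ e.symm (single I z 1))
  obtain ⟨α, hα, -⟩ := existsUnique_single_one J hfgB x
  have hβx : ∀ z, β (x z) = single J z 1 := by
    intro z
    rw [hβ, LinearMap.liftBaseChange_tmul, one_smul, LinearMap.comp_apply, LinearEquiv.coe_coe,
      e.apply_symm_apply, rho_single]
  have hβα : β ∘ₗ α = LinearMap.id := by
    apply ext_single_one J hfgB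
    intro z
    rw [LinearMap.comp_apply, hα, hβx, LinearMap.id_apply]
  haveI hHaus : IsHausdorff I (AdicCompletion J (B ⊗[A] P)) := ⟨fun y hy =>
    IsHausdorff.haus' (I := J) y (fun n => by
      rw [SModEq.zero]
      have := hy n
      rw [SModEq.zero] at this
      exact map_mem_smul_top_of_le hIJ
        (LinearMap.id : AdicCompletion J (B ⊗[A] P) →ₗ[A] AdicCompletion J (B ⊗[A] P)) n this)⟩
  have h1 : ∀ p : P, α (β (AdicCompletion.of J (B ⊗[A] P) (1 ⊗ₜ p))) =
      AdicCompletion.of J (B ⊗[A] P) (1 ⊗ₜ p) := by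
    let φ2 : decaying I Z (AdicCompletion I A) →ₗ[A] AdicCompletion J (B ⊗[A] P) :=
      ((AdicCompletion.of J (B ⊗[A] P)).restrictScalars A) ∘ₗ (TensorProduct.mk A B P 1) ∘ₗ
        e.symm.toLinearMap
    let φ1 : decaying I Z (AdicCompletion I A) →ₗ[A] AdicCompletion J (B ⊗[A] P) :=
      (α.restrictScalars A) ∘ₗ (β.restrictScalars A) ∘ₗ φ2
    have h12 : φ1 = φ2 := ext_single_one I hfgA φ1 φ2 (fun z => by
      change α (β (x z)) = x z
      rw [hβx, hα])
    intro p
    have := LinearMap.congr_fun h12 (e p)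
    simpa [φ1, φ2] using this
  have h2 : ∀ t : B ⊗[A] P, α (β (AdicCompletion.of J (B ⊗[A] P) t)) =
      AdicCompletion.of J (B ⊗[A] P) t := by
    intro t
    induction t using TensorProduct.induction_on with
    | zero => simp
    | tmul b p =>
      have : b ⊗ₜ[A] p = b • ((1 : B) ⊗ₜ[A] p) := by
        rw [TensorProduct.smul_tmul', smul_eq_mul, mul_one]
      rw [this, map_smul, map_smul, map_smul, h1]
    | add x y hx hy => rw [map_add, map_add, map_add, hx, hy]
  have hαβ : α ∘ₗ β = LinearMap.id := by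
    apply LinearMap.ext
    intro y
    rw [LinearMap.comp_apply, LinearMap.id_apply]
    have hmem : ∀ n, α (β y) - y ∈ (J ^ n • ⊤ : Submodule B (AdicCompletion J (B ⊗[A] P))) := by
      intro n
      obtain ⟨t, ht⟩ := exists_of_sub_mem' hJ y n
      have h3 : α (β y) - y = ((α ∘ₗ β - LinearMap.id :
          AdicCompletion J (B ⊗[A] P) →ₗ[B] AdicCompletion J (B ⊗[A] P)))
            (y - AdicCompletion.of J (B ⊗[A] P) t) := by
        simp only [LinearMap.sub_apply, LinearMap.comp_apply, LinearMap.id_apply, map_sub, h2]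
        abel
      rw [h3]
      exact map_mem_smul_top J _ n ht
    have h0 : α (β y) - y = 0 :=
      IsHausdorff.haus' (I := J) _ (fun n => by
        rw [SModEq.zero]; exact hmem n)
    exact sub_eq_zero.mp h0
  exact ⟨LinearEquiv.ofLinear β α hβα hαβ⟩

end main

end Groth.Agent.Lib.Helper26.AdicBaseChange
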