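import Groth.Prelude.Def_W4c5adicflatcomplDec
import Groth.Agent.Lib.Helper26.DecSum
import Groth.Agent.Lib.Helper26.NilNak
import Mathlib.RingTheory.AdicCompletion.Functoriality
import Mathlib.RingTheory.Flat.Basic
import Mathlib.LinearAlgebra.Basis.VectorSpace
import Mathlib.Algebra.Module.Torsion.Basic
import Mathlib.RingTheory.LocalRing.ResidueField.Basic

/-!
# Adically free modules: criterion via flatness and completeness (helper26)

* `decayingMap`, `decayingCongr` : functoriality of `decaying I Z N` in `N`.
* `ker_le_smul_top` : if the `f z` are "independent mod `I`", the kernel of the map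
  `decaying I Z Â → M`, `single z 1 ↦ f z` is contained in `I • ⊤`.
* `injective_of_flat_of_ker_le` : Hausdorff Nakayama for kernels: a surjection `D → M` onto a flat
  module with `D` Hausdorff and kernel in `I • ⊤` is injective.
* `bijective_of_flat` : the criterion: `M` flat and complete, `f z` a "basis mod `I`" ⟹
  `decaying I Z Â ≃ M`.
* `exists_family_of_isLocalRing` : over a local ring a basis of `M / m M` gives such a family.
-/

namespace Groth.Agent.Lib.Helper26.AdicFree

open W4c5adicflatcompl Groth.Agent.Lib.Helper26.Decaying Groth.Agent.Lib.Helper26.DecSum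

section map

variable {A : Type*} [CommRing A] (I : Ideal A) (Z : Type*) {N N' : Type*} [AddCommGroup N]
  [Module A N] [AddCommGroup N'] [Module A N']

/-- functoriality of `decaying I Z N` in the value module `N` -/
def decayingMap (e : N →ₗ[A] N') : decaying I Z N →ₗ[A] decaying I Z N' where
  toFun g := ⟨fun z => e ((g : Z → N) z), fun n => (g.2 n).subset
    (fun z hz h => hz (map_mem_smul_top I e n h))⟩
  map_add' g h := by
    apply Subtype.ext; funext z
    simp only [Submodule.coe_add, Pi.add_apply, map_add]
  map_smul' a g := by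
    apply Subtype.ext; funext z
    simp only [Submodule.coe_smul, Pi.smul_apply, map_smul, RingHom.id_apply]

@[simp] lemma decayingMap_apply (e : N →ₗ[A] N') (g : decaying I Z N) (z : Z) :
    (decayingMap I Z e g : Z → N') z = e ((g : Z → N) z) := rfl

/-- a linear equivalence of value modules induces one of modules of decaying functions -/
def decayingCongr (e : N ≃ₗ[A] N') : decaying I Z N ≃ₗ[A] decaying I Z N' :=
  LinearEquiv.ofLinear (decayingMap I Z e.toLinearMap) (decayingMap I Z e.symm.toLinearMap)
    (by
      apply LinearMap.ext; intro g; apply Subtype.ext; funext z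
      simp only [LinearMap.comp_apply, decayingMap_apply, LinearEquiv.coe_coe,
        LinearEquiv.apply_symm_apply, LinearMap.id_apply])
    (by
      apply LinearMap.ext; intro g; apply Subtype.ext; funext z
      simp only [LinearMap.comp_apply, decayingMap_apply, LinearEquiv.coe_coe,
        LinearEquiv.symm_apply_apply, LinearMap.id_apply])

end map

section crit

variable {A : Type*} [CommRing A] (I : Ideal A) {Z : Type*} {M : Type*} [AddCommGroup M]
  [Module A M]

/-- Hausdorff Nakayama for kernels -/
theorem injective_of_flat_of_ker_le {D : Type*} [AddCommGroup D] [Module A D] [IsHausdorff I D]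
    [Module.Flat A M] (φ : D →ₗ[A] M) (hsurj : Function.Surjective φ)
    (hker : LinearMap.ker φ ≤ I • (⊤ : Submodule A D)) : Function.Injective φ := by
  have h1 : LinearMap.ker φ ≤ I • LinearMap.ker φ :=
    fun x hx => NilNak.ker_inf_smul_top_le I φ hsurj ⟨hx, hker hx⟩
  have key : ∀ n : ℕ, LinearMap.ker φ ≤ I ^ n • LinearMap.ker φ := by
    intro n
    induction n with
    | zero => simp
    | succ n ih =>
      calc LinearMap.ker φ ≤ I • LinearMap.ker φ := h1
        _ ≤ I • (I ^ n • LinearMap.ker φ) := Submodule.smul_mono le_rfl ih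
        _ = I ^ (n + 1) • LinearMap.ker φ := by rw [← Submodule.mul_smul, ← pow_succ']
  rw [← LinearMap.ker_eq_bot, eq_bot_iff]
  intro x hx
  rw [Submodule.mem_bot]
  apply IsHausdorff.haus' (I := I)
  intro n
  rw [SModEq.zero]
  exact Submodule.smul_mono le_rfl le_top (key n hx)

theorem ker_le_smul_top [DecidableEq Z] (hfg : ∀ k, (I ^ k).FG) (f : Z → M)
    (φ : decaying I Z (AdicCompletion I A) →ₗ[A] M) (hφ : ∀ z, φ (single I z 1) = f z)
    (hli : ∀ (S : Finset Z) (a : Z → A),
      ∑ z ∈ S, a z • f z ∈ (I • ⊤ : Submodule A M) → ∀ z ∈ S, a z ∈ I) :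
    LinearMap.ker φ ≤ I • (⊤ : Submodule A (decaying I Z (AdicCompletion I A))) := by
  have hI : I.FG := by simpa using hfg 1
  intro x hx
  rw [LinearMap.mem_ker] at hx
  let S : Finset Z := (x.2 1).toFinset
  have hS : ∀ z, z ∉ S → (x : Z → AdicCompletion I A) z ∈
      (I ^ 1 • ⊤ : Submodule A (AdicCompletion I A)) := by
    intro z hz
    by_contra h
    exact hz ((x.2 1).mem_toFinset.mpr h)
  choose a ha using fun z => exists_of_sub_mem I hI ((x : Z → AdicCompletion I A) z) 1
  let x' : decaying I Z (AdicCompletion I A) := ∑ z ∈ S, a z • single I z 1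
  have hx'v : ∀ z, (x' : Z → AdicCompletion I A) z =
      if z ∈ S then AdicCompletion.of I A (a z) else 0 := by
    intro z
    have h1 : ∀ w, a w • (1 : AdicCompletion I A) = AdicCompletion.of I A (a w) := by
      intro w
      rw [Algebra.smul_def, mul_one, AdicCompletion.algebraMap_apply, Algebra.algebraMap_self,
        RingHom.id_apply]
    simp only [x', Submodule.coe_sum, Submodule.coe_smul, coe_single, Finset.sum_apply,
      ← Pi.single_smul, h1]
    rw [Finset.sum_pi_single]
  have hrest : x - x' ∈ (I ^ 1 • ⊤ : Submodule A (decaying I Z (AdicCompletion I A))) := by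
    apply mem_smul_top_of_forall_mem 1 (hfg 1)
    intro z
    rw [Submodule.coe_sub, Pi.sub_apply, hx'v]
    by_cases hz : z ∈ S
    · rw [if_pos hz]; exact ha z
    · rw [if_neg hz, sub_zero]; exact hS z hz
  have hφx' : φ x' = ∑ z ∈ S, a z • f z := by
    simp only [x', map_sum, map_smul, hφ]
  have h2 : ∑ z ∈ S, a z • f z ∈ (I • ⊤ : Submodule A M) := by
    have h3 : φ x' = - φ (x - x') := by rw [map_sub, hx]; simp
    rw [← hφx', h3]
    apply Submodule.neg_mem
    have := map_mem_smul_top I φ 1 hrest
    rwa [pow_one] at this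
  have haI := hli S a h2
  have hx'mem : x' ∈ I • (⊤ : Submodule A (decaying I Z (AdicCompletion I A))) := by
    apply Submodule.sum_mem
    intro z hz
    exact Submodule.smul_mem_smul (haI z hz) Submodule.mem_top
  have : x = x' + (x - x') := by abel
  rw [this]
  apply Submodule.add_mem _ hx'mem
  rwa [pow_one] at hrest

/-- The criterion: `M` flat and `I`-adically complete, `f : Z → M` a "basis modulo `I`". Then the
canonical map `decaying I Z Â → M` is bijective. -/
theorem bijective_of_flat [DecidableEq Z] (hfg : ∀ k, (I ^ k).FG) [Module.Flat A M]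
    [IsAdicComplete I M] (f : Z → M)
    (hspan : (⊤ : Submodule A M) ≤ Submodule.span A (Set.range f) ⊔ I • ⊤)
    (hli : ∀ (S : Finset Z) (a : Z → A),
      ∑ z ∈ S, a z • f z ∈ (I • ⊤ : Submodule A M) → ∀ z ∈ S, a z ∈ I)
    (φ : decaying I Z (AdicCompletion I A) →ₗ[A] M) (hφ : ∀ z, φ (single I z 1) = f z) :
    Function.Bijective φ := by
  have hI : I.FG := by simpa using hfg 1
  haveI : IsAdicComplete I (AdicCompletion I A) := AdicCompletion.isAdicComplete hI
  haveI : IsAdicComplete I (decaying I Z (AdicCompletion I A)) :=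
    isAdicComplete_decaying I Z (AdicCompletion I A) hfg
  have hsurj : Function.Surjective φ := by
    apply surjective_of_mkQ_comp_surjective (I := I)
    rw [← LinearMap.range_eq_top, eq_top_iff]
    rintro y -
    obtain ⟨m, rfl⟩ := Submodule.mkQ_surjective _ y
    obtain ⟨m₁, hm₁, m₂, hm₂, rfl⟩ := Submodule.mem_sup.mp (hspan (Submodule.mem_top (x := m)))
    have hrange : Submodule.span A (Set.range f) ≤ LinearMap.range φ := by
      rw [Submodule.span_le]
      rintro _ ⟨z, rfl⟩
      exact ⟨single I z 1, hφ z⟩
    obtain ⟨d, rfl⟩ := hrange hm₁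
    refine ⟨d, ?_⟩
    have h0 : (I • ⊤ : Submodule A M).mkQ m₂ = 0 := by
      rw [Submodule.mkQ_apply, Submodule.Quotient.mk_eq_zero]; exact hm₂
    rw [LinearMap.comp_apply, map_add, h0, add_zero]
  exact ⟨injective_of_flat_of_ker_le I φ hsurj (ker_le_smul_top I hfg f φ hφ hli), hsurj⟩

end crit

section localCase

variable {A : Type*} [CommRing A] [IsLocalRing A] (M : Type*) [AddCommGroup M] [Module A M]

/-- a family in `M` lifting a basis of `M / m M` over the residue field -/
theorem exists_family_of_isLocalRing :
    ∃ (Z : Set (M ⧸ (IsLocalRing.maximalIdeal A • ⊤ : Submodule A M))) (f : Z → M),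
      ((⊤ : Submodule A M) ≤ Submodule.span A (Set.range f) ⊔ IsLocalRing.maximalIdeal A • ⊤) ∧
      (∀ (S : Finset Z) (a : Z → A),
        ∑ z ∈ S, a z • f z ∈ (IsLocalRing.maximalIdeal A • ⊤ : Submodule A M) →
          ∀ z ∈ S, a z ∈ IsLocalRing.maximalIdeal A) := by
  classical
  let m := IsLocalRing.maximalIdeal A
  let V := M ⧸ (m • ⊤ : Submodule A M)
  letI : Field (A ⧸ m) := Ideal.Quotient.field m
  let b := Module.Basis.ofVectorSpace (A ⧸ m) V
  let Z := Module.Basis.ofVectorSpaceIndex (A ⧸ m) V
  choose f hf using fun z : Z => Submodule.mkQ_surjective (m • ⊤ : Submodule A M) (b z)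
  refine ⟨Z, f, ?_, ?_⟩
  · have h1 : Submodule.span A (Set.range b) = ⊤ := by
      have := Submodule.restrictScalars_span A (A ⧸ m) Ideal.Quotient.mk_surjective
        (Set.range b)
      rw [← this, b.span_eq, Submodule.restrictScalars_top]
    have h2 : Set.range b = (Submodule.mkQ (m • ⊤ : Submodule A M)) '' Set.range f := by
      rw [← Set.range_comp]
      congr 1
      funext z
      exact (hf z).symm
    rw [h2, ← Submodule.map_span] at h1
    intro x _
    have hx : Submodule.mkQ (m • ⊤ : Submodule A M) x ∈
        Submodule.map (Submodule.mkQ (m • ⊤ : Submodule A M)) (Submodule.span A (Set.range f)) := by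
      rw [h1]; exact Submodule.mem_top
    obtain ⟨y, hy, hyx⟩ := hx
    have : x - y ∈ (m • ⊤ : Submodule A M) := by
      rw [← Submodule.Quotient.mk_eq_zero, Submodule.Quotient.mk_sub]
      rw [Submodule.mkQ_apply, Submodule.mkQ_apply] at hyx
      rw [hyx, sub_self]
    have hxy : x = y + (x - y) := by abel
    rw [hxy]
    exact Submodule.add_mem _ (Submodule.mem_sup_left hy) (Submodule.mem_sup_right this)
  · intro S a ha z hz
    have hlin := b.linearIndependent
    rw [linearIndependent_iff'] at hlin
    have h0 : ∑ z ∈ S, (Ideal.Quotient.mk m (a z)) • b z = 0 := by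
      have h1 : Submodule.mkQ (m • ⊤ : Submodule A M) (∑ z ∈ S, a z • f z) = 0 := by
        rw [Submodule.mkQ_apply, Submodule.Quotient.mk_eq_zero]; exact ha
      rw [map_sum] at h1
      rw [← h1]
      apply Finset.sum_congr rfl
      intro w _
      rw [map_smul, hf w]
      rfl
    have := hlin S (fun z => Ideal.Quotient.mk m (a z)) h0 z hz
    exact Ideal.Quotient.eq_zero_iff_mem.mp this

end localCase

end Groth.Agent.Lib.Helper26.AdicFree
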