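import Mathlib

/-!
# Limits of adic systems of modules

`(M_m)` an inverse system of `R`-modules with surjective transition maps
`M_{m+1} → M_m` whose kernel is contained in `I^(m+1) M_{m+1}`, with `I^(m+1) M_m = 0` and `I`
finitely generated; `L` a limit of the system.  Then `L → M_n` is surjective with kernel contained in
`I^(n+1) L`.
-/

set_option autoImplicit false
universe u

namespace Groth.Agent.Lib.Helper26.AdicLim

variable {R : Type u} [CommRing R]

/-- elements of `(span S) • N` are `S`-combinations of elements of `N`. -/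
theorem exists_sum_of_mem_span_smul {M : Type u} [AddCommGroup M] [Module R M]
    (S : Finset R) (N : Submodule R M) {z : M} (hz : z ∈ (Ideal.span (S : Set R)) • N) :
    ∃ w : R → M, (∀ a, w a ∈ N) ∧ z = ∑ a ∈ S, a • w a := by
  classical
  refine Submodule.smul_induction_on hz ?_ ?_
  · intro r hr n hn
    obtain ⟨c, -, hc⟩ := (Submodule.mem_span_finset).mp hr
    refine ⟨fun a => c a • n, fun a => N.smul_mem _ hn, ?_⟩
    rw [← hc, Finset.sum_smul]
    refine Finset.sum_congr rfl (fun a _ => ?_)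
    rw [smul_eq_mul, mul_comm, mul_smul]
  · intro x y hx hy
    obtain ⟨w, hw, rfl⟩ := hx
    obtain ⟨w', hw', rfl⟩ := hy
    refine ⟨fun a => w a + w' a, fun a => N.add_mem (hw a) (hw' a), ?_⟩
    rw [← Finset.sum_add_distrib]
    refine Finset.sum_congr rfl (fun a _ => ?_)
    rw [smul_add]

/-- The data of an adic inverse system with a limit. -/
structure Data (I : Ideal R) (M : ℕ → Type u) [∀ m, AddCommGroup (M m)] [∀ m, Module R (M m)]
    (L : Type u) [AddCommGroup L] [Module R L] where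
  T : ∀ {m k : ℕ}, m ≤ k → (M k →ₗ[R] M m)
  T_id : ∀ (m : ℕ) (x : M m), T (le_refl m) x = x
  T_comp : ∀ {m k l : ℕ} (h1 : m ≤ k) (h2 : k ≤ l) (x : M l), T h1 (T h2 x) = T (h1.trans h2) x
  p : ∀ m, L →ₗ[R] M m
  hp : ∀ {m k : ℕ} (h : m ≤ k) (x : L), T h (p k x) = p m x
  hex : ∀ s : ∀ m, M m, (∀ {m k : ℕ} (h : m ≤ k), T h (s k) = s m) → ∃ x : L, ∀ m, p m x = s m
  hinj : ∀ x : L, (∀ m, p m x = 0) → x = 0
  hsurj : ∀ m, Function.Surjective (T (Nat.le_succ m))
  hker : ∀ m, LinearMap.ker (T (Nat.le_succ m)) ≤ I ^ (m + 1) • ⊤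
  hkill : ∀ m, I ^ (m + 1) • (⊤ : Submodule R (M m)) = ⊥

variable {I : Ideal R} {M : ℕ → Type u} [∀ m, AddCommGroup (M m)] [∀ m, Module R (M m)]
  {L : Type u} [AddCommGroup L] [Module R L] (D : Data I M L)

include D in
theorem compat_of_succ (s : ∀ m, M m) (hs1 : ∀ k, D.T (Nat.le_succ k) (s (k + 1)) = s k) :
    ∀ {m k : ℕ} (h : m ≤ k), D.T h (s k) = s m := by
  intro m k h
  induction k, h using Nat.le_induction with
  | base => exact D.T_id m _
  | succ k hmk ih =>
    rw [← ih, ← hs1 k, D.T_comp]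

theorem surjective_p (n : ℕ) : Function.Surjective (D.p n) := by
  intro y
  have hc : ∀ m (x : M m), D.T (Nat.le_succ m) (Function.surjInv (D.hsurj m) x) = x :=
    fun m => Function.surjInv_eq (D.hsurj m)
  let u : ∀ k, M (n + k) := fun k =>
    Nat.rec (motive := fun k => M (n + k)) y (fun k uk => Function.surjInv (D.hsurj (n + k)) uk) k
  have husucc : ∀ k, D.T (Nat.le_succ (n + k)) (u (k + 1)) = u k := fun k => hc _ _
  have hun : ∀ k, D.T (Nat.le_add_right n k) (u k) = y := by
    intro k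
    induction k with
    | zero => exact D.T_id n y
    | succ k ih =>
      rw [← ih, ← husucc k, D.T_comp]
  let s : ∀ m, M m := fun m => D.T (Nat.le_add_left m n) (u m)
  have hs1 : ∀ k, D.T (Nat.le_succ k) (s (k + 1)) = s k := by
    intro k
    show D.T _ (D.T _ (u (k + 1))) = D.T _ (u k)
    rw [D.T_comp, ← husucc k, D.T_comp]
  obtain ⟨x, hx⟩ := D.hex s (compat_of_succ D s hs1)
  refine ⟨x, (hx n).trans ?_⟩
  show D.T _ (u n) = y
  exact hun n

theorem step (n k : ℕ) (S : Finset R) (hS : Ideal.span (S : Set R) = I ^ (n + 1)) (x : L)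
    (hx : D.p (n + k) x = 0) :
    ∃ w : R → L, (∀ a, w a ∈ I ^ k • (⊤ : Submodule R L)) ∧
      D.p (n + k + 1) (x - ∑ a ∈ S, a • w a) = 0 := by
  have hz : D.p (n + k + 1) x ∈ LinearMap.ker (D.T (Nat.le_succ (n + k))) := by
    rw [LinearMap.mem_ker, D.hp, hx]
  have hz2 := D.hker (n + k) hz
  have hpow : I ^ (n + k + 1) = Ideal.span (S : Set R) * I ^ k := by
    rw [hS, ← pow_add]
    congr 1
    omega
  rw [hpow, Submodule.mul_smul] at hz2
  obtain ⟨v, hv, hzv⟩ := exists_sum_of_mem_span_smul S _ hz2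
  have hlift : ∀ a, ∃ w ∈ I ^ k • (⊤ : Submodule R L), D.p (n + k + 1) w = v a := by
    intro a
    have h1 : v a ∈ (I ^ k • (⊤ : Submodule R L)).map (D.p (n + k + 1)) := by
      rw [Submodule.map_smul'', Submodule.map_top,
        LinearMap.range_eq_top.mpr (surjective_p D (n + k + 1))]
      exact hv a
    obtain ⟨w, hw, hwv⟩ := h1
    exact ⟨w, hw, hwv⟩
  choose w hw hwv using hlift
  refine ⟨w, hw, ?_⟩
  rw [map_sub, map_sum, hzv, sub_eq_zero]
  refine Finset.sum_congr rfl (fun a _ => ?_)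
  rw [map_smul, hwv]

theorem ker_le (hI : I.FG) (n : ℕ) : LinearMap.ker (D.p n) ≤ I ^ (n + 1) • ⊤ := by
  classical
  obtain ⟨S, hS⟩ := hI.pow (n := n + 1)
  intro x hx
  rw [LinearMap.mem_ker] at hx
  let W : ℕ → L → R → L := fun k x =>
    if h : D.p (n + k) x = 0 then Classical.choose (step D n k S hS x h) else fun _ => 0
  have hW1 : ∀ k x, D.p (n + k) x = 0 → ∀ a, W k x a ∈ I ^ k • (⊤ : Submodule R L) := by
    intro k x h a
    have := (Classical.choose_spec (step D n k S hS x h)).1 a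
    simp only [W, dif_pos h]
    exact this
  have hW2 : ∀ k x, D.p (n + k) x = 0 → D.p (n + k + 1) (x - ∑ a ∈ S, a • W k x a) = 0 := by
    intro k x h
    have := (Classical.choose_spec (step D n k S hS x h)).2
    simp only [W, dif_pos h]
    exact this
  let xs : ℕ → L := fun k => Nat.rec x (fun k xk => xk - ∑ a ∈ S, a • W k xk a) k
  have hxs_succ : ∀ k, xs (k + 1) = xs k - ∑ a ∈ S, a • W k (xs k) a := fun k => rfl
  have hxs : ∀ k, D.p (n + k) (xs k) = 0 := by
    intro k
    induction k with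
    | zero => exact hx
    | succ k ih =>
      rw [hxs_succ]
      exact hW2 k (xs k) ih
  let w : ℕ → R → L := fun k a => W k (xs k) a
  have hw : ∀ k a, w k a ∈ I ^ k • (⊤ : Submodule R L) := fun k a => hW1 k (xs k) (hxs k) a
  have htel : ∀ K, x = xs K + ∑ k ∈ Finset.range K, ∑ a ∈ S, a • w k a := by
    intro K
    induction K with
    | zero =>
      rw [Finset.range_zero, Finset.sum_empty, add_zero]
      rfl
    | succ K ih =>
      rw [Finset.sum_range_succ, hxs_succ]
      conv_lhs => rw [ih]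
      show xs K + _ = xs K - ∑ a ∈ S, a • w K a + (_ + ∑ a ∈ S, a • w K a)
      abel
  have hpw : ∀ m k a, m + 1 ≤ k → D.p m (w k a) = 0 := by
    intro m k a hmk
    have h1 : w k a ∈ I ^ (m + 1) • (⊤ : Submodule R L) :=
      Submodule.smul_mono_left (Ideal.pow_le_pow_right hmk) (hw k a)
    have h2 : D.p m (w k a) ∈ (I ^ (m + 1) • (⊤ : Submodule R L)).map (D.p m) :=
      Submodule.mem_map_of_mem h1
    rw [Submodule.map_smul''] at h2
    have h3 : I ^ (m + 1) • (Submodule.map (D.p m) ⊤) ≤ I ^ (m + 1) • (⊤ : Submodule R (M m)) :=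
      Submodule.smul_mono le_rfl le_top
    have h4 := h3 h2
    rw [D.hkill m] at h4
    exact (Submodule.mem_bot R).mp h4
  let ys : R → ∀ m, M m := fun a m => ∑ k ∈ Finset.range (m + 1), D.p m (w k a)
  have hys1 : ∀ a k, D.T (Nat.le_succ k) (ys a (k + 1)) = ys a k := by
    intro a k
    show D.T _ (∑ j ∈ Finset.range (k + 1 + 1), D.p (k + 1) (w j a)) =
      ∑ j ∈ Finset.range (k + 1), D.p k (w j a)
    rw [map_sum, Finset.sum_range_succ]
    simp only [D.hp]
    rw [hpw k (k + 1) a le_rfl, add_zero]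
  choose Y hY using fun a => D.hex (ys a) (compat_of_succ D (ys a) (hys1 a))
  have hxY : x = ∑ a ∈ S, a • Y a := by
    rw [← sub_eq_zero]
    apply D.hinj
    intro m
    rw [map_sub, sub_eq_zero]
    have h0 : D.p m (xs (m + 1)) = 0 := by
      rw [← D.hp (show m ≤ n + (m + 1) by omega), hxs (m + 1), map_zero]
    have e1 : D.p m x = ∑ k ∈ Finset.range (m + 1), ∑ a ∈ S, a • D.p m (w k a) := by
      conv_lhs => rw [htel (m + 1)]
      rw [map_add, h0, zero_add, map_sum]
      refine Finset.sum_congr rfl (fun k _ => ?_)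
      rw [map_sum]
      refine Finset.sum_congr rfl (fun a _ => ?_)
      rw [map_smul]
    have e2 : D.p m (∑ a ∈ S, a • Y a) =
        ∑ a ∈ S, a • ∑ k ∈ Finset.range (m + 1), D.p m (w k a) := by
      rw [map_sum]
      refine Finset.sum_congr rfl (fun a _ => ?_)
      rw [map_smul, hY a m]
    rw [e1, e2, Finset.sum_comm]
    refine Finset.sum_congr rfl (fun a _ => ?_)
    rw [Finset.smul_sum]
  rw [hxY]
  refine Submodule.sum_mem _ (fun a ha => ?_)
  refine Submodule.smul_mem_smul ?_ Submodule.mem_top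
  rw [← hS]
  exact Ideal.subset_span ha

end Groth.Agent.Lib.Helper26.AdicLim
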