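import Groth.Agent.Lib.Helper26.PuncAffineDense

/-!
# Opens with affine inclusion containing a dense open of a Noetherian scheme
-/

set_option autoImplicit false
set_option linter.style.haveILetI false
set_option linter.unusedSectionVars false
universe u
open CategoryTheory CategoryTheory.Limits AlgebraicGeometry IsLocalRing TopologicalSpace

namespace Groth.Agent.Lib.Helper26.AffOpenFin

open Groth.Agent.Lib.Helper26.PuncAffine

variable {S : Scheme.{u}}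

theorem affHom_iff (V : S.Opens) :
    IsAffineHom V.ι ↔ ∀ W : S.Opens, IsAffineOpen W → IsAffineOpen (V ⊓ W) := by
  constructor
  · intro h W hW
    have h1 : IsAffineOpen (V.ι ⁻¹ᵁ W) := hW.preimage V.ι
    rwa [← V.ι.isAffineOpen_iff_of_isOpenImmersion, V.ι.image_preimage_eq_opensRange_inf,
      Scheme.Opens.opensRange_ι] at h1
  · intro h
    refine ⟨fun W hW => ?_⟩
    rw [← V.ι.isAffineOpen_iff_of_isOpenImmersion, V.ι.image_preimage_eq_opensRange_inf,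
      Scheme.Opens.opensRange_ι]
    exact h W hW

theorem affHom_inf (V₁ V₂ : S.Opens) (h₁ : IsAffineHom V₁.ι) (h₂ : IsAffineHom V₂.ι) :
    IsAffineHom (V₁ ⊓ V₂).ι := by
  rw [affHom_iff] at h₁ h₂ ⊢
  intro W hW
  rw [inf_assoc]
  exact h₁ _ (h₂ W hW)

/-- maximal points of the complement of `U`. -/
def maxPts (U : S.Opens) : Set S := {ξ | ξ ∉ U ∧ ∀ η : S, η ∉ U → η ⤳ ξ → η = ξ}

theorem finite_maxPts [IsNoetherian S] (U : S.Opens) : (maxPts U).Finite := by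
  classical
  have hcl : IsClosed ((U : Set S)ᶜ) := U.isOpen.isClosed_compl
  obtain ⟨𝒯, h𝒯fin, h𝒯cl, h𝒯irr, h𝒯U⟩ :=
    NoetherianSpace.exists_finite_set_isClosed_irreducible hcl
  have hgen : ∀ t ∈ 𝒯, ∃ η : S, IsGenericPoint η t := fun t ht =>
    QuasiSober.sober (h𝒯irr t ht) (h𝒯cl t ht)
  choose g hg using hgen
  haveI := h𝒯fin.to_subtype
  refine (Set.finite_range (fun t : 𝒯 => g t.1 t.2)).subset ?_
  intro ξ hξ
  obtain ⟨hξU, hξmax⟩ := hξ
  have hξD : ξ ∈ ((U : Set S)ᶜ) := hξU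
  rw [h𝒯U] at hξD
  obtain ⟨t, ht, hξt⟩ := hξD
  have hspec : g t ht ⤳ ξ := (hg t ht).specializes hξt
  have hgt : g t ht ∈ t := (hg t ht).mem
  have hgU : g t ht ∉ U := by
    have : g t ht ∈ ((U : Set S)ᶜ) := by rw [h𝒯U]; exact ⟨t, ht, hgt⟩
    exact this
  exact ⟨⟨t, ht⟩, hξmax _ hgU hspec⟩

theorem maximal_of_dim_le_one [IsLocallyNoetherian S] (U : S.Opens) (hU : Dense (U : Set S))
    (ξ : S) (hdim : ringKrullDim (S.presheaf.stalk ξ) ≤ 1) :
    ∀ η : S, η ∉ U → η ⤳ ξ → η = ξ := by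
  intro η hηU hηξ
  by_contra hne
  obtain ⟨u, huU, huη⟩ := exists_mem_specializes_of_dense S U hU η
  have hηr : η ∈ Set.range (S.fromSpecStalk ξ) := by
    rw [Scheme.range_fromSpecStalk]; exact hηξ
  have hur : u ∈ Set.range (S.fromSpecStalk ξ) := by
    rw [Scheme.range_fromSpecStalk]; exact huη.trans hηξ
  obtain ⟨q0, rfl⟩ := hηr
  obtain ⟨p0, rfl⟩ := hur
  obtain ⟨q, rfl⟩ : ∃ q : PrimeSpectrum (S.presheaf.stalk ξ), q = q0 := ⟨q0, rfl⟩
  obtain ⟨p, rfl⟩ : ∃ p : PrimeSpectrum (S.presheaf.stalk ξ), p = p0 := ⟨p0, rfl⟩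
  have hpq : p ≤ q := by
    rw [PrimeSpectrum.le_iff_specializes]
    exact ((S.fromSpecStalk ξ).isEmbedding.isInducing.specializes_iff).mp huη
  have hpneq : p ≠ q := by
    rintro rfl
    exact hηU huU
  have hK : Ring.KrullDimLE 1 (S.presheaf.stalk ξ) := Ring.krullDimLE_iff.mpr (by simpa using hdim)
  rcases Ring.krullDimLE_one_iff.mp hK q.asIdeal q.isPrime with hmin | hmax
  · have : q.asIdeal ≤ p.asIdeal := hmin.2 ⟨p.isPrime, bot_le⟩ hpq
    exact hpneq (PrimeSpectrum.ext (le_antisymm hpq this))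
  · apply hne
    have hq : q = closedPoint (S.presheaf.stalk ξ) :=
      PrimeSpectrum.ext (IsLocalRing.eq_maximalIdeal hmax)
    rw [hq]
    exact Scheme.fromSpecStalk_closedPoint

theorem exists_maxPt_specializes [IsNoetherian S] (U V : S.Opens) (hUV : U ≤ V)
    (hU : Dense (U : Set S)) [IsAffineHom V.ι] (x : S) (hx : x ∉ V) :
    ∃ ξ ∈ maxPts U, ξ ∉ V ∧ ξ ⤳ x := by
  have hZcl : IsClosed {p : PrimeSpectrum (S.presheaf.stalk x) | S.fromSpecStalk x p ∉ V} :=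
    (V.isOpen.preimage (S.fromSpecStalk x).continuous).isClosed_compl
  obtain ⟨I, hI⟩ := (PrimeSpectrum.isClosed_iff_zeroLocus_ideal _).mp hZcl
  have hmemZ : ∀ q : PrimeSpectrum (S.presheaf.stalk x),
      S.fromSpecStalk x q ∉ V ↔ I ≤ q.asIdeal := by
    intro q
    have : q ∈ {p : PrimeSpectrum (S.presheaf.stalk x) | S.fromSpecStalk x p ∉ V} ↔
        q ∈ PrimeSpectrum.zeroLocus (I : Set (S.presheaf.stalk x)) := by rw [hI]
    rw [PrimeSpectrum.mem_zeroLocus] at this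
    exact this
  have hcp : I ≤ (closedPoint (S.presheaf.stalk x)).asIdeal := by
    rw [← hmemZ, Scheme.fromSpecStalk_closedPoint]
    exact hx
  haveI := (closedPoint (S.presheaf.stalk x)).isPrime
  obtain ⟨𝔭, h𝔭min, -⟩ := Ideal.exists_minimalPrimes_le hcp
  haveI : 𝔭.IsPrime := h𝔭min.1.1
  obtain ⟨p, hp⟩ : ∃ p : PrimeSpectrum (S.presheaf.stalk x), p.asIdeal = 𝔭 := ⟨⟨𝔭, inferInstance⟩, rfl⟩
  have hpZ : S.fromSpecStalk x p ∉ V := by
    rw [hmemZ, hp]; exact h𝔭min.1.2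
  have hpx : S.fromSpecStalk x p ⤳ x := by
    have : S.fromSpecStalk x p ∈ Set.range (S.fromSpecStalk x) := ⟨p, rfl⟩
    rw [Scheme.range_fromSpecStalk] at this
    exact this
  have hmaxV : ∀ η : S, η ∉ V → η ⤳ S.fromSpecStalk x p → η = S.fromSpecStalk x p := by
    intro η hηV hηp
    have hηx : η ⤳ x := hηp.trans hpx
    have hηr : η ∈ Set.range (S.fromSpecStalk x) := by
      rw [Scheme.range_fromSpecStalk]; exact hηx
    obtain ⟨q0, rfl⟩ := hηr
    obtain ⟨q, rfl⟩ : ∃ q : PrimeSpectrum (S.presheaf.stalk x), q = q0 := ⟨q0, rfl⟩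
    have hqp : q ≤ p := by
      rw [PrimeSpectrum.le_iff_specializes]
      exact ((S.fromSpecStalk x).isEmbedding.isInducing.specializes_iff).mp hηp
    have hqZ : I ≤ q.asIdeal := (hmemZ q).mp hηV
    have hqp' : q.asIdeal ≤ 𝔭 := hp ▸ hqp
    have hpq : 𝔭 ≤ q.asIdeal := h𝔭min.2 ⟨q.isPrime, hqZ⟩ hqp'
    have : q = p := PrimeSpectrum.ext (le_antisymm hqp' hpq |>.trans hp.symm)
    rw [this]
  have hdim : ringKrullDim (S.presheaf.stalk (S.fromSpecStalk x p)) ≤ 1 :=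
    ringKrullDim_stalk_le_one S V (S.fromSpecStalk x p) hpZ hmaxV
  exact ⟨S.fromSpecStalk x p, ⟨fun h => hpZ (hUV h),
    maximal_of_dim_le_one U hU _ hdim⟩, hpZ, hpx⟩

theorem main (S : Scheme.{u}) [IsNoetherian S] (U : S.Opens) (hU : Dense (U : Set S)) :
    Set.Finite {V : S.Opens | U ≤ V ∧ IsAffineHom V.ι} ∧
      ∃ V₀ : S.Opens, (U ≤ V₀ ∧ IsAffineHom V₀.ι) ∧
        ∀ V : S.Opens, U ≤ V → IsAffineHom V.ι → V₀ ≤ V := by
  classical
  have hinj : Set.InjOn (fun V : S.Opens => (V : Set S)ᶜ ∩ maxPts U)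
      {V : S.Opens | U ≤ V ∧ IsAffineHom V.ι} := by
    have key : ∀ (V V' : S.Opens), V ∈ {V : S.Opens | U ≤ V ∧ IsAffineHom V.ι} →
        (V : Set S)ᶜ ∩ maxPts U = (V' : Set S)ᶜ ∩ maxPts U → V' ≤ V := by
      intro V V' hV hΦ x hxV'
      by_contra hxV
      haveI := hV.2
      obtain ⟨ξ, hξG, hξV, hξx⟩ := exists_maxPt_specializes U V hV.1 hU x hxV
      have h1 : ξ ∈ (V : Set S)ᶜ ∩ maxPts U := ⟨hξV, hξG⟩
      rw [hΦ] at h1
      exact h1.1 (hξx.mem_open V'.isOpen hxV')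
    intro V₁ h₁ V₂ h₂ h12
    exact le_antisymm (key V₂ V₁ h₂ h12.symm) (key V₁ V₂ h₁ h12)
  have hfin : Set.Finite {V : S.Opens | U ≤ V ∧ IsAffineHom V.ι} := by
    apply Set.Finite.of_finite_image _ hinj
    refine (Set.Finite.finite_subsets (finite_maxPts U)).subset ?_
    rintro _ ⟨V, -, rfl⟩
    exact Set.inter_subset_right
  refine ⟨hfin, ?_⟩
  have haff : ∀ 𝒮 : Set S.Opens, 𝒮.Finite → 𝒮 ⊆ {V : S.Opens | U ≤ V ∧ IsAffineHom V.ι} →
      IsAffineHom (sInf 𝒮).ι := by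
    intro 𝒮 h𝒮
    refine Set.Finite.induction_on
      (motive := fun 𝒮 _ => 𝒮 ⊆ {V : S.Opens | U ≤ V ∧ IsAffineHom V.ι} →
        IsAffineHom (sInf 𝒮).ι) 𝒮 h𝒮 ?_ ?_
    · intro _
      rw [sInf_empty]
      exact (affHom_iff ⊤).mpr (fun W hW => by rwa [top_inf_eq])
    · intro a s _ _ ih hsub
      rw [sInf_insert]
      have h1 : IsAffineHom a.ι := (hsub (Set.mem_insert _ _)).2
      have h2 := ih (fun V hV => hsub (Set.mem_insert_of_mem _ hV))
      exact affHom_inf a (sInf s) h1 h2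
  exact ⟨sInf {V : S.Opens | U ≤ V ∧ IsAffineHom V.ι},
    ⟨le_sInf (fun V hV => hV.1), haff _ hfin subset_rfl⟩,
    fun V hV1 hV2 => sInf_le ⟨hV1, hV2⟩⟩

end Groth.Agent.Lib.Helper26.AffOpenFin
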