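import Mathlib
import Groth.Agent.Lib.Helper26.IntegralUnit

set_option autoImplicit false
set_option linter.style.haveILetI false
set_option linter.unusedSectionVars false
universe u
open CategoryTheory CategoryTheory.Limits AlgebraicGeometry TopologicalSpace Opposite

namespace Groth.Agent.Lib.Helper26.IntegralPts

open Groth.Agent.Lib.Helper26.IntegralUnit

theorem locAway_integral (k : Type*) (A : Type*) [Field k] [CommRing A] [Algebra k A]
    [Algebra.IsIntegral k A] (f : A) : Algebra.IsIntegral k (Localization.Away f) := by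
  constructor
  intro x
  obtain ⟨⟨a, ⟨_, n, rfl⟩⟩, hx⟩ := IsLocalization.surj (Submonoid.powers f) x
  have hf' : IsUnit (algebraMap A (Localization.Away f) f) :=
    IsLocalization.Away.algebraMap_isUnit f
  letI := hf'.invertible
  have h1 : IsIntegral k (algebraMap A (Localization.Away f) f) :=
    (Algebra.IsIntegral.isIntegral f).map (IsScalarTower.toAlgHom k A (Localization.Away f))
  have h2 : IsIntegral k (⅟(algebraMap A (Localization.Away f) f)) :=
    isAlgebraic_iff_isIntegral.mp (IsAlgebraic.invOf (isAlgebraic_iff_isIntegral.mpr h1))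
  have h3 : IsIntegral k (algebraMap A (Localization.Away f) a) :=
    (Algebra.IsIntegral.isIntegral a).map (IsScalarTower.toAlgHom k A (Localization.Away f))
  have h4 : x = algebraMap A (Localization.Away f) a *
      (⅟(algebraMap A (Localization.Away f) f)) ^ n := by
    simp only [map_pow] at hx
    rw [← hx, mul_assoc, ← mul_pow, mul_invOf_self, one_pow, mul_one]
  rw [h4]
  exact h3.mul (h2.pow n)

theorem pi_integral (k : Type*) [Field k] {ι : Type*} [Finite ι] (B : ι → Type*)
    [∀ i, CommRing (B i)] [∀ i, Algebra k (B i)] [∀ i, Algebra.IsIntegral k (B i)] :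
    Algebra.IsIntegral k (∀ i, B i) := by
  classical
  haveI := Fintype.ofFinite ι
  constructor
  intro b
  refine ⟨∏ i, minpoly k (b i), Polynomial.monic_prod_of_monic _ _
    (fun i _ => minpoly.monic (Algebra.IsIntegral.isIntegral (b i))), ?_⟩
  change Polynomial.aeval b (∏ i, minpoly k (b i)) = 0
  funext i
  have h1 : (Polynomial.aeval b (∏ i, minpoly k (b i))) i =
      Polynomial.aeval (b i) (∏ i, minpoly k (b i)) :=
    (Polynomial.aeval_algHom_apply (Pi.evalAlgHom k B i) b _).symm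
  rw [h1, ← Finset.mul_prod_erase Finset.univ _ (Finset.mem_univ i), map_mul, minpoly.aeval,
    zero_mul]
  rfl

theorem mem_basicOpen_of_isUnit {T X : Scheme.{u}} (b : T ⟶ X) (U : X.Opens)
    (e : ⊤ ≤ b ⁻¹ᵁ U) (h : Γ(X, U)) (hu : IsUnit ((b.appLE U ⊤ e).hom h)) (t : T) :
    b t ∈ X.basicOpen h := by
  have h1 : b ⁻¹ᵁ X.basicOpen h = T.basicOpen (b.app U h) := Scheme.preimage_basicOpen b h
  have h2 : T.basicOpen ((b.appLE U ⊤ e).hom h) = ⊤ ⊓ T.basicOpen (b.app U h) :=
    Scheme.basicOpen_res _ _ _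
  rw [Scheme.basicOpen_of_isUnit _ hu] at h2
  have h3 : t ∈ T.basicOpen (b.app U h) := by
    have : t ∈ (⊤ : T.Opens) ⊓ T.basicOpen (b.app U h) := h2 ▸ (trivial : t ∈ (⊤ : T.Opens))
    exact this.2
  rw [← h1] at h3
  exact h3

theorem exists_list (k A : Type u) [Field k] [CommRing A] [Algebra k A] [Algebra.IsIntegral k A]
    {X : Scheme.{u}} [QuasiSeparatedSpace X] (g : Spec (CommRingCat.of A) ⟶ X) (U : X.Opens)
    (hU : IsCompact (U : Set X)) (ρ : Γ(X, U)) :
    ∃ l : List ℤ, l ≠ [] ∧ ∀ p, g p ∈ U → g p ∈ X.basicOpen (hval l ρ) := by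
  classical
  have hc : IsCompact (g ⁻¹ᵁ U : Set (Spec (CommRingCat.of A))) := g.isCompact_preimage hU
  obtain ⟨t, ht⟩ := (PrimeSpectrum.isCompact_isOpen_iff (R := A)
    (s := (g ⁻¹ᵁ U : Set (Spec (CommRingCat.of A))))).mp ⟨hc, (g ⁻¹ᵁ U).isOpen⟩
  -- the localisations
  let B : {f // f ∈ t} → Type u := fun i => Localization.Away i.1
  let φ : ∀ i : {f // f ∈ t}, Spec (CommRingCat.of (B i)) ⟶ Spec (CommRingCat.of A) :=
    fun i => Spec.map (CommRingCat.ofHom (algebraMap A (B i)))
  have hφ : ∀ (i : {f // f ∈ t}) (q : Spec (CommRingCat.of (B i))), g (φ i q) ∈ U := by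
    intro i q
    have hr := PrimeSpectrum.localization_away_comap_range (B i) i.1
    have h1 : PrimeSpectrum.comap (algebraMap A (B i)) (q : PrimeSpectrum (B i)) ∈
        (PrimeSpectrum.basicOpen i.1 : Set (PrimeSpectrum A)) :=
      hr ▸ Set.mem_range_self (q : PrimeSpectrum (B i))
    have h2 : PrimeSpectrum.comap (algebraMap A (B i)) (q : PrimeSpectrum (B i)) ∈
        (PrimeSpectrum.zeroLocus (t : Set A))ᶜ := by
      intro hz
      exact h1 (hz i.2)
    rw [ht] at h2
    exact h2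
  have he : ∀ i : {f // f ∈ t}, (⊤ : (Spec (CommRingCat.of (B i))).Opens) ≤ (φ i ≫ g) ⁻¹ᵁ U := by
    intro i q _
    exact hφ i q
  let a : ∀ i : {f // f ∈ t}, B i := fun i =>
    (Scheme.ΓSpecIso (CommRingCat.of (B i))).hom.hom (((φ i ≫ g).appLE U ⊤ (he i)).hom ρ)
  haveI : ∀ i, Algebra.IsIntegral k (B i) := fun i => locAway_integral k A i.1
  haveI := pi_integral k B
  obtain ⟨l, hl, hu⟩ := exists_isUnit_hval k (∀ i, B i) a
  refine ⟨l, hl, ?_⟩
  intro p hp
  have hp' : (p : PrimeSpectrum A) ∈ (PrimeSpectrum.zeroLocus (t : Set A))ᶜ := by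
    rw [ht]
    exact hp
  obtain ⟨f, hft, hfp⟩ : ∃ f ∈ t, f ∉ (p : PrimeSpectrum A).asIdeal := by
    by_contra hcon
    push Not at hcon
    exact hp' (fun f hf => hcon f hf)
  let i : {f // f ∈ t} := ⟨f, hft⟩
  have hpr : (p : PrimeSpectrum A) ∈ Set.range (PrimeSpectrum.comap (algebraMap A (B i))) := by
    rw [PrimeSpectrum.localization_away_comap_range (B i) f]
    exact hfp
  obtain ⟨q, hq⟩ := hpr
  have hui : IsUnit (hval l (a i)) := by
    have := hu.map (Pi.evalRingHom B i)
    rwa [hval_map] at this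
  have hu2 : IsUnit (((φ i ≫ g).appLE U ⊤ (he i)).hom (hval l ρ)) := by
    rw [hval_map]
    have h5 : hval l (a i) = (Scheme.ΓSpecIso (CommRingCat.of (B i))).hom.hom
        (hval l (((φ i ≫ g).appLE U ⊤ (he i)).hom ρ)) := (hval_map _ l _).symm
    rw [h5] at hui
    have h6 := hui.map (Scheme.ΓSpecIso (CommRingCat.of (B i))).inv.hom
    have h7 : ∀ y, (Scheme.ΓSpecIso (CommRingCat.of (B i))).inv.hom
        ((Scheme.ΓSpecIso (CommRingCat.of (B i))).hom.hom y) = y := by
      intro y
      show ((Scheme.ΓSpecIso (CommRingCat.of (B i))).hom ≫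
        (Scheme.ΓSpecIso (CommRingCat.of (B i))).inv).hom y = y
      rw [Iso.hom_inv_id]
      rfl
    rwa [h7] at h6
  have h8 := mem_basicOpen_of_isUnit (φ i ≫ g) U (he i) (hval l ρ) hu2 q
  have h9 : (φ i ≫ g) q = g p := by
    rw [← hq]
    rfl
  rw [h9] at h8
  exact h8

end Groth.Agent.Lib.Helper26.IntegralPts
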