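import Mathlib
import Groth.Agent.Lib.Helper26.TwoChart
import Groth.Agent.Lib.Helper26.IntegralPts

set_option autoImplicit false
set_option linter.style.haveILetI false
set_option linter.unusedSectionVars false
universe u
open CategoryTheory CategoryTheory.Limits AlgebraicGeometry TopologicalSpace Opposite
open Scheme.Modules

namespace Groth.Agent.Lib.Helper26.AmpleIntegral

open Groth.Agent.Lib.Helper3 Groth.Agent.Lib.Helper3.QCSec Groth.Agent.Lib.Helper3.InvGen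
  Groth.Agent.Lib.Helper3.InvTensor Groth.Agent.Lib.Helper3.InvTwist
  Groth.Agent.Lib.Helper3.InvMonoidal Groth.Agent.Lib.Helper3.InvCoh
  Groth.Agent.Lib.Helper3.InvAmple Groth.Agent.Lib.Helper3.InvSum
open Groth.Agent.Lib.Helper26.IntegralUnit Groth.Agent.Lib.Helper26.TwoChart
  Groth.Agent.Lib.Helper26.IntegralPts

variable {X : Scheme.{u}}

theorem genLocus_zero' {M : X.Modules} (hM : PicF.IsInvertible M) :
    CohB1.genLocus M (0 : Coh.structureModule X ⟶ M) = ⊥ := by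
  rw [eq_bot_iff]
  intro x hx
  obtain ⟨V, e, hxV, hg⟩ := exists_isGen hM x
  have h := genLocus_inf_eq_basicOpen (0 : Coh.structureModule X ⟶ M) hg 0
    (by rw [zero_smul]; rfl)
  have h2 : x ∈ X.basicOpen (0 : Γ(X, V)) := h ▸ ⟨hx, hxV⟩
  rw [Scheme.basicOpen_zero] at h2
  exact h2

section Main

variable (L : X.Modules) (hinv : PicF.IsInvertible L) (W : X.Opens)

/-- The affine opens `X_s` inside `W`. -/
def JJ : Set X.Opens := {V | V ∈ SecLocus L ∧ IsAffineOpen V ∧ V ≤ W}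

variable [QuasiSeparatedSpace X]

include hinv in
theorem two_chart (k A : Type u) [Field k] [CommRing A] [Algebra k A] [Algebra.IsIntegral k A]
    (g : Spec (CommRingCat.of A) ⟶ X) {V₁ V₂ : X.Opens} (h₁ : V₁ ∈ JJ L W) (h₂ : V₂ ∈ JJ L W) :
    ∃ V ∈ JJ L W, ∀ p, (g p ∈ V₁ ∨ g p ∈ V₂) → g p ∈ V := by
  obtain ⟨⟨n₁, t₁, rfl⟩, ha₁, hw₁⟩ := h₁
  obtain ⟨⟨n₂, t₂, rfl⟩, ha₂, hw₂⟩ := h₂
  obtain ⟨d, s₁, s₂, hd, hs₁, hs₂⟩ := exists_common_degree hinv t₁ t₂
  rw [← hs₁] at ha₁ hw₁ ⊢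
  rw [← hs₂] at ha₂ hw₂ ⊢
  have hN := isInvertible_tensorPow hinv d
  have hgen := isGen_genLocus s₂
  obtain ⟨ρ, hρ⟩ := hgen.self.exists_coord (sec s₁ (CohB1.genLocus _ s₂))
  obtain ⟨l, hl, hlist⟩ := exists_list k A g (CohB1.genLocus _ s₂) ha₂.isCompact ρ
  obtain ⟨c, l', rfl⟩ : ∃ c l', l = c :: l' := by
    cases l with
    | nil => exact absurd rfl hl
    | cons c l' => exact ⟨c, l', rfl⟩
  refine ⟨CohB1.genLocus _ (H s₁ s₂ (c :: l')), ⟨?_, ?_, ?_⟩, ?_⟩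
  · have h1 : CohB1.genLocus _ (H s₁ s₂ (c :: l') ≫ (powMul L d (l'.length + 1)).hom) =
        CohB1.genLocus _ (H s₁ s₂ (c :: l')) := genLocus_comp_iso _ _
    rw [← h1]
    exact secLocus_of_pos (Nat.mul_pos hd (Nat.succ_pos _)) _
  · exact isAffineOpen_genLocus_H hN s₁ s₂ ha₁ ha₂ c l'
  · exact (genLocus_H_le hN s₁ s₂ c l').trans (sup_le hw₁ hw₂)
  · intro p hp
    by_cases h2 : g p ∈ CohB1.genLocus _ s₂
    · have h3 := hlist p h2
      rw [← genLocus_H_inf hN s₁ s₂ hgen ρ rfl hρ.symm (c :: l')] at h3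
      exact h3.1
    · rcases hp with hp | hp
      · exact mem_genLocus_H_of_left hN s₁ s₂ (g p) hp h2 (c :: l')
      · exact absurd hp h2

include hinv in
theorem finite_charts (k A : Type u) [Field k] [CommRing A] [Algebra k A]
    [Algebra.IsIntegral k A] (g : Spec (CommRingCat.of A) ⟶ X)
    (S : Finset X.Opens) (hS : ∀ V ∈ S, V ∈ JJ L W) :
    ∃ V ∈ JJ L W, ∀ V' ∈ S, ∀ p, g p ∈ V' → g p ∈ V := by
  classical
  induction S using Finset.induction_on with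
  | empty =>
    refine ⟨⊥, ⟨?_, isAffineOpen_bot X, bot_le⟩, fun V' hV' => absurd hV' (Finset.notMem_empty _)⟩
    rw [← genLocus_zero' (isInvertible_tensorPow hinv 1)]
    exact secLocus_of_pos Nat.one_pos _
  | insert V₂ S hV₂ ih =>
    obtain ⟨V₁, hV₁, h1⟩ := ih (fun V hV => hS V (Finset.mem_insert_of_mem hV))
    obtain ⟨V, hV, h2⟩ := two_chart L hinv W k A g hV₁ (hS V₂ (Finset.mem_insert_self _ _))
    refine ⟨V, hV, ?_⟩
    intro V' hV' p hp
    rcases Finset.mem_insert.mp hV' with rfl | hV'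
    · exact h2 p (Or.inr hp)
    · exact h2 p (Or.inl (h1 V' hV' p hp))

end Main

theorem main (L : X.Modules) (hL : CohB1.IsAmple L)
    (k A : Type u) [Field k] [CommRing A] [Algebra k A] [Algebra.IsIntegral k A]
    (W : X.Opens) (g : Spec (CommRingCat.of A) ⟶ X) (hg : Set.range g.base ⊆ (W : Set X)) :
    ∃ (n : ℕ) (s : Coh.structureModule X ⟶ CohB1.tensorPow L (n + 1)),
      IsAffineOpen (CohB1.genLocus _ s) ∧ CohB1.genLocus _ s ≤ W ∧
        Set.range g.base ⊆ (CohB1.genLocus _ s : Set X) := by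
  classical
  have hinv : PicF.IsInvertible L := hL.1
  haveI : CompactSpace X := hL.2.1
  haveI : X.IsSeparated := isSeparated_of_secLocus_cover hinv (fun x => by
    obtain ⟨n, s, hx, ha⟩ := hL.2.2 x
    exact ⟨_, ⟨n, s, rfl⟩, hx, ha⟩)
  haveI : QuasiSeparatedSpace X := inferInstance
  have hnb : ∀ p : Spec (CommRingCat.of A), ∃ V ∈ SecLocus L, g p ∈ V ∧ V ≤ W ∧ IsAffineOpen V :=
    fun p => exists_secLocus_nbhd hL (g p) W (hg ⟨p, rfl⟩)
  choose V hVsec hpV hVW hVaff using hnb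
  let Uf : Spec (CommRingCat.of A) → Set (Spec (CommRingCat.of A)) :=
    fun p => ((g ⁻¹ᵁ V p : (Spec (CommRingCat.of A)).Opens) : Set (Spec (CommRingCat.of A)))
  have hUo : ∀ p, IsOpen (Uf p) := fun p => (g ⁻¹ᵁ V p).isOpen
  have hUc : (Set.univ : Set (Spec (CommRingCat.of A))) ⊆ ⋃ p, Uf p :=
    fun p _ => Set.mem_iUnion.mpr ⟨p, hpV p⟩
  obtain ⟨T, hT⟩ := isCompact_univ.elim_finite_subcover Uf hUo hUc
  obtain ⟨V₀, ⟨⟨n, s, rfl⟩, ha, hw⟩, hcov⟩ := finite_charts L hinv W k A g (T.image V)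
    (fun V' hV' => by
      obtain ⟨p, -, rfl⟩ := Finset.mem_image.mp hV'
      exact ⟨hVsec p, hVaff p, hVW p⟩)
  refine ⟨n, s, ha, hw, ?_⟩
  rintro _ ⟨p, rfl⟩
  obtain ⟨q, hq, hpq⟩ := Set.mem_iUnion₂.mp (hT (Set.mem_univ p))
  exact hcov (V q) (Finset.mem_image_of_mem V hq) p hpq

end Groth.Agent.Lib.Helper26.AmpleIntegral
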