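import Mathlib
import Groth.Prelude.Def_CohB1
import Groth.Agent.Lib.Helper3.PbBasic
import Groth.Agent.Lib.Helper3.PbTensor
import Groth.Agent.Lib.Helper3.InvAmple
import Groth.Agent.Lib.Helper3.InvCoh
import Groth.Agent.Lib.Helper17.FlatStructure
import Groth.Agent.S4811

/-!
# Ampleness descends to a stage of a cofiltered limit with affine transition maps
-/

set_option autoImplicit false
set_option linter.style.haveILetI false
universe u
open CategoryTheory CategoryTheory.Limits AlgebraicGeometry TopologicalSpace Opposite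
open Scheme.Modules

namespace Groth.Agent.Lib.Helper26.AmpleLim

open Groth.Agent.Lib.Helper3 Groth.Agent.Lib.Helper3.InvGen Groth.Agent.Lib.Helper3.InvTensor
  Groth.Agent.Lib.Helper3.InvAmple Groth.Agent.Lib.Helper3.PbBasic Groth.Agent.Lib.Helper3.PbTensor

variable {X Y Z : Scheme.{u}}

/-- `X_s` is quasi-compact in a quasi-compact scheme. -/
theorem isCompact_genLocus [CompactSpace X] {L : X.Modules} (hL : PicF.IsInvertible L)
    (s : Coh.structureModule X ⟶ L) : IsCompact (CohB1.genLocus L s : Set X) := by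
  obtain ⟨S, hS, hU⟩ := (isCompact_and_isOpen_iff_finite_and_eq_biUnion_affineOpens (U := (Set.univ : Set X))).mp
    ⟨isCompact_univ, isOpen_univ⟩
  have h : (CohB1.genLocus L s : Set X) =
      ⋃ i ∈ S, ((CohB1.genLocus L s ⊓ (i : X.Opens) : X.Opens) : Set X) := by
    ext x
    simp only [Set.mem_iUnion, Opens.coe_inf, Set.mem_inter_iff, SetLike.mem_coe, exists_prop]
    constructor
    · intro hx
      have hx' : x ∈ (Set.univ : Set X) := Set.mem_univ x
      rw [hU] at hx'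
      simp only [Set.mem_iUnion, exists_prop] at hx'
      obtain ⟨i, hi, hxi⟩ := hx'
      exact ⟨i, hi, hx, hxi⟩
    · rintro ⟨i, _, hx, _⟩
      exact hx
  rw [h]
  exact hS.isCompact_biUnion (fun i _ => (isAffineOpen_genLocus_inf hL s i.2).isCompact)

/-- transport of a section of `h^* M` along `g`, landing in `k^* M` for `k = g ≫ h`. -/
noncomputable def transport (g : X ⟶ Y) (h : Y ⟶ Z) (k : X ⟶ Z) (e : g ≫ h = k) {M : Z.Modules}
    (t : Coh.structureModule Y ⟶ (Scheme.Modules.pullback h).obj M) :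
    Coh.structureModule X ⟶ (Scheme.Modules.pullback k).obj M :=
  pullHom g t ≫ ((Scheme.Modules.pullbackComp g h).app M).hom ≫
    ((Scheme.Modules.pullbackCongr e).app M).hom

theorem genLocus_transport (g : X ⟶ Y) (h : Y ⟶ Z) (k : X ⟶ Z) (e : g ≫ h = k) {M : Z.Modules}
    (hM : PicF.IsInvertible M)
    (t : Coh.structureModule Y ⟶ (Scheme.Modules.pullback h).obj M) :
    CohB1.genLocus _ (transport g h k e t) = g ⁻¹ᵁ CohB1.genLocus _ t := by
  unfold transport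
  rw [genLocus_comp_iso, genLocus_pullHom g (isInvertible_pullback h hM) t]

section Limit

variable {I : Type u} [SmallCategory I] [IsCofiltered I]
  (D : I ⥤ Scheme.{u}) (c : Limits.Cone D) (hc : Limits.IsLimit c)
  [∀ (i j : I) (f : i ⟶ j), IsAffineHom (D.map f)] [∀ i, CompactSpace (D.obj i)]
  [∀ i, QuasiSeparatedSpace (D.obj i)] (i₀ : I) (L₀ : (D.obj i₀).Modules)
  (hL₀ : PicF.IsInvertible L₀)

include hc hL₀ in
/-- a section of `(π^* L₀)^{n+1}` on the limit descends to a stage, compatibly with `X_s`. -/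
theorem exists_descent (n : ℕ)
    (s : Coh.structureModule c.pt ⟶
      CohB1.tensorPow ((Scheme.Modules.pullback (c.π.app i₀)).obj L₀) (n + 1)) :
    ∃ (j : I) (φ : j ⟶ i₀) (t : Coh.structureModule (D.obj j) ⟶
        (Scheme.Modules.pullback (D.map φ)).obj (CohB1.tensorPow L₀ (n + 1))),
      c.π.app j ⁻¹ᵁ CohB1.genLocus _ t = CohB1.genLocus _ s := by
  have hM₀ : PicF.IsInvertible (CohB1.tensorPow L₀ (n + 1)) := isInvertible_tensorPow hL₀ (n + 1)
  haveI : Coh.IsQCoh (CohB1.tensorPow L₀ (n + 1)) := InvCoh.isQuasicoherent_of_isInvertible hM₀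
  obtain ⟨j, φ, hj, hEq⟩ := Groth.Agent.S4811.result D c hc i₀ (Coh.structureModule (D.obj i₀))
    (CohB1.tensorPow L₀ (n + 1))
    Groth.Agent.Lib.Helper17.FlatStructure.isFinitePresentation_structureModule
    ((pbUnit (c.π.app i₀)).hom ≫ s ≫ (pbPowIso (c.π.app i₀) L₀ hL₀ (n + 1)).inv)
  refine ⟨j, φ, (pbUnit (D.map φ)).inv ≫ hj, ?_⟩
  rw [← genLocus_pullHom (c.π.app j) (isInvertible_pullback (D.map φ) hM₀)]
  set A := (Scheme.Modules.pullbackComp (c.π.app j) (D.map φ) ≪≫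
    Scheme.Modules.pullbackCongr (c.w φ)).app (Coh.structureModule (D.obj i₀)) with hA
  set B := (Scheme.Modules.pullbackComp (c.π.app j) (D.map φ) ≪≫
    Scheme.Modules.pullbackCongr (c.w φ)).app (CohB1.tensorPow L₀ (n + 1)) with hB
  have h1 : (Scheme.Modules.pullback (c.π.app j)).map hj =
      A.hom ≫ ((pbUnit (c.π.app i₀)).hom ≫ s ≫
        (pbPowIso (c.π.app i₀) L₀ hL₀ (n + 1)).inv) ≫ B.inv := by
    rw [← hEq]
    simp
  have h2 : pullHom (c.π.app j) ((pbUnit (D.map φ)).inv ≫ hj) =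
      ((pbUnit (c.π.app j)).inv ≫
        (Scheme.Modules.pullback (c.π.app j)).map (pbUnit (D.map φ)).inv ≫ A.hom ≫
          (pbUnit (c.π.app i₀)).hom) ≫ s ≫
        ((pbPowIso (c.π.app i₀) L₀ hL₀ (n + 1)).inv ≫ B.inv) := by
    unfold pullHom
    rw [Functor.map_comp, h1]
    simp only [Category.assoc]
  rw [h2, genLocus_iso_comp, genLocus_comp_iso]

/-- the open `U` of the limit is cut out, at stage `(k, ψ)`, by an affine `X_t`. -/
def Good (k : I) (ψ : k ⟶ i₀) (U : c.pt.Opens) : Prop :=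
  ∃ (n : ℕ) (t : Coh.structureModule (D.obj k) ⟶
      (Scheme.Modules.pullback (D.map ψ)).obj (CohB1.tensorPow L₀ (n + 1))),
    IsAffineOpen (CohB1.genLocus _ t) ∧ c.π.app k ⁻¹ᵁ CohB1.genLocus _ t = U

include hL₀ in
theorem Good.mono {k : I} {ψ : k ⟶ i₀} {U : c.pt.Opens} (h : Good D c i₀ L₀ k ψ U)
    {k' : I} (χ : k' ⟶ k) (ψ' : k' ⟶ i₀) (e : χ ≫ ψ = ψ') : Good D c i₀ L₀ k' ψ' U := by
  subst e
  obtain ⟨n, t, haff, hU⟩ := h
  have hM₀ : PicF.IsInvertible (CohB1.tensorPow L₀ (n + 1)) := isInvertible_tensorPow hL₀ (n + 1)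
  refine ⟨n, transport (D.map χ) (D.map ψ) (D.map (χ ≫ ψ)) (D.map_comp χ ψ).symm t, ?_, ?_⟩
  · rw [genLocus_transport _ _ _ _ hM₀]
    exact haff.preimage (D.map χ)
  · rw [genLocus_transport _ _ _ _ hM₀, ← Scheme.Hom.comp_preimage, c.w]
    exact hU

include hc hL₀ in
/-- an affine `X_s` in the limit is cut out at some stage by an affine `X_t`. -/
theorem exists_good (n : ℕ)
    (s : Coh.structureModule c.pt ⟶
      CohB1.tensorPow ((Scheme.Modules.pullback (c.π.app i₀)).obj L₀) (n + 1))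
    (haff : IsAffineOpen (CohB1.genLocus _ s)) :
    ∃ (k : I) (ψ : k ⟶ i₀), Good D c i₀ L₀ k ψ (CohB1.genLocus _ s) := by
  have hM₀ : PicF.IsInvertible (CohB1.tensorPow L₀ (n + 1)) := isInvertible_tensorPow hL₀ (n + 1)
  obtain ⟨j, φ, t, ht⟩ := exists_descent D c hc i₀ L₀ hL₀ n s
  obtain ⟨j', V', hV', hV's⟩ := exists_isAffineOpen_preimage_eq D c hc (CohB1.genLocus _ s) haff
  let a : IsCofiltered.min j j' ⟶ j := IsCofiltered.minToLeft j j'
  let b : IsCofiltered.min j j' ⟶ j' := IsCofiltered.minToRight j j'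
  have hW₁ : IsCompact ((D.map a ⁻¹ᵁ CohB1.genLocus _ t : (D.obj (IsCofiltered.min j j')).Opens) :
      Set (D.obj (IsCofiltered.min j j'))) := by
    rw [← genLocus_transport (D.map a) (D.map φ) (D.map (a ≫ φ)) (D.map_comp a φ).symm hM₀ t]
    exact isCompact_genLocus (isInvertible_pullback _ hM₀) _
  have hW₂ : IsCompact ((D.map b ⁻¹ᵁ V' : (D.obj (IsCofiltered.min j j')).Opens) :
      Set (D.obj (IsCofiltered.min j j'))) := (hV'.preimage (D.map b)).isCompact
  have H : c.π.app (IsCofiltered.min j j') ⁻¹ᵁ (D.map a ⁻¹ᵁ CohB1.genLocus _ t) =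
      c.π.app (IsCofiltered.min j j') ⁻¹ᵁ (D.map b ⁻¹ᵁ V') := by
    rw [← Scheme.Hom.comp_preimage, ← Scheme.Hom.comp_preimage, c.w, c.w, ht, hV's]
  obtain ⟨m, e, he⟩ := exists_map_preimage_eq_map_preimage D c hc hW₁ hW₂ H
  refine ⟨m, (e ≫ a) ≫ φ, n,
    transport (D.map (e ≫ a)) (D.map φ) (D.map ((e ≫ a) ≫ φ)) (D.map_comp _ φ).symm t, ?_, ?_⟩
  · rw [genLocus_transport _ _ _ _ hM₀, D.map_comp, Scheme.Hom.comp_preimage, he,
      ← Scheme.Hom.comp_preimage, ← D.map_comp]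
    exact hV'.preimage (D.map (e ≫ b))
  · rw [genLocus_transport _ _ _ _ hM₀, ← Scheme.Hom.comp_preimage, c.w]
    exact ht

include hL₀ in
theorem exists_common_stage (F : Finset c.pt.Opens)
    (hF : ∀ U ∈ F, ∃ (k : I) (ψ : k ⟶ i₀), Good D c i₀ L₀ k ψ U) :
    ∃ (k : I) (ψ : k ⟶ i₀), ∀ U ∈ F, Good D c i₀ L₀ k ψ U := by
  classical
  induction F using Finset.induction_on with
  | empty => exact ⟨i₀, 𝟙 i₀, fun U hU => absurd hU (Finset.notMem_empty U)⟩
  | insert U F hUF ih =>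
    obtain ⟨k₁, ψ₁, h₁⟩ := ih (fun U' hU' => hF U' (Finset.mem_insert_of_mem hU'))
    obtain ⟨k₂, ψ₂, h₂⟩ := hF U (Finset.mem_insert_self U F)
    let a : IsCofiltered.min k₁ k₂ ⟶ k₁ := IsCofiltered.minToLeft k₁ k₂
    let b : IsCofiltered.min k₁ k₂ ⟶ k₂ := IsCofiltered.minToRight k₁ k₂
    let q := IsCofiltered.eqHom (a ≫ ψ₁) (b ≫ ψ₂)
    have hq : q ≫ (a ≫ ψ₁) = q ≫ (b ≫ ψ₂) := IsCofiltered.eq_condition _ _
    refine ⟨_, q ≫ a ≫ ψ₁, fun U' hU' => ?_⟩
    rcases Finset.mem_insert.mp hU' with rfl | hU'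
    · exact Good.mono D c i₀ L₀ hL₀ h₂ (q ≫ b) _ (by rw [Category.assoc]; exact hq.symm)
    · exact Good.mono D c i₀ L₀ hL₀ (h₁ U' hU') (q ≫ a) _ (by rw [Category.assoc])

include hc hL₀ in
/-- If the pullback of `L₀` to the limit is ample, so is its pullback to some stage. -/
theorem main (h : CohB1.IsAmple ((Scheme.Modules.pullback (c.π.app i₀)).obj L₀)) :
    ∃ (i : I) (φ : i ⟶ i₀), CohB1.IsAmple ((Scheme.Modules.pullback (D.map φ)).obj L₀) := by
  classical
  obtain ⟨-, hcomp, hpt⟩ := h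
  haveI := hcomp
  choose n s hxs haff using hpt
  obtain ⟨T, hT⟩ := CompactSpace.elim_nhds_subcover
    (fun x => ((show c.pt.Opens from CohB1.genLocus _ (s x)) : Set c.pt))
    (fun x => (show c.pt.Opens from CohB1.genLocus _ (s x)).2.mem_nhds (hxs x))
  obtain ⟨k, ψ, hk⟩ := exists_common_stage D c i₀ L₀ hL₀ (T.image (fun x => CohB1.genLocus _ (s x)))
    (fun U hU => by
      obtain ⟨x, -, rfl⟩ := Finset.mem_image.mp hU
      exact exists_good D c hc i₀ L₀ hL₀ (n x) (s x) (haff x))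
  let W : (D.obj k).Opens := sSup {W' | ∃ (n : ℕ) (t : Coh.structureModule (D.obj k) ⟶
      (Scheme.Modules.pullback (D.map ψ)).obj (CohB1.tensorPow L₀ (n + 1))),
    W' = CohB1.genLocus _ t ∧ IsAffineOpen W'}
  have hW : c.π.app k ⁻¹ᵁ W = ⊤ := by
    rw [eq_top_iff]
    intro x _
    have hx : x ∈ ⋃ y ∈ T, ((show c.pt.Opens from CohB1.genLocus _ (s y)) : Set c.pt) :=
      hT ▸ Set.mem_univ x
    simp only [Set.mem_iUnion, exists_prop] at hx
    obtain ⟨y, hyT, hxy⟩ := hx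
    obtain ⟨n', t, htaff, htU⟩ := hk _ (Finset.mem_image_of_mem _ hyT)
    have hx' : x ∈ c.π.app k ⁻¹ᵁ CohB1.genLocus _ t := by rw [htU]; exact hxy
    exact (le_sSup (a := CohB1.genLocus _ t) ⟨n', t, rfl, htaff⟩ : _ ≤ W) hx'
  obtain ⟨k', χ, hχ⟩ := exists_map_eq_top D c hc W hW
  refine ⟨k', χ ≫ ψ, isInvertible_pullback _ hL₀, inferInstance, fun y => ?_⟩
  have hy : (D.map χ) y ∈ W := by
    have : y ∈ D.map χ ⁻¹ᵁ W := by rw [hχ]; trivial
    exact this
  obtain ⟨W', ⟨n', t, rfl, htaff⟩, hyW'⟩ := Opens.mem_sSup.mp hy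
  have hM₀ : PicF.IsInvertible (CohB1.tensorPow L₀ (n' + 1)) :=
    isInvertible_tensorPow hL₀ (n' + 1)
  refine ⟨n', transport (D.map χ) (D.map ψ) (D.map (χ ≫ ψ)) (D.map_comp χ ψ).symm t ≫
    (pbPowIso (D.map (χ ≫ ψ)) L₀ hL₀ (n' + 1)).hom, ?_, ?_⟩
  · rw [genLocus_comp_iso, genLocus_transport _ _ _ _ hM₀]
    exact hyW'
  · rw [genLocus_comp_iso, genLocus_transport _ _ _ _ hM₀]
    exact htaff.preimage (D.map χ)

end Limit

end Groth.Agent.Lib.Helper26.AmpleLim
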