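import Mathlib
import Groth.Prelude.Def_CohB1
import Groth.Prelude.Def_LCI2
import Groth.Agent.Lib.Helper26.AmpleLim
import Groth.Agent.Lib.Helper12.PbDiag
import Groth.Agent.Lib.Helper3.RelAmpleLib
import Groth.Agent.Lib.Helper3.AmpleQA

/-!
# Relative ampleness in cofiltered limits (EGA IV 8.10.5, ample case)
-/

set_option autoImplicit false
set_option linter.style.haveILetI false
universe u
open CategoryTheory CategoryTheory.Limits AlgebraicGeometry TopologicalSpace Opposite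
open Scheme.Modules

namespace Groth.Agent.Lib.Helper26.AmpleLimRel

open Groth.Agent.Lib.Helper3 Groth.Agent.Lib.Helper3.InvGen Groth.Agent.Lib.Helper3.InvTensor
  Groth.Agent.Lib.Helper3.InvAmple Groth.Agent.Lib.Helper3.PbBasic
  Groth.Agent.Lib.Helper3.RelAmpleLib Groth.Agent.Lib.Helper12.PbDiag

variable {X Y Z : Scheme.{u}}

/-- the pullback of an ample module along an affine morphism is ample -/
theorem isAmple_pullback_of_isAffineHom (g : X ⟶ Y) [IsAffineHom g] {L : Y.Modules}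
    (hL : CohB1.IsAmple L) : CohB1.IsAmple ((Scheme.Modules.pullback g).obj L) := by
  haveI : CompactSpace Y := hL.2.1
  haveI : CompactSpace X := QuasiCompact.compactSpace_of_compactSpace g
  refine AmpleQA.isAmple_pullback_of_quasiAffine g hL (fun A hA => ?_)
  haveI : IsAffine ((g ⁻¹ᵁ A : X.Opens) : Scheme.{u}) := hA.preimage g
  infer_instance

theorem isAmple_restrict_iff_pullback {U : Scheme.{u}} (j : U ⟶ X) [IsOpenImmersion j]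
    (L : X.Modules) :
    CohB1.IsAmple (L.restrict j) ↔ CohB1.IsAmple ((Scheme.Modules.pullback j).obj L) :=
  ⟨isAmple_of_iso ((Scheme.Modules.restrictFunctorIsoPullback j).app L),
    isAmple_of_iso ((Scheme.Modules.restrictFunctorIsoPullback j).app L).symm⟩

theorem isAmple_pullback_comp_iff (a : X ⟶ Y) (b : Y ⟶ Z) (M : Z.Modules) :
    CohB1.IsAmple ((Scheme.Modules.pullback a).obj ((Scheme.Modules.pullback b).obj M)) ↔
      CohB1.IsAmple ((Scheme.Modules.pullback (a ≫ b)).obj M) :=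
  ⟨isAmple_of_iso ((Scheme.Modules.pullbackComp a b).app M),
    isAmple_of_iso ((Scheme.Modules.pullbackComp a b).app M).symm⟩

theorem isAmple_pullback_congr {f g : X ⟶ Y} (e : f = g) (M : Y.Modules) :
    CohB1.IsAmple ((Scheme.Modules.pullback f).obj M) ↔
      CohB1.IsAmple ((Scheme.Modules.pullback g).obj M) := by
  subst e
  rfl

/-- two-step pullbacks along a commutative square have the same ampleness -/
theorem isAmple_pullback_square_iff {Y' : Scheme.{u}} (a : X ⟶ Y) (b : Y ⟶ Z) (a' : X ⟶ Y')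
    (b' : Y' ⟶ Z) (w : a ≫ b = a' ≫ b') (M : Z.Modules) :
    CohB1.IsAmple ((Scheme.Modules.pullback a).obj ((Scheme.Modules.pullback b).obj M)) ↔
      CohB1.IsAmple ((Scheme.Modules.pullback a').obj ((Scheme.Modules.pullback b').obj M)) := by
  rw [isAmple_pullback_comp_iff, isAmple_pullback_comp_iff, isAmple_pullback_congr w]

/-- ampleness on an open passes to the preimage open along an affine morphism of opens -/
theorem isAmple_restrict_of_affine_square {X' U U' : Scheme.{u}} (r : X ⟶ X') (j : U ⟶ X)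
    (j' : U' ⟶ X') [IsOpenImmersion j] [IsOpenImmersion j'] (r' : U ⟶ U') [IsAffineHom r']
    (w : r' ≫ j' = j ≫ r) (M : X'.Modules) (hA : CohB1.IsAmple (M.restrict j')) :
    CohB1.IsAmple (((Scheme.Modules.pullback r).obj M).restrict j) := by
  rw [isAmple_restrict_iff_pullback] at hA ⊢
  rw [isAmple_pullback_square_iff j r r' j' w.symm]
  exact isAmple_pullback_of_isAffineHom r' hA

theorem range_snd_of_isPullback {A B C E : Scheme.{u}} {a : A ⟶ B} {b : A ⟶ C} {f : B ⟶ E}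
    {g : C ⟶ E} (h : IsPullback a b f g) : Set.range b = g ⁻¹' Set.range f := by
  rw [← Scheme.Pullback.range_snd, ← h.isoPullback_hom_snd]
  have hsurj : Function.Surjective h.isoPullback.hom :=
    (Scheme.homeoOfIso h.isoPullback).surjective
  ext x
  constructor
  · rintro ⟨z, rfl⟩
    exact ⟨h.isoPullback.hom z, (Scheme.Hom.comp_apply _ _ z).symm⟩
  · rintro ⟨w, rfl⟩
    obtain ⟨z, rfl⟩ := hsurj w
    exact ⟨z, Scheme.Hom.comp_apply _ _ z⟩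

theorem isRelAmple_of_iso (f : X ⟶ Y) {L M : X.Modules} (e : L ≅ M)
    (h : RelAmple.IsRelAmple f L) : RelAmple.IsRelAmple f M :=
  ⟨h.1, fun V => isAmple_of_iso ((Scheme.Modules.restrictFunctor _).mapIso e) (h.2 V)⟩

/-- relative ampleness is stable under affine base change -/
theorem isRelAmple_baseChange_of_isAffineHom {X' Y' : Scheme.{u}} {r : X ⟶ X'} {f : X ⟶ Y}
    {f' : X' ⟶ Y'} {ρ : Y ⟶ Y'} (sq : IsPullback r f f' ρ) [IsAffineHom ρ] (M : X'.Modules)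
    (h : RelAmple.IsRelAmple f' M) :
    RelAmple.IsRelAmple f ((Scheme.Modules.pullback r).obj M) := by
  haveI : QuasiCompact f' := h.1
  haveI : QuasiCompact f := MorphismProperty.of_isPullback sq ‹QuasiCompact f'›
  haveI : IsAffineHom r := MorphismProperty.of_isPullback sq.flip ‹IsAffineHom ρ›
  rw [isRelAmple_iff_of_openCover f _ (fun V : Y'.affineOpens => ρ ⁻¹ᵁ V.1)
    (by rw [← Scheme.Hom.preimage_iSup, iSup_affineOpens_eq_top]; rfl)]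
  intro V
  haveI : IsAffine ((ρ ⁻¹ᵁ V.1 : Y.Opens) : Scheme.{u}) := V.2.preimage ρ
  rw [isRelAmple_iff_isAmple_of_isAffine]
  haveI : IsAffineHom (r ∣_ (f' ⁻¹ᵁ V.1)) :=
    MorphismProperty.of_isPullback (isPullback_morphismRestrict r (f' ⁻¹ᵁ V.1)).flip
      ‹IsAffineHom r›
  have h1 := isAmple_restrict_of_affine_square r (r ⁻¹ᵁ (f' ⁻¹ᵁ V.1)).ι (f' ⁻¹ᵁ V.1).ι
    (r ∣_ (f' ⁻¹ᵁ V.1)) (isPullback_morphismRestrict r (f' ⁻¹ᵁ V.1)).w M (h.2 V)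
  refine isAmple_restrict_of_opensRange_eq _ _ ?_ _ h1
  rw [Scheme.Opens.opensRange_ι, Scheme.Opens.opensRange_ι, ← Scheme.Hom.comp_preimage,
    ← Scheme.Hom.comp_preimage, sq.w]

section Limit

variable {I : Type u} [SmallCategory I] [IsCofiltered I]
  (D : I ⥤ Scheme.{u}) (c : Limits.Cone D) (hc : Limits.IsLimit c)
  [∀ (i j : I) (f : i ⟶ j), IsAffineHom (D.map f)] (i₀ : I)
  {X₀ Y₀ : Scheme.{u}} (f₀ : X₀ ⟶ Y₀) (g₀ : Y₀ ⟶ D.obj i₀)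
  (L₀ : X₀.Modules)
  {X Y : Scheme.{u}} (f : X ⟶ Y) (g : Y ⟶ c.pt) (qY : Y ⟶ Y₀) (qX : X ⟶ X₀)
  (hY : IsPullback qY g g₀ (c.π.app i₀)) (hX : IsPullback qX f f₀ qY)

include hc hY hX in
/-- relative ampleness at a stage implies relative ampleness on the limit -/
theorem of_stage {j : I} (φ : j ⟶ i₀) {Xj Yj : Scheme.{u}} (fj : Xj ⟶ Yj) (gj : Yj ⟶ D.obj j)
    (pY : Yj ⟶ Y₀) (pX : Xj ⟶ X₀)
    (hYj : IsPullback pY gj g₀ (D.map φ)) (hXj : IsPullback pX fj f₀ pY)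
    (h : RelAmple.IsRelAmple fj ((Scheme.Modules.pullback pX).obj L₀)) :
    RelAmple.IsRelAmple f ((Scheme.Modules.pullback qX).obj L₀) := by
  haveI : ∀ {i j : I} (f : i ⟶ j), IsAffineHom (D.map f) := fun f => inferInstance
  haveI : IsAffineHom (c.π.app j) := isAffineHom_π_app D c hc j
  have e1 : qY ≫ g₀ = (g ≫ c.π.app j) ≫ D.map φ := by
    rw [Category.assoc, c.w φ]
    exact hY.w
  let ρ : Y ⟶ Yj := hYj.lift qY (g ≫ c.π.app j) e1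
  have hρ1 : ρ ≫ pY = qY := hYj.lift_fst _ _ _
  have hρ2 : ρ ≫ gj = g ≫ c.π.app j := hYj.lift_snd _ _ _
  have sqY : IsPullback ρ g gj (c.π.app j) := by
    refine IsPullback.of_right ?_ hρ2 hYj
    rw [hρ1, c.w φ]
    exact hY
  haveI : IsAffineHom ρ := MorphismProperty.of_isPullback sqY.flip ‹IsAffineHom (c.π.app j)›
  have e2 : qX ≫ f₀ = (f ≫ ρ) ≫ pY := by
    rw [Category.assoc, hρ1]
    exact hX.w
  let r : X ⟶ Xj := hXj.lift qX (f ≫ ρ) e2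
  have hr1 : r ≫ pX = qX := hXj.lift_fst _ _ _
  have hr2 : r ≫ fj = f ≫ ρ := hXj.lift_snd _ _ _
  have sqX : IsPullback r f fj ρ := by
    refine IsPullback.of_right ?_ hr2 hXj
    rw [hr1, hρ1]
    exact hX
  have h1 := isRelAmple_baseChange_of_isAffineHom sqX _ h
  exact isRelAmple_of_iso f ((Scheme.Modules.pullbackComp r pX).app L₀ ≪≫
    (Scheme.Modules.pullbackCongr hr1).app L₀) h1

variable [CompactSpace (D.obj i₀)] [QuasiCompact g₀] [QuasiSeparated g₀]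
  [QuasiCompact (f₀ ≫ g₀)] [QuasiSeparated (f₀ ≫ g₀)] (hL₀ : PicF.IsInvertible L₀)

include hc hY hX hL₀ in
/-- over an affine open `V₀` of `Y₀`, ampleness of the restriction descends to a stage -/
theorem exists_stage_affine (V₀ : Y₀.affineOpens)
    (hrel : RelAmple.IsRelAmple f ((Scheme.Modules.pullback qX).obj L₀)) :
    ∃ j : Over i₀, CohB1.IsAmple
      ((Scheme.Modules.pullback
        (pullback.fst ((f₀ ⁻¹ᵁ V₀.1).ι ≫ f₀ ≫ g₀) (D.map j.hom))).obj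
        ((Scheme.Modules.pullback (f₀ ⁻¹ᵁ V₀.1).ι).obj L₀)) := by
  haveI hD : ∀ {i j : I} (f : i ⟶ j), IsAffineHom (D.map f) := fun f => inferInstance
  haveI : QuasiCompact f₀ := QuasiCompact.of_comp f₀ g₀
  haveI : QuasiSeparated f₀ := QuasiSeparated.of_comp f₀ g₀
  haveI : IsAffine ((V₀.1 : Y₀.Opens) : Scheme.{u}) := V₀.2
  haveI : CompactSpace ((f₀ ⁻¹ᵁ V₀.1 : X₀.Opens) : Scheme.{u}) :=
    QuasiCompact.compactSpace_of_compactSpace (f₀ ∣_ V₀.1)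
  haveI : QuasiSeparatedSpace ((f₀ ⁻¹ᵁ V₀.1 : X₀.Opens) : Scheme.{u}) :=
    quasiSeparatedSpace_of_quasiSeparated (f₀ ∣_ V₀.1)
  have hZ : IsPullback (qX ∣_ (f₀ ⁻¹ᵁ V₀.1)) ((qX ⁻¹ᵁ (f₀ ⁻¹ᵁ V₀.1)).ι ≫ f ≫ g)
      ((f₀ ⁻¹ᵁ V₀.1).ι ≫ f₀ ≫ g₀) (c.π.app i₀) :=
    (isPullback_morphismRestrict qX (f₀ ⁻¹ᵁ V₀.1)).paste_vert (hX.paste_vert hY)
  have hc' : IsLimit (pbCone c _ _ hZ) := isLimitPbCone c hc _ _ hZ
  have hL₀' : PicF.IsInvertible ((Scheme.Modules.pullback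
      (pullback.fst ((f₀ ⁻¹ᵁ V₀.1).ι ≫ f₀ ≫ g₀) (D.map (Over.mk (𝟙 i₀)).hom))).obj
        ((Scheme.Modules.pullback (f₀ ⁻¹ᵁ V₀.1).ι).obj L₀)) :=
    isInvertible_pullback _ (isInvertible_pullback _ hL₀)
  haveI : IsAffineHom (c.π.app i₀) := isAffineHom_π_app D c hc i₀
  haveI : IsAffineHom qY := MorphismProperty.of_isPullback hY.flip ‹IsAffineHom (c.π.app i₀)›
  have hV : IsAffineOpen (qY ⁻¹ᵁ V₀.1) := V₀.2.preimage qY
  have h1 : CohB1.IsAmple (((Scheme.Modules.pullback qX).obj L₀).restrict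
      (f ⁻¹ᵁ (qY ⁻¹ᵁ V₀.1)).ι) := hrel.2 ⟨_, hV⟩
  have h2 : CohB1.IsAmple (((Scheme.Modules.pullback qX).obj L₀).restrict
      (qX ⁻¹ᵁ (f₀ ⁻¹ᵁ V₀.1)).ι) := by
    refine isAmple_restrict_of_opensRange_eq _ _ ?_ _ h1
    rw [Scheme.Opens.opensRange_ι, Scheme.Opens.opensRange_ι, ← Scheme.Hom.comp_preimage,
      ← Scheme.Hom.comp_preimage, hX.w]
  have e3 : (pbCone c _ _ hZ).π.app (Over.mk (𝟙 i₀)) ≫
      pullback.fst ((f₀ ⁻¹ᵁ V₀.1).ι ≫ f₀ ≫ g₀) (D.map (Over.mk (𝟙 i₀)).hom) =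
        qX ∣_ (f₀ ⁻¹ᵁ V₀.1) := pbCone_π_fst c _ _ hZ _
  have h3 : CohB1.IsAmple ((Scheme.Modules.pullback ((pbCone c _ _ hZ).π.app (Over.mk (𝟙 i₀)))).obj
      ((Scheme.Modules.pullback
      (pullback.fst ((f₀ ⁻¹ᵁ V₀.1).ι ≫ f₀ ≫ g₀) (D.map (Over.mk (𝟙 i₀)).hom))).obj
        ((Scheme.Modules.pullback (f₀ ⁻¹ᵁ V₀.1).ι).obj L₀))) := by
    rw [isAmple_restrict_iff_pullback] at h2
    refine (isAmple_pullback_comp_iff ((pbCone c _ _ hZ).π.app (Over.mk (𝟙 i₀)))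
      (pullback.fst ((f₀ ⁻¹ᵁ V₀.1).ι ≫ f₀ ≫ g₀) (D.map (Over.mk (𝟙 i₀)).hom))
      ((Scheme.Modules.pullback (f₀ ⁻¹ᵁ V₀.1).ι).obj L₀)).mpr ?_
    refine (isAmple_pullback_congr e3 _).mpr ?_
    exact (isAmple_pullback_square_iff (qX ∣_ (f₀ ⁻¹ᵁ V₀.1)) (f₀ ⁻¹ᵁ V₀.1).ι
        (qX ⁻¹ᵁ (f₀ ⁻¹ᵁ V₀.1)).ι qX (isPullback_morphismRestrict qX (f₀ ⁻¹ᵁ V₀.1)).w L₀).mpr h2
  haveI : ∀ (i j : Over i₀) (a : i ⟶ j),
      IsAffineHom ((pbDiagram D i₀ ((f₀ ⁻¹ᵁ V₀.1).ι ≫ f₀ ≫ g₀)).map a) :=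
    fun _ _ a => isAffineHom_pbDiagram_map D i₀ _ a
  haveI : ∀ j, CompactSpace ((pbDiagram D i₀ ((f₀ ⁻¹ᵁ V₀.1).ι ≫ f₀ ≫ g₀)).obj j) :=
    fun j => compactSpace_pbDiagram_obj' D i₀ _ j
  haveI : ∀ j, QuasiSeparatedSpace ((pbDiagram D i₀ ((f₀ ⁻¹ᵁ V₀.1).ι ≫ f₀ ≫ g₀)).obj j) :=
    fun j => quasiSeparatedSpace_pbDiagram_obj' D i₀ _ j
  obtain ⟨j, φ', hj⟩ := AmpleLim.main (pbDiagram D i₀ ((f₀ ⁻¹ᵁ V₀.1).ι ≫ f₀ ≫ g₀))
    (pbCone c _ _ hZ) hc' (Over.mk (𝟙 i₀)) _ hL₀' h3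
  refine ⟨j, ?_⟩
  have hj' := (isAmple_pullback_comp_iff
    ((pbDiagram D i₀ ((f₀ ⁻¹ᵁ V₀.1).ι ≫ f₀ ≫ g₀)).map φ')
    (pullback.fst ((f₀ ⁻¹ᵁ V₀.1).ι ≫ f₀ ≫ g₀) (D.map (Over.mk (𝟙 i₀)).hom))
    ((Scheme.Modules.pullback (f₀ ⁻¹ᵁ V₀.1).ι).obj L₀)).mp hj
  exact (isAmple_pullback_congr (pbDiagram_map_fst D i₀ ((f₀ ⁻¹ᵁ V₀.1).ι ≫ f₀ ≫ g₀) φ') _).mp hj'

include hc hY hX hL₀ in
/-- relative ampleness on the limit descends to a stage -/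
theorem exists_stage (hrel : RelAmple.IsRelAmple f ((Scheme.Modules.pullback qX).obj L₀)) :
    ∃ (j : I) (φ : j ⟶ i₀) (Xj Yj : Scheme.{u}) (fj : Xj ⟶ Yj) (gj : Yj ⟶ D.obj j)
      (pY : Yj ⟶ Y₀) (pX : Xj ⟶ X₀), IsPullback pY gj g₀ (D.map φ) ∧ IsPullback pX fj f₀ pY ∧
        RelAmple.IsRelAmple fj ((Scheme.Modules.pullback pX).obj L₀) := by
  classical
  haveI hD : ∀ {i j : I} (f : i ⟶ j), IsAffineHom (D.map f) := fun f => inferInstance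
  haveI : QuasiCompact f₀ := QuasiCompact.of_comp f₀ g₀
  haveI : CompactSpace Y₀ := QuasiCompact.compactSpace_of_compactSpace g₀
  obtain ⟨S, hS, hU⟩ := (isCompact_and_isOpen_iff_finite_and_eq_biUnion_affineOpens
    (U := (Set.univ : Set Y₀))).mp ⟨isCompact_univ, isOpen_univ⟩
  choose jst hjst using fun V₀ : Y₀.affineOpens =>
    exists_stage_affine D c hc i₀ f₀ g₀ L₀ f g qY qX hY hX hL₀ V₀ hrel
  obtain ⟨k, hk⟩ := IsCofiltered.inf_objs_exists (hS.toFinset.image jst)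
  have hk' : ∀ V₀ ∈ S, Nonempty (k ⟶ jst V₀) := fun V₀ hV₀ =>
    hk (Finset.mem_image_of_mem _ (hS.mem_toFinset.mpr hV₀))
  obtain ⟨fj, sq⟩ : ∃ fj : pullback (f₀ ≫ g₀) (D.map k.hom) ⟶ pullback g₀ (D.map k.hom),
      IsPullback (pullback.fst (f₀ ≫ g₀) (D.map k.hom)) fj f₀ (pullback.fst g₀ (D.map k.hom)) :=
    ⟨(pbMap D i₀ g₀ f₀).app k, isPullback_pbMap_app D i₀ g₀ f₀ k⟩
  refine ⟨k.left, k.hom, pullback (f₀ ≫ g₀) (D.map k.hom), pullback g₀ (D.map k.hom),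
    fj, pullback.snd _ _, pullback.fst _ _, pullback.fst _ _,
    IsPullback.of_hasPullback _ _, sq, ?_⟩
  haveI : QuasiCompact fj := MorphismProperty.of_isPullback sq ‹QuasiCompact f₀›
  haveI : IsAffineHom (pullback.fst g₀ (D.map k.hom)) :=
    MorphismProperty.pullback_fst (P := @IsAffineHom) _ _ inferInstance
  rw [isRelAmple_iff_of_openCover fj _
    (fun V₀ : S => pullback.fst g₀ (D.map k.hom) ⁻¹ᵁ V₀.1.1) (by
      rw [eq_top_iff]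
      intro x _
      have hx : (pullback.fst g₀ (D.map k.hom)) x ∈ (Set.univ : Set Y₀) := trivial
      rw [hU] at hx
      simp only [Set.mem_iUnion, exists_prop] at hx
      obtain ⟨i, hi, hxi⟩ := hx
      exact Opens.mem_iSup.mpr ⟨⟨i, hi⟩, hxi⟩)]
  rintro ⟨V₀, hV₀⟩
  haveI : IsAffine ((pullback.fst g₀ (D.map k.hom) ⁻¹ᵁ V₀.1 :
      (pullback g₀ (D.map k.hom)).Opens) : Scheme.{u}) := V₀.2.preimage _
  rw [isRelAmple_iff_isAmple_of_isAffine]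
  obtain ⟨a⟩ := hk' V₀ hV₀
  have h1 : CohB1.IsAmple ((Scheme.Modules.pullback
      (pullback.fst ((f₀ ⁻¹ᵁ V₀.1).ι ≫ f₀ ≫ g₀) (D.map k.hom))).obj
        ((Scheme.Modules.pullback (f₀ ⁻¹ᵁ V₀.1).ι).obj L₀)) := by
    have h0 := isAmple_pullback_of_isAffineHom
      ((pbDiagram D i₀ ((f₀ ⁻¹ᵁ V₀.1).ι ≫ f₀ ≫ g₀)).map a) (hjst V₀)
    have h0' := (isAmple_pullback_comp_iff
      ((pbDiagram D i₀ ((f₀ ⁻¹ᵁ V₀.1).ι ≫ f₀ ≫ g₀)).map a)
      (pullback.fst ((f₀ ⁻¹ᵁ V₀.1).ι ≫ f₀ ≫ g₀) (D.map (jst V₀).hom))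
      ((Scheme.Modules.pullback (f₀ ⁻¹ᵁ V₀.1).ι).obj L₀)).mp h0
    exact (isAmple_pullback_congr
      (pbDiagram_map_fst D i₀ ((f₀ ⁻¹ᵁ V₀.1).ι ≫ f₀ ≫ g₀) a) _).mp h0'
  obtain ⟨m, sqm⟩ : ∃ m : pullback ((f₀ ⁻¹ᵁ V₀.1).ι ≫ f₀ ≫ g₀) (D.map k.hom) ⟶
        pullback (f₀ ≫ g₀) (D.map k.hom),
      IsPullback (pullback.fst ((f₀ ⁻¹ᵁ V₀.1).ι ≫ f₀ ≫ g₀) (D.map k.hom)) m (f₀ ⁻¹ᵁ V₀.1).ι
        (pullback.fst (f₀ ≫ g₀) (D.map k.hom)) :=
    ⟨_, isPullback_pbMap_app D i₀ (f₀ ≫ g₀) (f₀ ⁻¹ᵁ V₀.1).ι k⟩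
  haveI : IsOpenImmersion m :=
    MorphismProperty.of_isPullback sqm (inferInstance : IsOpenImmersion (f₀ ⁻¹ᵁ V₀.1).ι)
  have h2 : CohB1.IsAmple (((Scheme.Modules.pullback
      (pullback.fst (f₀ ≫ g₀) (D.map k.hom))).obj L₀).restrict m) := by
    refine (isAmple_restrict_iff_pullback _ _).mpr ?_
    exact (isAmple_pullback_square_iff m
      (pullback.fst (f₀ ≫ g₀) (D.map k.hom))
      (pullback.fst ((f₀ ⁻¹ᵁ V₀.1).ι ≫ f₀ ≫ g₀) (D.map k.hom)) (f₀ ⁻¹ᵁ V₀.1).ι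
      sqm.w.symm L₀).mpr h1
  refine isAmple_restrict_of_opensRange_eq _ _ ?_ _ h2
  apply SetLike.coe_injective
  rw [Scheme.Opens.opensRange_ι, Scheme.Hom.coe_opensRange, range_snd_of_isPullback sqm,
    Scheme.Opens.range_ι]
  ext x
  change (pullback.fst g₀ (D.map k.hom)) (fj x) ∈ V₀.1 ↔
    f₀ ((pullback.fst (f₀ ≫ g₀) (D.map k.hom)) x) ∈ V₀.1
  rw [← Scheme.Hom.comp_apply, ← Scheme.Hom.comp_apply, sq.w]

end Limit

end Groth.Agent.Lib.Helper26.AmpleLimRel
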