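import Groth.Agent.Lib.Helper26.AmpleRes
import Groth.Prelude.Def_KSix

/-!
# An ample family of invertible modules: quotients of sums of negative powers
-/

set_option autoImplicit false
universe u
open CategoryTheory CategoryTheory.Limits AlgebraicGeometry TopologicalSpace Opposite
open Scheme.Modules

namespace Groth.Agent.Lib.Helper26.AmpleRes2

open Groth.Agent.Lib.Helper3 Groth.Agent.Lib.Helper3.QCSec Groth.Agent.Lib.Helper3.InvGen
  Groth.Agent.Lib.Helper3.InvTensor Groth.Agent.Lib.Helper3.InvTwist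
  Groth.Agent.Lib.Helper3.InvMonoidal Groth.Agent.Lib.Helper3.InvCoh
  Groth.Agent.Lib.Helper3.InvAmple Groth.Agent.Lib.Helper7.TwFun
  Groth.Agent.Lib.Helper26.AmpleRes

variable {X : Scheme.{u}}

/-- on an affine `X_s`, finitely many generators of `Γ(G, X_s)` extend, after twisting by a common
positive power of `s`, to global sections -/
theorem exists_generators_extension_pos [CompactSpace X] [QuasiSeparatedSpace X]
    {N : X.Modules} (hN : PicF.IsInvertible N) (s : Coh.structureModule X ⟶ N)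
    (haff : IsAffineOpen (CohB1.genLocus N s))
    (G : X.Modules) [G.IsQuasicoherent] [G.IsFiniteType] :
    ∃ (k : ℕ) (T : Finset Γ(G, CohB1.genLocus N s)), 0 < k ∧
      Submodule.span Γ(X, CohB1.genLocus N s) (T : Set Γ(G, CohB1.genLocus N s)) = ⊤ ∧
      ∀ t ∈ T, ∃ t' : Γ(CohB1.tensorMod G (CohB1.tensorPow N k), ⊤),
        res _ le_top t' = tm G (CohB1.tensorPow N k) _ t (lpow N (sec s _) k) := by
  classical
  haveI := QCProps.finite_sections G haff
  obtain ⟨T, hT⟩ := (Module.Finite.fg_top (R := Γ(X, CohB1.genLocus N s))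
      (M := Γ(G, CohB1.genLocus N s)))
  have hext := fun (t : Γ(G, CohB1.genLocus N s)) =>
    exists_tm_lpow_extension hN s G ⊤ (by simpa using isCompact_univ)
      (fun U U' hU hU' _ _ => QuasiSeparatedSpace.inter_isCompact U.1 U'.1 U.2 hU.isCompact U'.2
        hU'.isCompact)
      (CohB1.genLocus N s) le_top le_rfl inf_le_right t
  choose n₀ hn₀ using hext
  exact ⟨max (T.sup n₀) 1, T, lt_of_lt_of_le Nat.one_pos (le_max_right _ _), hT,
    fun t ht => hn₀ t _ ((Finset.le_sup (f := n₀) ht).trans (le_max_left _ _))⟩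

/-- if the untwisted generators all factor through `π`, then `π` is surjective near every point of
the affine `X_s` -/
theorem surjective_of_factor {N : X.Modules} (s : Coh.structureModule X ⟶ N)
    (haff : IsAffineOpen (CohB1.genLocus N s))
    (G : X.Modules) [G.IsQuasicoherent] (k : ℕ) (T : Finset Γ(G, CohB1.genLocus N s))
    (hT : Submodule.span Γ(X, CohB1.genLocus N s) (T : Set Γ(G, CohB1.genLocus N s)) = ⊤)
    {N' : X.Modules} (hN' : PicF.IsInvertible N')
    (e : CohB1.tensorMod (CohB1.tensorPow N k) N' ≅ Coh.structureModule X)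
    (t' : {τ // τ ∈ T} → Γ(CohB1.tensorMod G (CohB1.tensorPow N k), ⊤))
    (ht' : ∀ j : {τ // τ ∈ T}, res _ le_top (t' j) =
      tm G (CohB1.tensorPow N k) _ j.1 (lpow N (sec s _) k))
    {E : X.Modules} (π : E ⟶ G)
    (hc : ∀ j : {τ // τ ∈ T}, ∃ c : CohB1.tensorMod (Coh.structureModule X) N' ⟶ E,
      c ≫ π = untwist e G (t' j))
    (x : X) (hx : x ∈ CohB1.genLocus N s) :
    ∃ (U : X.Opens) (_ : IsAffineOpen U), x ∈ U ∧ Function.Surjective (π.app U) := by
  classical
  obtain ⟨W'', ν₀, hxW'', hν₀⟩ := exists_isGen hN' x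
  obtain ⟨g, hgW, hxg⟩ := haff.exists_basicOpen_le
    (V := W'' ⊓ CohB1.genLocus N s) ⟨x, ⟨hxW'', hx⟩⟩ hx
  have hDA : X.basicOpen g ≤ CohB1.genLocus N s := X.basicOpen_le g
  have hDW : X.basicOpen g ≤ W'' := hgW.trans inf_le_left
  refine ⟨X.basicOpen g, haff.basicOpen g, hxg, ?_⟩
  have hl : IsGen (CohB1.tensorPow N k) (X.basicOpen g)
      (res _ hDA (lpow N (sec s _) k)) := (isGen_lpow (isGen_genLocus s) k).mono hDA
  have hν : IsGen N' (X.basicOpen g) (res N' hDW ν₀) := hν₀.mono hDW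
  have hu := isUnit_of_isGen e hl hν
  obtain ⟨v, hv⟩ := hu.exists_left_inv
  have hτ : ∀ τ ∈ T, res G hDA τ ∈ LinearMap.range (QCProps.appₗ π (X.basicOpen g)) := by
    intro τ hτ
    obtain ⟨c', hc'⟩ := hc ⟨τ, hτ⟩
    have hres : res _ le_top (t' ⟨τ, hτ⟩) =
        tm G (CohB1.tensorPow N k) (X.basicOpen g) (res G hDA τ)
          (res _ hDA (lpow N (sec s _) k)) := by
      have h := congrArg (res _ hDA) (ht' ⟨τ, hτ⟩)
      rw [res_res, tm_res] at h
      exact h
    have happ := untwist_app e G (t' ⟨τ, hτ⟩) (X.basicOpen g) (res G hDA τ)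
      (res _ hDA (lpow N (sec s _) k)) hres (res N' hDW ν₀)
    have h4 : π.app (X.basicOpen g) (c'.app (X.basicOpen g)
        (tm (Coh.structureModule X) N' (X.basicOpen g) (ofFun _ 1) (res N' hDW ν₀))) =
        (untwist e G (t' ⟨τ, hτ⟩)).app (X.basicOpen g)
          (tm (Coh.structureModule X) N' (X.basicOpen g) (ofFun _ 1) (res N' hDW ν₀)) := by
      rw [← hc']; rfl
    have h3 : res G hDA τ = v • π.app (X.basicOpen g) (c'.app (X.basicOpen g)
        (tm (Coh.structureModule X) N' (X.basicOpen g) (ofFun _ 1) (res N' hDW ν₀))) := by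
      rw [h4, happ, smul_smul, hv, one_smul]
    rw [h3]
    exact Submodule.smul_mem _ v
      (LinearMap.mem_range_self (QCProps.appₗ π (X.basicOpen g)) _)
  have hR : ∀ z₀ ∈ Submodule.span Γ(X, CohB1.genLocus N s) (T : Set Γ(G, CohB1.genLocus N s)),
      res G hDA z₀ ∈ LinearMap.range (QCProps.appₗ π (X.basicOpen g)) := by
    intro z₀ hmem
    refine Submodule.span_induction (p := fun z _ => res G hDA z ∈
      LinearMap.range (QCProps.appₗ π (X.basicOpen g))) ?_ ?_ ?_ ?_ hmem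
    · intro τ hτ'; exact hτ τ hτ'
    · rw [res_zero]; exact Submodule.zero_mem _
    · intro a b _ _ ha hb
      have : res G hDA (a + b) = res G hDA a + res G hDA b := _root_.map_add _ a b
      rw [this]; exact Submodule.add_mem _ ha hb
    · intro r a _ ha
      rw [res_smul]; exact Submodule.smul_mem _ _ ha
  intro z
  obtain ⟨m, z₀, hz₀⟩ :=
    (isLocSec_of_isQuasicoherent G haff g (X.basicOpen g) rfl hDA).surj z
  have hum : IsUnit (rres X hDA g ^ m) :=
    (RingedSpace.isUnit_res_basicOpen _ g).pow m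
  obtain ⟨w, hw⟩ := hum.exists_left_inv
  have hz : z = w • res G hDA z₀ := by rw [hz₀, smul_smul, hw, one_smul]
  have hzR : z ∈ LinearMap.range (QCProps.appₗ π (X.basicOpen g)) := by
    rw [hz]
    exact Submodule.smul_mem _ w (hR z₀ (hT ▸ Submodule.mem_top))
  obtain ⟨p, hp⟩ := hzR
  exact ⟨p, hp⟩

/-- the local family of maps from a negative power -/
theorem exists_local_family [CompactSpace X] [QuasiSeparatedSpace X]
    {N : X.Modules} (hN : PicF.IsInvertible N) (s : Coh.structureModule X ⟶ N)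
    (haff : IsAffineOpen (CohB1.genLocus N s))
    (G : X.Modules) [G.IsQuasicoherent] [G.IsFiniteType] :
    ∃ (k : ℕ) (N' : X.Modules) (J : Type u) (_ : Finite J)
      (ψ : J → (CohB1.tensorMod (Coh.structureModule X) N' ⟶ G)), 0 < k ∧
      Nonempty (CohB1.tensorMod (CohB1.tensorPow N k) N' ≅ Coh.structureModule X) ∧
      ∀ (E : X.Modules) (π : E ⟶ G),
        (∀ j, ∃ c : CohB1.tensorMod (Coh.structureModule X) N' ⟶ E, c ≫ π = ψ j) →
        ∀ x ∈ CohB1.genLocus N s, ∃ (U : X.Opens) (_ : IsAffineOpen U),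
          x ∈ U ∧ Function.Surjective (π.app U) := by
  classical
  obtain ⟨k, T, hk, hT, hext⟩ := exists_generators_extension_pos hN s haff G
  obtain ⟨N', hN', ⟨e⟩⟩ :=
    Groth.Agent.Lib.Helper23.Inverse.exists_isInverseOf (isInvertible_tensorPow hN k)
  have ht' : ∀ j : {τ // τ ∈ T}, ∃ t' : Γ(CohB1.tensorMod G (CohB1.tensorPow N k), ⊤),
      res _ le_top t' = tm G (CohB1.tensorPow N k) _ j.1 (lpow N (sec s _) k) :=
    fun j => hext j.1 j.2
  choose t' ht' using ht'
  refine ⟨k, N', {τ // τ ∈ T}, inferInstance, fun j => untwist e G (t' j), hk, ⟨e⟩, ?_⟩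
  intro E π hc x hx
  exact surjective_of_factor s haff G k T hT hN' e t' ht' π hc x hx

/-- finitely many maps into `G` factor through a finite direct sum of their sources -/
theorem exists_biproduct_through {I : Type u} [Finite I] (P : I → X.Modules) (G : X.Modules)
    (ψ : ∀ a, P a ⟶ G) :
    ∃ (m : ℕ) (a : Fin m → I) (π : (⨁ fun j => P (a j) : X.Modules) ⟶ G),
      ∀ b : I, ∃ c : P b ⟶ (⨁ fun j => P (a j) : X.Modules), c ≫ π = ψ b := by
  obtain ⟨m, ⟨eqv⟩⟩ := Finite.exists_equiv_fin I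
  refine ⟨m, eqv.symm, biproduct.desc (fun j => ψ (eqv.symm j)), ?_⟩
  intro b
  obtain ⟨j, rfl⟩ : ∃ j, eqv.symm j = b := ⟨eqv b, eqv.symm_apply_apply b⟩
  exact ⟨biproduct.ι (fun j => P (eqv.symm j)) j, biproduct.ι_desc _ j⟩

/-- **Quotients of sums of negative powers.** -/
theorem exists_epi_of_isAmpleFamily {ι : Type u} (L : ι → X.Modules)
    (hL : KSix.IsAmpleFamily L) (F : X.Modules) (hF : Coh.IsQCoh F) (hF' : CohB1.IsFT F) :
    ∃ (M : X.Modules) (π : M ⟶ F), KSix.InAddL L M ∧ Epi π := by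
  classical
  obtain ⟨hcpt, hqs, hinv, hcov⟩ := hL
  haveI := hcpt
  haveI := hqs
  haveI : F.IsQuasicoherent := hF
  haveI : F.IsFiniteType := hF'
  choose i n s hx haff using hcov
  have hN : ∀ x, PicF.IsInvertible (CohB1.tensorPow (L (i x)) (n x + 1)) := fun x =>
    isInvertible_tensorPow (hinv (i x)) _
  obtain ⟨t, ht⟩ := isCompact_univ.elim_finite_subcover
    (fun y : X => (CohB1.genLocus (CohB1.tensorPow (L (i y)) (n y + 1)) (s y) : Set X))
    (fun y => (CohB1.genLocus (CohB1.tensorPow (L (i y)) (n y + 1)) (s y)).2)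
    (fun x _ => Set.mem_iUnion.mpr ⟨x, hx x⟩)
  have hloc := fun y => exists_local_family (hN y) (s y) (haff y) F
  choose k N' J hJ ψ hk e hsurj using hloc
  haveI : ∀ y : {y // y ∈ t}, Finite (J y.1) := fun y => hJ y.1
  obtain ⟨m, a, π, hπ⟩ := exists_biproduct_through
    (I := Σ y : {y // y ∈ t}, J y.1)
    (fun b => CohB1.tensorMod (Coh.structureModule X) (N' b.1.1)) F (fun b => ψ b.1.1 b.2)
  refine ⟨_, π, ⟨m, _, fun j => ?_, ⟨Iso.refl _⟩⟩, ?_⟩
  · obtain ⟨e'⟩ := e (a j).1.1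
    exact ⟨i (a j).1.1, (n (a j).1.1 + 1) * k (a j).1.1,
      Nat.mul_pos (Nat.succ_pos _) (hk _),
      ⟨tensorMapIso (unitorL _) (powMul _ _ _).symm ≪≫ braid _ _ ≪≫ e'⟩⟩
  · apply QCExact.epi_of_surjective_on_affine_cover π
    intro x
    obtain ⟨y, hyt, hxy⟩ := Set.mem_iUnion₂.mp (ht (Set.mem_univ x))
    exact hsurj y _ π (fun j => hπ ⟨⟨y, hyt⟩, j⟩) x hxy

end Groth.Agent.Lib.Helper26.AmpleRes2
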