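import Mathlib
import Groth.Prelude
import Groth.Agent.Lib.Helper24.HensGlobal

/-!
# L2 for S18070 (helper28): a morphism from `G × G₁` to an affine scheme does not depend on the
`G₁`-coordinate when `O(G₁) = k`.
-/

set_option autoImplicit false
universe u
open CategoryTheory CategoryTheory.Limits AlgebraicGeometry MonoidalCategory
  CartesianMonoidalCategory MonObj

namespace Groth.Agent.Lib.Helper26.AntiAffProd

/-- Scheme-level statement: if `b : B ⟶ Spec k` is of finite type with `Γ(B) = k`, then every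
morphism from `A ×_k B` to an affine scheme factors through the first projection. -/
theorem eq_fst_comp_section {k : Type u} [Field k] {A B N : Scheme.{u}}
    (a : A ⟶ Spec (CommRingCat.of k)) (b : B ⟶ Spec (CommRingCat.of k))
    [LocallyOfFiniteType b] [QuasiCompact b] [IsIso b.appTop] [IsAffine N]
    (s : A ⟶ pullback a b) (hs : s ≫ pullback.fst a b = 𝟙 A) (F : pullback a b ⟶ N) :
    F = pullback.fst a b ≫ s ≫ F := by
  haveI : CompactSpace B := QuasiCompact.compactSpace_of_compactSpace b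
  haveI : IsLocallyNoetherian B := LocallyOfFiniteType.isLocallyNoetherian b
  haveI : QuasiSeparatedSpace B := inferInstance
  apply Scheme.hom_ext_of_forall
  intro x
  set p := pullback.fst a b with hp
  obtain ⟨U, hU, hxU⟩ : ∃ U : A.Opens, IsAffineOpen U ∧ p x ∈ U := by
    obtain ⟨_, ⟨U, hU, rfl⟩, hxU, -⟩ := A.isBasis_affineOpens.exists_subset_of_mem_open
      (Set.mem_univ (p x)) isOpen_univ
    exact ⟨U, hU, hxU⟩
  refine ⟨p ⁻¹ᵁ U, hxU, ?_⟩
  haveI : IsAffine (U : Scheme.{u}) := hU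
  -- flat base change: `Γ(U) → Γ(p⁻¹U)` is an isomorphism
  have sq1 : IsPullback (p ⁻¹ᵁ U).ι (p ∣_ U) p U.ι := (isPullback_morphismRestrict p U).flip
  have sq2 : IsPullback (pullback.snd a b) p b a := (IsPullback.of_hasPullback a b).flip
  have sq : IsPullback ((p ⁻¹ᵁ U).ι ≫ pullback.snd a b) (p ∣_ U) b (U.ι ≫ a) :=
    sq1.paste_horiz sq2
  have hpo := Groth.Agent.Lib.Helper24.HensGlobal.isPushout_appTop_of_flat sq
  haveI : IsIso (p ∣_ U).appTop := hpo.isIso_inr_of_isIso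
  -- the restricted section
  have hrange : Set.range (U.ι ≫ s) ⊆ Set.range (p ⁻¹ᵁ U).ι := by
    rintro _ ⟨u, rfl⟩
    rw [Scheme.Opens.range_ι]
    show p ((U.ι ≫ s) u) ∈ U
    have h1 : p ((U.ι ≫ s) u) = (U.ι ≫ s ≫ p) u := rfl
    rw [h1, hs, Category.comp_id]
    exact u.2
  obtain ⟨σ, hσ⟩ : ∃ σ : (U : Scheme.{u}) ⟶ (p ⁻¹ᵁ U : Scheme.{u}), σ ≫ (p ⁻¹ᵁ U).ι = U.ι ≫ s :=
    ⟨IsOpenImmersion.lift (p ⁻¹ᵁ U).ι (U.ι ≫ s) hrange, IsOpenImmersion.lift_fac _ _ _⟩
  have hσq : σ ≫ (p ∣_ U) = 𝟙 _ := by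
    rw [← cancel_mono U.ι, Category.assoc, morphismRestrict_ι, ← Category.assoc, hσ,
      Category.assoc, hs, Category.comp_id, Category.id_comp]
  -- conclude
  have h1 : (p ∣_ U).appTop ≫ σ.appTop = 𝟙 _ := by
    rw [← Scheme.Hom.comp_appTop, hσq]
    rfl
  have h2 : σ.appTop ≫ (p ∣_ U).appTop = 𝟙 _ := by
    rw [← IsIso.inv_eq_of_hom_inv_id h1, IsIso.inv_hom_id]
  have h3 : ∀ φ : (p ⁻¹ᵁ U : Scheme.{u}) ⟶ N, φ = (p ∣_ U) ≫ σ ≫ φ := by
    intro φ
    apply ext_of_isAffine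
    rw [Scheme.Hom.comp_appTop, Scheme.Hom.comp_appTop, Category.assoc, h2, Category.comp_id]
  calc (p ⁻¹ᵁ U).ι ≫ F = (p ∣_ U) ≫ σ ≫ (p ⁻¹ᵁ U).ι ≫ F := h3 _
    _ = (p ⁻¹ᵁ U).ι ≫ p ≫ s ≫ F := by
      rw [← Category.assoc σ, hσ, Category.assoc, ← Category.assoc (p ∣_ U), morphismRestrict_ι,
        Category.assoc]

/-- L2: a morphism from `G ⊗ G₁` to an affine `k`-scheme is independent of the `G₁`-coordinate
when `O(G₁) = k`. -/
theorem comp_eq_fst_comp_of_antiAffine (k : Type u) [Field k]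
    (G G₁ : Over (Spec (CommRingCat.of k))) [GrpObj G₁]
    [LocallyOfFiniteType G₁.hom] [QuasiCompact G₁.hom]
    (hG₁ : Function.Bijective ((Scheme.ΓSpecIso (CommRingCat.of k)).inv ≫ G₁.hom.appTop).hom)
    (N : Over (Spec (CommRingCat.of k))) [IsAffine N.left] (F : G ⊗ G₁ ⟶ N) :
    F = fst G G₁ ≫ lift (𝟙 G) (toUnit G ≫ η[G₁]) ≫ F := by
  haveI : IsIso G₁.hom.appTop := by
    haveI h1 : IsIso ((Scheme.ΓSpecIso (CommRingCat.of k)).inv ≫ G₁.hom.appTop) :=
      (ConcreteCategory.isIso_iff_bijective _).mpr hG₁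
    exact IsIso.of_isIso_comp_left (Scheme.ΓSpecIso (CommRingCat.of k)).inv _
  apply Over.OverMorphism.ext
  rw [Over.comp_left, Over.comp_left]
  exact eq_fst_comp_section G.hom G₁.hom (lift (𝟙 G) (toUnit G ≫ η[G₁])).left (by
    rw [← Over.fst_left, ← Over.comp_left, lift_fst]; rfl) F.left

end Groth.Agent.Lib.Helper26.AntiAffProd
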