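import Mathlib
import Groth.Prelude.Def_Pi1
import Groth.Agent.Lib.Helper4.FlatRing
import Groth.Agent.Lib.Helper4.SerreNormal
import Groth.Agent.Lib.Helper5.HartogsDepth

/-!
# Depth two at primes of height two for Noetherian algebras flat over an Artin local ring with
normal special fibre (helper26)
-/

set_option autoImplicit false
set_option linter.style.haveILetI false
set_option linter.unusedSectionVars false
universe u
open IsLocalRing AlgebraicGeometry CategoryTheory Opposite

namespace Groth.Agent.Lib.Helper26.ArtinNormal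

open Groth.Agent.Lib.Helper4

variable (C : Type u) [CommRing C] [IsLocalRing C] [IsArtinianRing C]
  (A : Type u) [CommRing A] [IsNoetherianRing A] [Algebra C A] [Module.Flat C A]

theorem two_le_depth_atPrime (p : Ideal A) [hp : p.IsPrime]
    (hnorm : ∀ (q : Ideal (A ⧸ (maximalIdeal C).map (algebraMap C A))) [q.IsPrime],
        IsDomain (Localization.AtPrime q) ∧ IsIntegrallyClosed (Localization.AtPrime q))
    (hht : (2 : ℕ∞) ≤ p.height) :
    (2 : ℕ∞) ≤ LocCoh.depth (Localization.AtPrime p) (Localization.AtPrime p) := by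
  set I : Ideal A := (maximalIdeal C).map (algebraMap C A) with hI
  have hnil : ∀ c ∈ maximalIdeal C, IsNilpotent c := fun c hc =>
    Ring.KrullDimLE.isNilpotent_iff_mem_maximalIdeal.mpr hc
  have hIp : I ≤ p := by
    rw [hI, Ideal.map_le_iff_le_comap]
    intro c hc
    obtain ⟨n, hn⟩ := (hnil c hc).map (algebraMap C A)
    exact hp.mem_of_pow_mem n (hn ▸ p.zero_mem)
  haveI : Module.Flat A (Localization.AtPrime p) :=
    IsLocalization.flat (Localization.AtPrime p) p.primeCompl
  haveI : Module.Flat C (Localization.AtPrime p) := Module.Flat.trans C A (Localization.AtPrime p)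
  haveI : IsLocalHom (algebraMap C (Localization.AtPrime p)) := by
    constructor
    intro c hc
    by_contra hcu
    have hcm : c ∈ maximalIdeal C := (IsLocalRing.mem_maximalIdeal c).mpr hcu
    obtain ⟨n, hn⟩ := (hnil c hcm).map (algebraMap C (Localization.AtPrime p))
    have h2 := hc.pow n
    rw [hn] at h2
    exact not_isUnit_zero h2
  let I' : Ideal (Localization.AtPrime p) := I.map (algebraMap A (Localization.AtPrime p))
  have hI' : I' = (maximalIdeal C).map (algebraMap C (Localization.AtPrime p)) := by
    rw [IsScalarTower.algebraMap_eq C A (Localization.AtPrime p), ← Ideal.map_map]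
  have hI'le : I' ≤ maximalIdeal (Localization.AtPrime p) := by
    calc I' ≤ p.map (algebraMap A (Localization.AtPrime p)) := Ideal.map_mono hIp
      _ = maximalIdeal (Localization.AtPrime p) := Localization.AtPrime.map_eq_maximalIdeal
  haveI : Nontrivial (Localization.AtPrime p ⧸ I') :=
    Ideal.Quotient.nontrivial_iff.mpr (fun h =>
      (maximalIdeal.isMaximal (Localization.AtPrime p)).ne_top (top_le_iff.mp (h ▸ hI'le)))
  haveI : IsLocalRing (Localization.AtPrime p ⧸ I') :=
    IsLocalRing.of_surjective' (Ideal.Quotient.mk I') Ideal.Quotient.mk_surjective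
  have hdepth := FlatRing.depth_eq_add_of_eq (A := C) (B := Localization.AtPrime p) I' hI'
  have hheight := FlatRing.height_eq_add_of_eq (A := C) (B := Localization.AtPrime p) I' hI'
  have hC0 : (maximalIdeal C).height = 0 := by
    have h1 := IsLocalRing.maximalIdeal_height_eq_ringKrullDim (R := C)
    have h2 : ringKrullDim C ≤ 0 := by
      have := (Ring.krullDimLE_iff (n := 0) (R := C)).mp inferInstance
      simpa using this
    rw [← h1] at h2
    have h3 : (maximalIdeal C).height ≤ 0 := by exact_mod_cast h2
    exact le_antisymm h3 zero_le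
  rw [hC0, zero_add, SerreNormal.height_maximalIdeal_atPrime p] at hheight
  -- the fibre ring is a localization of `A ⧸ I`
  have hpbar : (p.map (Ideal.Quotient.mk I)).IsPrime :=
    Ideal.map_isPrime_of_surjective Ideal.Quotient.mk_surjective (by rwa [Ideal.mk_ker])
  have hsub : Algebra.algebraMapSubmonoid (A ⧸ I) p.primeCompl =
      (p.map (Ideal.Quotient.mk I)).primeCompl := by
    ext a
    constructor
    · rintro ⟨a, ha, rfl⟩
      intro hmem
      exact ha ((Ideal.mem_quotient_iff_mem hIp).mp hmem)
    · intro ha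
      obtain ⟨a, rfl⟩ := Ideal.Quotient.mk_surjective a
      exact ⟨a, fun hap => ha (Ideal.mem_map_of_mem _ hap), rfl⟩
  haveI hloc : IsLocalization.AtPrime (Localization.AtPrime p ⧸ I')
      (p.map (Ideal.Quotient.mk I)) := by
    show IsLocalization (p.map (Ideal.Quotient.mk I)).primeCompl _
    rw [← hsub]
    infer_instance
  obtain ⟨hdom, hic⟩ := hnorm (p.map (Ideal.Quotient.mk I))
  let e := IsLocalization.algEquiv (p.map (Ideal.Quotient.mk I)).primeCompl
    (Localization.AtPrime (p.map (Ideal.Quotient.mk I))) (Localization.AtPrime p ⧸ I')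
  haveI : IsDomain (Localization.AtPrime p ⧸ I') := e.symm.toMulEquiv.isDomain _
  haveI : IsIntegrallyClosed (Localization.AtPrime p ⧸ I') :=
    IsIntegrallyClosed.of_equiv e.toRingEquiv
  have hD := SerreNormal.min_two_le_depth_of_normal (Localization.AtPrime p ⧸ I')
  rw [← hheight] at hD
  rw [hdepth]
  exact le_trans (le_trans (le_min (by norm_num) hht) hD) le_add_self

/-- scheme form -/
theorem bijective_res (hnorm : Pi1.IsNormalScheme
      (Spec (CommRingCat.of (A ⧸ (maximalIdeal C).map (algebraMap C A)))))
    (U : (Spec (CommRingCat.of A)).Opens)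
    (hU : ∀ p : ↥(Spec (CommRingCat.of A)), p ∉ U → (2 : ℕ∞) ≤ p.asIdeal.height) :
    Function.Bijective ((Spec (CommRingCat.of A)).presheaf.map (homOfLE (le_top : U ≤ ⊤)).op) := by
  have hnorm' : ∀ (q : Ideal (A ⧸ (maximalIdeal C).map (algebraMap C A))) [q.IsPrime],
      IsDomain (Localization.AtPrime q) ∧ IsIntegrallyClosed (Localization.AtPrime q) := by
    intro q hq
    let Abar := A ⧸ (maximalIdeal C).map (algebraMap C A)
    let z' : PrimeSpectrum Abar := ⟨q, hq⟩
    let z : ↥(Spec (CommRingCat.of Abar)) := z'
    obtain ⟨hd, hi⟩ := hnorm z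
    letI : Algebra Abar ((Spec (CommRingCat.of Abar)).presheaf.stalk z) :=
      StructureSheaf.stalkAlgebra (R := Abar) z'
    haveI : IsLocalization.AtPrime ((Spec (CommRingCat.of Abar)).presheaf.stalk z) q :=
      StructureSheaf.IsLocalization.to_stalk (R := Abar) z'
    let e := IsLocalization.algEquiv q.primeCompl (Localization.AtPrime q)
      ((Spec (CommRingCat.of Abar)).presheaf.stalk z)
    haveI := hd
    haveI := hi
    exact ⟨e.toMulEquiv.isDomain _, IsIntegrallyClosed.of_equiv e.symm.toRingEquiv⟩
  have hdepth : ∀ z : ↥(Spec (CommRingCat.of A)), z ∉ U →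
      (2 : ℕ∞) ≤ LocCoh.depth ((Spec (CommRingCat.of A)).presheaf.stalk z)
        ((Spec (CommRingCat.of A)).presheaf.stalk z) := by
    intro z hz
    let z' : PrimeSpectrum A := z
    letI : Algebra A ((Spec (CommRingCat.of A)).presheaf.stalk z) :=
      StructureSheaf.stalkAlgebra (R := A) z'
    haveI : IsLocalization.AtPrime ((Spec (CommRingCat.of A)).presheaf.stalk z) z'.asIdeal :=
      StructureSheaf.IsLocalization.to_stalk (R := A) z'
    let e := IsLocalization.algEquiv z'.asIdeal.primeCompl (Localization.AtPrime z'.asIdeal)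
      ((Spec (CommRingCat.of A)).presheaf.stalk z)
    have h2 := two_le_depth_atPrime C A z'.asIdeal hnorm' (hU z hz)
    exact h2.trans (Groth.Agent.Lib.Helper5.Hartogs.depth_le_of_ringEquiv e.toRingEquiv)
  have hb := Groth.Agent.Lib.Helper5.Hartogs.bijective_of_depth U hdepth ⊤
  have key : ∀ (W : (Spec (CommRingCat.of A)).Opens) (hW : W = U) (hle : W ≤ ⊤),
      Function.Bijective ((Spec (CommRingCat.of A)).presheaf.map (homOfLE hle).op) →
      Function.Bijective ((Spec (CommRingCat.of A)).presheaf.map
        (homOfLE (le_top : U ≤ ⊤)).op) := by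
    intro W hW hle hb'
    subst hW
    exact hb'
  exact key _ (top_inf_eq U) _ hb

end Groth.Agent.Lib.Helper26.ArtinNormal
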