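import Mathlib

/-!
# Automorphisms of a biproduct of orthogonal objects (helper26, sub-lemma L3 for helper11 / S18788)
-/

set_option autoImplicit false
universe v u

open CategoryTheory CategoryTheory.Limits

namespace Groth.Agent.Lib.Helper26.AutBiprodOrth

variable {C : Type u} [Category.{v} C] [Preadditive C] [HasBinaryBiproducts C] {X Y : C}

lemma comp_fst (h₂ : ∀ f : Y ⟶ X, f = 0) (u : X ⊞ Y ⟶ X ⊞ Y) :
    u ≫ biprod.fst = biprod.fst ≫ (biprod.inl ≫ u ≫ biprod.fst) := by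
  apply biprod.hom_ext'
  · rw [biprod.inl_fst_assoc]
  · rw [biprod.inr_fst_assoc, zero_comp]
    exact h₂ _

lemma comp_snd (h₁ : ∀ f : X ⟶ Y, f = 0) (u : X ⊞ Y ⟶ X ⊞ Y) :
    u ≫ biprod.snd = biprod.snd ≫ (biprod.inr ≫ u ≫ biprod.snd) := by
  apply biprod.hom_ext'
  · rw [biprod.inl_snd_assoc, zero_comp]
    exact h₁ _
  · rw [biprod.inr_snd_assoc]

lemma P_comp (h₂ : ∀ f : Y ⟶ X, f = 0) (u w : X ⊞ Y ⟶ X ⊞ Y) :
    biprod.inl ≫ (u ≫ w) ≫ biprod.fst =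
      (biprod.inl ≫ u ≫ biprod.fst) ≫ (biprod.inl ≫ w ≫ biprod.fst) := by
  rw [Category.assoc]
  conv_lhs => rw [comp_fst h₂ w]
  simp only [Category.assoc]

lemma Q_comp (h₁ : ∀ f : X ⟶ Y, f = 0) (u w : X ⊞ Y ⟶ X ⊞ Y) :
    biprod.inr ≫ (u ≫ w) ≫ biprod.snd =
      (biprod.inr ≫ u ≫ biprod.snd) ≫ (biprod.inr ≫ w ≫ biprod.snd) := by
  rw [Category.assoc]
  conv_lhs => rw [comp_snd h₁ w]
  simp only [Category.assoc]

/-- the diagonal blocks of an automorphism -/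
noncomputable def autX (h₂ : ∀ f : Y ⟶ X, f = 0) (e : Aut (X ⊞ Y)) : Aut X where
  hom := biprod.inl ≫ e.hom ≫ biprod.fst
  inv := biprod.inl ≫ e.inv ≫ biprod.fst
  hom_inv_id := by
    rw [← P_comp h₂, e.hom_inv_id, Category.id_comp, biprod.inl_fst]
  inv_hom_id := by
    rw [← P_comp h₂, e.inv_hom_id, Category.id_comp, biprod.inl_fst]

noncomputable def autY (h₁ : ∀ f : X ⟶ Y, f = 0) (e : Aut (X ⊞ Y)) : Aut Y where
  hom := biprod.inr ≫ e.hom ≫ biprod.snd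
  inv := biprod.inr ≫ e.inv ≫ biprod.snd
  hom_inv_id := by
    rw [← Q_comp h₁, e.hom_inv_id, Category.id_comp, biprod.inr_snd]
  inv_hom_id := by
    rw [← Q_comp h₁, e.inv_hom_id, Category.id_comp, biprod.inr_snd]

/-- `Aut (X ⊞ Y) ≃ Aut X × Aut Y` when there are no nonzero maps between `X` and `Y`. -/
noncomputable def autEquiv (h₁ : ∀ f : X ⟶ Y, f = 0) (h₂ : ∀ f : Y ⟶ X, f = 0) :
    Aut (X ⊞ Y) ≃ Aut X × Aut Y where
  toFun e := (autX h₂ e, autY h₁ e)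
  invFun ab := biprod.mapIso ab.1 ab.2
  left_inv e := by
    apply Iso.ext
    apply biprod.hom_ext
    · change biprod.map _ _ ≫ biprod.fst = _
      rw [biprod.map_fst, comp_fst h₂ e.hom]
      rfl
    · change biprod.map _ _ ≫ biprod.snd = _
      rw [biprod.map_snd, comp_snd h₁ e.hom]
      rfl
  right_inv ab := by
    refine Prod.ext (Iso.ext ?_) (Iso.ext ?_)
    · change biprod.inl ≫ biprod.map _ _ ≫ biprod.fst = _
      rw [biprod.map_fst, biprod.inl_fst_assoc]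
    · change biprod.inr ≫ biprod.map _ _ ≫ biprod.snd = _
      rw [biprod.map_snd, biprod.inr_snd_assoc]

/-- (L3) -/
theorem card_aut_biprod_orth {C : Type u} [Category.{v} C] [Preadditive C]
    [HasBinaryBiproducts C] {X Y : C} (h₁ : ∀ f : X ⟶ Y, f = 0) (h₂ : ∀ f : Y ⟶ X, f = 0) :
    Nat.card (Aut (X ⊞ Y)) = Nat.card (Aut X) * Nat.card (Aut Y) := by
  rw [← Nat.card_prod]
  exact Nat.card_congr (autEquiv h₁ h₂)

end Groth.Agent.Lib.Helper26.AutBiprodOrth
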