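import Mathlib
import Groth.Prelude.Def_ArtFun4
import Groth.Agent.Lib.Helper10.FlatFibreProd

/-!
# Injectivity of the comparison map of `Def_X` from automorphism lifting
(helper26, sub-lemma Q1 for helper18 / S12317)
-/

set_option autoImplicit false
universe u

open CategoryTheory CategoryTheory.Limits AlgebraicGeometry ArtFun ArtFun.Art

namespace Groth.Agent.Lib.Helper26.AutLiftInj

variable {Λ k : Type u} [CommRing Λ] [Field k] [Algebra Λ k]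

section Glue

variable {X : Scheme.{u}} {x : X ⟶ Spec (CommRingCat.of k)} {B A₁ A₂ : Art Λ k}
  (p₁ : B ⟶ A₁) (p₂ : B ⟶ A₂) (ζ₁ ζ₂ : DefSch X x B)
  {W₁ W₂ : Scheme.{u}}
  (u₁ : W₁ ⟶ pullback ζ₁.f (specMap p₂)) (v₁ : W₁ ⟶ pullback ζ₁.f (specMap p₁))
  (hP₁ : IsPushout u₁ v₁ (pullback.fst ζ₁.f (specMap p₂)) (pullback.fst ζ₁.f (specMap p₁)))
  (u₂ : W₂ ⟶ pullback ζ₂.f (specMap p₂)) (v₂ : W₂ ⟶ pullback ζ₂.f (specMap p₁))
  (hc₂ : u₂ ≫ pullback.fst ζ₂.f (specMap p₂) = v₂ ≫ pullback.fst ζ₂.f (specMap p₁))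
  (e₁ : DefSch.Iso (ζ₁.baseChange p₁) (ζ₂.baseChange p₁))
  (e₂ : DefSch.Iso (ζ₁.baseChange p₂) (ζ₂.baseChange p₂))
  (γ : W₁ ⟶ W₂) (hu : u₁ ≫ e₂.iso.hom = γ ≫ u₂) (hv : v₁ ≫ e₁.iso.hom = γ ≫ v₂)

/-- the glued morphism of total spaces (general span) -/
noncomputable def glueG : ζ₁.total ⟶ ζ₂.total :=
  hP₁.desc (e₂.iso.hom ≫ pullback.fst ζ₂.f (specMap p₂))
    (e₁.iso.hom ≫ pullback.fst ζ₂.f (specMap p₁)) (by
      rw [← Category.assoc, hu, ← Category.assoc, hv, Category.assoc, Category.assoc, hc₂])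

@[reassoc]
lemma inl_glueG : pullback.fst ζ₁.f (specMap p₂) ≫ glueG p₁ p₂ ζ₁ ζ₂ u₁ v₁ hP₁ u₂ v₂ hc₂ e₁ e₂ γ hu hv =
    e₂.iso.hom ≫ pullback.fst ζ₂.f (specMap p₂) := hP₁.inl_desc _ _ _

@[reassoc]
lemma inr_glueG : pullback.fst ζ₁.f (specMap p₁) ≫ glueG p₁ p₂ ζ₁ ζ₂ u₁ v₁ hP₁ u₂ v₂ hc₂ e₁ e₂ γ hu hv =
    e₁.iso.hom ≫ pullback.fst ζ₂.f (specMap p₁) := hP₁.inr_desc _ _ _

lemma glueG_f : glueG p₁ p₂ ζ₁ ζ₂ u₁ v₁ hP₁ u₂ v₂ hc₂ e₁ e₂ γ hu hv ≫ ζ₂.f = ζ₁.f := by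
  apply hP₁.hom_ext
  · rw [inl_glueG_assoc, pullback.condition, ← Category.assoc]
    have := e₂.hom_f
    change e₂.iso.hom ≫ pullback.snd ζ₂.f (specMap p₂) = pullback.snd ζ₁.f (specMap p₂) at this
    rw [this, pullback.condition]
  · rw [inr_glueG_assoc, pullback.condition, ← Category.assoc]
    have := e₁.hom_f
    change e₁.iso.hom ≫ pullback.snd ζ₂.f (specMap p₁) = pullback.snd ζ₁.f (specMap p₁) at this
    rw [this, pullback.condition]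

lemma i_glueG : ζ₁.i ≫ glueG p₁ p₂ ζ₁ ζ₂ u₁ v₁ hP₁ u₂ v₂ hc₂ e₁ e₂ γ hu hv = ζ₂.i := by
  rw [← DefSch.baseChange_i_fst ζ₁ p₁, Category.assoc, inr_glueG, ← Category.assoc, e₁.i_hom,
    DefSch.baseChange_i_fst]

end Glue

/-- gluing isomorphisms of deformations along a pushout with a general span. -/
theorem iso_of_isPushoutG {X : Scheme.{u}} {x : X ⟶ Spec (CommRingCat.of k)} {B A₁ A₂ : Art Λ k}
    (p₁ : B ⟶ A₁) (p₂ : B ⟶ A₂) (ζ₁ ζ₂ : DefSch X x B) {W₁ W₂ : Scheme.{u}}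
    (u₁ : W₁ ⟶ pullback ζ₁.f (specMap p₂)) (v₁ : W₁ ⟶ pullback ζ₁.f (specMap p₁))
    (hP₁ : IsPushout u₁ v₁ (pullback.fst ζ₁.f (specMap p₂)) (pullback.fst ζ₁.f (specMap p₁)))
    (u₂ : W₂ ⟶ pullback ζ₂.f (specMap p₂)) (v₂ : W₂ ⟶ pullback ζ₂.f (specMap p₁))
    (hP₂ : IsPushout u₂ v₂ (pullback.fst ζ₂.f (specMap p₂)) (pullback.fst ζ₂.f (specMap p₁)))
    (e₁ : DefSch.Iso (ζ₁.baseChange p₁) (ζ₂.baseChange p₁))
    (e₂ : DefSch.Iso (ζ₁.baseChange p₂) (ζ₂.baseChange p₂))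
    (γ : W₁ ≅ W₂) (hu : u₁ ≫ e₂.iso.hom = γ.hom ≫ u₂) (hv : v₁ ≫ e₁.iso.hom = γ.hom ≫ v₂) :
    Nonempty (DefSch.Iso ζ₁ ζ₂) := by
  have hu' : u₂ ≫ e₂.symm.iso.hom = γ.inv ≫ u₁ := by
    change u₂ ≫ e₂.iso.inv = γ.inv ≫ u₁
    rw [← cancel_mono e₂.iso.hom, Category.assoc, Category.assoc, Iso.inv_hom_id, Category.comp_id,
      hu, Iso.inv_hom_id_assoc]
  have hv' : v₂ ≫ e₁.symm.iso.hom = γ.inv ≫ v₁ := by
    change v₂ ≫ e₁.iso.inv = γ.inv ≫ v₁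
    rw [← cancel_mono e₁.iso.hom, Category.assoc, Category.assoc, Iso.inv_hom_id, Category.comp_id,
      hv, Iso.inv_hom_id_assoc]
  refine ⟨⟨⟨glueG p₁ p₂ ζ₁ ζ₂ u₁ v₁ hP₁ u₂ v₂ hP₂.w e₁ e₂ γ.hom hu hv,
    glueG p₁ p₂ ζ₂ ζ₁ u₂ v₂ hP₂ u₁ v₁ hP₁.w e₁.symm e₂.symm γ.inv hu' hv', ?_, ?_⟩,
    glueG_f p₁ p₂ ζ₁ ζ₂ u₁ v₁ hP₁ u₂ v₂ hP₂.w e₁ e₂ γ.hom hu hv,
    i_glueG p₁ p₂ ζ₁ ζ₂ u₁ v₁ hP₁ u₂ v₂ hP₂.w e₁ e₂ γ.hom hu hv⟩⟩
  · apply hP₁.hom_ext
    · rw [inl_glueG_assoc, inl_glueG, Category.comp_id]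
      change e₂.iso.hom ≫ e₂.iso.inv ≫ _ = _
      rw [Iso.hom_inv_id_assoc]
    · rw [inr_glueG_assoc, inr_glueG, Category.comp_id]
      change e₁.iso.hom ≫ e₁.iso.inv ≫ _ = _
      rw [Iso.hom_inv_id_assoc]
  · apply hP₂.hom_ext
    · rw [inl_glueG_assoc, inl_glueG, Category.comp_id]
      change e₂.iso.inv ≫ e₂.iso.hom ≫ _ = _
      rw [Iso.inv_hom_id_assoc]
    · rw [inr_glueG_assoc, inr_glueG, Category.comp_id]
      change e₁.iso.inv ≫ e₁.iso.hom ≫ _ = _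
      rw [Iso.inv_hom_id_assoc]

section Main

variable {X : Scheme.{u}} {x : X ⟶ Spec (CommRingCat.of k)} {B A A₁ A₂ : Art Λ k}
  {p₁ : B ⟶ A₁} {p₂ : B ⟶ A₂} {f₁ : A₁ ⟶ A} {f₂ : A₂ ⟶ A}

lemma spec_w (h : IsFibreProd p₁ p₂ f₁ f₂) :
    specMap f₁ ≫ specMap p₁ = specMap f₂ ≫ specMap p₂ := by
  rw [← specMap_comp, ← specMap_comp, h.w]

/-- `Z ⟶ T¹`: the total space of `(ζ.baseChange p₂).baseChange f₂` maps to that of
`ζ.baseChange p₁`. -/
noncomputable def vMap (h : IsFibreProd p₁ p₂ f₁ f₂) (ζ : DefSch X x B) :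
    pullback (pullback.snd ζ.f (specMap p₂)) (specMap f₂) ⟶ pullback ζ.f (specMap p₁) :=
  pullback.lift
    (pullback.fst (pullback.snd ζ.f (specMap p₂)) (specMap f₂) ≫ pullback.fst ζ.f (specMap p₂))
    (pullback.snd (pullback.snd ζ.f (specMap p₂)) (specMap f₂) ≫ specMap f₁) (by
      have c1 : pullback.fst ζ.f (specMap p₂) ≫ ζ.f =
          pullback.snd ζ.f (specMap p₂) ≫ specMap p₂ := pullback.condition
      have c2 : pullback.fst (pullback.snd ζ.f (specMap p₂)) (specMap f₂) ≫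
          pullback.snd ζ.f (specMap p₂) =
          pullback.snd (pullback.snd ζ.f (specMap p₂)) (specMap f₂) ≫ specMap f₂ :=
        pullback.condition
      rw [Category.assoc, c1, ← Category.assoc, c2, Category.assoc, Category.assoc, spec_w h])

@[reassoc]
lemma vMap_fst (h : IsFibreProd p₁ p₂ f₁ f₂) (ζ : DefSch X x B) :
    vMap h ζ ≫ pullback.fst ζ.f (specMap p₁) =
      pullback.fst (pullback.snd ζ.f (specMap p₂)) (specMap f₂) ≫
        pullback.fst ζ.f (specMap p₂) := pullback.lift_fst _ _ _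

@[reassoc]
lemma vMap_snd (h : IsFibreProd p₁ p₂ f₁ f₂) (ζ : DefSch X x B) :
    vMap h ζ ≫ pullback.snd ζ.f (specMap p₁) =
      pullback.snd (pullback.snd ζ.f (specMap p₂)) (specMap f₂) ≫ specMap f₁ :=
  pullback.lift_snd _ _ _

lemma isPullback_v (h : IsFibreProd p₁ p₂ f₁ f₂) (ζ : DefSch X x B) :
    IsPullback (vMap h ζ) (pullback.snd (pullback.snd ζ.f (specMap p₂)) (specMap f₂))
      (pullback.snd ζ.f (specMap p₁)) (specMap f₁) := by
  have big : IsPullback (pullback.fst (pullback.snd ζ.f (specMap p₂)) (specMap f₂) ≫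
      pullback.fst ζ.f (specMap p₂)) (pullback.snd (pullback.snd ζ.f (specMap p₂)) (specMap f₂))
      ζ.f (specMap f₂ ≫ specMap p₂) :=
    IsPullback.paste_horiz (IsPullback.of_hasPullback (pullback.snd ζ.f (specMap p₂)) (specMap f₂))
      (IsPullback.of_hasPullback ζ.f (specMap p₂))
  refine IsPullback.of_right ?_ (vMap_snd h ζ) (IsPullback.of_hasPullback ζ.f (specMap p₁))
  rw [vMap_fst, spec_w h]
  exact big

lemma isPushout_uv (h : IsFibreProd p₁ p₂ f₁ f₂) (hf₂ : Function.Surjective f₂)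
    (ζ : DefSch X x B) :
    IsPushout (pullback.fst (pullback.snd ζ.f (specMap p₂)) (specMap f₂)) (vMap h ζ)
      (pullback.fst ζ.f (specMap p₂)) (pullback.fst ζ.f (specMap p₁)) := by
  have hw : CommRingCat.ofHom p₁.toAlgHom.toRingHom ≫ CommRingCat.ofHom f₁.toAlgHom.toRingHom =
      CommRingCat.ofHom p₂.toAlgHom.toRingHom ≫ CommRingCat.ofHom f₂.toAlgHom.toRingHom := by
    ext b
    exact h.w_apply b
  have hinj : ∀ b : B, p₁ b = 0 → p₂ b = 0 → b = 0 := fun b e1 e2 =>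
    h.inj b 0 (e1.trans (map_zero p₁.toAlgHom).symm) (e2.trans (map_zero p₂.toAlgHom).symm)
  exact Groth.Agent.Lib.Helper10.FlatFibreProd.isPushout_of_flat_fibreProd
    (CommRingCat.ofHom p₁.toAlgHom.toRingHom) (CommRingCat.ofHom p₂.toAlgHom.toRingHom)
    (CommRingCat.ofHom f₁.toAlgHom.toRingHom) (CommRingCat.ofHom f₂.toAlgHom.toRingHom)
    hw hinj h.surj hf₂
    ζ.f (pullback.snd ζ.f (specMap p₁)) (pullback.snd ζ.f (specMap p₂))
    (pullback.snd (pullback.snd ζ.f (specMap p₂)) (specMap f₂))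
    (pullback.fst ζ.f (specMap p₁)) (pullback.fst ζ.f (specMap p₂))
    (vMap h ζ) (pullback.fst (pullback.snd ζ.f (specMap p₂)) (specMap f₂))
    (IsPullback.of_hasPullback _ _) (IsPullback.of_hasPullback _ _)
    (isPullback_v h ζ) (IsPullback.of_hasPullback _ _)
    (vMap_fst h ζ)

lemma iZ_snd (ζ : DefSch X x B) :
    ((ζ.baseChange p₂).baseChange f₂).i ≫
      pullback.snd (pullback.snd ζ.f (specMap p₂)) (specMap f₂) = x ≫ specRes A :=
  DefSch.baseChange_i_f (ζ.baseChange p₂) f₂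

lemma iZ_fst (ζ : DefSch X x B) :
    ((ζ.baseChange p₂).baseChange f₂).i ≫
      pullback.fst (pullback.snd ζ.f (specMap p₂)) (specMap f₂) = (ζ.baseChange p₂).i :=
  DefSch.baseChange_i_fst (ζ.baseChange p₂) f₂

lemma iZ_v (h : IsFibreProd p₁ p₂ f₁ f₂) (ζ : DefSch X x B) :
    ((ζ.baseChange p₂).baseChange f₂).i ≫ vMap h ζ = (ζ.baseChange p₁).i := by
  apply pullback.hom_ext
  · rw [Category.assoc, vMap_fst, ← Category.assoc, iZ_fst, DefSch.baseChange_i_fst,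
      DefSch.baseChange_i_fst]
  · rw [Category.assoc, vMap_snd, ← Category.assoc, iZ_snd, Category.assoc, specRes_comp]
    exact (DefSch.baseChange_i_f ζ p₁).symm

/-- the isomorphism of the restrictions to `A` induced by `e₁` -/
noncomputable def gamma1 (h : IsFibreProd p₁ p₂ f₁ f₂) (ζ₁ ζ₂ : DefSch X x B)
    (e₁ : DefSch.Iso (ζ₁.baseChange p₁) (ζ₂.baseChange p₁)) :
    DefSch.Iso ((ζ₁.baseChange p₂).baseChange f₂) ((ζ₂.baseChange p₂).baseChange f₂) where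
  iso :=
    { hom := (isPullback_v h ζ₂).lift (vMap h ζ₁ ≫ e₁.iso.hom)
        (pullback.snd (pullback.snd ζ₁.f (specMap p₂)) (specMap f₂)) (by
          have := e₁.hom_f
          change e₁.iso.hom ≫ pullback.snd ζ₂.f (specMap p₁) = pullback.snd ζ₁.f (specMap p₁)
            at this
          rw [Category.assoc, this, vMap_snd])
      inv := (isPullback_v h ζ₁).lift (vMap h ζ₂ ≫ e₁.iso.inv)
        (pullback.snd (pullback.snd ζ₂.f (specMap p₂)) (specMap f₂)) (by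
          have := e₁.symm.hom_f
          change e₁.iso.inv ≫ pullback.snd ζ₁.f (specMap p₁) = pullback.snd ζ₂.f (specMap p₁)
            at this
          rw [Category.assoc, this, vMap_snd])
      hom_inv_id := by
        apply (isPullback_v h ζ₁).hom_ext
        · rw [Category.assoc, IsPullback.lift_fst, IsPullback.lift_fst_assoc, Category.assoc,
            Iso.hom_inv_id, Category.comp_id, Category.id_comp]
        · rw [Category.assoc, IsPullback.lift_snd, IsPullback.lift_snd, Category.id_comp]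
      inv_hom_id := by
        apply (isPullback_v h ζ₂).hom_ext
        · rw [Category.assoc, IsPullback.lift_fst, IsPullback.lift_fst_assoc, Category.assoc,
            Iso.inv_hom_id, Category.comp_id, Category.id_comp]
        · rw [Category.assoc, IsPullback.lift_snd, IsPullback.lift_snd, Category.id_comp] }
  hom_f := (isPullback_v h ζ₂).lift_snd _ _ _
  i_hom := by
    apply (isPullback_v h ζ₂).hom_ext
    · rw [Category.assoc, IsPullback.lift_fst, ← Category.assoc, iZ_v, e₁.i_hom, iZ_v]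
    · rw [Category.assoc, IsPullback.lift_snd, iZ_snd, iZ_snd]

lemma gamma1_v (h : IsFibreProd p₁ p₂ f₁ f₂) (ζ₁ ζ₂ : DefSch X x B)
    (e₁ : DefSch.Iso (ζ₁.baseChange p₁) (ζ₂.baseChange p₁)) :
    (gamma1 h ζ₁ ζ₂ e₁).iso.hom ≫ vMap h ζ₂ = vMap h ζ₁ ≫ e₁.iso.hom :=
  (isPullback_v h ζ₂).lift_fst _ _ _

/-- (Q1) injectivity of the comparison map from lifting of automorphisms. -/
theorem inj_of_autLift {X : Scheme.{u}} {x : X ⟶ Spec (CommRingCat.of k)} {B A A₁ A₂ : Art Λ k}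
    {p₁ : B ⟶ A₁} {p₂ : B ⟶ A₂} {f₁ : A₁ ⟶ A} {f₂ : A₂ ⟶ A}
    (h : IsFibreProd p₁ p₂ f₁ f₂) (hf₂ : Function.Surjective f₂)
    (hlift : ∀ ξ' : DefSch X x A₂, Function.Surjective (fun e : ξ'.Iso ξ' => e.baseChange f₂)) :
    Function.Injective (cmp (defFunctor (Λ := Λ) X x) h) := by
  intro c₁ c₂ hc
  induction c₁ using Quotient.inductionOn with
  | h ζ₁ =>
  induction c₂ using Quotient.inductionOn with
  | h ζ₂ =>
  have h1 : (ζ₁.baseChange p₁).cl = (ζ₂.baseChange p₁).cl :=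
    congrArg (fun z => z.1.1) hc
  have h2 : (ζ₁.baseChange p₂).cl = (ζ₂.baseChange p₂).cl :=
    congrArg (fun z => z.1.2) hc
  obtain ⟨e₁⟩ : Nonempty (DefSch.Iso (ζ₁.baseChange p₁) (ζ₂.baseChange p₁)) := Quotient.exact h1
  obtain ⟨e₂⟩ : Nonempty (DefSch.Iso (ζ₁.baseChange p₂) (ζ₂.baseChange p₂)) := Quotient.exact h2
  -- the two isomorphisms over `A`
  let G₁ := gamma1 h ζ₁ ζ₂ e₁
  let G₂ := e₂.baseChange f₂
  obtain ⟨et, het⟩ := hlift (ζ₁.baseChange p₂) (G₁.trans G₂.symm)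
  have het' : DefSch.pullMap et.iso.hom et.hom_f f₂ = G₁.iso.hom ≫ G₂.iso.inv :=
    congrArg (fun t => t.iso.hom) het
  have hG₂ : G₂.iso.hom ≫ pullback.fst (pullback.snd ζ₂.f (specMap p₂)) (specMap f₂) =
      pullback.fst (pullback.snd ζ₁.f (specMap p₂)) (specMap f₂) ≫ e₂.iso.hom :=
    DefSch.pullMap_fst e₂.iso.hom e₂.hom_f f₂
  have het'' : pullback.fst (pullback.snd ζ₁.f (specMap p₂)) (specMap f₂) ≫ et.iso.hom =
      DefSch.pullMap et.iso.hom et.hom_f f₂ ≫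
        pullback.fst (pullback.snd ζ₁.f (specMap p₂)) (specMap f₂) :=
    (DefSch.pullMap_fst et.iso.hom et.hom_f f₂).symm
  refine Quotient.sound (iso_of_isPushoutG p₁ p₂ ζ₁ ζ₂
    (pullback.fst (pullback.snd ζ₁.f (specMap p₂)) (specMap f₂)) (vMap h ζ₁)
    (isPushout_uv h hf₂ ζ₁)
    (pullback.fst (pullback.snd ζ₂.f (specMap p₂)) (specMap f₂)) (vMap h ζ₂)
    (isPushout_uv h hf₂ ζ₂) e₁ (et.trans e₂) G₁.iso ?_ (gamma1_v h ζ₁ ζ₂ e₁).symm)
  change pullback.fst (pullback.snd ζ₁.f (specMap p₂)) (specMap f₂) ≫ et.iso.hom ≫ e₂.iso.hom = _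
  rw [← Category.assoc, het'', het', Category.assoc, Category.assoc, ← hG₂, Iso.inv_hom_id_assoc]

end Main

end Groth.Agent.Lib.Helper26.AutLiftInj
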