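import Mathlib
import Groth.Agent.Lib.Helper18.HullU
import Groth.Agent.Lib.Helper19.ArtFunLength

/-!
# Automorphism lifting from pro-representability of `Def_X`
(helper26, sub-lemma for helper18 / S12309, direction `⇒`)
-/

set_option autoImplicit false
universe u v

open CategoryTheory CategoryTheory.Limits AlgebraicGeometry ArtFun ArtFun.Art

namespace Groth.Agent.Lib.Helper26.AutLiftProrep

/-- for a pro-representable functor the comparison map of any fibre-product square is injective -/
theorem cmp_injective_of_prorep {Λ k : Type u} [CommRing Λ] [Field k] [Algebra Λ k]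
    (F : Art Λ k ⥤ Type v) (hpro : IsProrepresentable F)
    {B A A₁ A₂ : Art Λ k} {p₁ : B ⟶ A₁} {p₂ : B ⟶ A₂} {f₁ : A₁ ⟶ A} {f₂ : A₂ ⟶ A}
    (h : IsFibreProd p₁ p₂ f₁ f₂) : Function.Injective (cmp F h) := by
  obtain ⟨P⟩ := hpro
  intro z₁ z₂ hz
  obtain ⟨ψ₁, rfl⟩ := (P.universal B).2 z₁
  obtain ⟨ψ₂, rfl⟩ := (P.universal B).2 z₂
  have h1 : F.map p₁ (P.family.app B ψ₁) = F.map p₁ (P.family.app B ψ₂) :=
    congrArg (fun z => z.1.1) hz
  have h2 : F.map p₂ (P.family.app B ψ₁) = F.map p₂ (P.family.app B ψ₂) :=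
    congrArg (fun z => z.1.2) hz
  rw [← P.family.natural, ← P.family.natural] at h1 h2
  have e1 := (P.universal A₁).1 h1
  have e2 := (P.universal A₂).1 h2
  have : ψ₁ = ψ₂ := by
    apply Subtype.ext
    apply AlgHom.ext
    intro r
    apply h.inj
    · exact congrArg (fun φ : HomSet P.ring.carrier P.ring.res A₁ => φ.1 r) e1
    · exact congrArg (fun φ : HomSet P.ring.carrier P.ring.res A₂ => φ.1 r) e2
  rw [this]

/-- automorphism lifting along every surjection, from pro-representability of `Def_X`. -/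
theorem autLift_of_prorep {Λ k : Type u} [CommRing Λ] [IsNoetherianRing Λ] [Field k] [Algebra Λ k]
    (hk : Function.Surjective (algebraMap Λ k)) (X : Scheme.{u})
    (x : X ⟶ Spec (CommRingCat.of k))
    (hpro : ArtFun.IsProrepresentable (ArtFun.defFunctor (Λ := Λ) X x)) :
    ∀ (A' A : ArtFun.Art Λ k) (p : A' ⟶ A), Function.Surjective p →
      ∀ ξ' : ArtFun.DefSch (Λ := Λ) X x A',
        Function.Surjective (fun e : ξ'.Iso ξ' => e.baseChange p) := by
  intro A' A p hp ξ'
  haveI : Module.Finite Λ k := Module.Finite.of_surjective (Algebra.linearMap Λ k) hk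
  obtain ⟨B, π₁, π₂, hB⟩ := Groth.Agent.Lib.Helper19.ArtFunLength.exists_isFibreProd p p hp
  exact Groth.Agent.Lib.Helper18.HullU.autLift_of_inj hB hp
    (cmp_injective_of_prorep _ hpro hB) ξ'

end Groth.Agent.Lib.Helper26.AutLiftProrep
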