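import Mathlib.RingTheory.Ideal.Quotient.Operations
import Mathlib.RingTheory.Localization.Away.Basic
import Mathlib.RingTheory.Localization.Ideal
import Mathlib.RingTheory.Spectrum.Prime.Topology

/-!
# Principal localizations `R_s` with `s ≡ 1 mod K` (helper26)

* `quotientMap_away_bijective` : if `1 - s ∈ K` then `R/K → R_s / K R_s` is bijective.
* `exists_away_cover` : if every prime containing `K` avoids some element of `G`, there is
  `s ∈ span G` with `1 - s ∈ K`.
* `exists_basicOpen_subset` : an open subset of `Spec R` containing `V(K)` contains some `D(s)` with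
  `1 - s ∈ K`.
-/

namespace Groth.Agent.Lib.Helper26.AwayCover

variable {R : Type*} [CommRing R] (K : Ideal R)

lemma quotientMap_away_bijective (g : R) (hg : 1 - g ∈ K) :
    Function.Bijective (Ideal.quotientMap (K.map (algebraMap R (Localization.Away g)))
      (algebraMap R (Localization.Away g)) Ideal.le_comap_map) := by
  have hpow : ∀ n : ℕ, 1 - g ^ n ∈ K := by
    intro n
    rw [← Ideal.Quotient.eq_zero_iff_mem, map_sub, map_pow, map_one]
    have : Ideal.Quotient.mk K g = 1 := by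
      have := Ideal.Quotient.eq_zero_iff_mem.mpr hg
      rw [map_sub, map_one, sub_eq_zero] at this
      exact this.symm
    rw [this, one_pow, sub_self]
  constructor
  · rw [injective_iff_map_eq_zero]
    intro x hx
    obtain ⟨r, rfl⟩ := Ideal.Quotient.mk_surjective x
    rw [Ideal.quotientMap_mk, Ideal.Quotient.eq_zero_iff_mem,
      IsLocalization.mem_map_algebraMap_iff (Submonoid.powers g)] at hx
    obtain ⟨⟨i, m⟩, hm⟩ := hx
    rw [← map_mul, IsLocalization.eq_iff_exists (Submonoid.powers g)] at hm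
    obtain ⟨m', hm'⟩ := hm
    obtain ⟨a, ha⟩ := m.2
    obtain ⟨b, hb⟩ := m'.2
    simp only at ha hb hm'
    rw [Ideal.Quotient.eq_zero_iff_mem]
    have h1 : g ^ (b + a) * r ∈ K := by
      have : g ^ (b + a) * r = (m' : R) * (i : R) := by
        rw [pow_add, hb, ha, ← hm']; ring
      rw [this]
      exact Ideal.mul_mem_left _ _ i.2
    have h2 : r = g ^ (b + a) * r + (1 - g ^ (b + a)) * r := by ring
    rw [h2]
    exact Ideal.add_mem _ h1 (Ideal.mul_mem_right _ _ (hpow _))
  · intro y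
    obtain ⟨y, rfl⟩ := Ideal.Quotient.mk_surjective y
    obtain ⟨⟨x, m⟩, hxm⟩ := IsLocalization.surj (Submonoid.powers g) y
    obtain ⟨n, hn⟩ := m.2
    simp only at hn
    refine ⟨Ideal.Quotient.mk K x, ?_⟩
    rw [Ideal.quotientMap_mk, Ideal.Quotient.eq]
    have h1 : algebraMap R (Localization.Away g) x - y =
        - (y * algebraMap R (Localization.Away g) (1 - g ^ n)) := by
      simp only at hxm
      rw [map_sub, map_one, hn, ← hxm]; ring
    rw [h1]
    exact Ideal.neg_mem_iff _ |>.mpr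
      (Ideal.mul_mem_left _ _ (Ideal.mem_map_of_mem _ (hpow n)))

lemma exists_away_cover (G : Set R)
    (h : ∀ (p : Ideal R) [p.IsPrime], K ≤ p → ∃ g ∈ G, g ∉ p) :
    ∃ s ∈ Ideal.span G, 1 - s ∈ K := by
  have htop : K ⊔ Ideal.span G = ⊤ := by
    by_contra hne
    obtain ⟨m, hm, hle⟩ := Ideal.exists_le_maximal _ hne
    haveI := hm.isPrime
    obtain ⟨g, hgG, hgm⟩ := h m (le_trans le_sup_left hle)
    exact hgm (hle (Ideal.mem_sup_right (Ideal.subset_span hgG)))
  obtain ⟨j, hj, s, hs, hjs⟩ := Submodule.mem_sup.mp (htop ▸ Submodule.mem_top (x := (1 : R)))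
  refine ⟨s, hs, ?_⟩
  have : 1 - s = j := by rw [← hjs]; ring
  rw [this]; exact hj

lemma exists_basicOpen_subset (U : Set (PrimeSpectrum R)) (hU : IsOpen U)
    (hKU : PrimeSpectrum.zeroLocus (K : Set R) ⊆ U) :
    ∃ s : R, 1 - s ∈ K ∧ (PrimeSpectrum.basicOpen s : Set (PrimeSpectrum R)) ⊆ U := by
  let G : Set R := {g | (PrimeSpectrum.basicOpen g : Set (PrimeSpectrum R)) ⊆ U}
  have h : ∀ (p : Ideal R) [p.IsPrime], K ≤ p → ∃ g ∈ G, g ∉ p := by
    intro p hp hKp
    have hpU : (⟨p, hp⟩ : PrimeSpectrum R) ∈ U := hKU (by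
      rw [PrimeSpectrum.mem_zeroLocus]; exact hKp)
    obtain ⟨_, ⟨_, ⟨g, rfl⟩, rfl⟩, hpg, hgU⟩ :=
      PrimeSpectrum.isBasis_basic_opens.exists_subset_of_mem_open hpU hU
    exact ⟨g, hgU, hpg⟩
  obtain ⟨s, hs, hsK⟩ := exists_away_cover K G h
  refine ⟨s, hsK, ?_⟩
  intro q hq
  by_contra hqU
  have hGq : Ideal.span G ≤ q.asIdeal := by
    rw [Ideal.span_le]
    intro g hg
    by_contra hgq
    exact hqU (hg hgq)
  exact hq (hGq hs)

end Groth.Agent.Lib.Helper26.AwayCover
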