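import Mathlib

/-!
# A Noetherian `ℕ`-graded ring is of finite type over its degree-zero part (helper26)

Consequently the degree-zero localisations `A_(f)` are Noetherian.
-/

set_option autoImplicit false
open DirectSum

namespace Groth.Agent.Lib.Helper26.GradedFT

variable {A σ : Type*} [CommRing A] [SetLike σ A] [AddSubgroupClass σ A]
  (𝒜 : ℕ → σ) [GradedRing 𝒜]

/-- A Noetherian `ℕ`-graded ring is a finitely generated algebra over its degree-zero part. -/
theorem finiteType_of_isNoetherianRing [IsNoetherianRing A] : Algebra.FiniteType (𝒜 0) A := by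
  classical
  obtain ⟨s, hs⟩ := (isNoetherianRing_iff_ideal_fg A).mp inferInstance
    (HomogeneousIdeal.irrelevant 𝒜).toIdeal
  let T : Finset A := s.biUnion fun g =>
    (decompose 𝒜 g).support.image fun i => ((decompose 𝒜 g i : 𝒜 i) : A)
  have hT : ∀ t ∈ T, ∃ i : ℕ, 0 < i ∧ t ∈ 𝒜 i := by
    intro t ht
    obtain ⟨g, hg, ht⟩ := Finset.mem_biUnion.mp ht
    obtain ⟨i, hi, rfl⟩ := Finset.mem_image.mp ht
    refine ⟨i, ?_, SetLike.coe_mem _⟩
    rw [Nat.pos_iff_ne_zero]
    rintro rfl
    have hgI : g ∈ (HomogeneousIdeal.irrelevant 𝒜).toIdeal := by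
      rw [← hs]; exact Ideal.subset_span hg
    have h0 : ((decompose 𝒜 g 0 : 𝒜 0) : A) = 0 := by
      have h1 := (HomogeneousIdeal.mem_irrelevant_iff 𝒜 g).mp hgI
      rwa [GradedRing.proj_apply] at h1
    rw [DFinsupp.mem_support_iff] at hi
    exact hi (Subtype.ext (h0.trans (ZeroMemClass.coe_zero _).symm))
  have hspan : ∀ a ∈ (HomogeneousIdeal.irrelevant 𝒜).toIdeal, a ∈ Ideal.span (T : Set A) := by
    intro a ha
    rw [← hs] at ha
    refine Ideal.span_le.mpr ?_ ha
    intro g hg
    have hg' : g ∈ s := Finset.mem_coe.mp hg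
    have hsum := DirectSum.sum_support_decompose 𝒜 g
    have hmem : ∑ i ∈ (decompose 𝒜 g).support, ((decompose 𝒜 g i : 𝒜 i) : A) ∈
        Ideal.span (T : Set A) := by
      refine Ideal.sum_mem _ fun i hi => Ideal.subset_span ?_
      rw [Finset.mem_coe, Finset.mem_biUnion]
      exact ⟨g, hg', Finset.mem_image_of_mem _ hi⟩
    rw [hsum] at hmem
    exact hmem
  choose! dg hdg using hT
  have hclaim : ∀ n : ℕ, ∀ a ∈ 𝒜 n, a ∈ Algebra.adjoin (𝒜 0) (T : Set A) := by
    intro n
    induction n using Nat.strong_induction_on with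
    | _ n ih =>
      intro a ha
      rcases Nat.eq_zero_or_pos n with rfl | hn
      · have h1 : a = algebraMap (𝒜 0) A ⟨a, ha⟩ := rfl
        rw [h1]
        exact Subalgebra.algebraMap_mem _ _
      · have haI : a ∈ (HomogeneousIdeal.irrelevant 𝒜).toIdeal :=
          HomogeneousIdeal.mem_irrelevant_of_mem 𝒜 hn ha
        obtain ⟨c, -, hc⟩ := Submodule.mem_span_finset.mp (hspan a haI)
        have h1 : a = ∑ t ∈ T, GradedRing.proj 𝒜 n (c t • t) := by
          have h2 := congrArg (GradedRing.proj 𝒜 n) hc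
          rw [map_sum] at h2
          have h3 : GradedRing.proj 𝒜 n a = a := by
            rw [GradedRing.proj_apply, DirectSum.decompose_of_mem_same 𝒜 ha]
          rw [h3] at h2
          exact h2.symm
        rw [h1]
        refine Subalgebra.sum_mem _ fun t ht => ?_
        rw [GradedRing.proj_apply, smul_eq_mul]
        by_cases hle : dg t ≤ n
        · rw [DirectSum.coe_decompose_mul_of_right_mem_of_le 𝒜 (hdg t ht).2 hle]
          refine Subalgebra.mul_mem _ (ih (n - dg t) ?_ _ (SetLike.coe_mem _))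
            (Algebra.subset_adjoin (Finset.mem_coe.mpr ht))
          have := (hdg t ht).1
          omega
        · rw [DirectSum.coe_decompose_mul_of_right_mem_of_not_le 𝒜 (hdg t ht).2 hle]
          exact Subalgebra.zero_mem _
  have htop : Algebra.adjoin (𝒜 0) (T : Set A) = ⊤ := by
    refine eq_top_iff.mpr fun a _ => ?_
    rw [← DirectSum.sum_support_decompose 𝒜 a]
    exact Subalgebra.sum_mem _ fun i _ => hclaim i _ (SetLike.coe_mem _)
  exact ⟨⟨T, htop⟩⟩

/-- For a Noetherian `ℕ`-graded ring `A` and homogeneous `f`, the ring `A_(f)` is Noetherian. -/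
theorem isNoetherianRing_away [IsNoetherianRing A] {f : A} {d : ℕ} (hf : f ∈ 𝒜 d) :
    IsNoetherianRing (HomogeneousLocalization.Away 𝒜 f) := by
  haveI := finiteType_of_isNoetherianRing 𝒜
  haveI : Algebra.FiniteType (𝒜 0) (HomogeneousLocalization.Away 𝒜 f) :=
    HomogeneousLocalization.Away.finiteType f d hf
  exact Algebra.FiniteType.isNoetherianRing (𝒜 0) _

end Groth.Agent.Lib.Helper26.GradedFT
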