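import Mathlib
import Groth.Agent.Lib.Helper26.GradedFiniteType

/-!
# Ideals of `A_(f)` contracted from `A_f`, and their heights (helper26)

For an `ℕ`-graded ring `A`, homogeneous `f` of positive degree and an ideal `J` of `A`, `locI 𝒜 J f`
is the contraction to `A_(f)` of `J · A_f`. Every prime of `A_(f)` is of this form for a prime of `A`
not containing `f` (Mathlib's `Proj` charts). We bound heights of such ideals for ideals generated
by homogeneous sequences chosen by prime avoidance.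
-/

set_option autoImplicit false
open DirectSum

namespace Groth.Agent.Lib.Helper26.AwayPrimes

variable {A σ : Type*} [CommRing A] [SetLike σ A] [AddSubgroupClass σ A]
  (𝒜 : ℕ → σ) [GradedRing 𝒜]

/-- the contraction to `A_(f)` of `J · A_f`. -/
def locI (J : Ideal A) (f : A) : Ideal (HomogeneousLocalization.Away 𝒜 f) :=
  (J.map (algebraMap A (Localization.Away f))).comap
    (algebraMap (HomogeneousLocalization.Away 𝒜 f) (Localization.Away f))

variable {𝒜} in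
lemma locI_mono {J J' : Ideal A} (h : J ≤ J') (f : A) : locI 𝒜 J f ≤ locI 𝒜 J' f :=
  Ideal.comap_mono (Ideal.map_mono h)

lemma pow_mem_aux {z : A} {k : ℕ} (hz : z ∈ 𝒜 k) (d : ℕ) : z ^ d ∈ 𝒜 (k • d) := by
  have h := SetLike.pow_mem_graded d hz
  rwa [smul_eq_mul, mul_comm, ← smul_eq_mul] at h

lemma mk_mem_locI_iff {f : A} {d : ℕ} (hf : f ∈ 𝒜 d) (n : ℕ) (x : A) (hx : x ∈ 𝒜 (n • d))
    (J : Ideal A) :
    HomogeneousLocalization.Away.mk 𝒜 hf n x hx ∈ locI 𝒜 J f ↔ ∃ N : ℕ, f ^ N * x ∈ J := by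
  rw [locI, Ideal.mem_comap, HomogeneousLocalization.algebraMap_apply,
    HomogeneousLocalization.Away.val_mk, Localization.mk_eq_mk',
    IsLocalization.mk'_mem_map_algebraMap_iff (Submonoid.powers f)]
  constructor
  · rintro ⟨s, ⟨N, rfl⟩, hs⟩
    exact ⟨N, hs⟩
  · rintro ⟨N, hN⟩
    exact ⟨f ^ N, ⟨N, rfl⟩, hN⟩

lemma mk_pow_mem_locI {f : A} {d : ℕ} (hf : f ∈ 𝒜 d) (hd : 0 < d) {z : A} {k : ℕ}
    (hz : z ∈ 𝒜 k) {J : Ideal A} (hzJ : z ∈ J) :
    HomogeneousLocalization.Away.mk 𝒜 hf k (z ^ d) (pow_mem_aux 𝒜 hz d) ∈ locI 𝒜 J f := by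
  rw [mk_mem_locI_iff]
  exact ⟨0, by rw [pow_zero, one_mul]; exact Ideal.pow_mem_of_mem J hzJ d hd⟩

lemma mem_of_mk_pow_mem_locI {f : A} {d : ℕ} (hf : f ∈ 𝒜 d) {p : Ideal A} [hp : p.IsPrime]
    (hfp : f ∉ p) {z : A} {k : ℕ} (hz : z ∈ 𝒜 k)
    (h : HomogeneousLocalization.Away.mk 𝒜 hf k (z ^ d) (pow_mem_aux 𝒜 hz d) ∈ locI 𝒜 p f) :
    z ∈ p := by
  rw [mk_mem_locI_iff] at h
  obtain ⟨N, hN⟩ := h
  rcases hp.mem_or_mem hN with h1 | h1
  · exact absurd (hp.mem_of_pow_mem _ h1) hfp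
  · exact hp.mem_of_pow_mem _ h1

lemma isPrime_locI {f : A} {p : Ideal A} [hp : p.IsPrime] (hfp : f ∉ p) :
    (locI 𝒜 p f).IsPrime := by
  haveI : (p.map (algebraMap A (Localization.Away f))).IsPrime :=
    IsLocalization.isPrime_of_isPrime_disjoint (Submonoid.powers f) _ p hp
      ((Ideal.disjoint_powers_iff_notMem_of_isPrime f).mpr hfp)
  exact Ideal.IsPrime.comap _

lemma locI_ne_top {f : A} {J : Ideal A} (hfJ : f ∉ J.radical) : locI 𝒜 J f ≠ ⊤ := by
  intro h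
  have h1 : (1 : HomogeneousLocalization.Away 𝒜 f) ∈ locI 𝒜 J f := by
    rw [h]; exact Submodule.mem_top
  rw [locI, Ideal.mem_comap, map_one] at h1
  have h2 := (IsLocalization.mk'_mem_map_algebraMap_iff (Submonoid.powers f)
    (Localization.Away f) J 1 1).mp (by rw [IsLocalization.mk'_one, map_one]; exact h1)
  obtain ⟨s, ⟨N, rfl⟩, hs⟩ := h2
  rw [mul_one] at hs
  exact hfJ (Ideal.mem_radical_iff.mpr ⟨N, hs⟩)

open AlgebraicGeometry in
/-- Every prime of `A_(f)` is contracted from a prime of `A` not containing `f`. -/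
theorem exists_prime_locI_eq {f : A} {d : ℕ} (hf : f ∈ 𝒜 d) (hd : 0 < d)
    (𝔓 : Ideal (HomogeneousLocalization.Away 𝒜 f)) [h𝔓 : 𝔓.IsPrime] :
    ∃ p : Ideal A, p.IsPrime ∧ f ∉ p ∧ locI 𝒜 p f = 𝔓 := by
  let x : PrimeSpectrum (HomogeneousLocalization.Away 𝒜 f) := ⟨𝔓, h𝔓⟩
  refine ⟨ProjIsoSpecTopComponent.FromSpec.carrier.asIdeal hf hd x,
    ProjIsoSpecTopComponent.FromSpec.carrier.asIdeal.prime hf hd x,
    ProjIsoSpecTopComponent.FromSpec.carrier.denom_notMem hf hd x, ?_⟩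
  have h := congrArg PrimeSpectrum.asIdeal (ProjIsoSpecTopComponent.toSpec_fromSpec 𝒜 hf hd x)
  exact h

/-- Upper bound (Krull): the contraction of an ideal generated by `n` homogeneous elements of `J`
has height at most `n`, if `f ∉ √J`. -/
theorem height_locI_ofList_le [IsNoetherianRing A] {f : A} {d : ℕ} (hf : f ∈ 𝒜 d) (hd : 0 < d)
    (J : Ideal A) (hfJ : f ∉ J.radical) (ws : List A)
    (hws : ∀ z ∈ ws, (∃ n : ℕ, 0 < n ∧ z ∈ 𝒜 n) ∧ z ∈ J) :
    (locI 𝒜 (Ideal.ofList ws) f).height ≤ ws.length := by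
  classical
  haveI : IsNoetherianRing (HomogeneousLocalization.Away 𝒜 f) :=
    Groth.Agent.Lib.Helper26.GradedFT.isNoetherianRing_away 𝒜 hf
  have hdeg : ∀ z ∈ ws, ∃ n : ℕ, z ∈ 𝒜 n := fun z hz => by
    obtain ⟨n, _, h⟩ := (hws z hz).1
    exact ⟨n, h⟩
  choose! dg hdg using hdeg
  let fr : A → HomogeneousLocalization.Away 𝒜 f := fun z =>
    if hz : z ∈ 𝒜 (dg z) then
      HomogeneousLocalization.Away.mk 𝒜 hf (dg z) (z ^ d) (pow_mem_aux 𝒜 hz d) else 0
  have hfr : ∀ z (hz : z ∈ ws), fr z =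
      HomogeneousLocalization.Away.mk 𝒜 hf (dg z) (z ^ d) (pow_mem_aux 𝒜 (hdg z hz) d) :=
    fun z hz => dif_pos (hdg z hz)
  have hofJ : Ideal.ofList ws ≤ J := Ideal.span_le.mpr fun z hz => (hws z hz).2
  have hKle : Ideal.span (((ws.map fr).toFinset : Finset _) : Set (HomogeneousLocalization.Away 𝒜 f))
      ≤ locI 𝒜 (Ideal.ofList ws) f := by
    refine Ideal.span_le.mpr ?_
    intro x hx
    rw [Finset.mem_coe, List.mem_toFinset, List.mem_map] at hx
    obtain ⟨z, hz, rfl⟩ := hx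
    rw [hfr z hz]
    exact mk_pow_mem_locI 𝒜 hf hd (hdg z hz) (Ideal.subset_span hz)
  have hKtop : Ideal.span (((ws.map fr).toFinset : Finset _) :
      Set (HomogeneousLocalization.Away 𝒜 f)) ≠ ⊤ := by
    intro h
    refine locI_ne_top 𝒜 hfJ (top_le_iff.mp ?_)
    rw [← h]
    exact hKle.trans (locI_mono hofJ f)
  obtain ⟨⟨𝔓, h𝔓⟩⟩ := Ideal.nonempty_minimalPrimes hKtop
  haveI := h𝔓.1.1
  obtain ⟨p, hp, hfp, hpeq⟩ := exists_prime_locI_eq 𝒜 hf hd 𝔓
  haveI := hp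
  have hle : Ideal.ofList ws ≤ p := by
    refine Ideal.span_le.mpr fun z hz => ?_
    apply mem_of_mk_pow_mem_locI 𝒜 hf hfp (hdg z hz)
    rw [hpeq, ← hfr z hz]
    refine h𝔓.1.2 (Ideal.subset_span ?_)
    rw [Finset.mem_coe, List.mem_toFinset]
    exact List.mem_map_of_mem hz
  calc (locI 𝒜 (Ideal.ofList ws) f).height ≤ 𝔓.height :=
        Ideal.height_mono ((locI_mono hle f).trans hpeq.le)
    _ ≤ ((ws.map fr).toFinset.card : ℕ∞) :=
        Ideal.height_le_card_of_mem_minimalPrimes_span_finset h𝔓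
    _ ≤ ws.length := by
        have h1 := List.toFinset_card_le (ws.map fr)
        rw [List.length_map] at h1
        exact_mod_cast h1

/-- The avoidance predicate on a (reversed) list: each new element is homogeneous of positive degree
and lies in no minimal prime of the previous ones, except those containing `J` or `Ap`. -/
def GoodR (J Ap : Ideal A) : List A → Prop
  | [] => True
  | z :: ws => GoodR J Ap ws ∧ (∃ n : ℕ, 0 < n ∧ z ∈ 𝒜 n) ∧
      ∀ p' ∈ (Ideal.ofList ws).minimalPrimes, z ∈ p' → J ≤ p' ∨ Ap ≤ p'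

variable {𝒜} in
lemma GoodR.homog {J Ap : Ideal A} : ∀ {ws : List A}, GoodR 𝒜 J Ap ws →
    ∀ w ∈ ws, ∃ n : ℕ, 0 < n ∧ w ∈ 𝒜 n
  | [], _, w, hw => absurd hw List.not_mem_nil
  | z :: ws, hg, w, hw => by
    rcases List.mem_cons.mp hw with rfl | hw'
    · exact hg.2.1
    · exact GoodR.homog hg.1 w hw'

variable {𝒜} in
lemma GoodR.drop {J Ap : Ideal A} : ∀ {ws : List A}, GoodR 𝒜 J Ap ws →
    ∀ k : ℕ, GoodR 𝒜 J Ap (ws.drop k)
  | [], _, k => by rw [List.drop_nil]; trivial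
  | z :: ws, hg, 0 => by rw [List.drop_zero]; exact hg
  | z :: ws, hg, k + 1 => by
    rw [List.drop_succ_cons]
    exact GoodR.drop hg.1 k

/-- Lower bound: if `J_(f)` has height `h` and `ws` (of length at most `h`) satisfies the avoidance
predicate, every prime containing the contraction of `(ws)` has height at least the length. -/
theorem le_height_of_goodR {f : A} {d : ℕ} (hf : f ∈ 𝒜 d) (hd : 0 < d) (J : Ideal A) (h : ℕ)
    (hJh : (locI 𝒜 J f).height = h) (ws : List A) :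
    GoodR 𝒜 J (HomogeneousIdeal.irrelevant 𝒜).toIdeal ws → ws.length ≤ h →
      ∀ 𝔓 : Ideal (HomogeneousLocalization.Away 𝒜 f), 𝔓.IsPrime →
        locI 𝒜 (Ideal.ofList ws) f ≤ 𝔓 → (ws.length : ℕ∞) ≤ 𝔓.height := by
  induction ws with
  | nil =>
    intro _ _ 𝔓 _ _
    simp
  | cons z ws ih =>
    intro hg hlen 𝔓 h𝔓 hle
    obtain ⟨hg', ⟨nz, hnz, hzn⟩, havoid⟩ := hg
    haveI := h𝔓
    have hle' : locI 𝒜 (Ideal.ofList ws) f ≤ 𝔓 :=
      (locI_mono (Ideal.span_mono fun x hx => List.mem_cons_of_mem z hx) f).trans hle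
    obtain ⟨𝔓', h𝔓', h𝔓'le⟩ := Ideal.exists_minimalPrimes_le hle'
    haveI := h𝔓'.1.1
    have hlen' : ws.length ≤ h := by
      rw [List.length_cons] at hlen
      omega
    have ih' := ih hg' hlen' 𝔓' h𝔓'.1.1 h𝔓'.1.2
    rcases eq_or_lt_of_le h𝔓'le with heq | hlt
    · obtain ⟨p, hp, hfp, hpeq⟩ := exists_prime_locI_eq 𝒜 hf hd 𝔓'
      haveI := hp
      have hwsp : Ideal.ofList ws ≤ p := by
        refine Ideal.span_le.mpr fun w hw => ?_
        obtain ⟨nw, _, hwn⟩ := GoodR.homog hg' w hw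
        apply mem_of_mk_pow_mem_locI 𝒜 hf hfp hwn
        rw [hpeq]
        exact h𝔓'.1.2 (mk_pow_mem_locI 𝒜 hf hd hwn (Ideal.subset_span hw))
      obtain ⟨p', hp', hp'le⟩ := Ideal.exists_minimalPrimes_le hwsp
      haveI := hp'.1.1
      have hfp' : f ∉ p' := fun hmem => hfp (hp'le hmem)
      haveI : (locI 𝒜 p' f).IsPrime := isPrime_locI 𝒜 hfp'
      have h1 : locI 𝒜 (Ideal.ofList ws) f ≤ locI 𝒜 p' f := locI_mono hp'.1.2 f
      have h2 : locI 𝒜 p' f ≤ 𝔓' := (locI_mono hp'le f).trans hpeq.le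
      have h3 : 𝔓' ≤ locI 𝒜 p' f := h𝔓'.2 ⟨inferInstance, h1⟩ h2
      have hle2 : locI 𝒜 (Ideal.ofList (z :: ws)) f ≤ 𝔓' := hle.trans heq.ge
      have hzp' : z ∈ p' := by
        apply mem_of_mk_pow_mem_locI 𝒜 hf hfp' hzn
        exact h3 (hle2 (mk_pow_mem_locI 𝒜 hf hd hzn (Ideal.subset_span List.mem_cons_self)))
      rcases havoid p' hp' hzp' with hJ | hirr
      · have h4 : (locI 𝒜 J f).height ≤ 𝔓'.height :=
          Ideal.height_mono ((locI_mono hJ f).trans h2)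
        rw [hJh] at h4
        rw [← heq]
        exact le_trans (by exact_mod_cast hlen) h4
      · exact absurd (hirr (HomogeneousIdeal.mem_irrelevant_of_mem 𝒜 hd hf)) hfp'
    · have h5 := Ideal.height_add_one_le_of_lt_of_isPrime hlt
      calc ((z :: ws).length : ℕ∞) = (ws.length : ℕ∞) + 1 := by
            rw [List.length_cons]; push_cast; rfl
        _ ≤ 𝔓'.height + 1 := add_le_add ih' le_rfl
        _ ≤ 𝔓.height := h5

end Groth.Agent.Lib.Helper26.AwayPrimes
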