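import Groth.Prelude.Def_FibCat2
import Mathlib.CategoryTheory.Sites.Grothendieck

set_option autoImplicit false
set_option backward.isDefEq.respectTransparency false
set_option backward.isDefEq.respectTransparency.types false

open CategoryTheory

universe v₅ u₅ v₄ u₄ v₃ u₃ v₂ u₂ v u

namespace Groth.Agent.Lib.Helper26

variable {C : Type u} [Category.{v} C]
variable {𝒳 : BasedCategory.{v₂, u₂} C} {𝒴 : BasedCategory.{v₃, u₃} C} {𝒵 : BasedCategory.{v₄, u₄} C}

/-- Right whiskering of a based natural isomorphism (all universe levels free). -/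
def bIsoWhiskerRight {F G : 𝒳 ⥤ᵇ 𝒴} (α : F ≅ G) (H : 𝒴 ⥤ᵇ 𝒵) :
    BasedFunctor.comp F H ≅ BasedFunctor.comp G H :=
  BasedNatIso.mkNatIso
    (Functor.isoWhiskerRight ((BasedNatTrans.forgetful 𝒳 𝒴).mapIso α) H.toFunctor)
    (fun a => by
      change 𝒵.p.IsHomLift (𝟙 (𝒳.p.obj a)) (H.toFunctor.map (α.hom.toNatTrans.app a))
      infer_instance)

/-- Left whiskering of a based natural isomorphism. -/
def bIsoWhiskerLeft (F : 𝒳 ⥤ᵇ 𝒴) {G H : 𝒴 ⥤ᵇ 𝒵} (α : G ≅ H) :
    BasedFunctor.comp F G ≅ BasedFunctor.comp F H :=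
  BasedNatIso.mkNatIso
    (Functor.isoWhiskerLeft F.toFunctor ((BasedNatTrans.forgetful 𝒴 𝒵).mapIso α))
    (fun a => by
      change 𝒵.p.IsHomLift (𝟙 (𝒳.p.obj a)) (α.hom.toNatTrans.app (F.obj a))
      exact α.hom.isHomLift (F.w_obj a))

/-- The based functor `C/V ⥤ C/U` induced by `h : V ⟶ U`. -/
abbrev overMapB {U V : C} (h : V ⟶ U) : FibCat.overCat V ⥤ᵇ FibCat.overCat U :=
  ⟨Over.map h, Over.mapForget_eq h⟩

/-- `Over.map (h' ≫ h) ≅ Over.map h' ⋙ Over.map h` as based functors. -/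
def overMapBComp {U V W : C} (h' : W ⟶ V) (h : V ⟶ U) :
    overMapB (h' ≫ h) ≅ BasedFunctor.comp (overMapB h') (overMapB h) :=
  BasedNatIso.mkNatIso (Over.mapComp h' h)
    (fun a => by
      refine IsHomLift.of_fac _ _ _ rfl rfl ?_
      simp [FibCat.overCat, BasedCategory.ofFunctor])

end Groth.Agent.Lib.Helper26
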