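import Groth.Agent.Lib.Helper26.CartierExtAlg
import Groth.Agent.Lib.Helper3.Principal
import Groth.Prelude.Def_BlowUp2

/-!
# Extending an effective Cartier divisor from an open subscheme across factorial points

The scheme-theoretic closure `D.map U.ι` of an effective Cartier divisor `D` on an open `U` of a
locally Noetherian scheme `X` is effective Cartier at every point whose local ring is factorial.
-/

set_option autoImplicit false
set_option linter.style.haveILetI false
set_option linter.unusedSectionVars false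
universe u
open CategoryTheory CategoryTheory.Limits AlgebraicGeometry TopologicalSpace

namespace Groth.Agent.Lib.Helper26.CartierExt

variable {X : Scheme.{u}}

/-- Pushing forward and pulling back an ideal sheaf along a quasi-compact open immersion is the
identity. -/
theorem comap_map_of_isOpenImmersion {X Y : Scheme.{u}} (f : Y ⟶ X) [IsOpenImmersion f]
    [QuasiCompact f] (I : Y.IdealSheafData) : (I.map f).comap f = I := by
  apply le_antisymm (Scheme.IdealSheafData.comap_map_le I f)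
  rw [Scheme.IdealSheafData.le_def]
  intro V s hs
  rw [Scheme.IdealSheafData.ideal_comap_of_isOpenImmersion, Ideal.mem_comap]
  have H : IsAffineOpen (f ⁻¹ᵁ (f ''ᵁ V.1)) := by rw [f.preimage_image_eq]; exact V.2
  rw [Scheme.IdealSheafData.ideal_map _ _ _ H, Ideal.mem_comap]
  have hle : (⟨f ⁻¹ᵁ (f ''ᵁ V.1), H⟩ : Y.affineOpens) ≤ V := (f.preimage_image_eq V.1).le
  have key : (f.app (f ''ᵁ V.1)).hom ((f.appIso V.1).inv.hom s) =
      (Y.presheaf.map (homOfLE hle).op).hom s := by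
    have h1 := f.appIso_inv_app V.1
    have h3 : Y.presheaf.map (homOfLE hle).op = (f.appIso V.1).inv ≫ f.app (f ''ᵁ V.1) := by
      rw [h1]
      congr 1
    rw [h3]
    rfl
  rw [key, ← I.map_ideal hle]
  exact Ideal.mem_map_of_mem _ hs

/-- Around a point of `U`, the closure of an effective Cartier divisor on `U` is principal. -/
theorem exists_chart_of_mem (U : X.Opens) [QuasiCompact U.ι]
    (D : (U : Scheme.{u}).IdealSheafData) (hD : BlowUp.IsEffCartierIdeal D) (x : X) (hx : x ∈ U) :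
    ∃ W : X.affineOpens, x ∈ W.1 ∧ ∃ f : Γ(X, W.1), f ∈ nonZeroDivisors Γ(X, W.1) ∧
      (D.map U.ι).ideal W = Ideal.span {f} := by
  obtain ⟨V, hxV, t, ht, hV⟩ := hD ⟨x, hx⟩
  refine ⟨⟨U.ι ''ᵁ V.1, V.2.image_of_isOpenImmersion U.ι⟩, ⟨⟨x, hx⟩, hxV, rfl⟩, ?_⟩
  let e : Γ(U, V.1) ≃+* Γ(X, U.ι ''ᵁ V.1) := (U.ι.appIso V.1).symm.commRingCatIsoToRingEquiv
  refine ⟨e t, CartierExtAlg.ringEquiv_mem_nonZeroDivisors e ht, ?_⟩
  have h1 : ((D.map U.ι).comap U.ι).ideal V = Ideal.span {t} := by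
    rw [comap_map_of_isOpenImmersion]; exact hV
  rw [Scheme.IdealSheafData.ideal_comap_of_isOpenImmersion] at h1
  have hsurj : Function.Surjective (U.ι.appIso V.1).inv.hom := e.surjective
  have h2 := Ideal.map_comap_of_surjective _ hsurj
    ((D.map U.ι).ideal ⟨U.ι ''ᵁ V.1, V.2.image_of_isOpenImmersion U.ι⟩)
  rw [h1, Ideal.map_span, Set.image_singleton] at h2
  exact h2.symm

/-- The ideal generated in the stalk by the sections of an ideal sheaf over an affine open
neighbourhood does not depend on the neighbourhood. -/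
theorem map_germ_eq (I : X.IdealSheafData) (W W₁ : X.affineOpens) (z : X) (hz : z ∈ W.1)
    (hz₁ : z ∈ W₁.1) :
    (I.ideal W).map (X.presheaf.germ W.1 z hz).hom =
      (I.ideal W₁).map (X.presheaf.germ W₁.1 z hz₁).hom := by
  obtain ⟨_, ⟨W₂, hW₂, rfl⟩, hz₂, hsub⟩ :=
    X.isBasis_affineOpens.exists_subset_of_mem_open
      (show z ∈ ((W.1 ⊓ W₁.1 : X.Opens) : Set X) from ⟨hz, hz₁⟩) (W.1 ⊓ W₁.1).isOpen
  have key : ∀ (W' : X.affineOpens) (hz' : z ∈ W'.1) (h : (⟨W₂, hW₂⟩ : X.affineOpens) ≤ W'),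
      (I.ideal W').map (X.presheaf.germ W'.1 z hz').hom =
        (I.ideal ⟨W₂, hW₂⟩).map (X.presheaf.germ W₂ z hz₂).hom := by
    intro W' hz' h
    have : (X.presheaf.germ W'.1 z hz').hom =
        (X.presheaf.germ W₂ z hz₂).hom.comp (X.presheaf.map (homOfLE h).op).hom :=
      congrArg CommRingCat.Hom.hom (X.presheaf.germ_res (homOfLE h) z hz₂).symm
    rw [this, ← Ideal.map_map, I.map_ideal h]
  rw [key W hz (fun y hy => (hsub hy).1), key W₁ hz₁ (fun y hy => (hsub hy).2)]

/-- At a point of `U`, the stalk of the closure is generated by a nonzerodivisor, for any affine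
open neighbourhood. -/
theorem exists_stalk_generator_of_mem (U : X.Opens) [QuasiCompact U.ι]
    (D : (U : Scheme.{u}).IdealSheafData) (hD : BlowUp.IsEffCartierIdeal D) (z : X) (hzU : z ∈ U)
    (W : X.affineOpens) (hz : z ∈ W.1) :
    ∃ g : X.presheaf.stalk z, g ∈ nonZeroDivisors (X.presheaf.stalk z) ∧
      ((D.map U.ι).ideal W).map (X.presheaf.germ W.1 z hz).hom = Ideal.span {g} := by
  obtain ⟨W₁, hz₁, f₁, hf₁, hI⟩ := exists_chart_of_mem U D hD z hzU
  letI : Algebra Γ(X, W₁.1) (X.presheaf.stalk z) :=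
    TopCat.Presheaf.algebra_section_stalk X.presheaf (U := W₁.1) ⟨z, hz₁⟩
  haveI hloc : IsLocalization.AtPrime (X.presheaf.stalk z) (W₁.2.primeIdealOf ⟨z, hz₁⟩).asIdeal :=
    W₁.2.isLocalization_stalk ⟨z, hz₁⟩
  refine ⟨(X.presheaf.germ W₁.1 z hz₁).hom f₁, ?_, ?_⟩
  · exact IsLocalization.map_nonZeroDivisors_le (W₁.2.primeIdealOf ⟨z, hz₁⟩).asIdeal.primeCompl
      (X.presheaf.stalk z) (Submonoid.mem_map_of_mem _ hf₁)
  · rw [map_germ_eq _ W W₁ z hz hz₁, hI, Ideal.map_span, Set.image_singleton]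

/-- The sections of the closure over an affine open `W` are saturated with respect to any family
of functions whose basic opens cover `W ∩ U`. -/
theorem mem_of_sat (U : X.Opens) [QuasiCompact U.ι] (D : (U : Scheme.{u}).IdealSheafData)
    (W : X.affineOpens) {ι : Type*} (a : ι → Γ(X, W.1))
    (hcov : ∀ z : X, z ∈ W.1 → z ∈ U → ∃ i, z ∈ X.basicOpen (a i))
    (y : Γ(X, W.1)) (hy : ∀ i, ∃ n : ℕ, a i ^ n * y ∈ (D.map U.ι).ideal W) :
    y ∈ (D.map U.ι).ideal W := by
  haveI : QuasiCompact (D.subschemeι ≫ U.ι) := inferInstance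
  have hker : (D.map U.ι).ideal W = RingHom.ker ((D.subschemeι ≫ U.ι).app W.1).hom :=
    Scheme.Hom.ker_apply (D.subschemeι ≫ U.ι) W
  rw [hker, RingHom.mem_ker]
  simp only [hker, RingHom.mem_ker] at hy
  refine D.subscheme.sheaf.eq_of_locally_eq'
    (U := fun i => D.subscheme.basicOpen (((D.subschemeι ≫ U.ι).app W.1).hom (a i)))
    ((D.subschemeι ≫ U.ι) ⁻¹ᵁ W.1) (fun i => homOfLE (D.subscheme.basicOpen_le _)) ?_ _ _ ?_
  · intro z hz
    have hzW : (D.subschemeι ≫ U.ι) z ∈ W.1 := hz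
    have hzU : (D.subschemeι ≫ U.ι) z ∈ U := by
      rw [Scheme.Hom.comp_apply]
      exact (D.subschemeι z).2
    obtain ⟨i, hi⟩ := hcov _ hzW hzU
    rw [Opens.mem_iSup]
    refine ⟨i, ?_⟩
    have h3 : (D.subschemeι ≫ U.ι) ⁻¹ᵁ X.basicOpen (a i) =
        D.subscheme.basicOpen (((D.subschemeι ≫ U.ι).app W.1).hom (a i)) :=
      Scheme.preimage_basicOpen (D.subschemeι ≫ U.ι) (a i)
    rw [← h3]
    exact hi
  · intro i
    obtain ⟨n, hn⟩ := hy i
    rw [map_mul, map_pow] at hn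
    have hu := D.subscheme.toRingedSpace.isUnit_res_basicOpen
      (((D.subschemeι ≫ U.ι).app W.1).hom (a i))
    have h1 : (D.subscheme.presheaf.map (homOfLE (D.subscheme.basicOpen_le
        (((D.subschemeι ≫ U.ι).app W.1).hom (a i)))).op).hom
        ((((D.subschemeι ≫ U.ι).app W.1).hom (a i)) ^ n *
          ((D.subschemeι ≫ U.ι).app W.1).hom y) = 0 := by rw [hn, map_zero]
    rw [map_mul, map_pow] at h1
    have h4 := (hu.pow n).mul_right_eq_zero.mp h1
    change (D.subscheme.presheaf.map (homOfLE (D.subscheme.basicOpen_le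
        (((D.subschemeι ≫ U.ι).app W.1).hom (a i)))).op).hom
        (((D.subschemeι ≫ U.ι).app W.1).hom y) =
      (D.subscheme.presheaf.map (homOfLE (D.subscheme.basicOpen_le
        (((D.subschemeι ≫ U.ι).app W.1).hom (a i)))).op).hom 0
    rw [map_zero]
    exact h4

/-- A stalkwise generator spreads out to an affine neighbourhood (locally Noetherian case). -/
theorem exists_chart_of_stalk [IsLocallyNoetherian X] (D' : X.IdealSheafData) (x : X)
    (W : X.affineOpens) (hxW : x ∈ W.1)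
    (g : X.presheaf.stalk x) (hg : g ∈ nonZeroDivisors (X.presheaf.stalk x))
    (hgI : (D'.ideal W).map (X.presheaf.germ W.1 x hxW).hom = Ideal.span {g}) :
    ∃ U' : X.affineOpens, x ∈ U'.1 ∧ ∃ f : Γ(X, U'.1), f ∈ nonZeroDivisors Γ(X, U'.1) ∧
      D'.ideal U' = Ideal.span {f} := by
  have hU := W.2
  have hNoeth : IsNoetherianRing Γ(X, W.1) := IsLocallyNoetherian.component_noetherian W
  set p := hU.primeIdealOf ⟨x, hxW⟩ with hp
  let _ : Algebra Γ(X, W.1) (X.presheaf.stalk x) :=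
    TopCat.Presheaf.algebra_section_stalk X.presheaf (U := W.1) ⟨x, hxW⟩
  have hloc : IsLocalization.AtPrime (X.presheaf.stalk x) p.asIdeal :=
    hU.isLocalization_stalk ⟨x, hxW⟩
  obtain ⟨s, hsp, a, haI, hB⟩ := Groth.Agent.Lib.Helper3.exists_away_principal p.asIdeal
    (X.presheaf.stalk x) (D'.ideal W) g hg hgI
  have hlocB := hU.isLocalization_basicOpen s
  obtain ⟨h1, h2⟩ := hB Γ(X, X.basicOpen s)
  refine ⟨X.affineBasicOpen (U := W) s, ?_, algebraMap Γ(X, W.1) Γ(X, X.basicOpen s) a, h2, ?_⟩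
  · change x ∈ X.basicOpen s
    have hpx : hU.fromSpec p = x := hU.fromSpec_primeIdealOf ⟨x, hxW⟩
    rw [← hpx]
    change p ∈ hU.fromSpec ⁻¹ᵁ X.basicOpen s
    rw [hU.fromSpec_preimage_basicOpen]
    exact hsp
  · rw [← D'.map_ideal_basicOpen W s]
    exact h1

/-- At a point outside `U` with factorial local ring, the stalk of the closure of an effective
Cartier divisor on `U` is generated by a nonzerodivisor. -/
theorem exists_stalk_generator_of_notMem [IsLocallyNoetherian X] (U : X.Opens)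
    (D : (U : Scheme.{u}).IdealSheafData) (hD : BlowUp.IsEffCartierIdeal D) (x : X)
    (hufd : IsDomain (X.presheaf.stalk x) ∧ UniqueFactorizationMonoid (X.presheaf.stalk x))
    (W : X.affineOpens) (hxW : x ∈ W.1) :
    ∃ g : X.presheaf.stalk x, g ∈ nonZeroDivisors (X.presheaf.stalk x) ∧
      ((D.map U.ι).ideal W).map (X.presheaf.germ W.1 x hxW).hom = Ideal.span {g} := by
  classical
  obtain ⟨hdom, hufm⟩ := hufd
  haveI := hdom
  haveI := hufm
  haveI : IsNoetherianRing Γ(X, W.1) := IsLocallyNoetherian.component_noetherian W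
  letI := TopCat.Presheaf.algebra_section_stalk X.presheaf (U := W.1) ⟨x, hxW⟩
  haveI : IsLocalization.AtPrime (X.presheaf.stalk x) (W.2.primeIdealOf ⟨x, hxW⟩).asIdeal :=
    W.2.isLocalization_stalk ⟨x, hxW⟩
  set J := PrimeSpectrum.vanishingIdeal (W.2.fromSpec ⁻¹' ((U : Set X)ᶜ)) with hJ
  obtain ⟨s, hs⟩ : ∃ s : Finset Γ(X, W.1), Ideal.span (s : Set Γ(X, W.1)) = J :=
    (IsNoetherian.noetherian J)
  have hcl : IsClosed (W.2.fromSpec ⁻¹' ((U : Set X)ᶜ)) :=
    U.isOpen.isClosed_compl.preimage W.2.fromSpec.continuous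
  have h2 : ∀ (b : Γ(X, W.1)), b ∈ s → ∀ y : PrimeSpectrum Γ(X, W.1), b ∉ y.asIdeal →
      W.2.fromSpec y ∈ U := by
    intro b hb y hby
    by_contra hyU
    apply hby
    have hbJ : b ∈ J := hs ▸ Ideal.subset_span hb
    rw [hJ, PrimeSpectrum.mem_vanishingIdeal] at hbJ
    exact hbJ y hyU
  have h1 : ∀ y : PrimeSpectrum Γ(X, W.1), W.2.fromSpec y ∈ U → ∃ b ∈ s, b ∉ y.asIdeal := by
    intro y hyU
    by_contra hcon
    push Not at hcon
    have hle : J ≤ y.asIdeal := by
      rw [← hs, Ideal.span_le]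
      exact fun b hb => hcon b hb
    have hmem : y ∈ PrimeSpectrum.zeroLocus (J : Set Γ(X, W.1)) := by
      rw [PrimeSpectrum.mem_zeroLocus]; exact hle
    rw [hJ, PrimeSpectrum.zeroLocus_vanishingIdeal_eq_closure] at hmem
    exact hcl.closure_subset hmem hyU
  haveI : QuasiCompact U.ι := inferInstance
  apply CartierExtAlg.exists_span_singleton_map_of_sat
    (W.2.primeIdealOf ⟨x, hxW⟩).asIdeal (X.presheaf.stalk x) ((D.map U.ι).ideal W)
    (fun b : s => (b : Γ(X, W.1)))
  · intro y hy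
    refine mem_of_sat U D W (fun b : s => (b : Γ(X, W.1))) ?_ y hy
    intro z hzW hzU
    set y' := W.2.primeIdealOf ⟨z, hzW⟩ with hy'
    have hpz : W.2.fromSpec y' = z := W.2.fromSpec_primeIdealOf ⟨z, hzW⟩
    obtain ⟨b, hb, hby⟩ := h1 y' (by rw [hpz]; exact hzU)
    refine ⟨⟨b, hb⟩, ?_⟩
    change z ∈ X.basicOpen b
    rw [← hpz]
    change y' ∈ W.2.fromSpec ⁻¹ᵁ X.basicOpen b
    rw [W.2.fromSpec_preimage_basicOpen]
    exact hby
  · intro q _ hq
    obtain ⟨⟨b, hb⟩, hbq⟩ := hq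
    let y : PrimeSpectrum Γ(X, W.1) := ⟨q, inferInstance⟩
    have hzW : W.2.fromSpec y ∈ W.1 := by
      have : W.2.fromSpec y ∈ Set.range W.2.fromSpec := ⟨y, rfl⟩
      rw [W.2.range_fromSpec] at this
      exact this
    have hzU : W.2.fromSpec y ∈ U := h2 b hb y hbq
    obtain ⟨g, hg, hgI⟩ := exists_stalk_generator_of_mem U D hD (W.2.fromSpec y) hzU W hzW
    exact ⟨X.presheaf.stalk (W.2.fromSpec y), inferInstance,
      TopCat.Presheaf.algebra_section_stalk X.presheaf ⟨W.2.fromSpec y, hzW⟩,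
      W.2.isLocalization_stalk' y hzW, g, hg, hgI⟩

end Groth.Agent.Lib.Helper26.CartierExt
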