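import Mathlib

/-!
# A saturated, locally principal ideal becomes principal in a factorial localization

Commutative algebra behind the extension of effective Cartier divisors across points with
factorial local rings.
-/

set_option autoImplicit false
set_option linter.style.haveILetI false
set_option linter.unusedSectionVars false
universe u

namespace Groth.Agent.Lib.Helper26.CartierExtAlg

/-- Ring isomorphisms preserve nonzerodivisors. -/
theorem ringEquiv_mem_nonZeroDivisors {A B : Type*} [CommRing A] [CommRing B] (e : A ≃+* B)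
    {t : A} (ht : t ∈ nonZeroDivisors A) : e t ∈ nonZeroDivisors B := by
  rw [mem_nonZeroDivisors_iff_right]
  intro z hz
  have h1 : e.symm z * t = 0 := by
    have : e (e.symm z * t) = 0 := by rw [map_mul, e.apply_symm_apply, hz]
    rw [← e.symm_apply_apply (e.symm z * t), this, map_zero]
  have h2 := (mem_nonZeroDivisors_iff_right.mp ht) _ h1
  rw [← e.apply_symm_apply z, h2, map_zero]

/-- Saturation with respect to a finite family passes to a localization. -/
theorem sat_localization {R : Type*} [CommRing R] (M : Submonoid R) (S : Type*) [CommRing S]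
    [Algebra R S] [IsLocalization M S] (I : Ideal R) {ι : Type*} [Fintype ι] (a : ι → R)
    (hsat : ∀ y : R, (∀ i, ∃ n : ℕ, a i ^ n * y ∈ I) → y ∈ I) (y : S)
    (hy : ∀ i, ∃ n : ℕ, algebraMap R S (a i) ^ n * y ∈ I.map (algebraMap R S)) :
    y ∈ I.map (algebraMap R S) := by
  classical
  obtain ⟨r, s, rfl⟩ := IsLocalization.exists_mk'_eq M y
  have h1 : ∀ i, ∃ n : ℕ, ∃ t ∈ M, t * (a i ^ n * r) ∈ I := by
    intro i
    obtain ⟨n, hn⟩ := hy i
    refine ⟨n, ?_⟩
    rw [← map_pow, IsLocalization.mul_mk'_eq_mk'_of_mul] at hn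
    exact (IsLocalization.mk'_mem_map_algebraMap_iff M S I _ s).mp hn
  choose n t htM ht using h1
  have hT : (∏ i, t i) ∈ M := prod_mem (fun i _ => htM i)
  have hTr : (∏ i, t i) * r ∈ I := by
    apply hsat
    intro i
    refine ⟨n i, ?_⟩
    rw [← Finset.mul_prod_erase Finset.univ t (Finset.mem_univ i)]
    have : a i ^ n i * ((t i * ∏ x ∈ Finset.univ.erase i, t x) * r) =
        (∏ x ∈ Finset.univ.erase i, t x) * (t i * (a i ^ n i * r)) := by ring
    rw [this]
    exact I.mul_mem_left _ (ht i)
  exact (IsLocalization.mk'_mem_map_algebraMap_iff M S I r s).mpr ⟨_, hT, hTr⟩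

/-- **Key lemma.**  `R` Noetherian, `S = R_p` a factorial domain, `I` an ideal of `R` saturated with
respect to a finite family `a i`, and locally generated by a nonzerodivisor at every prime not
containing all the `a i`.  Then `I S` is generated by a nonzerodivisor. -/
theorem exists_span_singleton_map_of_sat {R : Type u} [CommRing R] [IsNoetherianRing R]
    (p : Ideal R) [p.IsPrime] (S : Type u) [CommRing S] [Algebra R S] [IsLocalization.AtPrime S p]
    [IsDomain S] [UniqueFactorizationMonoid S] (I : Ideal R) {ι : Type*} [Fintype ι] (a : ι → R)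
    (hsat : ∀ y : R, (∀ i, ∃ n : ℕ, a i ^ n * y ∈ I) → y ∈ I)
    (hlp : ∀ (q : Ideal R) [q.IsPrime], (∃ i, a i ∉ q) →
      ∃ (T : Type u) (_ : CommRing T) (_ : Algebra R T) (_ : IsLocalization.AtPrime T q) (h : T),
        h ∈ nonZeroDivisors T ∧ I.map (algebraMap R T) = Ideal.span {h}) :
    ∃ g : S, g ∈ nonZeroDivisors S ∧ I.map (algebraMap R S) = Ideal.span {g} := by
  classical
  haveI : IsNoetherianRing S := IsLocalization.isNoetherianRing p.primeCompl S inferInstance
  letI : StrongNormalizationMonoid S := UniqueFactorizationMonoid.strongNormalizationMonoid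
  letI : NormalizedGCDMonoid S := UniqueFactorizationMonoid.toNormalizedGCDMonoid S
  set IS := I.map (algebraMap R S) with hIS
  have hsatS : ∀ y : S, (∀ i, ∃ n : ℕ, algebraMap R S (a i) ^ n * y ∈ IS) → y ∈ IS :=
    fun y hy => sat_localization p.primeCompl S I a hsat y hy
  -- (K): local principality at primes of `S`
  have hK : ∀ (q' : Ideal S) [q'.IsPrime], (∃ i, algebraMap R S (a i) ∉ q') →
      ∃ h : Localization.AtPrime q', h ∈ nonZeroDivisors (Localization.AtPrime q') ∧
        IS.map (algebraMap S (Localization.AtPrime q')) = Ideal.span {h} := by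
    intro q' _ hi
    obtain ⟨i, hi⟩ := hi
    haveI : (q'.comap (algebraMap R S)).IsPrime := Ideal.comap_isPrime _ _
    obtain ⟨T, _, _, _, h, hh, hIT⟩ := hlp (q'.comap (algebraMap R S)) ⟨i, hi⟩
    haveI : IsLocalization.AtPrime (Localization.AtPrime q') (q'.comap (algebraMap R S)) :=
      IsLocalization.isLocalization_isLocalization_atPrime_isLocalization p.primeCompl
        (Localization.AtPrime q') q'
    let e : T ≃ₐ[R] Localization.AtPrime q' :=
      IsLocalization.algEquiv (q'.comap (algebraMap R S)).primeCompl T (Localization.AtPrime q')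
    have h1 : IS.map (algebraMap S (Localization.AtPrime q')) =
        I.map (algebraMap R (Localization.AtPrime q')) := by
      rw [hIS, Ideal.map_map, ← IsScalarTower.algebraMap_eq]
    have h2 : I.map (algebraMap R (Localization.AtPrime q')) =
        (I.map (algebraMap R T)).map (e : T →+* Localization.AtPrime q') := by
      rw [Ideal.map_map]
      congr 1
      ext r
      simp
    haveI : Nontrivial T := (IsLocalization.AtPrime.isLocalRing T (q'.comap (algebraMap R S))).toNontrivial
    refine ⟨e h, map_mem_nonZeroDivisors _ e.injective hh, ?_⟩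
    rw [h1, h2, hIT, Ideal.map_span, Set.image_singleton]
    rfl
  -- `IS ≠ ⊥`
  have hne : IS ≠ ⊥ := by
    intro hbot
    have hex : ∃ i, algebraMap R S (a i) ≠ 0 := by
      by_contra hcon
      push Not at hcon
      have : (1 : S) ∈ IS := by
        apply hsatS
        intro i
        refine ⟨1, ?_⟩
        rw [hcon i, pow_one, zero_mul]
        exact IS.zero_mem
      rw [hbot, Ideal.mem_bot] at this
      exact one_ne_zero this
    obtain ⟨i, hi⟩ := hex
    obtain ⟨h, hh, hI⟩ := hK ⊥ ⟨i, by rwa [Ideal.mem_bot]⟩
    rw [hbot, Ideal.map_bot] at hI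
    have : h = 0 := Ideal.span_singleton_eq_bot.mp hI.symm
    exact zero_notMem_nonZeroDivisors (this ▸ hh)
  -- generators and gcd
  obtain ⟨s, hs⟩ : ∃ s : Finset S, Ideal.span (s : Set S) = IS := (IsNoetherian.noetherian IS)
  have hsne : s.Nonempty := by
    rw [Finset.nonempty_iff_ne_empty]
    rintro rfl
    apply hne
    rw [← hs]
    simp
  obtain ⟨c, hc, hgcd⟩ := Finset.extract_gcd (id : S → S) hsne
  set d := s.gcd id with hd
  have hd0 : d ≠ 0 := by
    intro h0
    apply hne
    rw [← hs, Ideal.span_eq_bot]
    intro x hx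
    exact Finset.gcd_eq_zero_iff.mp h0 x hx
  set I' : Ideal S := Ideal.span (c '' (s : Set S)) with hI'
  have hdI : IS = Ideal.span {d} * I' := by
    rw [← hs, hI', Ideal.span_mul_span', Set.singleton_mul, Set.image_image]
    congr 1
    ext b
    constructor
    · intro hb
      exact ⟨b, hb, (hc b hb).symm⟩
    · rintro ⟨b', hb', rfl⟩
      have := hc b' hb'
      simp only [id] at this
      show d * c b' ∈ (s : Set S)
      rw [← this]
      exact hb'
  have hcI' : ∀ b ∈ s, c b ∈ I' := fun b hb => Ideal.subset_span ⟨b, hb, rfl⟩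
  have hI'top : I' = ⊤ := by
    by_contra hI'ne
    -- (A) a prime containing `I'` and avoiding some `a i`
    have hA : ∃ (q' : Ideal S), q'.IsPrime ∧ I' ≤ q' ∧ ∃ i, algebraMap R S (a i) ∉ q' := by
      by_contra hcon
      push Not at hcon
      have hdm : d ∈ IS := by
        apply hsatS
        intro i
        have hrad : algebraMap R S (a i) ∈ I'.radical := by
          rw [Ideal.radical_eq_sInf, Ideal.mem_sInf]
          intro J hJ
          exact hcon J hJ.2 hJ.1 i
        obtain ⟨n, hn⟩ := hrad
        refine ⟨n, ?_⟩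
        rw [hdI, mul_comm (algebraMap R S (a i) ^ n) d]
        exact Ideal.mul_mem_mul (Ideal.mem_span_singleton_self d) hn
      rw [hdI, Ideal.mem_span_singleton_mul] at hdm
      obtain ⟨z, hz, hdz⟩ := hdm
      have hz1 : z = 1 := by
        apply mul_left_cancel₀ hd0
        rw [hdz, mul_one]
      exact hI'ne ((Ideal.eq_top_iff_one _).mpr (hz1 ▸ hz))
    obtain ⟨q', hq', hI'q', hi⟩ := hA
    haveI := hq'
    obtain ⟨h₀, hh₀, hI₀⟩ := hK q' hi
    haveI : IsNoetherianRing (Localization.AtPrime q') := IsLocalization.isNoetherianRing q'.primeCompl (Localization.AtPrime q') inferInstance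
    set dT := algebraMap S (Localization.AtPrime q') d with hdT
    set I'T := I'.map (algebraMap S (Localization.AtPrime q')) with hI'T
    have hmap : IS.map (algebraMap S (Localization.AtPrime q')) = Ideal.span {dT} * I'T := by
      rw [hdI, Ideal.map_mul, Ideal.map_span, Set.image_singleton]
    rw [hmap] at hI₀
    have hmem : h₀ ∈ Ideal.span {dT} * I'T := by
      rw [hI₀]
      exact Ideal.mem_span_singleton_self h₀
    rw [Ideal.mem_span_singleton_mul] at hmem
    obtain ⟨h', hh'I, hh'⟩ := hmem
    have hnzd : dT ∈ nonZeroDivisors (Localization.AtPrime q') ∧ h' ∈ nonZeroDivisors (Localization.AtPrime q') := by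
      rw [← mul_mem_nonZeroDivisors, hh']
      exact hh₀
    have hdT0 : dT ≠ 0 := nonZeroDivisors.ne_zero hnzd.1
    have hI'Teq : I'T = Ideal.span {h'} := by
      apply le_antisymm
      · intro z hz
        have h1 : dT * z ∈ Ideal.span {dT} * I'T :=
          Ideal.mul_mem_mul (Ideal.mem_span_singleton_self dT) hz
        rw [hI₀, Ideal.mem_span_singleton'] at h1
        obtain ⟨w, hw⟩ := h1
        rw [Ideal.mem_span_singleton']
        refine ⟨w, ?_⟩
        apply mul_left_cancel₀ hdT0
        rw [← hw, ← hh']
        ring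
      · rw [Ideal.span_le, Set.singleton_subset_iff]
        exact hh'I
    have hI'Tne : I'T ≠ ⊤ := by
      rw [hI'T, IsLocalization.map_algebraMap_ne_top_iff_disjoint q'.primeCompl (Localization.AtPrime q') I']
      rw [Set.disjoint_left]
      intro x hx hx'
      exact hx (hI'q' hx')
    obtain ⟨P'', hP'', -⟩ := Ideal.exists_minimalPrimes_le (IsLocalRing.le_maximalIdeal hI'Tne)
    haveI : I'T.IsPrincipal := ⟨⟨h', hI'Teq⟩⟩
    have hht : P''.height ≤ 1 :=
      Ideal.height_le_one_of_isPrincipal_of_mem_minimalPrimes I'T P'' hP''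
    haveI : P''.IsPrime := hP''.1.1
    set P := P''.under S with hP
    haveI : P.IsPrime := Ideal.IsPrime.under S P''
    have hhtP : P.height ≤ 1 := by
      rw [hP, IsLocalization.height_under q'.primeCompl P'']
      exact hht
    have hI'P : I' ≤ P := Ideal.map_le_iff_le_comap.mp hP''.1.2
    -- a nonzero element of `I'`
    obtain ⟨b, hb, hb0⟩ : ∃ b ∈ s, b ≠ 0 := by
      by_contra hcon
      push Not at hcon
      apply hne
      rw [← hs, Ideal.span_eq_bot]
      exact hcon
    have hcb0 : c b ≠ 0 := by
      intro h0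
      apply hb0
      have := hc b hb
      simp only [id] at this
      rw [this, h0, mul_zero]
    have h1le : 1 ≤ P.height :=
      (Ideal.one_le_height_span_singleton_of_mem_nonZeroDivisors
        (mem_nonZeroDivisors_of_ne_zero hcb0)).trans
        (Ideal.height_mono ((Ideal.span_singleton_le_iff_mem _).mpr (hI'P (hcI' b hb))))
    have hPprin := UniqueFactorizationMonoid.isPrincipal_of_height_eq_one (le_antisymm hhtP h1le)
    set π := Submodule.IsPrincipal.generator P with hπ
    have hPπ : Ideal.span {π} = P := Ideal.span_singleton_generator P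
    have hdvd : π ∣ s.gcd c := by
      apply Finset.dvd_gcd
      intro b hb
      rw [← Ideal.mem_span_singleton, hPπ]
      exact hI'P (hcI' b hb)
    rw [hgcd] at hdvd
    have hπu : IsUnit π := isUnit_of_dvd_one hdvd
    have hπP : π ∈ P := by
      rw [← hPπ]
      exact Ideal.mem_span_singleton_self π
    exact (Ideal.IsPrime.ne_top ‹P.IsPrime›) (Ideal.eq_top_of_isUnit_mem _ hπP hπu)
  refine ⟨d, mem_nonZeroDivisors_of_ne_zero hd0, ?_⟩
  rw [hdI, hI'top, Ideal.mul_top]

end Groth.Agent.Lib.Helper26.CartierExtAlg
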