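import Mathlib
import Groth.Prelude.Def_EGA4b
import Groth.Prelude.Def_BlowUp2
import Groth.Agent.Lib.Helper4.RkLift
import Groth.Agent.Lib.Helper14.CatenaryDim
import Groth.Agent.Lib.Helper16.CartSum.Points
import Groth.Agent.Lib.Helper3.BlowUpBasic
import Groth.Agent.Lib.Helper3.AffinePoints

/-!
# Proper intersection of an effective Cartier divisor with an integral closed subscheme
in an irreducible scheme with catenary local rings (helper26)
-/

set_option autoImplicit false
universe u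
open IsLocalRing

namespace Groth.Agent.Lib.Helper26.CatDim

/-- A ring with a least prime is equidimensional. -/
theorem isEquidim_of_least_prime {R : Type u} [CommRing R] (N : Ideal R) [hN : N.IsPrime]
    (hle : ∀ q : Ideal R, q.IsPrime → N ≤ q) : EGA4.IsEquidim R := by
  intro p₀ hp₀
  have hp₀p : p₀.IsPrime := hp₀.1.1
  have hp₀N : p₀ = N := le_antisymm (hp₀.2 ⟨hN, bot_le⟩ (hle p₀ hp₀p)) (hle p₀ hp₀p)
  have h1 := Groth.Agent.Lib.Helper14.ringKrullDim_quotient_eq_coheight
    (⟨p₀, hp₀p⟩ : PrimeSpectrum R)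
  have h1' : ringKrullDim (R ⧸ p₀) = (Order.coheight (⟨p₀, hp₀p⟩ : PrimeSpectrum R) : WithBot ℕ∞) :=
    h1
  rw [h1', Order.coheight_eq_krullDim_Ici, ringKrullDim]
  have huniv : Set.Ici (⟨p₀, hp₀p⟩ : PrimeSpectrum R) = Set.univ := by
    ext q
    simp only [Set.mem_Ici, Set.mem_univ, iff_true]
    show p₀ ≤ q.asIdeal
    rw [hp₀N]
    exact hle q.asIdeal q.2
  exact Order.krullDim_eq_of_orderIso ((OrderIso.setCongr _ _ huniv).trans OrderIso.Set.univ)

/-- The dimension formula in a localization at a prime, for a catenary local ring with a least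
prime: if `p` is minimal among primes containing `P` and `F` (with `F ∉ P`), then
`dim A_p = ht P + 1`. -/
theorem dim_formula_atPrime {A O : Type u} [CommRing A] [IsNoetherianRing A] [CommRing O]
    [IsLocalRing O] [IsNoetherianRing O] [Algebra A O] (p : Ideal A) [hp : p.IsPrime]
    [IsLocalization.AtPrime O p] (hcat : CAlg.IsCatenary O)
    (N : Ideal A) [hN : N.IsPrime] (hNle : ∀ q : Ideal A, q.IsPrime → N ≤ q)
    (P : Ideal A) [hP : P.IsPrime] (hPp : P ≤ p) (F : A) (hFp : F ∈ p) (hFP : F ∉ P)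
    (hmin : ∀ q : Ideal A, q.IsPrime → P ≤ q → F ∈ q → q ≤ p → q = p) :
    ringKrullDim O = ((P.height + 1 : ℕ∞) : WithBot ℕ∞) := by
  have hdisj : ∀ q : Ideal A, q ≤ p → Disjoint (p.primeCompl : Set A) (q : Set A) := by
    intro q hq
    rw [Set.disjoint_left]
    intro a ha haq
    exact ha (hq haq)
  have hunder : (maximalIdeal O).under A = p := IsLocalization.AtPrime.under_maximalIdeal O p
  haveI hN' : (N.map (algebraMap A O)).IsPrime :=
    IsLocalization.isPrime_of_isPrime_disjoint p.primeCompl O N hN (hdisj N (hNle p hp))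
  have hN'le : ∀ q : Ideal O, q.IsPrime → N.map (algebraMap A O) ≤ q := by
    intro q hq
    rw [Ideal.map_le_iff_le_comap]
    exact hNle _ (hq.comap _)
  have heq : EGA4.IsEquidim O := isEquidim_of_least_prime _ hN'le
  haveI hP' : (P.map (algebraMap A O)).IsPrime :=
    IsLocalization.isPrime_of_isPrime_disjoint p.primeCompl O P hP (hdisj P hPp)
  have hP'under : (P.map (algebraMap A O)).under A = P :=
    IsLocalization.under_map_of_isPrime_disjoint p.primeCompl O hP (hdisj P hPp)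
  have htP' : algebraMap A O F ∉ P.map (algebraMap A O) := by
    intro h
    apply hFP
    rw [← hP'under]
    exact h
  have hmem : maximalIdeal O ∈
      (P.map (algebraMap A O) ⊔ Ideal.span {algebraMap A O F}).minimalPrimes := by
    refine ⟨⟨inferInstance, sup_le (IsLocalRing.le_maximalIdeal hP'.ne_top) ?_⟩, ?_⟩
    · rw [Ideal.span_singleton_le_iff_mem]
      exact (IsLocalization.AtPrime.to_map_mem_maximal_iff O p F).mpr hFp
    · rintro q ⟨hq, hle⟩ hqm
      have hq₀ : (q.under A).IsPrime := hq.comap _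
      have h1 : P ≤ q.under A := by
        rw [← hP'under]
        exact Ideal.comap_mono (le_sup_left.trans hle)
      have h2 : F ∈ q.under A :=
        hle (Ideal.mem_sup_right (Ideal.mem_span_singleton_self _))
      have h3 : q.under A ≤ p := by
        rw [← hunder]
        exact Ideal.comap_mono hqm
      have h4 := hmin _ hq₀ h1 h2 h3
      have h5 := IsLocalization.map_under p.primeCompl O q
      have h6 := IsLocalization.map_under p.primeCompl O (maximalIdeal O)
      rw [h4] at h5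
      rw [hunder] at h6
      exact (h6.symm.trans h5).le
  have hcov := Groth.Agent.Lib.Helper4.RkLift.covBy_of_mem_minimalPrimes
    (P.map (algebraMap A O)) (maximalIdeal O) (algebraMap A O F) htP' hmem
  have hht := Groth.Agent.Lib.Helper4.RkLift.height_eq_add_one_of_covBy hcat heq hcov
  rw [← IsLocalRing.maximalIdeal_height_eq_ringKrullDim]
  have hfin : (maximalIdeal O).height = P.height + 1 := by
    rw [← IsLocalization.height_map_of_disjoint (S := O) p.primeCompl P (hdisj P hPp)]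
    exact hht
  rw [hfin]

open AlgebraicGeometry CategoryTheory TopologicalSpace

variable {X : Scheme.{u}}

theorem one_le_dim_of_mem_support [IsLocallyNoetherian X] (𝓘 : X.IdealSheafData)
    (hY : BlowUp.IsEffCartierIdeal 𝓘) (y : X) (hy : y ∈ 𝓘.support) :
    (1 : WithBot ℕ∞) ≤ ringKrullDim (X.presheaf.stalk y) := by
  obtain ⟨W, hyW, F, hF, hI⟩ := hY y
  rw [H16CartSum.ringKrullDim_stalk_eq_height W.2 y hyW]
  have h1 := (Groth.Agent.Lib.Helper3.mem_support_iff_le_primeIdealOf 𝓘 W y hyW).mp hy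
  rw [hI] at h1
  have h2 := Ideal.one_le_height_span_singleton_of_mem_nonZeroDivisors hF
  have h3 := h2.trans (Ideal.height_mono h1)
  exact_mod_cast h3

theorem exists_dim_le_one [IsLocallyNoetherian X] (𝓘 : X.IdealSheafData)
    (hY : BlowUp.IsEffCartierIdeal 𝓘) (ζ : X) (hζ : ζ ∈ 𝓘.support) :
    ∃ y₀ ∈ 𝓘.support, ringKrullDim (X.presheaf.stalk y₀) ≤ 1 := by
  obtain ⟨y₀, hy₀, hy₀ζ, hmax⟩ :=
    H16CartSum.exists_maximal_generization_in 𝓘.support.isClosed hζ
  refine ⟨y₀, hy₀, ?_⟩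
  obtain ⟨W, hyW, F, hF, hI⟩ := hY y₀
  haveI : IsNoetherianRing Γ(X, W.1) := IsLocallyNoetherian.component_noetherian W
  rw [H16CartSum.ringKrullDim_stalk_eq_height W.2 y₀ hyW]
  have hminp : (W.2.primeIdealOf ⟨y₀, hyW⟩).asIdeal ∈ (Ideal.span {F}).minimalPrimes := by
    refine ⟨⟨(W.2.primeIdealOf ⟨y₀, hyW⟩).2, ?_⟩, ?_⟩
    · rw [← hI]
      exact (Groth.Agent.Lib.Helper3.mem_support_iff_le_primeIdealOf 𝓘 W y₀ hyW).mp hy₀
    · rintro q ⟨hq, hle⟩ hqp
      obtain ⟨x, hxW, hxq⟩ := H16CartSum.exists_primeIdealOf_eq W.2 ⟨q, hq⟩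
      have hq' : (W.2.primeIdealOf ⟨x, hxW⟩).asIdeal = q := congrArg PrimeSpectrum.asIdeal hxq
      have hxs : x ∈ 𝓘.support := by
        rw [Groth.Agent.Lib.Helper3.mem_support_iff_le_primeIdealOf 𝓘 W x hxW, hI, hq']
        exact hle
      have hxy : x ⤳ y₀ := by
        rw [← Groth.Agent.Lib.Helper3.primeIdealOf_le_iff_specializes W.2 x y₀ hxW hyW, hq']
        exact hqp
      have hxe := hmax x hxs hxy
      subst hxe
      exact hq'.le
  have h1 := Ideal.height_le_one_of_isPrincipal_of_mem_minimalPrimes _ _ hminp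
  exact_mod_cast h1

theorem dim_formula {X Z : Scheme.{u}}
    [IsLocallyNoetherian X] [IrreducibleSpace ↥X]
    (hcat : ∀ x : ↥X, CAlg.IsCatenary ↑(X.presheaf.stalk x))
    (𝓘 : X.IdealSheafData) (hY : BlowUp.IsEffCartierIdeal 𝓘)
    (i : Z ⟶ X) [IsClosedImmersion i] [IsIntegral Z] (hc : BlowUp.IsEffCartierIdeal (𝓘.comap i))
    (ζ : ↥X) (hζ : ζ ∈ (𝓘.support : Set ↥X) ∩ Set.range i.base)
    (hmax : ∀ ζ' : ↥X, ζ' ∈ (𝓘.support : Set ↥X) ∩ Set.range i.base → ζ' ⤳ ζ → ζ' = ζ) :
    ringKrullDim ↑(X.presheaf.stalk ζ) =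
      (⨅ y : (𝓘.support : Set ↥X), ringKrullDim ↑(X.presheaf.stalk y.1)) +
        ringKrullDim ↑(X.presheaf.stalk (i (genericPoint ↥Z))) := by
  obtain ⟨hζs, z₀, hz₀⟩ := hζ
  have hinf : (⨅ y : (𝓘.support : Set ↥X), ringKrullDim ↑(X.presheaf.stalk y.1)) = 1 := by
    obtain ⟨y₀, hy₀, hle⟩ := exists_dim_le_one 𝓘 hY ζ hζs
    apply le_antisymm
    · exact (iInf_le _ (⟨y₀, hy₀⟩ : (𝓘.support : Set ↥X))).trans hle
    · exact le_iInf fun y => one_le_dim_of_mem_support 𝓘 hY y.1 y.2
  rw [hinf]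
  obtain ⟨W, hζW, F, hF, hI⟩ := hY ζ
  haveI : IsNoetherianRing Γ(X, W.1) := IsLocallyNoetherian.component_noetherian W
  have hspec : i (genericPoint ↥Z) ⤳ ζ := by
    rw [← hz₀]
    exact (genericPoint_specializes z₀).map i.continuous
  have hξW : i (genericPoint ↥Z) ∈ W.1 := hspec.mem_open W.1.2 hζW
  have hξns : i (genericPoint ↥Z) ∉ 𝓘.support := by
    intro h
    have h1 : genericPoint ↥Z ∈ (𝓘.comap i).support := by
      rw [Scheme.IdealSheafData.support_comap]
      exact h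
    exact Groth.Agent.Lib.Helper3.notMem_support_of_isEffCartierIdeal (𝓘.comap i) hc
      (genericPoint ↥Z) (fun z hz => (hz.antisymm (genericPoint_specializes z)).eq) h1
  have hη : genericPoint ↥X ∈ W.1 := (genericPoint_specializes ζ).mem_open W.1.2 hζW
  letI := X.presheaf.algebra_section_stalk ⟨ζ, hζW⟩
  haveI := W.2.isLocalization_stalk ⟨ζ, hζW⟩
  have hζF : F ∈ (W.2.primeIdealOf ⟨ζ, hζW⟩).asIdeal := by
    have h1 := (Groth.Agent.Lib.Helper3.mem_support_iff_le_primeIdealOf 𝓘 W ζ hζW).mp hζs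
    rw [hI, Ideal.span_singleton_le_iff_mem] at h1
    exact h1
  have key := dim_formula_atPrime (O := ↑(X.presheaf.stalk ζ))
    (W.2.primeIdealOf ⟨ζ, hζW⟩).asIdeal (hcat ζ)
    (W.2.primeIdealOf ⟨genericPoint ↥X, hη⟩).asIdeal ?_
    (W.2.primeIdealOf ⟨i (genericPoint ↥Z), hξW⟩).asIdeal ?_ F hζF ?_ ?_
  · rw [key, H16CartSum.ringKrullDim_stalk_eq_height W.2 (i (genericPoint ↥Z)) hξW,
      WithBot.coe_add, add_comm]
    rfl
  · intro q hq
    obtain ⟨x, hxW, hxq⟩ := H16CartSum.exists_primeIdealOf_eq W.2 ⟨q, hq⟩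
    have hq' : (W.2.primeIdealOf ⟨x, hxW⟩).asIdeal = q := congrArg PrimeSpectrum.asIdeal hxq
    rw [← hq', Groth.Agent.Lib.Helper3.primeIdealOf_le_iff_specializes W.2 _ x hη hxW]
    exact genericPoint_specializes x
  · rw [Groth.Agent.Lib.Helper3.primeIdealOf_le_iff_specializes W.2 _ ζ hξW hζW]
    exact hspec
  · intro hFP
    apply hξns
    rw [Groth.Agent.Lib.Helper3.mem_support_iff_le_primeIdealOf 𝓘 W _ hξW, hI,
      Ideal.span_singleton_le_iff_mem]
    exact hFP
  · intro q hq hPq hFq hqp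
    obtain ⟨x, hxW, hxq⟩ := H16CartSum.exists_primeIdealOf_eq W.2 ⟨q, hq⟩
    have hq' : (W.2.primeIdealOf ⟨x, hxW⟩).asIdeal = q := congrArg PrimeSpectrum.asIdeal hxq
    have hξx : i (genericPoint ↥Z) ⤳ x := by
      rw [← Groth.Agent.Lib.Helper3.primeIdealOf_le_iff_specializes W.2 _ x hξW hxW, hq']
      exact hPq
    have hxζ : x ⤳ ζ := by
      rw [← Groth.Agent.Lib.Helper3.primeIdealOf_le_iff_specializes W.2 x ζ hxW hζW, hq']
      exact hqp
    have hxs : x ∈ 𝓘.support := by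
      rw [Groth.Agent.Lib.Helper3.mem_support_iff_le_primeIdealOf 𝓘 W x hxW, hI,
        Ideal.span_singleton_le_iff_mem, hq']
      exact hFq
    have hxr : x ∈ Set.range i.base :=
      hξx.mem_closed i.isClosedEmbedding.isClosed_range ⟨genericPoint ↥Z, rfl⟩
    have hxe := hmax x ⟨hxs, hxr⟩ hxζ
    subst hxe
    exact hq'.symm

end Groth.Agent.Lib.Helper26.CatDim
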