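import Mathlib
import Groth.Prelude.Def_Found

/-!
# Catenary rings and localization

The catenary property (in the chain-of-primes form of `CAlg.IsCatenary`) passes to localizations
and can be checked at maximal ideals.
-/

set_option autoImplicit false
universe u

namespace Groth.Agent.Lib.Helper26.CatenaryLoc

/-- The order-theoretic catenary property. -/
def IsCat (α : Type*) [PartialOrder α] : Prop :=
  (∀ p q : α, p ≤ q → ∃ n : ℕ, ∀ s : LTSeries α, s.head = p → s.last = q → s.length ≤ n) ∧
  ∀ s t : LTSeries α, s.head = t.head → s.last = t.last →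
    (∀ i : Fin s.length, s (Fin.castSucc i) ⋖ s (Fin.succ i)) →
    (∀ i : Fin t.length, t (Fin.castSucc i) ⋖ t (Fin.succ i)) →
    s.length = t.length

theorem isCatenary_iff (R : Type u) [CommRing R] :
    CAlg.IsCatenary R ↔ IsCat (PrimeSpectrum R) := Iff.rfl

section Order

variable {X Y : Type*} [PartialOrder X] [PartialOrder Y] (ι : X → Y)
  (hle : ∀ a b, ι a ≤ ι b ↔ a ≤ b) (hlow : ∀ (y : Y) (x : X), y ≤ ι x → ∃ x', ι x' = y)

include hle in
theorem strictMono_of_le_iff : StrictMono ι := by
  intro a b hab
  rw [lt_iff_le_not_ge] at hab ⊢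
  exact ⟨(hle a b).mpr hab.1, fun h => hab.2 ((hle b a).mp h)⟩

include hle in
theorem injective_of_le_iff : Function.Injective ι := by
  intro a b hab
  exact le_antisymm ((hle a b).mp hab.le) ((hle b a).mp hab.ge)

include hle in
theorem lt_iff_of_le_iff (a b : X) : ι a < ι b ↔ a < b := by
  rw [lt_iff_le_not_ge, lt_iff_le_not_ge, hle, hle]

include hle hlow in
theorem covBy_iff (a b : X) : ι a ⋖ ι b ↔ a ⋖ b := by
  constructor
  · intro h
    refine ⟨(lt_iff_of_le_iff ι hle a b).mp h.1, fun c hac hcb => ?_⟩
    exact h.2 ((lt_iff_of_le_iff ι hle a c).mpr hac) ((lt_iff_of_le_iff ι hle c b).mpr hcb)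
  · intro h
    refine ⟨(lt_iff_of_le_iff ι hle a b).mpr h.1, fun y hay hyb => ?_⟩
    obtain ⟨c, rfl⟩ := hlow y b hyb.le
    exact h.2 ((lt_iff_of_le_iff ι hle a c).mp hay) ((lt_iff_of_le_iff ι hle c b).mp hyb)

include hle hlow in
/-- Chains below a point of the image lift. -/
theorem exists_lift (s : LTSeries Y) (x : X) (hx : s.last ≤ ι x) :
    ∃ s' : LTSeries X, s'.map ι (strictMono_of_le_iff ι hle) = s := by
  have hex : ∀ i : Fin (s.length + 1), ∃ x', ι x' = s i := by
    intro i
    apply hlow _ x
    exact (s.strictMono.monotone (Fin.le_last i)).trans hx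
  choose f hf using hex
  have hmono : StrictMono f := by
    intro i j hij
    rw [← lt_iff_of_le_iff ι hle, hf, hf]
    exact s.strictMono hij
  refine ⟨LTSeries.mk s.length f hmono, ?_⟩
  ext i
  · rfl
  · show ι (f _) = s.toFun _
    rw [hf]
    rfl

include hle hlow in
theorem isCat_of_embedding (hY : IsCat Y) : IsCat X := by
  have hmono := strictMono_of_le_iff ι hle
  constructor
  · intro p q hpq
    obtain ⟨n, hn⟩ := hY.1 (ι p) (ι q) ((hle p q).mpr hpq)
    refine ⟨n, fun s hs ht => ?_⟩
    have := hn (s.map ι hmono) (by rw [LTSeries.head_map, hs]) (by rw [LTSeries.last_map, ht])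
    simpa using this
  · intro s t hh hl hs ht
    have := hY.2 (s.map ι hmono) (t.map ι hmono)
      (by rw [LTSeries.head_map, LTSeries.head_map, hh])
      (by rw [LTSeries.last_map, LTSeries.last_map, hl])
      (fun i => (covBy_iff ι hle hlow _ _).mpr (hs i))
      (fun i => (covBy_iff ι hle hlow _ _).mpr (ht i))
    simpa using this

include hle hlow in
theorem bound_of_embedding (hX : IsCat X) (p : Y) (x : X) (hp : p ≤ ι x) :
    ∃ n : ℕ, ∀ s : LTSeries Y, s.head = p → s.last = ι x → s.length ≤ n := by
  obtain ⟨p', rfl⟩ := hlow p x hp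
  obtain ⟨n, hn⟩ := hX.1 p' x ((hle _ _).mp hp)
  refine ⟨n, fun s hs ht => ?_⟩
  obtain ⟨s', rfl⟩ := exists_lift ι hle hlow s x ht.le
  have hinj := injective_of_le_iff ι hle
  have := hn s' (hinj (by simpa using hs)) (hinj (by simpa using ht))
  simpa using this

include hle hlow in
theorem length_eq_of_embedding (hX : IsCat X) (s t : LTSeries Y) (x : X)
    (hh : s.head = t.head) (hl : s.last = t.last) (hx : s.last = ι x)
    (hs : ∀ i : Fin s.length, s (Fin.castSucc i) ⋖ s (Fin.succ i))
    (ht : ∀ i : Fin t.length, t (Fin.castSucc i) ⋖ t (Fin.succ i)) :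
    s.length = t.length := by
  obtain ⟨s', rfl⟩ := exists_lift ι hle hlow s x hx.le
  obtain ⟨t', rfl⟩ := exists_lift ι hle hlow t x (hl ▸ hx.le)
  have hinj := injective_of_le_iff ι hle
  have := hX.2 s' t' (hinj (by simpa using hh)) (hinj (by simpa using hl))
    (fun i => (covBy_iff ι hle hlow _ _).mp (hs i))
    (fun i => (covBy_iff ι hle hlow _ _).mp (ht i))
  simpa using this

end Order

section Ring

variable {R : Type u} [CommRing R] (M : Submonoid R) (S : Type u) [CommRing S] [Algebra R S]
  [IsLocalization M S]

include M in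
theorem comap_le_iff (a b : PrimeSpectrum S) :
    PrimeSpectrum.comap (algebraMap R S) a ≤ PrimeSpectrum.comap (algebraMap R S) b ↔ a ≤ b := by
  constructor
  · intro h
    have h' : a.asIdeal.comap (algebraMap R S) ≤ b.asIdeal.comap (algebraMap R S) := h
    have := Ideal.map_mono (f := algebraMap R S) h'
    rw [IsLocalization.map_comap M S, IsLocalization.map_comap M S] at this
    exact this
  · intro h
    exact Ideal.comap_mono h

include M in
theorem comap_lower (y : PrimeSpectrum R) (x : PrimeSpectrum S)
    (h : y ≤ PrimeSpectrum.comap (algebraMap R S) x) :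
    ∃ x', PrimeSpectrum.comap (algebraMap R S) x' = y := by
  have hx : PrimeSpectrum.comap (algebraMap R S) x ∈
      Set.range (PrimeSpectrum.comap (algebraMap R S)) := ⟨x, rfl⟩
  rw [PrimeSpectrum.localization_comap_range S M] at hx
  have hy : y ∈ Set.range (PrimeSpectrum.comap (algebraMap R S)) := by
    rw [PrimeSpectrum.localization_comap_range S M]
    exact Set.disjoint_of_subset_right h hx
  exact hy

include M in
/-- A localization of a catenary ring is catenary. -/
theorem isCatenary_of_isLocalization (hR : CAlg.IsCatenary R) : CAlg.IsCatenary S :=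
  isCat_of_embedding (PrimeSpectrum.comap (algebraMap R S)) (comap_le_iff M S)
    (comap_lower M S) hR

end Ring

/-- A ring is catenary if its localizations at all maximal ideals are. -/
theorem isCatenary_of_forall_maximal (R : Type u) [CommRing R]
    (h : ∀ (m : Ideal R) [m.IsMaximal], CAlg.IsCatenary (Localization.AtPrime m)) :
    CAlg.IsCatenary R := by
  have key : ∀ q : PrimeSpectrum R, ∃ (m : Ideal R) (_ : m.IsMaximal)
      (x : PrimeSpectrum (Localization.AtPrime m)),
      PrimeSpectrum.comap (algebraMap R (Localization.AtPrime m)) x = q := by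
    intro q
    obtain ⟨m, hm, hqm⟩ := Ideal.exists_le_maximal q.asIdeal q.2.ne_top
    haveI := hm
    refine ⟨m, hm, ?_⟩
    have : q ∈ Set.range (PrimeSpectrum.comap (algebraMap R (Localization.AtPrime m))) := by
      rw [PrimeSpectrum.localization_comap_range (Localization.AtPrime m) m.primeCompl]
      show Disjoint (m.primeCompl : Set R) (q.asIdeal : Set R)
      rw [Set.disjoint_left]
      intro a ha haq
      exact ha (hqm haq)
    exact this
  constructor
  · intro p q hpq
    obtain ⟨m, hm, x, rfl⟩ := key q
    haveI := hm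
    exact bound_of_embedding _ (comap_le_iff m.primeCompl (Localization.AtPrime m))
      (comap_lower m.primeCompl (Localization.AtPrime m)) (h m) p x hpq
  · intro s t hh hl hs ht
    obtain ⟨m, hm, x, hx⟩ := key s.last
    haveI := hm
    exact length_eq_of_embedding _ (comap_le_iff m.primeCompl (Localization.AtPrime m))
      (comap_lower m.primeCompl (Localization.AtPrime m)) (h m) s t x hh hl hx.symm hs ht

end Groth.Agent.Lib.Helper26.CatenaryLoc
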