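import Mathlib
import Groth.Agent.Lib.Helper14.OmegaProjSmooth
import Groth.Agent.Lib.Helper8.SmoothFiber
import Groth.Agent.Lib.Helper26.GenSmoothRed

/-!
# Projective differentials + generic geometric reducedness ⇒ smooth (helper26)

Variant of `Helper14.OmegaProjSmooth` where "reduced" is weakened to "the local rings at the
minimal primes are fields" (over an algebraically closed field), and the final result over an
arbitrary field: if `Ω_{A/k}` is projective and `A_p` is geometrically reduced at all minimal
primes, then `A` is smooth over `k`.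
-/

set_option autoImplicit false
universe u

open scoped TensorProduct
open IsLocalRing

namespace Groth.Agent.Lib.Helper26.OmegaProjSmooth2

open Groth.Agent.Lib.Helper14.OmegaProjSmooth

theorem finrank_fiber_minimalPrime' (K A : Type u) [Field K] [PerfectField K] [CommRing A]
    [Algebra K A] [Algebra.FiniteType K A] (p : Ideal A) [p.IsPrime]
    (hfield : IsField (Localization.AtPrime p)) :
    ∃ n : ℕ, Module.finrank p.ResidueField (p.ResidueField ⊗[A] Ω[A⁄K]) = n ∧
      ringKrullDim (A ⧸ p) = n := by
  obtain ⟨n, h1, h2, -⟩ := Groth.Agent.Lib.Helper12.DimFT2.exists_trdeg_residueField K A p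
  refine ⟨n, ?_, h2⟩
  have hmax : maximalIdeal (Localization.AtPrime p) = ⊥ :=
    IsLocalRing.isField_iff_maximalIdeal_eq.mp hfield
  have hbij : Function.Bijective (algebraMap (Localization.AtPrime p) p.ResidueField) := by
    refine ⟨?_, IsLocalRing.residue_surjective⟩
    rw [RingHom.injective_iff_ker_eq_bot]
    show RingHom.ker (IsLocalRing.residue (Localization.AtPrime p)) = ⊥
    rw [IsLocalRing.ker_residue, hmax]
  haveI : Algebra.FormallyEtale A (Localization.AtPrime p) :=
    Algebra.FormallyEtale.of_isLocalization p.primeCompl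
  haveI : Algebra.FormallyEtale (Localization.AtPrime p) p.ResidueField :=
    Algebra.FormallyEtale.of_equiv
      (AlgEquiv.ofBijective (Algebra.ofId (Localization.AtPrime p) p.ResidueField) hbij)
  haveI : Algebra.FormallyEtale A p.ResidueField :=
    Algebra.FormallyEtale.comp A (Localization.AtPrime p) p.ResidueField
  haveI : Algebra.EssFiniteType K p.ResidueField := Algebra.EssFiniteType.comp K A p.ResidueField
  rw [(KaehlerDifferential.tensorKaehlerEquivOfFormallyEtale K A p.ResidueField).finrank_eq,
    finrank_kaehler_eq_trdeg K p.ResidueField, h1, Cardinal.toNat_natCast]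

open Groth.Agent.Lib.Helper21.KaehlerRank in
theorem isRegularLocalRing_localization' (K A : Type u) [Field K] [IsAlgClosed K] [CommRing A]
    [Algebra K A] [Algebra.FiniteType K A] [Module.Projective A Ω[A⁄K]]
    (hfield : ∀ (p : Ideal A) [p.IsPrime], p ∈ minimalPrimes A →
      IsField (Localization.AtPrime p))
    (m : Ideal A) [hm : m.IsMaximal] : IsRegularLocalRing (Localization.AtPrime m) := by
  haveI : IsNoetherianRing A := Algebra.FiniteType.isNoetherianRing K A
  haveI : IsNoetherianRing (Localization.AtPrime m) :=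
    IsLocalization.isNoetherianRing m.primeCompl _ inferInstance
  have hres := bijective_algebraMap_residueField K A m
  have key := Groth.Agent.Lib.Helper21.CotangentKaehler.finrank_tensor_eq K
    (Localization.AtPrime m) hres
  haveI : Module.Free (Localization.AtPrime m) (Localization.AtPrime m ⊗[A] Ω[A⁄K]) :=
    Module.free_of_flat_of_isLocalRing
  haveI : Module.Free (Localization.AtPrime m) Ω[Localization.AtPrime m⁄K] :=
    Module.Free.of_equiv (isBaseChange_map K A m).equiv
  rw [Module.finrank_baseChange, finrank_kaehler_localization K A m] at key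
  -- a minimal prime below `m`
  obtain ⟨p, hpmin, hpm⟩ := Ideal.exists_minimalPrimes_le (bot_le : ⊥ ≤ m)
  have hpmin' : p ∈ minimalPrimes A := hpmin
  haveI := hpmin'.1.1
  obtain ⟨n, hn1, hn2⟩ := finrank_fiber_minimalPrime' K A p (hfield p hpmin')
  have hrank : Module.rankAtStalk (Ω[A⁄K]) ⟨m, hm.isPrime⟩ = n := by
    rw [← Module.rankAtStalk_eq_of_le_of_finite_of_flat' _ hpm,
      ← Ideal.finrank_fiber_eq_rankAtStalk]
    exact hn1
  rw [hrank] at key
  -- dimension
  have hdim1 : (n : WithBot ℕ∞) ≤ ringKrullDim (Localization.AtPrime m) := by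
    have h1 := Groth.Agent.Lib.Helper12.DimFT2.ringKrullDim_quotient_le_height_add_coheight K A p
      ⟨m, hm.isPrime⟩ hpm
    have hco : Order.coheight (⟨m, hm.isPrime⟩ : PrimeSpectrum A) = 0 := by
      rw [Order.coheight_eq_zero]
      intro z hz
      have h1 : m ≤ z.asIdeal := hz
      have h2 : z.asIdeal = m := (hm.eq_of_le z.2.ne_top h1).symm
      exact le_of_eq (PrimeSpectrum.ext h2)
    rw [hco, add_zero, hn2, ← PrimeSpectrum.height_eq_orderHeight] at h1
    rw [IsLocalization.AtPrime.ringKrullDim_eq_height m]
    exact h1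
  have hdim2 : ringKrullDim (Localization.AtPrime m) ≤ (n : WithBot ℕ∞) := by
    rw [← IsLocalRing.maximalIdeal_height_eq_ringKrullDim]
    have h1 := Ideal.height_le_spanFinrank (maximalIdeal (Localization.AtPrime m))
      (maximalIdeal.isMaximal _).ne_top
    rw [IsLocalRing.spanFinrank_maximalIdeal_eq_finrank_cotangentSpace, ← key] at h1
    exact_mod_cast h1
  rw [IsRegularLocalRing.iff_finrank_cotangentSpace, ← key]
  exact (le_antisymm hdim2 hdim1).symm

open Groth.Agent.Lib.Helper21.KaehlerRank in
/-- Over an algebraically closed field: a finite type algebra with projective module of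
differentials whose local rings at the minimal primes are fields is smooth. -/
theorem smooth_of_isAlgClosed' (K A : Type u) [Field K] [IsAlgClosed K] [CommRing A]
    [Algebra K A] [Algebra.FiniteType K A] [Module.Projective A Ω[A⁄K]]
    (hfield : ∀ (p : Ideal A) [p.IsPrime], p ∈ minimalPrimes A →
      IsField (Localization.AtPrime p)) :
    Algebra.Smooth K A := by
  haveI : Algebra.FormallySmooth K A := by
    apply Groth.Agent.Lib.Helper21.SepFT.formallySmooth_of_forall_maximal K K A
    intro m hm
    exact formallySmooth_of_isRegularLocalRing K _ (bijective_algebraMap_residueField K A m)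
      (isRegularLocalRing_localization' K A hfield m)
  haveI : Algebra.FinitePresentation K A :=
    Algebra.FinitePresentation.of_finiteType.mp inferInstance
  exact ⟨inferInstance, inferInstance⟩

/-- contraction of a minimal prime along a flat map is a minimal prime -/
theorem comap_mem_minimalPrimes {R S : Type u} [CommRing R] [CommRing S] [Algebra R S]
    [Module.Flat R S] {P : Ideal S} (hP : P ∈ minimalPrimes S) :
    P.comap (algebraMap R S) ∈ minimalPrimes R := by
  haveI : P.IsPrime := hP.1.1
  refine ⟨⟨Ideal.comap_isPrime _ _, bot_le⟩, ?_⟩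
  rintro q ⟨hq, -⟩ hqp
  haveI := hq
  haveI : P.LiesOver (P.comap (algebraMap R S)) := ⟨rfl⟩
  obtain ⟨P', hP'P, hP'prime, hP'lo⟩ :=
    Ideal.exists_ideal_le_liesOver_of_le (p := q) (q := P.comap (algebraMap R S)) P hqp
  have : P ≤ P' := hP.2 ⟨hP'prime, bot_le⟩ hP'P
  have heq : P' = P := le_antisymm hP'P this
  rw [hP'lo.over, heq]

attribute [local instance] Algebra.TensorProduct.rightAlgebra in
/-- **Main theorem**: if `Ω_{A/k}` is projective and `A_p` is geometrically reduced over `k` at
every minimal prime `p`, then `A` is smooth over `k`. -/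
theorem smooth_of_projective_of_geomRed (k A : Type u) [Field k] [CommRing A] [Algebra k A]
    [Algebra.FiniteType k A] [Module.Projective A Ω[A⁄k]]
    (h : ∀ (p : Ideal A) [p.IsPrime], p ∈ minimalPrimes A →
      Algebra.IsGeometricallyReduced k (Localization.AtPrime p)) : Algebra.Smooth k A := by
  let K := AlgebraicClosure k
  haveI : Module.Projective (K ⊗[k] A) Ω[K ⊗[k] A⁄K] :=
    Module.Projective.of_equiv (KaehlerDifferential.tensorKaehlerEquiv k K A (K ⊗[k] A))
  haveI : Module.Flat A (K ⊗[k] A) :=
    Module.Flat.isBaseChange k A K (K ⊗[k] A)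
      (Algebra.IsPushout.symm (inferInstance : Algebra.IsPushout k K A (K ⊗[k] A))).out
  have hfield : ∀ (P : Ideal (K ⊗[k] A)) [P.IsPrime], P ∈ minimalPrimes (K ⊗[k] A) →
      IsField (Localization.AtPrime P) := by
    intro P _ hP
    have hp : P.comap (algebraMap A (K ⊗[k] A)) ∈ minimalPrimes A := comap_mem_minimalPrimes hP
    haveI : (P.comap (algebraMap A (K ⊗[k] A))).IsPrime := hp.1.1
    haveI := h _ hp
    haveI : Algebra.IsSmoothAt k (P.comap (algebraMap A (K ⊗[k] A))) :=
      Groth.Agent.Lib.Helper26.GenSmoothRed.isSmoothAt_of_geomRed k A _ hp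
    haveI : P.LiesOver (P.comap (algebraMap A (K ⊗[k] A))) := ⟨rfl⟩
    haveI : Algebra.IsSmoothAt K P :=
      Groth.Agent.Lib.Helper8.SmoothFiber.isSmoothAt_baseChange (R := k) (T := K) (A := A)
        (B := K ⊗[k] A) (P.comap (algebraMap A (K ⊗[k] A))) P
    haveI := Groth.Agent.Lib.Helper26.GenSmoothRed.geomRed_of_isSmoothAt K (K ⊗[k] A) P
    haveI : IsReduced (Localization.AtPrime P) := Algebra.isReduced_of_isGeometricallyReduced K
    haveI : Ring.KrullDimLE 0 (Localization.AtPrime P) := .of_isLocalization _ hP _
    exact Ring.KrullDimLE.isField_of_isReduced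
  haveI : Algebra.Smooth K (K ⊗[k] A) := smooth_of_isAlgClosed' K (K ⊗[k] A) hfield
  exact Algebra.Smooth.of_smooth_tensorProduct_of_faithfullyFlat (T := K)

end Groth.Agent.Lib.Helper26.OmegaProjSmooth2
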