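import Mathlib
import Groth.Agent.Lib.Helper14.PerfectGeomRed
import Groth.Agent.Lib.Helper26.OmegaProjSmooth2

/-!
# Characteristic zero: projective differentials imply smooth (helper26)

* `maximalIdeal_eq_bot_of_free_kaehler`: a local `k`-algebra `B` (char `k = 0`, essentially of
  finite type) with nilpotent maximal ideal and free `Ω_{B/k}` is a field.
* `smooth_of_projective_of_charZero`: a finite type algebra over a field of characteristic zero
  with projective module of differentials is smooth.
* `isSmoothAt_of_free_of_charZero`: the pointwise version.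
-/

set_option autoImplicit false
set_option linter.style.haveILetI false
universe u

open scoped TensorProduct
open IsLocalRing

namespace Groth.Agent.Lib.Helper26.CharZeroSmooth

theorem maximalIdeal_eq_bot_of_free_kaehler (k B : Type u) [Field k] [CharZero k] [CommRing B]
    [Algebra k B] [IsLocalRing B] [Algebra.EssFiniteType k B]
    (hnil : IsNilpotent (maximalIdeal B)) [Module.Free B Ω[B⁄k]] : maximalIdeal B = ⊥ := by
  classical
  set m := maximalIdeal B with hm
  by_contra hne
  -- an element of `m \ m²`
  have hex : ∃ t ∈ m, t ∉ m ^ 2 := by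
    by_contra hcon
    push_neg at hcon
    have hle : m ≤ m ^ 2 := fun t ht => hcon t ht
    have hpow : ∀ n : ℕ, m ≤ m ^ (n + 1) := by
      intro n
      induction n with
      | zero => simp
      | succ n ih =>
        calc m ≤ m ^ 2 := hle
          _ = m * m := sq m
          _ ≤ m ^ (n + 1) * m := Ideal.mul_mono_left ih
          _ = m ^ (n + 1 + 1) := (pow_succ m (n + 1)).symm
    obtain ⟨n, hn⟩ := hnil
    have h1 : m ≤ m ^ (n + 1) := hpow n
    rw [pow_succ, hn, Ideal.zero_eq_bot, Ideal.bot_mul] at h1
    exact hne (le_bot_iff.mp h1)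
  obtain ⟨t, htm, htm2⟩ := hex
  -- coefficient field
  letI : Field (B ⧸ m) := Ideal.Quotient.field m
  haveI : Algebra.FiniteType B (B ⧸ m) :=
    Algebra.FiniteType.of_surjective (Algebra.ofId B (B ⧸ m)) Ideal.Quotient.mk_surjective
  haveI : Algebra.EssFiniteType k (B ⧸ m) := Algebra.EssFiniteType.comp k B (B ⧸ m)
  haveI : Algebra.FormallySmooth k (B ⧸ m) := Algebra.FormallySmooth.of_perfectField
  let σ : (B ⧸ m) →ₐ[k] B := Algebra.FormallySmooth.lift m hnil (AlgHom.id k (B ⧸ m))
  have hσ : ∀ x : B ⧸ m, Ideal.Quotient.mk m (σ x) = x := fun x =>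
    Algebra.FormallySmooth.mk_lift m hnil (AlgHom.id k (B ⧸ m)) x
  have hδ : ∀ b : B, b - σ (Ideal.Quotient.mk m b) ∈ m := by
    intro b
    rw [← Ideal.Quotient.eq_zero_iff_mem, map_sub, hσ, sub_self]
  -- the derivation `B → m/m²`
  let D0 : B →ₗ[k] m.Cotangent :=
    { toFun := fun b => m.toCotangent ⟨b - σ (Ideal.Quotient.mk m b), hδ b⟩
      map_add' := by
        intro a b
        rw [← map_add, Ideal.toCotangent_eq]
        have : ((⟨a + b - σ (Ideal.Quotient.mk m (a + b)), hδ (a + b)⟩ : m) : B) -
            ((⟨a - σ (Ideal.Quotient.mk m a), hδ a⟩ + ⟨b - σ (Ideal.Quotient.mk m b), hδ b⟩ : m) : B)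
            = 0 := by
          show a + b - σ (Ideal.Quotient.mk m (a + b)) -
            ((a - σ (Ideal.Quotient.mk m a)) + (b - σ (Ideal.Quotient.mk m b))) = 0
          rw [map_add, map_add]
          ring
        rw [this]
        exact zero_mem _
      map_smul' := by
        intro c b
        simp only [RingHom.id_apply]
        rw [← algebraMap_smul B c (m.toCotangent ⟨b - σ (Ideal.Quotient.mk m b), hδ b⟩),
          ← map_smul, Ideal.toCotangent_eq]
        have : ((⟨c • b - σ (Ideal.Quotient.mk m (c • b)), hδ (c • b)⟩ : m) : B) -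
            ((algebraMap k B c • (⟨b - σ (Ideal.Quotient.mk m b), hδ b⟩ : m) : m) : B) = 0 := by
          show c • b - σ (Ideal.Quotient.mk m (c • b)) -
            algebraMap k B c * (b - σ (Ideal.Quotient.mk m b)) = 0
          have h1 : Ideal.Quotient.mk m (c • b) = c • Ideal.Quotient.mk m b := by
            rw [Algebra.smul_def, Algebra.smul_def, map_mul]; rfl
          rw [h1, map_smul, Algebra.smul_def, Algebra.smul_def]
          ring
        rw [this]
        exact zero_mem _ }
  have hD0 : ∀ b, D0 b = m.toCotangent ⟨b - σ (Ideal.Quotient.mk m b), hδ b⟩ := fun _ => rfl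
  let D : Derivation k B m.Cotangent := Derivation.mk' D0 (by
    intro a b
    rw [hD0, hD0, hD0, ← map_smul, ← map_smul, ← map_add, Ideal.toCotangent_eq]
    have : ((⟨a * b - σ (Ideal.Quotient.mk m (a * b)), hδ (a * b)⟩ : m) : B) -
        ((a • (⟨b - σ (Ideal.Quotient.mk m b), hδ b⟩ : m) +
          b • (⟨a - σ (Ideal.Quotient.mk m a), hδ a⟩ : m) : m) : B) =
        - ((a - σ (Ideal.Quotient.mk m a)) * (b - σ (Ideal.Quotient.mk m b))) := by
      show a * b - σ (Ideal.Quotient.mk m (a * b)) -
        (a * (b - σ (Ideal.Quotient.mk m b)) + b * (a - σ (Ideal.Quotient.mk m a))) = _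
      rw [map_mul, map_mul]
      ring
    rw [this, sq]
    exact neg_mem (Ideal.mul_mem_mul (hδ a) (hδ b)))
  have hDt : D t = m.toCotangent ⟨t, htm⟩ := by
    show D0 t = _
    rw [hD0]
    congr 1
    apply Subtype.ext
    have : Ideal.Quotient.mk m t = 0 := Ideal.Quotient.eq_zero_iff_mem.mpr htm
    simp [this]
  let ψ : Ω[B⁄k] →ₗ[B] m.Cotangent := D.liftKaehlerDifferential
  have hψ : ψ (KaehlerDifferential.D k B t) = m.toCotangent ⟨t, htm⟩ := by
    rw [← hDt]; exact D.liftKaehlerDifferential_comp_D t
  -- coordinates of `dt`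
  let b := Module.Free.chooseBasis B Ω[B⁄k]
  have hunit : ∃ i, IsUnit (b.repr (KaehlerDifferential.D k B t) i) := by
    by_contra hcon
    push_neg at hcon
    have hmem : ∀ i, b.repr (KaehlerDifferential.D k B t) i ∈ m := fun i =>
      (IsLocalRing.mem_maximalIdeal _).mpr (hcon i)
    have h0 : ψ (KaehlerDifferential.D k B t) = 0 := by
      conv_lhs => rw [← b.linearCombination_repr (KaehlerDifferential.D k B t)]
      rw [Finsupp.linearCombination_apply, map_finsuppSum]
      apply Finset.sum_eq_zero
      intro i _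
      show ψ ((b.repr (KaehlerDifferential.D k B t) i) • b i) = 0
      rw [map_smul]
      exact Ideal.Cotangent.smul_eq_zero_of_mem (hmem i) _
    rw [hψ, Ideal.toCotangent_eq_zero] at h0
    exact htm2 h0
  obtain ⟨i, hi⟩ := hunit
  let φ : Ω[B⁄k] →ₗ[B] B := (↑(hi.unit⁻¹) : B) • b.coord i
  let D' : Derivation k B B := φ.compDer (KaehlerDifferential.D k B)
  have hD't : D' t = 1 := by
    show φ (KaehlerDifferential.D k B t) = 1
    show (↑(hi.unit⁻¹) : B) • b.coord i (KaehlerDifferential.D k B t) = 1
    rw [Module.Basis.coord_apply, smul_eq_mul, IsUnit.val_inv_mul]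
  -- `t` is nilpotent
  have htnil : ∃ n : ℕ, t ^ n = 0 := by
    obtain ⟨n, hn⟩ := hnil
    refine ⟨n, ?_⟩
    have : t ^ n ∈ m ^ n := Ideal.pow_mem_pow htm n
    rw [hn, Ideal.zero_eq_bot, Ideal.mem_bot] at this
    exact this
  have hn0 : Nat.find htnil ≠ 0 := by
    intro h0
    have := Nat.find_spec htnil
    rw [h0, pow_zero] at this
    exact one_ne_zero this
  obtain ⟨j, hj⟩ := Nat.exists_eq_succ_of_ne_zero hn0
  have h1 : D' (t ^ (j + 1)) = 0 := by
    have := Nat.find_spec htnil
    rw [hj] at this
    rw [this, map_zero]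
  rw [Derivation.leibniz_pow, hD't, Nat.add_sub_cancel, smul_eq_mul, mul_one,
    nsmul_eq_mul] at h1
  have hu : IsUnit ((j + 1 : ℕ) : B) := by
    have : ((j + 1 : ℕ) : B) = algebraMap k B ((j + 1 : ℕ) : k) := (map_natCast _ _).symm
    rw [this]
    exact (IsUnit.mk0 _ (Nat.cast_ne_zero.mpr (Nat.succ_ne_zero j))).map _
  have h2 : t ^ j = 0 := (hu.mul_right_eq_zero).mp h1
  exact Nat.find_min htnil (by omega : j < Nat.find htnil) h2

/-- Over a field of characteristic zero, a finite type algebra with projective module of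
differentials is smooth. -/
theorem smooth_of_projective_of_charZero (k A : Type u) [Field k] [CharZero k] [CommRing A]
    [Algebra k A] [Algebra.FiniteType k A] [Module.Projective A Ω[A⁄k]] : Algebra.Smooth k A := by
  haveI : IsNoetherianRing A := Algebra.FiniteType.isNoetherianRing k A
  apply Groth.Agent.Lib.Helper26.OmegaProjSmooth2.smooth_of_projective_of_geomRed k A
  intro p hpp hp
  haveI : IsNoetherianRing (Localization.AtPrime p) :=
    IsLocalization.isNoetherianRing p.primeCompl _ inferInstance
  haveI : Ring.KrullDimLE 0 (Localization.AtPrime p) := .of_isLocalization _ hp _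
  haveI : IsArtinianRing (Localization.AtPrime p) :=
    isArtinianRing_iff_krullDimLE_zero.mpr inferInstance
  haveI : Algebra.EssFiniteType A (Localization.AtPrime p) :=
    Algebra.EssFiniteType.of_isLocalization _ p.primeCompl
  haveI : Algebra.EssFiniteType k (Localization.AtPrime p) := Algebra.EssFiniteType.comp k A _
  haveI : Algebra.FormallyEtale A (Localization.AtPrime p) :=
    Algebra.FormallyEtale.of_isLocalization p.primeCompl
  haveI : Module.Projective (Localization.AtPrime p) Ω[Localization.AtPrime p⁄k] :=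
    Module.Projective.of_equiv
      (KaehlerDifferential.tensorKaehlerEquivOfFormallyEtale k A (Localization.AtPrime p))
  haveI : Module.Free (Localization.AtPrime p) Ω[Localization.AtPrime p⁄k] :=
    Module.free_of_flat_of_isLocalRing
  have hnil : IsNilpotent (maximalIdeal (Localization.AtPrime p)) :=
    (isArtinianRing_iff_isNilpotent_maximalIdeal (Localization.AtPrime p)).mp inferInstance
  have hbot := maximalIdeal_eq_bot_of_free_kaehler k (Localization.AtPrime p) hnil
  have hfield : IsField (Localization.AtPrime p) :=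
    IsLocalRing.isField_iff_maximalIdeal_eq.mpr hbot
  haveI : IsReduced (Localization.AtPrime p) := by
    letI := hfield.toField
    infer_instance
  exact Groth.Agent.Lib.Helper14.PerfectGeomRed.isGeometricallyReduced_of_perfectField

end Groth.Agent.Lib.Helper26.CharZeroSmooth
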