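import Mathlib

/-!
# Algebra for homomorphisms of completed modules

* base change along a surjective ring map: surjectivity and the kernel;
* the unique limit point of a compatible family in an adically complete module.
-/

set_option autoImplicit false
open TensorProduct

namespace Groth.Agent.Lib.Helper26.ComplHomAlg

section BaseChange

variable {R S : Type*} [CommRing R] [CommRing S] [Algebra R S]
  (hS : Function.Surjective (algebraMap R S))
  {M P : Type*} [AddCommGroup M] [Module R M] [AddCommGroup P] [Module R P] [Module S P]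
  [IsScalarTower R S P] (l : M →ₗ[R] P) (hl : IsBaseChange S l)

include hS hl in
theorem surjective_of_isBaseChange : Function.Surjective l := by
  intro p
  refine hl.inductionOn p (fun p => ∃ m, l m = p) ⟨0, map_zero l⟩ (fun m => ⟨m, rfl⟩) ?_ ?_
  · rintro s n ⟨m, rfl⟩
    obtain ⟨r, rfl⟩ := hS s
    exact ⟨r • m, by rw [map_smul, algebraMap_smul]⟩
  · rintro n₁ n₂ ⟨m₁, rfl⟩ ⟨m₂, rfl⟩
    exact ⟨m₁ + m₂, map_add l m₁ m₂⟩

include hS hl in
theorem mem_smul_top_of_isBaseChange (m : M) (hm : l m = 0) :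
    m ∈ (RingHom.ker (algebraMap R S)) • (⊤ : Submodule R M) := by
  have h1 : (1 : S) ⊗ₜ[R] m = 0 := by
    rw [← hl.equiv_symm_apply, hm, map_zero]
  let f : R →ₐ[R] S := Algebra.ofId R S
  have hf : Function.Surjective f := hS
  have hK : RingHom.ker f = RingHom.ker (algebraMap R S) := by
    ext x
    rw [RingHom.mem_ker, RingHom.mem_ker]
    rfl
  let e1 : (R ⧸ RingHom.ker f) ≃ₐ[R] S := Ideal.quotientKerAlgEquivOfSurjective hf
  let E : S ⊗[R] M ≃ₗ[R] M ⧸ ((RingHom.ker f) • (⊤ : Submodule R M)) :=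
    (TensorProduct.congr e1.symm.toLinearEquiv (LinearEquiv.refl R M)).trans
      (TensorProduct.quotTensorEquivQuotSMul M (RingHom.ker f))
  have h2 : E ((1 : S) ⊗ₜ[R] m) = Submodule.Quotient.mk m := by
    have h3 : e1.symm.toLinearEquiv (1 : S) = 1 := map_one e1.symm
    show (TensorProduct.quotTensorEquivQuotSMul M (RingHom.ker f))
      ((TensorProduct.congr e1.symm.toLinearEquiv (LinearEquiv.refl R M)) ((1 : S) ⊗ₜ[R] m)) = _
    rw [TensorProduct.congr_tmul, h3, LinearEquiv.refl_apply]
    exact TensorProduct.quotTensorEquivQuotSMul_mk_one_tmul (RingHom.ker f) m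
  rw [h1, map_zero] at h2
  rw [← hK]
  exact (Submodule.Quotient.mk_eq_zero _).mp h2.symm

end BaseChange

section Limit

variable {A : Type*} [CommRing A] (J : Ideal A) {N : Type*} [AddCommGroup N] [Module A N]
  [IsAdicComplete J N] {P : ℕ → Type*} [∀ n, AddCommGroup (P n)] (π : ∀ n, N →+ P n)
  (hsurj : ∀ n, Function.Surjective (π n))
  (hker : ∀ n x, π n x = 0 ↔ x ∈ (J ^ (n + 1) • ⊤ : Submodule A N))

include hker in
theorem eq_of_forall_proj_eq (x y : N) (h : ∀ n, π n x = π n y) : x = y := by
  rw [← sub_eq_zero]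
  apply IsHausdorff.haus' (I := J) (x - y)
  intro n
  rw [SModEq.sub_mem, sub_zero]
  have h1 : π n (x - y) = 0 := by rw [map_sub, h n, sub_self]
  have h2 := (hker n (x - y)).mp h1
  exact Submodule.smul_mono_left (Ideal.pow_le_pow_right (Nat.le_succ n)) h2

include hsurj hker in
theorem existsUnique_of_compatible (p : ∀ n, P n)
    (hp : ∀ n x x', π n x = p n → π (n + 1) x' = p (n + 1) →
      x - x' ∈ (J ^ (n + 1) • ⊤ : Submodule A N)) :
    ∃! x, ∀ n, π n x = p n := by
  choose x hx using fun n => hsurj n (p n)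
  have hstep : ∀ m k, x m - x (m + k) ∈ (J ^ (m + 1) • ⊤ : Submodule A N) := by
    intro m k
    induction k with
    | zero => rw [add_zero, sub_self]; exact Submodule.zero_mem _
    | succ k ih =>
      have h1 : x (m + k) - x (m + k + 1) ∈ (J ^ (m + k + 1) • ⊤ : Submodule A N) :=
        hp (m + k) _ _ (hx _) (hx _)
      have h2 : x (m + k) - x (m + k + 1) ∈ (J ^ (m + 1) • ⊤ : Submodule A N) :=
        Submodule.smul_mono_left (Ideal.pow_le_pow_right (by omega)) h1
      have h3 : x m - x (m + (k + 1)) = (x m - x (m + k)) + (x (m + k) - x (m + k + 1)) := by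
        rw [← add_assoc]; abel
      rw [h3]
      exact Submodule.add_mem _ ih h2
  let y : ℕ → N := fun k => Nat.casesOn k 0 (fun k' => x k')
  have hy : ∀ {m n : ℕ}, m ≤ n → y m ≡ y n [SMOD (J ^ m • ⊤ : Submodule A N)] := by
    intro m n hmn
    rw [SModEq.sub_mem]
    cases m with
    | zero => rw [pow_zero, Ideal.one_eq_top, Submodule.top_smul]; exact Submodule.mem_top
    | succ m' =>
      cases n with
      | zero => omega
      | succ n' =>
        obtain ⟨k, rfl⟩ := Nat.exists_eq_add_of_le (Nat.le_of_succ_le_succ hmn)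
        exact hstep m' k
  obtain ⟨L, hL⟩ := IsPrecomplete.prec' (I := J) y hy
  have hLn : ∀ n, π n L = p n := by
    intro n
    have h1 := hL (n + 1)
    rw [SModEq.sub_mem] at h1
    have h2 : π n (x n - L) = 0 := (hker n _).mpr h1
    rw [map_sub, sub_eq_zero] at h2
    rw [← h2, hx]
  refine ⟨L, hLn, fun L' hL' => ?_⟩
  exact eq_of_forall_proj_eq J π hker L' L (fun n => (hL' n).trans (hLn n).symm)

end Limit

end Groth.Agent.Lib.Helper26.ComplHomAlg
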