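import Mathlib
import Groth.Prelude.Def_FSch3
import Groth.Prelude.Def_Omega4
import Groth.Agent.Lib.Helper26.ComplHomAlg
import Groth.Agent.Lib.Helper1.PbSect
import Groth.Agent.Lib.Helper1.PbComp
import Groth.Agent.Lib.Helper6.SysAdic
import Groth.Agent.Lib.Helper17.AffGlue
import Groth.Agent.S3866

/-!
# Homomorphisms between completions of finite modules over an adically complete Noetherian ring

`Hom_A(M, N) → Hom(M^Δ, N^Δ)` is bijective (EGA I 10.8.x type statement on the affine formal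
scheme, in the language of systems of modules on `completionAlong (Spec A) (J~)`).
-/

set_option autoImplicit false
set_option linter.style.haveILetI false
universe u
open CategoryTheory AlgebraicGeometry TopologicalSpace Opposite

namespace Groth.Agent.Lib.Helper26.ComplHom

section PullTop

variable {Y Z : Scheme.{u}} (f : Y ⟶ Z)

/-- pull a global section back along `f` -/
noncomputable def pullTop (F : Z.Modules) : Γ(F, ⊤) →+ Γ((Scheme.Modules.pullback f).obj F, ⊤) :=
  (OmegaSh.pullSect f F ⊤).hom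

/-- the map on global functions -/
noncomputable def appTopHom : Γ(Z, ⊤) →+* Γ(Y, ⊤) := (f.app ⊤).hom

theorem pullTop_smul (F : Z.Modules) (r : Γ(Z, ⊤)) (s : Γ(F, ⊤)) :
    pullTop f F (r • s) = appTopHom f r • pullTop f F s :=
  OmegaSh.pullSect_smul f F ⊤ r s

/-- a morphism of modules on global sections -/
noncomputable def topMap {F G : Z.Modules} (α : F ⟶ G) : Γ(F, ⊤) →+ Γ(G, ⊤) := (α.app ⊤).hom

theorem topMap_smul {F G : Z.Modules} (α : F ⟶ G) (r : Γ(Z, ⊤)) (s : Γ(F, ⊤)) :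
    topMap α (r • s) = r • topMap α s :=
  Scheme.Modules.Hom.app_smul α r s

theorem topMap_comp {F G H : Z.Modules} (α : F ⟶ G) (β : G ⟶ H) (s : Γ(F, ⊤)) :
    topMap (α ≫ β) s = topMap β (topMap α s) := rfl

theorem topMap_id (F : Z.Modules) (s : Γ(F, ⊤)) : topMap (𝟙 F) s = s := rfl

theorem pullTop_natural {F G : Z.Modules} (α : F ⟶ G) (s : Γ(F, ⊤)) :
    topMap ((Scheme.Modules.pullback f).map α) (pullTop f F s) = pullTop f G (topMap α s) := by
  have h := (Scheme.Modules.pullbackPushforwardAdjunction f).unit.naturality α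
  have h2 := congr($(congrArg (fun k => Scheme.Modules.Hom.app k ⊤) h) s)
  exact h2.symm

theorem pullTop_comp {W : Scheme.{u}} (g : Z ⟶ W) (F : W.Modules) (s : Γ(F, ⊤)) :
    pullTop f ((Scheme.Modules.pullback g).obj F) (pullTop g F s) =
      topMap ((Scheme.Modules.pullbackComp f g).inv.app F) (pullTop (f ≫ g) F s) :=
  Groth.Agent.Lib.Helper1.PbComp.pullSect_pullSect f g F ⊤ s

theorem pullTop_congr {f g : Y ⟶ Z} (h : f = g) (F : Z.Modules) (s : Γ(F, ⊤)) :
    topMap ((Scheme.Modules.pullbackCongr h).hom.app F) (pullTop f F s) = pullTop g F s := by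
  subst h
  rfl


/-- general transition map on global sections, for a natural isomorphism `f^* g^* ≅ k^*` -/
noncomputable def trG {W : Scheme.{u}} (g : Z ⟶ W) {k : Y ⟶ W}
    (c : Scheme.Modules.pullback g ⋙ Scheme.Modules.pullback f ≅ Scheme.Modules.pullback k)
    (F : W.Modules) :
    Γ((Scheme.Modules.pullback g).obj F, ⊤) →+ Γ((Scheme.Modules.pullback k).obj F, ⊤) :=
  (topMap (c.hom.app F)).comp (pullTop f ((Scheme.Modules.pullback g).obj F))

theorem trG_apply {W : Scheme.{u}} (g : Z ⟶ W) {k : Y ⟶ W}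
    (c : Scheme.Modules.pullback g ⋙ Scheme.Modules.pullback f ≅ Scheme.Modules.pullback k)
    (F : W.Modules) (t : Γ((Scheme.Modules.pullback g).obj F, ⊤)) :
    trG f g c F t = topMap (c.hom.app F) (pullTop f ((Scheme.Modules.pullback g).obj F) t) := rfl

theorem trG_pullTop {W : Scheme.{u}} (g : Z ⟶ W) {k : Y ⟶ W}
    (c : Scheme.Modules.pullback g ⋙ Scheme.Modules.pullback f ≅ Scheme.Modules.pullback k)
    (h : f ≫ g = k)
    (hc : c = Scheme.Modules.pullbackComp f g ≪≫ Scheme.Modules.pullbackCongr h)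
    (F : W.Modules) (s : Γ(F, ⊤)) :
    trG f g c F (pullTop g F s) = pullTop k F s := by
  subst hc
  rw [trG_apply, pullTop_comp, Iso.trans_hom, NatTrans.comp_app, topMap_comp,
    ← topMap_comp ((Scheme.Modules.pullbackComp f g).inv.app F),
    Iso.inv_hom_id_app, topMap_id, pullTop_congr]

theorem trG_natural {W : Scheme.{u}} (g : Z ⟶ W) {k : Y ⟶ W}
    (c : Scheme.Modules.pullback g ⋙ Scheme.Modules.pullback f ≅ Scheme.Modules.pullback k)
    {F G : W.Modules}
    (φ₁ : (Scheme.Modules.pullback g).obj F ⟶ (Scheme.Modules.pullback g).obj G)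
    (φ₀ : (Scheme.Modules.pullback k).obj F ⟶ (Scheme.Modules.pullback k).obj G)
    (hc : (Scheme.Modules.pullback f).map φ₁ ≫ c.hom.app G = c.hom.app F ≫ φ₀)
    (t : Γ((Scheme.Modules.pullback g).obj F, ⊤)) :
    trG f g c G (topMap φ₁ t) = topMap φ₀ (trG f g c F t) := by
  rw [trG_apply, trG_apply, ← pullTop_natural, ← topMap_comp, ← topMap_comp, hc]

end PullTop

section PullTopAffine

open Groth.Agent.Lib.Helper1 Groth.Agent.Lib.Helper26.ComplHomAlg

variable {Y Z : Scheme.{u}} (f : Y ⟶ Z)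

theorem pullRes_top (F : Z.Modules) (s : Γ(F, ⊤)) :
    PbSect.pullRes f F (le_of_eq rfl : (⊤ : Y.Opens) ≤ f ⁻¹ᵁ ⊤) s = pullTop f F s := by
  rw [PbSect.pullRes_apply]
  exact congr($(((Scheme.Modules.pullback f).obj F).presheaf.map_id (op (f ⁻¹ᵁ ⊤)))
    (OmegaSh.pullSect f F ⊤ s))

theorem pullTop_eq_zero_of_mem (F : Z.Modules) (s : Γ(F, ⊤))
    (hs : s ∈ (RingHom.ker (appTopHom f)) • (⊤ : Submodule Γ(Z, ⊤) Γ(F, ⊤))) :
    pullTop f F s = 0 := by
  refine Submodule.smul_induction_on hs (fun r hr m _ => ?_) (fun x y hx hy => ?_)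
  · rw [pullTop_smul, (RingHom.mem_ker).mp hr, zero_smul]
  · rw [map_add, hx, hy, add_zero]

variable [IsAffine Y] [IsAffine Z] (F : Z.Modules) [F.IsQuasicoherent]
  (hf : Function.Surjective (appTopHom f))

include hf in
theorem pullTop_surjective_and_ker :
    Function.Surjective (pullTop f F) ∧ ∀ s, pullTop f F s = 0 →
      s ∈ (RingHom.ker (appTopHom f)) • (⊤ : Submodule Γ(Z, ⊤) Γ(F, ⊤)) := by
  letI alg : Algebra Γ(Z, ⊤) Γ(Y, ⊤) := (appTopHom f).toAlgebra
  letI mod : Module Γ(Z, ⊤) Γ((Scheme.Modules.pullback f).obj F, ⊤) :=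
    Module.compHom _ (appTopHom f)
  haveI : IsScalarTower Γ(Z, ⊤) Γ(Y, ⊤) Γ((Scheme.Modules.pullback f).obj F, ⊤) :=
    IsScalarTower.of_algebraMap_smul fun _ _ => rfl
  let l : Γ(F, ⊤) →ₗ[Γ(Z, ⊤)] Γ((Scheme.Modules.pullback f).obj F, ⊤) :=
    { toFun := pullTop f F
      map_add' := map_add _
      map_smul' := fun r s => pullTop_smul f F r s }
  have hbc : IsBaseChange Γ(Y, ⊤) l := by
    refine PbSect.isBaseChange_pullRes f F (isAffineOpen_top Z) (isAffineOpen_top Y)
      (le_of_eq rfl : (⊤ : Y.Opens) ≤ f ⁻¹ᵁ ⊤) (fun a => ?_) l (fun m => ?_)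
    · change (f.app ⊤).hom a = _
      rw [Scheme.Hom.app_eq_appLE]
      rfl
    · exact (pullRes_top f F m).symm
  have hS : Function.Surjective (algebraMap Γ(Z, ⊤) Γ(Y, ⊤)) := hf
  exact ⟨surjective_of_isBaseChange hS l hbc, fun s hs => mem_smul_top_of_isBaseChange hS l hbc s hs⟩

end PullTopAffine

section General

variable {X : Scheme.{u}} (𝓘 : X.IdealSheafData)

/-- the closed immersion of level `n` -/
noncomputable abbrev il (n : ℕ) : (FSch.completionAlong X 𝓘).X n ⟶ X := FSch.completionToX X 𝓘 n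

/-- the transition closed immersion -/
noncomputable abbrev tl (n : ℕ) :
    (FSch.completionAlong X 𝓘).X n ⟶ (FSch.completionAlong X 𝓘).X (n + 1) :=
  (FSch.completionAlong X 𝓘).ι n

theorem tl_il (n : ℕ) : tl 𝓘 n ≫ il 𝓘 (n + 1) = il 𝓘 n :=
  Scheme.IdealSheafData.inclusion_subschemeι (FSch.pow_succ_le X 𝓘 n)

/-- the transition map on global sections of the levels of `F^Δ` -/
noncomputable def tr (F : X.Modules) (n : ℕ) :
    Γ((Scheme.Modules.pullback (il 𝓘 (n + 1))).obj F, ⊤) →+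
      Γ((Scheme.Modules.pullback (il 𝓘 n)).obj F, ⊤) :=
  trG (tl 𝓘 n) (il 𝓘 (n + 1)) (FSch.complTransIso 𝓘 n) F

theorem complTransIso_eq (n : ℕ) : FSch.complTransIso 𝓘 n =
    Scheme.Modules.pullbackComp (tl 𝓘 n) (il 𝓘 (n + 1)) ≪≫
      Scheme.Modules.pullbackCongr (tl_il 𝓘 n) := rfl

theorem tr_eta (F : X.Modules) (n : ℕ) (s : Γ(F, ⊤)) :
    tr 𝓘 F n (pullTop (il 𝓘 (n + 1)) F s) = pullTop (il 𝓘 n) F s :=
  trG_pullTop (tl 𝓘 n) (il 𝓘 (n + 1)) (FSch.complTransIso 𝓘 n) (tl_il 𝓘 n)
    (complTransIso_eq 𝓘 n) F s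

theorem tr_natural {F G : X.Modules}
    (Φ : FSch.ModSys.Hom (FSch.complMod 𝓘 F) (FSch.complMod 𝓘 G)) (n : ℕ)
    (φ₁ : (Scheme.Modules.pullback (il 𝓘 (n + 1))).obj F ⟶
      (Scheme.Modules.pullback (il 𝓘 (n + 1))).obj G) (hφ₁ : φ₁ = Φ.app (n + 1))
    (φ₀ : (Scheme.Modules.pullback (il 𝓘 n)).obj F ⟶
      (Scheme.Modules.pullback (il 𝓘 n)).obj G) (hφ₀ : φ₀ = Φ.app n)
    (t : Γ((Scheme.Modules.pullback (il 𝓘 (n + 1))).obj F, ⊤)) :
    tr 𝓘 G n (topMap φ₁ t) = topMap φ₀ (tr 𝓘 F n t) := by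
  subst hφ₁ hφ₀
  exact trG_natural (tl 𝓘 n) (il 𝓘 (n + 1)) (FSch.complTransIso 𝓘 n) (Φ.app (n + 1)) (Φ.app n)
    (Φ.comm n) t

end General

section Affine

variable {X : Scheme.{u}} [IsAffine X] (𝓘 : X.IdealSheafData)

theorem isAffine_level (n : ℕ) : IsAffine ((FSch.completionAlong X 𝓘).X n) := by
  have h : IsAffine ((𝓘 ^ (n + 1)).subscheme) := isAffine_of_isAffineHom ((𝓘 ^ (n + 1)).subschemeι)
  exact h

theorem appTopHom_il_surjective (n : ℕ) : Function.Surjective (appTopHom (il 𝓘 n)) :=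
  (𝓘 ^ (n + 1)).subschemeι_app_surjective ⟨⊤, isAffineOpen_top X⟩

theorem ker_appTopHom_il (n : ℕ) :
    RingHom.ker (appTopHom (il 𝓘 n)) = (𝓘 ^ (n + 1)).ideal ⟨⊤, isAffineOpen_top X⟩ :=
  (𝓘 ^ (n + 1)).ker_subschemeι_app ⟨⊤, isAffineOpen_top X⟩

end Affine

section SpecCase

open Groth.Agent.Lib.Helper1 Groth.Agent.Lib.Helper26.ComplHomAlg

variable (A : Type u) [CommRing A] (J : Ideal A)

/-- `Γ(Spec A, ⊤) → A` -/
noncomputable def gam : Γ(Spec (CommRingCat.of A), ⊤) →+* A :=
  (Scheme.ΓSpecIso (CommRingCat.of A)).hom.hom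

/-- `A → Γ(Spec A, ⊤)` -/
noncomputable def gamInv : A →+* Γ(Spec (CommRingCat.of A), ⊤) :=
  (Scheme.ΓSpecIso (CommRingCat.of A)).inv.hom

theorem gam_gamInv (a : A) : gam A (gamInv A a) = a :=
  congr($((Scheme.ΓSpecIso (CommRingCat.of A)).inv_hom_id) a)

theorem gamInv_gam (r : Γ(Spec (CommRingCat.of A), ⊤)) : gamInv A (gam A r) = r :=
  congr($((Scheme.ΓSpecIso (CommRingCat.of A)).hom_inv_id) r)

theorem ker_level (n : ℕ) :
    RingHom.ker (appTopHom (il (FSch.idealSpec A J) n)) = (J ^ (n + 1)).comap (gam A) := by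
  rw [ker_appTopHom_il, ← Groth.Agent.Lib.Helper6.SysAdic.idealSpec_pow,
    Groth.Agent.Lib.Helper6.IdealSpec.idealSpec_ideal]
  rfl

/-- `N~` on `Spec A` -/
noncomputable abbrev tld (N : ModuleCat.{u} A) : (Spec (CommRingCat.of A)).Modules :=
  tilde (R := CommRingCat.of A) N

variable (N : ModuleCat.{u} A)

/-- `N → Γ(N~, ⊤)` -/
noncomputable def tt : N →+ Γ(tld A N, ⊤) := DerSpec.toTop (B := CommRingCat.of A) N

theorem tt_bijective : Function.Bijective (tt A N) := PbSect.tq_bijective (B := CommRingCat.of A) N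

theorem tt_smul (a : A) (m : N) : tt A N (a • m) = gamInv A a • tt A N m :=
  DerSpec.toTop_smul (B := CommRingCat.of A) N a m

theorem tt_map {M N : ModuleCat.{u} A} (f : M ⟶ N) (m : M) :
    topMap ((tilde.functor (CommRingCat.of A)).map f) (tt A M m) = tt A N (f.hom m) :=
  ConcreteCategory.congr_hom (tilde.toOpen_map_app (R := CommRingCat.of A) f ⊤) m

theorem mem_of_tt_mem (I : Ideal A) (x : N)
    (hx : tt A N x ∈ (I.comap (gam A)) •
      (⊤ : Submodule Γ(Spec (CommRingCat.of A), ⊤) Γ(tld A N, ⊤))) :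
    x ∈ I • (⊤ : Submodule A N) := by
  suffices h : ∀ t ∈ (I.comap (gam A)) •
      (⊤ : Submodule Γ(Spec (CommRingCat.of A), ⊤) Γ(tld A N, ⊤)),
      ∀ x, tt A N x = t → x ∈ I • (⊤ : Submodule A N) from h _ hx x rfl
  intro t ht
  refine Submodule.smul_induction_on ht (fun r hr m _ x hxe => ?_)
    (fun t₁ t₂ h₁ h₂ x hxe => ?_)
  · obtain ⟨m', rfl⟩ := (tt_bijective A N).2 m
    have h1 : x = gam A r • m' :=
      (tt_bijective A N).1 (by rw [hxe, tt_smul, gamInv_gam])
    rw [h1]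
    exact Submodule.smul_mem_smul (Ideal.mem_comap.mp hr) Submodule.mem_top
  · obtain ⟨x₁, rfl⟩ := (tt_bijective A N).2 t₁
    obtain ⟨x₂, rfl⟩ := (tt_bijective A N).2 t₂
    have h1 : x = x₁ + x₂ := (tt_bijective A N).1 (by rw [hxe, map_add])
    rw [h1]
    exact Submodule.add_mem _ (h₁ x₁ rfl) (h₂ x₂ rfl)

/-- the projection of `N` to the global sections of level `n` of `N^Δ` -/
noncomputable def pi (n : ℕ) :
    N →+ Γ((Scheme.Modules.pullback (il (FSch.idealSpec A J) n)).obj (tld A N), ⊤) :=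
  (pullTop (il (FSch.idealSpec A J) n) (tld A N)).comp (tt A N)

theorem pi_apply (n : ℕ) (x : N) :
    pi A J N n x = pullTop (il (FSch.idealSpec A J) n) (tld A N) (tt A N x) := rfl

theorem pi_smul (n : ℕ) (a : A) (x : N) :
    pi A J N n (a • x) = appTopHom (il (FSch.idealSpec A J) n) (gamInv A a) • pi A J N n x := by
  rw [pi_apply, pi_apply, tt_smul, pullTop_smul]

theorem pi_surjective (n : ℕ) : Function.Surjective (pi A J N n) := by
  haveI := isAffine_level (FSch.idealSpec A J) n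
  exact (pullTop_surjective_and_ker (il (FSch.idealSpec A J) n) (tld A N)
    (appTopHom_il_surjective (FSch.idealSpec A J) n)).1.comp (tt_bijective A N).2

theorem pi_eq_zero_iff (n : ℕ) (x : N) :
    pi A J N n x = 0 ↔ x ∈ (J ^ (n + 1)) • (⊤ : Submodule A N) := by
  haveI := isAffine_level (FSch.idealSpec A J) n
  constructor
  · intro h
    have h1 := (pullTop_surjective_and_ker (il (FSch.idealSpec A J) n) (tld A N)
      (appTopHom_il_surjective (FSch.idealSpec A J) n)).2 _ h
    rw [ker_level] at h1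
    exact mem_of_tt_mem A N _ x h1
  · intro h
    refine Submodule.smul_induction_on h (fun a ha m _ => ?_) (fun x y hx hy => ?_)
    · rw [pi_smul]
      have h0 : appTopHom (il (FSch.idealSpec A J) n) (gamInv A a) = 0 := by
        rw [← RingHom.mem_ker, ker_level, Ideal.mem_comap, gam_gamInv]
        exact ha
      rw [h0, zero_smul]
    · rw [map_add, hx, hy, add_zero]

end SpecCase

section Main

open Groth.Agent.Lib.Helper1 Groth.Agent.Lib.Helper26.ComplHomAlg

variable (A : Type u) [CommRing A] (J : Ideal A)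

theorem pi_map {M N : ModuleCat.{u} A} (f : M ⟶ N) (n : ℕ) (m : M) :
    pi A J N n (f.hom m) =
      topMap ((Scheme.Modules.pullback (il (FSch.idealSpec A J) n)).map
        ((tilde.functor (CommRingCat.of A)).map f)) (pi A J M n m) := by
  rw [pi_apply, pi_apply]
  exact (congrArg (pullTop (il (FSch.idealSpec A J) n) (tld A N)) (tt_map A f m)).symm.trans
    (pullTop_natural (il (FSch.idealSpec A J) n) ((tilde.functor (CommRingCat.of A)).map f)
      (tt A M m)).symm

theorem pi_tr (L : ModuleCat.{u} A) (n : ℕ) (x : L) :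
    tr (FSch.idealSpec A J) (tld A L) n (pi A J L (n + 1) x) = pi A J L n x := by
  rw [pi_apply, pi_apply]
  exact tr_eta (FSch.idealSpec A J) (tld A L) n (tt A L x)

theorem main [IsNoetherianRing A] [IsAdicComplete J A] (M N : ModuleCat.{u} A)
    [Module.Finite A M] [Module.Finite A N] :
    Function.Bijective (fun u : M ⟶ N ↦
      FSch.complModMap (FSch.idealSpec A J) ((tilde.functor (CommRingCat.of A)).map u)) := by
  haveI : IsAdicComplete J N := Groth.Agent.S3866.result A J N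
  have hinj : ∀ y y' : N, (∀ n, pi A J N n y = pi A J N n y') → y = y' :=
    eq_of_forall_proj_eq J (pi A J N) (pi_eq_zero_iff A J N)
  constructor
  · intro u v huv
    have happ : ∀ n, (Scheme.Modules.pullback (il (FSch.idealSpec A J) n)).map
        ((tilde.functor (CommRingCat.of A)).map u) =
        (Scheme.Modules.pullback (il (FSch.idealSpec A J) n)).map
          ((tilde.functor (CommRingCat.of A)).map v) :=
      fun n => congrArg (fun Ψ : FSch.ModSys.Hom _ _ => Ψ.app n) huv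
    refine ModuleCat.hom_ext (LinearMap.ext fun m => ?_)
    apply hinj
    intro n
    rw [pi_map, pi_map, happ]
  · intro (Φ : FSch.ModSys.Hom (FSch.complMod (FSch.idealSpec A J) (tld A M))
      (FSch.complMod (FSch.idealSpec A J) (tld A N)))
    obtain ⟨φ, hφ⟩ : ∃ φ : ∀ n, (Scheme.Modules.pullback (il (FSch.idealSpec A J) n)).obj (tld A M) ⟶
        (Scheme.Modules.pullback (il (FSch.idealSpec A J) n)).obj (tld A N),
        ∀ n, φ n = Φ.app n := ⟨fun n => Φ.app n, fun n => rfl⟩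
    have hcompat : ∀ n (t : Γ((Scheme.Modules.pullback (il (FSch.idealSpec A J) (n + 1))).obj
        (tld A M), ⊤)),
        tr (FSch.idealSpec A J) (tld A N) n (topMap (φ (n + 1)) t) =
          topMap (φ n) (tr (FSch.idealSpec A J) (tld A M) n t) :=
      fun n t => tr_natural (FSch.idealSpec A J) Φ n (φ (n + 1)) (hφ (n + 1)) (φ n) (hφ n) t
    have key : ∀ m : M, ∃! y : N, ∀ n, pi A J N n y = topMap (φ n) (pi A J M n m) := by
      intro m
      apply existsUnique_of_compatible J (pi A J N) (pi_surjective A J N) (pi_eq_zero_iff A J N)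
      intro n x x' hx hx'
      rw [← pi_eq_zero_iff A J N n, map_sub, sub_eq_zero, hx, ← pi_tr A J N n x', hx', hcompat,
        pi_tr]
    choose u₀ hu₀ using fun m => (key m).exists
    let u : M →ₗ[A] N :=
      { toFun := u₀
        map_add' := fun m₁ m₂ => hinj _ _ (fun n => by
          rw [map_add, hu₀, hu₀, hu₀, map_add, map_add])
        map_smul' := fun r m => hinj _ _ (fun n => by
          rw [RingHom.id_apply, pi_smul, hu₀, hu₀, pi_smul, topMap_smul]) }
    refine ⟨ModuleCat.ofHom u, ?_⟩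
    apply FSch.ModSys.Hom.ext
    funext n
    show ((Scheme.Modules.pullback (il (FSch.idealSpec A J) n)).map
      ((tilde.functor (CommRingCat.of A)).map (ModuleCat.ofHom u)) :
      (Scheme.Modules.pullback (il (FSch.idealSpec A J) n)).obj (tld A M) ⟶
        (Scheme.Modules.pullback (il (FSch.idealSpec A J) n)).obj (tld A N)) = Φ.app n
    rw [← hφ n]
    haveI := isAffine_level (FSch.idealSpec A J) n
    haveI : ((Scheme.Modules.pullback (il (FSch.idealSpec A J) n)).obj (tld A M)).IsQuasicoherent :=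
      Groth.Agent.Lib.Helper17.PbStalk.isQuasicoherent_pullback (il (FSch.idealSpec A J) n) (tld A M)
    refine Groth.Agent.Lib.Helper17.AffGlue.hom_ext_of_charts
      ((Scheme.Modules.pullback (il (FSch.idealSpec A J) n)).obj (tld A M))
      ((Scheme.Modules.pullback (il (FSch.idealSpec A J) n)).obj (tld A N))
      (fun _ : Unit => (⊤ : ((FSch.completionAlong _ (FSch.idealSpec A J)).X n).Opens))
      (fun _ => isAffineOpen_top _) (fun x => ⟨(), trivial⟩) _ _ (fun _ s => ?_)
    obtain ⟨m, rfl⟩ := pi_surjective A J M n s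
    exact ((pi_map A J (ModuleCat.ofHom u) n m).symm.trans (hu₀ m n))

end Main

end Groth.Agent.Lib.Helper26.ComplHom
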