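import Mathlib
import Groth.Agent.Lib.Helper26.ComplHom
import Groth.Agent.Lib.Helper15.AdicLimit
import Groth.Agent.Lib.Helper3.QCProps

/-!
# Coherent systems of modules on the completion of `Spec A` along `J` are of the form `M^Δ`
-/

set_option autoImplicit false
set_option linter.style.haveILetI false
universe u
open CategoryTheory AlgebraicGeometry TopologicalSpace Opposite

namespace Groth.Agent.Lib.Helper26.ComplEss

open Groth.Agent.Lib.Helper26.ComplHom Groth.Agent.Lib.Helper26.ComplHomAlg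

section Single

/-! ### one affine scheme -/

variable {A : Type u} [CommRing A] {Y : Scheme.{u}} [IsAffine Y] (ρ : A →+* Γ(Y, ⊤))
  (hρ : Function.Surjective ρ) {L : Type u} [AddCommGroup L] [Module A L]

include hρ in
theorem exists_hom_of_compat (F G : Y.Modules) [F.IsQuasicoherent]
    (q : L →+ Γ(F, ⊤)) (hq : Function.Surjective q)
    (hqs : ∀ a x, q (a • x) = ρ a • q x)
    (q' : L →+ Γ(G, ⊤)) (hq's : ∀ a x, q' (a • x) = ρ a • q' x)
    (hker : ∀ x, q x = 0 → q' x = 0) :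
    ∃ u : F ⟶ G, ∀ x, topMap u (q x) = q' x := by
  choose σ hσ using hq
  have hwd : ∀ x, q' (σ (q x)) = q' x := by
    intro x
    have h1 : q (σ (q x) - x) = 0 := by rw [map_sub, hσ, sub_self]
    have h2 := hker _ h1
    rwa [map_sub, sub_eq_zero] at h2
  let ψ : Γ(F, ⊤) →ₗ[Γ(Y, ⊤)] Γ(G, ⊤) :=
    { toFun := fun s => q' (σ s)
      map_add' := fun s₁ s₂ => by
        have h := hwd (σ s₁ + σ s₂)
        rw [map_add, hσ, hσ] at h
        rw [h, map_add]
      map_smul' := fun r s => by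
        obtain ⟨a, rfl⟩ := hρ r
        have h := hwd (a • σ s)
        rw [hqs, hσ] at h
        rw [h, hq's]
        rfl }
  obtain ⟨u, hu⟩ := Groth.Agent.Lib.Helper17.AffGlue.exists_hom_of_charts F G
    (fun _ : Unit => (⊤ : Y.Opens)) (fun _ => isAffineOpen_top Y) (fun x => ⟨(), trivial⟩)
    (fun _ _ => True) (fun _ _ _ => le_rfl) (fun _ _ x hx _ => ⟨(), hx, trivial, trivial⟩)
    (fun _ => ψ) (fun _ _ _ m => by
      have h1 : F.presheaf.map (homOfLE (le_refl (⊤ : Y.Opens))).op m = m :=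
        congr($(F.presheaf.map_id (op (⊤ : Y.Opens))) m)
      have h2 : G.presheaf.map (homOfLE (le_refl (⊤ : Y.Opens))).op (ψ m) = ψ m :=
        congr($(G.presheaf.map_id (op (⊤ : Y.Opens))) (ψ m))
      exact (congrArg ψ h1).trans h2.symm)
  refine ⟨u, fun x => ?_⟩
  exact (hu () (q x)).trans (hwd x)

theorem hom_ext_of_surj {T : Type*} (F G : Y.Modules) [F.IsQuasicoherent]
    (q : T → Γ(F, ⊤)) (hq : Function.Surjective q) (u v : F ⟶ G)
    (h : ∀ x, topMap u (q x) = topMap v (q x)) : u = v := by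
  refine Groth.Agent.Lib.Helper17.AffGlue.hom_ext_of_charts F G
    (fun _ : Unit => (⊤ : Y.Opens)) (fun _ => isAffineOpen_top Y) (fun x => ⟨(), trivial⟩) u v
    (fun _ s => ?_)
  obtain ⟨x, rfl⟩ := hq s
  exact h x

include hρ in
/-- two quasi-coherent modules whose global sections are the same quotient of `L` are
isomorphic -/
theorem exists_iso_of_compat (F G : Y.Modules) [F.IsQuasicoherent] [G.IsQuasicoherent]
    (q : L →+ Γ(F, ⊤)) (hq : Function.Surjective q)
    (hqs : ∀ a x, q (a • x) = ρ a • q x)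
    (q' : L →+ Γ(G, ⊤)) (hq' : Function.Surjective q')
    (hq's : ∀ a x, q' (a • x) = ρ a • q' x)
    (hker : ∀ x, q x = 0 ↔ q' x = 0) :
    ∃ α : F ≅ G, ∀ x, topMap α.hom (q x) = q' x := by
  obtain ⟨u, hu⟩ := exists_hom_of_compat ρ hρ F G q hq hqs q' hq's (fun x => (hker x).mp)
  obtain ⟨v, hv⟩ := exists_hom_of_compat ρ hρ G F q' hq' hq's q hqs (fun x => (hker x).mpr)
  refine ⟨⟨u, v, ?_, ?_⟩, hu⟩
  · refine hom_ext_of_surj F F q hq _ _ (fun x => ?_)
    rw [topMap_comp, hu, hv, topMap_id]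
  · refine hom_ext_of_surj G G q' hq' _ _ (fun x => ?_)
    rw [topMap_comp, hv, hu, topMap_id]

end Single

section Tower

/-! ### a tower of affine schemes -/

variable {A : Type u} [CommRing A] (J : Ideal A)
  (Y : ℕ → Scheme.{u}) [∀ n, IsAffine (Y n)] (t : ∀ n, Y n ⟶ Y (n + 1))
  (ρ : ∀ n, A →+* Γ(Y n, ⊤))
  (hρs : ∀ n, Function.Surjective (ρ n))
  (hρk : ∀ n a, ρ n a = 0 ↔ a ∈ J ^ (n + 1))
  (hρt : ∀ n a, appTopHom (t n) (ρ (n + 1) a) = ρ n a)
  (F : ∀ n, (Y n).Modules)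
  (e : ∀ n, (Scheme.Modules.pullback (t n)).obj (F (n + 1)) ≅ F n)

omit [∀ n, IsAffine (Y n)] in
include hρs hρt in
theorem appTopHom_t_surjective (n : ℕ) : Function.Surjective (appTopHom (t n)) := by
  intro r
  obtain ⟨a, rfl⟩ := hρs n r
  exact ⟨ρ (n + 1) a, hρt n a⟩

/-- global sections of level `n`, as an `A`-module through `ρ n` -/
def MA (_ρ : ∀ n, A →+* Γ(Y n, ⊤)) (F : ∀ n, (Y n).Modules) (n : ℕ) : Type u := Γ(F n, ⊤)

noncomputable instance instACG (n : ℕ) : AddCommGroup (MA Y ρ F n) := inferInstanceAs (AddCommGroup Γ(F n, ⊤))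

noncomputable instance instModΓ (n : ℕ) : Module Γ(Y n, ⊤) (MA Y ρ F n) :=
  inferInstanceAs (Module Γ(Y n, ⊤) Γ(F n, ⊤))

noncomputable instance instModA (n : ℕ) : Module A (MA Y ρ F n) :=
  Module.compHom Γ(F n, ⊤) (ρ n)

omit [∀ n, IsAffine (Y n)] in
theorem smul_MA (n : ℕ) (a : A) (x : MA Y ρ F n) :
    a • x = (show Γ(F n, ⊤) from ρ n a • (show Γ(F n, ⊤) from x)) := rfl

/-- the transition map on global sections -/
noncomputable def trF (n : ℕ) : Γ(F (n + 1), ⊤) →+ Γ(F n, ⊤) :=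
  (topMap (e n).hom).comp (pullTop (t n) (F (n + 1)))

omit [∀ n, IsAffine (Y n)] in
theorem trF_apply (n : ℕ) (x : Γ(F (n + 1), ⊤)) :
    trF Y t F e n x = topMap (e n).hom (pullTop (t n) (F (n + 1)) x) := rfl

omit [∀ n, IsAffine (Y n)] in
include hρt in
theorem trF_smul (n : ℕ) (a : A) (x : Γ(F (n + 1), ⊤)) :
    trF Y t F e n (ρ (n + 1) a • x) = ρ n a • trF Y t F e n x := by
  rw [trF_apply, trF_apply, pullTop_smul, topMap_smul, hρt]

/-- the transition map as an `A`-linear map -/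
noncomputable def fA (n : ℕ) : MA Y ρ F (n + 1) →ₗ[A] MA Y ρ F n where
  toFun := trF Y t F e n
  map_add' := map_add _
  map_smul' := fun a x => trF_smul Y t ρ hρt F e n a x

omit [∀ n, IsAffine (Y n)] in
theorem fA_apply (n : ℕ) (x : MA Y ρ F (n + 1)) :
    fA Y t ρ hρt F e n x = trF Y t F e n x := rfl

theorem topMap_iso_injective {Z : Scheme.{u}} {P Q : Z.Modules} (α : P ≅ Q) :
    Function.Injective (topMap α.hom) := by
  intro x y h
  have h2 := congrArg (topMap α.inv) h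
  rwa [← topMap_comp, ← topMap_comp, α.hom_inv_id, topMap_id, topMap_id] at h2

theorem topMap_iso_surjective {Z : Scheme.{u}} {P Q : Z.Modules} (α : P ≅ Q) :
    Function.Surjective (topMap α.hom) := by
  intro y
  refine ⟨topMap α.inv y, ?_⟩
  rw [← topMap_comp, α.inv_hom_id, topMap_id]

variable [∀ n, (F n).IsQuasicoherent]

include hρs in
theorem fA_surjective (n : ℕ) : Function.Surjective (fA Y t ρ hρt F e n) := by
  have h1 := (pullTop_surjective_and_ker (t n) (F (n + 1))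
    (appTopHom_t_surjective Y t ρ hρs hρt n)).1
  exact (topMap_iso_surjective (e n)).comp h1

include hρs hρk in
theorem fA_ker (n : ℕ) : LinearMap.ker (fA Y t ρ hρt F e n) =
    J ^ (n + 1) • (⊤ : Submodule A (MA Y ρ F (n + 1))) := by
  apply le_antisymm
  · intro x hx
    rw [LinearMap.mem_ker] at hx
    have hx' : topMap (e n).hom (pullTop (t n) (F (n + 1)) (show Γ(F (n + 1), ⊤) from x)) = 0 := hx
    have h0 : pullTop (t n) (F (n + 1)) (show Γ(F (n + 1), ⊤) from x) = 0 :=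
      topMap_iso_injective (e n) (hx'.trans (map_zero _).symm)
    have h1 := (pullTop_surjective_and_ker (t n) (F (n + 1))
      (appTopHom_t_surjective Y t ρ hρs hρt n)).2 (show Γ(F (n + 1), ⊤) from x) h0
    refine Submodule.smul_induction_on
      (p := fun x : Γ(F (n + 1), ⊤) => (show MA Y ρ F (n + 1) from x) ∈
        J ^ (n + 1) • (⊤ : Submodule A (MA Y ρ F (n + 1)))) h1 ?_ ?_
    · intro r hr y _
      obtain ⟨a, rfl⟩ := hρs (n + 1) r
      have ha : a ∈ J ^ (n + 1) := by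
        rw [← hρk n, ← hρt n]
        exact (RingHom.mem_ker).mp hr
      exact Submodule.smul_mem_smul (M := MA Y ρ F (n + 1)) ha Submodule.mem_top
    · intro x y hx hy
      exact Submodule.add_mem _ hx hy
  · rw [Submodule.smul_le]
    intro a ha y _
    rw [LinearMap.mem_ker, map_smul, smul_MA, (hρk n a).mpr ha, zero_smul]
    rfl

include hρs in
theorem finite_MA [(F 0).IsFiniteType] : Module.Finite A (MA Y ρ F 0) := by
  haveI h0 : Module.Finite Γ(Y 0, ⊤) Γ(F 0, ⊤) :=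
    Groth.Agent.Lib.Helper3.QCProps.finite_sections (F 0) (isAffineOpen_top (Y 0))
  haveI h1 : Module.Finite Γ(Y 0, ⊤) (MA Y ρ F 0) := h0
  letI alg : Algebra A Γ(Y 0, ⊤) := (ρ 0).toAlgebra
  haveI : IsScalarTower A Γ(Y 0, ⊤) (MA Y ρ F 0) :=
    IsScalarTower.of_algebraMap_smul fun _ _ => rfl
  haveI : Module.Finite A Γ(Y 0, ⊤) :=
    Module.Finite.of_surjective (Algebra.linearMap A Γ(Y 0, ⊤)) (hρs 0)
  exact Module.Finite.trans Γ(Y 0, ⊤) (MA Y ρ F 0)

end Tower

section Limit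

variable {A : Type u} [CommRing A] {M : ℕ → Type u} [∀ n, AddCommGroup (M n)]
  [∀ n, Module A (M n)] (f : ∀ n, M (n + 1) →ₗ[A] M n)

/-- the inverse limit as a submodule of the product -/
def Lim : Submodule A (∀ n, M n) where
  carrier := {x | ∀ n, f n (x (n + 1)) = x n}
  add_mem' := by
    intro x y hx hy n
    show f n (x (n + 1) + y (n + 1)) = x n + y n
    rw [map_add, hx n, hy n]
  zero_mem' := fun n => map_zero _
  smul_mem' := by
    intro c x hx n
    show f n (c • x (n + 1)) = c • x n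
    rw [map_smul, hx n]

/-- the projections of the limit -/
def πLim (n : ℕ) : ↥(Lim f) →ₗ[A] M n := (LinearMap.proj n).comp (Lim f).subtype

theorem hπ (n : ℕ) : f n ∘ₗ πLim f (n + 1) = πLim f n := LinearMap.ext fun x => x.2 n

theorem hinj (x : ↥(Lim f)) (h : ∀ n, πLim f n x = 0) : x = 0 := Subtype.ext (funext h)

theorem hlift (y : ∀ n, M n) (hy : ∀ n, f n (y (n + 1)) = y n) :
    ∃ x : ↥(Lim f), ∀ n, πLim f n x = y n := ⟨⟨y, hy⟩, fun _ => rfl⟩

end Limit

section TowerLimit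

open Groth.Agent.Lib.Helper15.AL

variable {A : Type u} [CommRing A] (J : Ideal A)
  (Y : ℕ → Scheme.{u}) [∀ n, IsAffine (Y n)] (t : ∀ n, Y n ⟶ Y (n + 1))
  (ρ : ∀ n, A →+* Γ(Y n, ⊤))
  (hρs : ∀ n, Function.Surjective (ρ n))
  (hρk : ∀ n a, ρ n a = 0 ↔ a ∈ J ^ (n + 1))
  (hρt : ∀ n a, appTopHom (t n) (ρ (n + 1) a) = ρ n a)
  (F : ∀ n, (Y n).Modules)
  (e : ∀ n, (Scheme.Modules.pullback (t n)).obj (F (n + 1)) ≅ F n)
  [∀ n, (F n).IsQuasicoherent]

include hρs hρk hρt in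
theorem exists_limit [IsNoetherianRing A] [IsAdicComplete J A] [(F 0).IsFiniteType] :
    ∃ (L : Type u) (_ : AddCommGroup L) (_ : Module A L) (q : ∀ n, L →+ Γ(F n, ⊤)),
      Module.Finite A L ∧ (∀ n a x, q n (a • x) = ρ n a • q n x) ∧
      (∀ n, Function.Surjective (q n)) ∧
      (∀ n x, q n x = 0 ↔ x ∈ J ^ (n + 1) • (⊤ : Submodule A L)) ∧
      (∀ n x, trF Y t F e n (q (n + 1) x) = q n x) := by
  have hf := fA_surjective Y t ρ hρs hρt F e
  have hker := fA_ker J Y t ρ hρs hρk hρt F e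
  haveI := finite_MA Y ρ hρs F
  have hI : J.FG := IsNoetherian.noetherian J
  refine ⟨↥(Lim (fA Y t ρ hρt F e)), inferInstance, inferInstance,
    fun n => (πLim (fA Y t ρ hρt F e) n).toAddMonoidHom,
    finite_limit J (fA Y t ρ hρt F e) hf hker (πLim (fA Y t ρ hρt F e)) (hπ _) (hinj _)
      (hlift _) hI, ?_, ?_, ?_, ?_⟩
  · intro n a x
    exact (πLim (fA Y t ρ hρt F e) n).map_smul a x
  · intro n
    exact proj_surjective (fA Y t ρ hρt F e) hf (πLim (fA Y t ρ hρt F e)) (hlift _) n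
  · intro n x
    rw [← ker_proj_eq J (fA Y t ρ hρt F e) hf hker (πLim (fA Y t ρ hρt F e)) (hπ _) (hinj _)
      (hlift _) hI n, LinearMap.mem_ker]
    rfl
  · intro n x
    exact LinearMap.congr_fun (hπ (fA Y t ρ hρt F e) n) x

include hρs hρt in
theorem exists_isos (G : ∀ n, (Y n).Modules) [∀ n, (G n).IsQuasicoherent]
    (e' : ∀ n, (Scheme.Modules.pullback (t n)).obj (G (n + 1)) ≅ G n)
    {L : Type u} [AddCommGroup L] [Module A L]
    (q : ∀ n, L →+ Γ(F n, ⊤)) (hqs : ∀ n a x, q n (a • x) = ρ n a • q n x)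
    (hq : ∀ n, Function.Surjective (q n))
    (hqk : ∀ n x, q n x = 0 ↔ x ∈ J ^ (n + 1) • (⊤ : Submodule A L))
    (hqt : ∀ n x, trF Y t F e n (q (n + 1) x) = q n x)
    (q' : ∀ n, L →+ Γ(G n, ⊤)) (hq's : ∀ n a x, q' n (a • x) = ρ n a • q' n x)
    (hq' : ∀ n, Function.Surjective (q' n))
    (hq'k : ∀ n x, q' n x = 0 ↔ x ∈ J ^ (n + 1) • (⊤ : Submodule A L))
    (hq't : ∀ n x, trF Y t G e' n (q' (n + 1) x) = q' n x) :
    ∃ α : ∀ n, F n ≅ G n, ∀ n,
      (Scheme.Modules.pullback (t n)).map (α (n + 1)).hom ≫ (e' n).hom =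
        (e n).hom ≫ (α n).hom := by
  have hex : ∀ n, ∃ α : F n ≅ G n, ∀ x, topMap α.hom (q n x) = q' n x := fun n =>
    exists_iso_of_compat (ρ n) (hρs n) (F n) (G n) (q n) (hq n) (hqs n) (q' n) (hq' n) (hq's n)
      (fun x => (hqk n x).trans (hq'k n x).symm)
  choose α hα using hex
  refine ⟨α, fun n => ?_⟩
  haveI : ((Scheme.Modules.pullback (t n)).obj (F (n + 1))).IsQuasicoherent :=
    Groth.Agent.Lib.Helper17.PbStalk.isQuasicoherent_pullback (t n) (F (n + 1))
  refine hom_ext_of_surj _ _ (fun x : L => pullTop (t n) (F (n + 1)) (q (n + 1) x)) ?_ _ _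
    (fun x => ?_)
  · exact ((pullTop_surjective_and_ker (t n) (F (n + 1))
      (appTopHom_t_surjective Y t ρ hρs hρt n)).1).comp (hq (n + 1))
  · have h1 : topMap ((Scheme.Modules.pullback (t n)).map (α (n + 1)).hom ≫ (e' n).hom)
        (pullTop (t n) (F (n + 1)) (q (n + 1) x)) = q' n x := by
      rw [topMap_comp, pullTop_natural, hα, ← trF_apply Y t G e', hq't]
    have h2 : topMap ((e n).hom ≫ (α n).hom) (pullTop (t n) (F (n + 1)) (q (n + 1) x)) =
        q' n x := by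
      rw [topMap_comp, ← trF_apply Y t F e, hqt, hα]
    exact h1.trans h2.symm

end TowerLimit

section Main

theorem inv_comm {C D : Type*} [Category C] [Category D] (P : C ⥤ D) {a b : C} {a' b' : D}
    (α₁ : a ≅ b) (α₀ : a' ≅ b') (e : P.obj a ⟶ a') (e' : P.obj b ⟶ b')
    (h : P.map α₁.hom ≫ e' = e ≫ α₀.hom) : P.map α₁.inv ≫ e = e' ≫ α₀.inv := by
  rw [← cancel_mono α₀.hom, Category.assoc, Category.assoc, α₀.inv_hom_id, Category.comp_id, ← h,
    ← Category.assoc, ← P.map_comp, α₁.inv_hom_id, P.map_id, Category.id_comp]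

theorem nonempty_iso_of_levelwise {𝔛 : FSch.Sys.{u}} (𝔐 𝔑 : FSch.ModSys 𝔛)
    (α : ∀ n, 𝔐.F n ≅ 𝔑.F n)
    (hα : ∀ n, (Scheme.Modules.pullback (𝔛.ι n)).map (α (n + 1)).hom ≫ (𝔑.e n).hom =
      (𝔐.e n).hom ≫ (α n).hom) : Nonempty (𝔐 ≅ 𝔑) :=
  ⟨{ hom := ⟨fun n => (α n).hom, hα⟩
     inv := ⟨fun n => (α n).inv, fun n =>
       inv_comm (Scheme.Modules.pullback (𝔛.ι n)) (α (n + 1)) (α n) (𝔐.e n).hom (𝔑.e n).hom (hα n)⟩
     hom_inv_id := FSch.ModSys.Hom.ext (funext fun n => (α n).hom_inv_id)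
     inv_hom_id := FSch.ModSys.Hom.ext (funext fun n => (α n).inv_hom_id) }⟩

theorem appTopHom_comp {Y Z W : Scheme.{u}} (f : Y ⟶ Z) (g : Z ⟶ W) (r : Γ(W, ⊤)) :
    appTopHom (f ≫ g) r = appTopHom f (appTopHom g r) := rfl

variable (A : Type u) [CommRing A] (J : Ideal A)

/-- `A → Γ(level n)` -/
noncomputable def rho (n : ℕ) :
    A →+* Γ((FSch.completionAlong (Spec (CommRingCat.of A)) (FSch.idealSpec A J)).X n, ⊤) :=
  (appTopHom (il (FSch.idealSpec A J) n)).comp (gamInv A)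

theorem rho_apply (n : ℕ) (a : A) :
    rho A J n a = appTopHom (il (FSch.idealSpec A J) n) (gamInv A a) := rfl

theorem rho_surjective (n : ℕ) : Function.Surjective (rho A J n) :=
  (appTopHom_il_surjective (FSch.idealSpec A J) n).comp
    (fun r => ⟨gam A r, gamInv_gam A r⟩)

theorem rho_ker (n : ℕ) (a : A) : rho A J n a = 0 ↔ a ∈ J ^ (n + 1) := by
  rw [rho_apply, ← RingHom.mem_ker, ker_level, Ideal.mem_comap, gam_gamInv]

theorem rho_t (n : ℕ) (a : A) :
    appTopHom (tl (FSch.idealSpec A J) n) (rho A J (n + 1) a) = rho A J n a := by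
  rw [rho_apply, rho_apply]
  exact (appTopHom_comp (tl (FSch.idealSpec A J) n) (il (FSch.idealSpec A J) (n + 1)) _).symm.trans
    (congrArg (fun f => appTopHom f (gamInv A a)) (tl_il (FSch.idealSpec A J) n))



theorem trε_pullTop {Y Z W : Scheme.{u}} (f : Y ⟶ Z) (g : Z ⟶ W) {k : Y ⟶ W} (h : f ≫ g = k)
    (F : W.Modules)
    (ε : (Scheme.Modules.pullback f).obj ((Scheme.Modules.pullback g).obj F) ≅
      (Scheme.Modules.pullback k).obj F)
    (c : Scheme.Modules.pullback g ⋙ Scheme.Modules.pullback f ≅ Scheme.Modules.pullback k)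
    (hc : c = Scheme.Modules.pullbackComp f g ≪≫ Scheme.Modules.pullbackCongr h)
    (hε : ε.hom = c.hom.app F)
    (s : Γ(F, ⊤)) :
    topMap ε.hom (pullTop f ((Scheme.Modules.pullback g).obj F) (pullTop g F s)) =
      pullTop k F s := by
  rw [hε]
  exact trG_pullTop f g c h hc F s

attribute [local irreducible] topMap pullTop trF ComplHom.pi tt

theorem complMod_e_hom {X : Scheme.{u}} (𝓘 : X.IdealSheafData) (F' : X.Modules) (n : ℕ) :
    ((FSch.complMod 𝓘 F').e n).hom = (FSch.complTransIso 𝓘 n).hom.app F' := rfl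


theorem trε_complMod {X : Scheme.{u}} (𝓘 : X.IdealSheafData) (F' : X.Modules) (n : ℕ)
    (s : Γ(F', ⊤)) :
    topMap ((FSch.complMod 𝓘 F').e n).hom
      (pullTop (tl 𝓘 n) ((Scheme.Modules.pullback (il 𝓘 (n+1))).obj F') (pullTop (il 𝓘 (n + 1)) F' s)) =
      pullTop (il 𝓘 n) F' s :=
  trε_pullTop (tl 𝓘 n) (il 𝓘 (n + 1)) (tl_il 𝓘 n) F' ((FSch.complMod 𝓘 F').e n)
    (FSch.complTransIso 𝓘 n) (complTransIso_eq 𝓘 n) (complMod_e_hom 𝓘 F' n) s


theorem pullTop_complMod_F {X : Scheme.{u}} (𝓘 : X.IdealSheafData) (F' : X.Modules) (n : ℕ)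
    (y : Γ((Scheme.Modules.pullback (il 𝓘 (n+1))).obj F', ⊤)) :
    pullTop (tl 𝓘 n) ((FSch.complMod 𝓘 F').F (n+1)) y =
      pullTop (tl 𝓘 n) ((Scheme.Modules.pullback (il 𝓘 (n+1))).obj F') y := rfl

theorem topMap_complMod_e {X : Scheme.{u}} (𝓘 : X.IdealSheafData) (F' : X.Modules) (n : ℕ)
    (y : Γ((Scheme.Modules.pullback (tl 𝓘 n)).obj ((Scheme.Modules.pullback (il 𝓘 (n+1))).obj F'), ⊤)) :
    topMap ((FSch.complMod 𝓘 F').e n).hom y =
      @topMap _ ((Scheme.Modules.pullback (tl 𝓘 n)).obj ((Scheme.Modules.pullback (il 𝓘 (n+1))).obj F'))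
        ((Scheme.Modules.pullback (il 𝓘 n)).obj F') ((FSch.complMod 𝓘 F').e n).hom y := rfl

theorem trF_complMod_pullTop {X : Scheme.{u}} (𝓘 : X.IdealSheafData) (F' : X.Modules) (n : ℕ)
    (s : Γ(F', ⊤)) :
    topMap ((FSch.complMod 𝓘 F').e n).hom
      (pullTop (tl 𝓘 n) ((FSch.complMod 𝓘 F').F (n + 1)) (pullTop (il 𝓘 (n + 1)) F' s)) =
      pullTop (il 𝓘 n) F' s :=
  (congrArg (topMap ((FSch.complMod 𝓘 F').e n).hom) (pullTop_complMod_F 𝓘 F' n (pullTop (il 𝓘 (n + 1)) F' s))).trans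
    ((topMap_complMod_e 𝓘 F' n _).trans (trε_complMod 𝓘 F' n s))

theorem pi_trF (M : ModuleCat.{u} A) (n : ℕ) (x : M) :
    trF (FSch.completionAlong (Spec (CommRingCat.of A)) (FSch.idealSpec A J)).X
      (tl (FSch.idealSpec A J))
      (FSch.complMod (FSch.idealSpec A J) (tld A M)).F
      (FSch.complMod (FSch.idealSpec A J) (tld A M)).e n
      (ComplHom.pi A J M (n + 1) x) = ComplHom.pi A J M n x := by
  refine (trF_apply _ _ _ _ n _).trans ?_
  rw [pi_apply, pi_apply]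
  exact trF_complMod_pullTop (FSch.idealSpec A J) (tld A M) n (tt A M x)


/-- `pi` with values in the levels of `complMod` -/
noncomputable def piC (M : ModuleCat.{u} A) (n : ℕ) :
    M →+ Γ((FSch.complMod (FSch.idealSpec A J) (tld A M)).F n, ⊤) := ComplHom.pi A J M n


theorem piC_eq_succ (M : ModuleCat.{u} A) (n : ℕ) (x : M) :
    piC A J M (n + 1) x = ComplHom.pi A J M (n + 1) x := rfl

theorem trF_piC_eq (M : ModuleCat.{u} A) (n : ℕ) (x : M) :
    trF (FSch.completionAlong (Spec (CommRingCat.of A)) (FSch.idealSpec A J)).X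
      (tl (FSch.idealSpec A J))
      (FSch.complMod (FSch.idealSpec A J) (tld A M)).F
      (FSch.complMod (FSch.idealSpec A J) (tld A M)).e n
      (piC A J M (n + 1) x) = 
    trF (FSch.completionAlong (Spec (CommRingCat.of A)) (FSch.idealSpec A J)).X
      (tl (FSch.idealSpec A J))
      (FSch.complMod (FSch.idealSpec A J) (tld A M)).F
      (FSch.complMod (FSch.idealSpec A J) (tld A M)).e n
      (ComplHom.pi A J M (n + 1) x) :=
  congrArg _ (piC_eq_succ A J M n x)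

theorem piC_eq (M : ModuleCat.{u} A) (n : ℕ) (x : M) :
    piC A J M n x = ComplHom.pi A J M n x := rfl

theorem piC_trF (M : ModuleCat.{u} A) (n : ℕ) (x : M) :
    trF (FSch.completionAlong (Spec (CommRingCat.of A)) (FSch.idealSpec A J)).X
      (tl (FSch.idealSpec A J))
      (FSch.complMod (FSch.idealSpec A J) (tld A M)).F
      (FSch.complMod (FSch.idealSpec A J) (tld A M)).e n
      (piC A J M (n + 1) x) = piC A J M n x :=
  (trF_piC_eq A J M n x).trans ((pi_trF A J M n x).trans (piC_eq A J M n x).symm)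


theorem piC_smul (M : ModuleCat.{u} A) (n : ℕ) (a : A) (x : M) :
    piC A J M n (a • x) = rho A J n a • piC A J M n x := pi_smul A J M n a x

theorem piC_surjective (M : ModuleCat.{u} A) (n : ℕ) : Function.Surjective (piC A J M n) :=
  pi_surjective A J M n

theorem piC_eq_zero_iff (M : ModuleCat.{u} A) (n : ℕ) (x : M) :
    piC A J M n x = 0 ↔ x ∈ (J ^ (n + 1)) • (⊤ : Submodule A M) := pi_eq_zero_iff A J M n x


theorem main_aux
    (𝔐 : FSch.ModSys (FSch.completionAlong (Spec (CommRingCat.of A)) (FSch.idealSpec A J)))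
    [hY : ∀ n, IsAffine
      ((FSch.completionAlong (Spec (CommRingCat.of A)) (FSch.idealSpec A J)).X n)]
    [hqc : ∀ n, (𝔐.F n).IsQuasicoherent]
    (L : Type u) [AddCommGroup L] [Module A L]
    [hqc' : ∀ n, ((FSch.complMod (FSch.idealSpec A J) (tld A (ModuleCat.of A L))).F n).IsQuasicoherent]
    (q : ∀ n, L →+ Γ(𝔐.F n, ⊤)) (hqs : ∀ n a x, q n (a • x) = rho A J n a • q n x)
    (hq : ∀ n, Function.Surjective (q n))
    (hqk : ∀ n x, q n x = 0 ↔ x ∈ J ^ (n + 1) • (⊤ : Submodule A L))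
    (hqt : ∀ n x, trF (FSch.completionAlong (Spec (CommRingCat.of A)) (FSch.idealSpec A J)).X
      (tl (FSch.idealSpec A J)) 𝔐.F 𝔐.e n (q (n + 1) x) = q n x)
    (q' : ∀ n, L →+ Γ((FSch.complMod (FSch.idealSpec A J) (tld A (ModuleCat.of A L))).F n, ⊤))
    (hq's : ∀ n a x, q' n (a • x) = rho A J n a • q' n x)
    (hq' : ∀ n, Function.Surjective (q' n))
    (hq'k : ∀ n x, q' n x = 0 ↔ x ∈ J ^ (n + 1) • (⊤ : Submodule A L))
    (hq't : ∀ n x, trF (FSch.completionAlong (Spec (CommRingCat.of A)) (FSch.idealSpec A J)).X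
      (tl (FSch.idealSpec A J)) (FSch.complMod (FSch.idealSpec A J) (tld A (ModuleCat.of A L))).F
      (FSch.complMod (FSch.idealSpec A J) (tld A (ModuleCat.of A L))).e n (q' (n + 1) x) = q' n x) :
    ∃ α : ∀ n, 𝔐.F n ≅ (FSch.complMod (FSch.idealSpec A J) (tld A (ModuleCat.of A L))).F n, ∀ n,
      (Scheme.Modules.pullback (tl (FSch.idealSpec A J) n)).map (α (n + 1)).hom ≫
        ((FSch.complMod (FSch.idealSpec A J) (tld A (ModuleCat.of A L))).e n).hom =
        (𝔐.e n).hom ≫ (α n).hom :=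
  exists_isos J
    (FSch.completionAlong (Spec (CommRingCat.of A)) (FSch.idealSpec A J)).X
    (tl (FSch.idealSpec A J)) (rho A J) (rho_surjective A J) (rho_t A J) 𝔐.F 𝔐.e
    (FSch.complMod (FSch.idealSpec A J) (tld A (ModuleCat.of A L))).F
    (FSch.complMod (FSch.idealSpec A J) (tld A (ModuleCat.of A L))).e
    q hqs hq hqk hqt q' hq's hq' hq'k hq't


section PiL

variable (L : Type u) [AddCommGroup L] [Module A L]

/-- `piC` for a bare module -/
noncomputable def piL (n : ℕ) :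
    L →+ Γ((FSch.complMod (FSch.idealSpec A J) (tld A (ModuleCat.of A L))).F n, ⊤) :=
  piC A J (ModuleCat.of A L) n

theorem piL_smul (n : ℕ) (a : A) (x : L) :
    piL A J L n (a • x) = rho A J n a • piL A J L n x := piC_smul A J (ModuleCat.of A L) n a x

theorem piL_surjective (n : ℕ) : Function.Surjective (piL A J L n) :=
  piC_surjective A J (ModuleCat.of A L) n

theorem piL_eq_zero_iff (n : ℕ) (x : L) :
    piL A J L n x = 0 ↔ x ∈ (J ^ (n + 1)) • (⊤ : Submodule A L) :=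
  piC_eq_zero_iff A J (ModuleCat.of A L) n x

theorem piL_eq (n : ℕ) (x : L) : piL A J L n x = piC A J (ModuleCat.of A L) n x := rfl

theorem piL_trF (n : ℕ) (x : L) :
    trF (FSch.completionAlong (Spec (CommRingCat.of A)) (FSch.idealSpec A J)).X
      (tl (FSch.idealSpec A J))
      (FSch.complMod (FSch.idealSpec A J) (tld A (ModuleCat.of A L))).F
      (FSch.complMod (FSch.idealSpec A J) (tld A (ModuleCat.of A L))).e n
      (piL A J L (n + 1) x) = piL A J L n x :=
  (congrArg _ (piL_eq A J L (n + 1) x)).trans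
    ((piC_trF A J (ModuleCat.of A L) n x).trans (piL_eq A J L n x).symm)

end PiL

theorem main [IsNoetherianRing A] [IsAdicComplete J A]
    (𝔐 : FSch.ModSys (FSch.completionAlong (Spec (CommRingCat.of A)) (FSch.idealSpec A J)))
    (h𝔐 : 𝔐.IsCoh) :
    ∃ M : ModuleCat.{u} A, Module.Finite A M ∧
      Nonempty (𝔐 ≅ FSch.complMod (FSch.idealSpec A J) (tilde M)) := by
  haveI hY : ∀ n, IsAffine
      ((FSch.completionAlong (Spec (CommRingCat.of A)) (FSch.idealSpec A J)).X n) :=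
    isAffine_level (FSch.idealSpec A J)
  haveI hqc : ∀ n, (𝔐.F n).IsQuasicoherent := fun n => (h𝔐 n).1
  haveI hft : (𝔐.F 0).IsFiniteType := (h𝔐 0).2
  obtain ⟨L, iL1, iL2, q, hfin, hqs, hq, hqk, hqt⟩ := exists_limit J
    (FSch.completionAlong (Spec (CommRingCat.of A)) (FSch.idealSpec A J)).X
    (tl (FSch.idealSpec A J)) (rho A J) (rho_surjective A J) (rho_ker A J) (rho_t A J) 𝔐.F 𝔐.e
  haveI hqc' : ∀ n, ((FSch.complMod (FSch.idealSpec A J)
      (tld A (ModuleCat.of A L))).F n).IsQuasicoherent :=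
    fun n => Groth.Agent.Lib.Helper17.PbStalk.isQuasicoherent_pullback
      (il (FSch.idealSpec A J) n) (tld A (ModuleCat.of A L))
  obtain ⟨α, hα⟩ := main_aux A J 𝔐 L q hqs hq hqk hqt (piL A J L) (piL_smul A J L)
    (piL_surjective A J L) (piL_eq_zero_iff A J L) (piL_trF A J L)
  exact ⟨ModuleCat.of A L, hfin, nonempty_iso_of_levelwise 𝔐
    (FSch.complMod (FSch.idealSpec A J) (tld A (ModuleCat.of A L))) α hα⟩

end Main

end Groth.Agent.Lib.Helper26.ComplEss
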