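import Mathlib

/-!
# Finitely presented modules over rings with locally total divisibility (helper26)

* `local_struct`: over a ring with total divisibility, an f.p. module is a finite product of `V/fV`.
* `Fac R M r`: `r • id_M` factors through a finite product of cyclic modules `R/aR`.
* `fac_one`: if all localizations at maximal ideals have total divisibility, `Fac R M 1` for f.p. `M`.
* `exists_prod_equiv`: `M × N ≃ Π R/f_i`.
-/

set_option autoImplicit false
universe u

namespace Groth.Agent.Lib.Helper26.CyclicSummand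

theorem exists_min_dvd {V : Type*} [CommRing V] (hV : ∀ a b : V, a ∣ b ∨ b ∣ a)
    (E : Finset V) (hE : E.Nonempty) : ∃ a ∈ E, ∀ b ∈ E, a ∣ b := by
  classical
  induction E using Finset.induction_on with
  | empty => exact absurd hE Finset.not_nonempty_empty
  | insert c s hc ih =>
    by_cases hs : s.Nonempty
    · obtain ⟨a, ha, hmin⟩ := ih hs
      rcases hV a c with h | h
      · refine ⟨a, Finset.mem_insert_of_mem ha, fun b hb => ?_⟩
        rcases Finset.mem_insert.1 hb with hb | hb
        · rw [hb]; exact h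
        · exact hmin b hb
      · refine ⟨c, Finset.mem_insert_self c s, fun b hb => ?_⟩
        rcases Finset.mem_insert.1 hb with hb | hb
        · rw [hb]
        · exact h.trans (hmin b hb)
    · rw [Finset.not_nonempty_iff_eq_empty] at hs
      subst hs
      refine ⟨c, Finset.mem_insert_self c _, fun b hb => ?_⟩
      rcases Finset.mem_insert.1 hb with hb | hb
      · rw [hb]
      · exact absurd hb (Finset.notMem_empty b)

theorem exists_pivot {V : Type*} [CommRing V] (hV : ∀ a b : V, a ∣ b ∨ b ∣ a) {n : ℕ}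
    (K : Submodule V (Fin (n+1) → V)) (hK : K.FG) :
    ∃ (a : V) (v : Fin (n+1) → V) (l : Fin (n+1)), v l = 1 ∧ a • v ∈ K ∧
      ∀ r ∈ K, ∀ l', a ∣ r l' := by
  classical
  obtain ⟨S, hS⟩ := hK
  obtain ⟨E, hE⟩ : ∃ E : Finset V, E = insert 0 (S.biUnion (fun r => Finset.univ.image (fun l => r l))) :=
    ⟨_, rfl⟩
  obtain ⟨a, haE, hmin⟩ := exists_min_dvd hV E (by rw [hE]; exact Finset.insert_nonempty _ _)
  have hall : ∀ r ∈ K, ∀ l', a ∣ r l' := by
    intro r hr
    rw [← hS] at hr
    induction hr using Submodule.span_induction with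
    | mem r hr =>
      intro l'
      refine hmin _ ?_
      rw [hE]
      exact Finset.mem_insert_of_mem (Finset.mem_biUnion.2
        ⟨r, Finset.mem_coe.1 hr, Finset.mem_image.2 ⟨l', Finset.mem_univ _, rfl⟩⟩)
    | zero => intro l'; exact dvd_zero a
    | add x y _ _ hx hy => intro l'; exact dvd_add (hx l') (hy l')
    | smul c x _ hx => intro l'; exact Dvd.dvd.mul_left (hx l') c
  rw [hE] at haE
  rcases Finset.mem_insert.1 haE with ha0 | haE'
  · subst ha0
    exact ⟨0, Pi.single 0 1, 0, by simp, by simp, hall⟩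
  · obtain ⟨r, hrS, hr⟩ := Finset.mem_biUnion.1 haE'
    obtain ⟨l, -, hl⟩ := Finset.mem_image.1 hr
    have hrK : r ∈ K := by
      rw [← hS]
      exact Submodule.subset_span (Finset.mem_coe.2 hrS)
    have hdiv : ∀ l', ∃ c, r l' = a * c := fun l' => hall r hrK l'
    choose c hc using hdiv
    refine ⟨a, Function.update c l 1, l, by simp, ?_, hall⟩
    have : a • Function.update c l 1 = r := by
      funext l'
      by_cases h : l' = l
      · rw [h]
        simpa using hl.symm
      · simp [Function.update_of_ne h, hc l']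
    rw [this]
    exact hrK

theorem local_struct {V : Type u} [CommRing V] (hV : ∀ a b : V, a ∣ b ∨ b ∣ a) :
    ∀ (n : ℕ) (M : Type u) [AddCommGroup M] [Module V M] [Module.FinitePresentation V M]
      (x : Fin n → M), Submodule.span V (Set.range x) = ⊤ →
      ∃ (ι : Type) (_ : Fintype ι) (f : ι → V),
        Nonempty (M ≃ₗ[V] ((i : ι) → V ⧸ Ideal.span {f i})) := by
  intro n
  induction n with
  | zero =>
    intro M _ _ _ x hx
    have hsub : Subsingleton M := by
      have h0 : (⊥ : Submodule V M) = ⊤ := by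
        rw [← hx, Set.range_eq_empty, Submodule.span_empty]
      exact (Submodule.subsingleton_iff V).1 (subsingleton_of_bot_eq_top h0)
    exact ⟨Empty, inferInstance, fun e => e.elim, ⟨LinearEquiv.ofSubsingleton _ _⟩⟩
  | succ n ih =>
    intro M _ _ _ x hx
    classical
    obtain ⟨π, hπdef⟩ : ∃ π : (Fin (n+1) → V) →ₗ[V] M, π = Fintype.linearCombination V x := ⟨_, rfl⟩
    have hπ : Function.Surjective π := by
      rw [← LinearMap.range_eq_top, hπdef, Fintype.range_linearCombination, hx]
    have hπa : ∀ c, π c = ∑ i, c i • x i := fun c => by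
      rw [hπdef]; exact Fintype.linearCombination_apply V x c
    obtain ⟨a, v, l, hvl, hav, hall⟩ :=
      exists_pivot hV (LinearMap.ker π) (Module.FinitePresentation.fg_ker π hπ)
    obtain ⟨y, hy⟩ : ∃ y : M, y = π v := ⟨_, rfl⟩
    have hay : a • y = 0 := by
      rw [hy, ← map_smul]; exact hav
    let φt : (Fin (n+1) → V) →ₗ[V] V ⧸ Ideal.span {a} :=
      (Submodule.mkQ (Ideal.span {a})) ∘ₗ LinearMap.proj l
    have hKφ : LinearMap.ker π ≤ LinearMap.ker φt := by
      intro r hr
      rw [LinearMap.mem_ker]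
      show Submodule.Quotient.mk (r l) = 0
      rw [Submodule.Quotient.mk_eq_zero]
      exact Ideal.mem_span_singleton.2 (hall r hr l)
    let φ : M →ₗ[V] V ⧸ Ideal.span {a} :=
      ((LinearMap.ker π).liftQ φt hKφ) ∘ₗ (π.quotKerEquivOfSurjective hπ).symm.toLinearMap
    have hφ : ∀ c, φ (π c) = Submodule.Quotient.mk (c l) := by
      intro c
      have h1 : (π.quotKerEquivOfSurjective hπ).symm (π c) = Submodule.Quotient.mk c :=
        (LinearEquiv.symm_apply_eq _).2 (LinearMap.quotKerEquivOfSurjective_apply_mk π hπ c).symm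
      show ((LinearMap.ker π).liftQ φt hKφ) ((π.quotKerEquivOfSurjective hπ).symm (π c)) = _
      rw [h1, Submodule.liftQ_apply]
      rfl
    have hφy : φ y = Submodule.Quotient.mk 1 := by rw [hy, hφ, hvl]
    let q : M →ₗ[V] M ⧸ Submodule.span V {y} := Submodule.mkQ (Submodule.span V {y})
    have hq : Function.Surjective q := Submodule.mkQ_surjective _
    have hqy : q y = 0 :=
      (Submodule.Quotient.mk_eq_zero _).2 (Submodule.mem_span_singleton_self y)
    have hqker : ∀ z, q z = 0 → ∃ c : V, c • y = z := by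
      intro z hz
      have : z ∈ Submodule.span V {y} := (Submodule.Quotient.mk_eq_zero _).1 hz
      exact Submodule.mem_span_singleton.1 this
    let Ψ : M →ₗ[V] (V ⧸ Ideal.span {a}) × (M ⧸ Submodule.span V {y}) := φ.prod q
    have hΨinj : Function.Injective Ψ := by
      rw [← LinearMap.ker_eq_bot, LinearMap.ker_eq_bot']
      intro z hz
      have hz1 : φ z = 0 := congrArg Prod.fst hz
      have hz2 : q z = 0 := congrArg Prod.snd hz
      obtain ⟨c, rfl⟩ := hqker z hz2
      rw [map_smul, hφy, ← Submodule.Quotient.mk_smul, smul_eq_mul, mul_one,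
        Submodule.Quotient.mk_eq_zero, Ideal.mem_span_singleton] at hz1
      obtain ⟨d, rfl⟩ := hz1
      rw [mul_comm, mul_smul, hay, smul_zero]
    have hΨsurj : Function.Surjective Ψ := by
      rintro ⟨q₁, q₂⟩
      obtain ⟨c, rfl⟩ := Submodule.Quotient.mk_surjective _ q₁
      obtain ⟨z, rfl⟩ := hq q₂
      obtain ⟨c', hc'⟩ := Submodule.Quotient.mk_surjective _ (φ z)
      refine ⟨z + (c - c') • y, ?_⟩
      have e1 : φ (z + (c - c') • y) = Submodule.Quotient.mk c := by
        rw [map_add, map_smul, hφy, ← hc', ← Submodule.Quotient.mk_smul, smul_eq_mul, mul_one,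
          ← Submodule.Quotient.mk_add]
        congr 1; ring
      have e2 : q (z + (c - c') • y) = q z := by
        rw [map_add, map_smul, hqy, smul_zero, add_zero]
      exact Prod.ext e1 e2
    haveI : Module.FinitePresentation V (M ⧸ Submodule.span V {y}) :=
      Module.finitePresentation_of_surjective q hq
        (by rw [Submodule.ker_mkQ]; exact Submodule.fg_span_singleton y)
    let x' : Fin n → M ⧸ Submodule.span V {y} := fun j => q (x (l.succAbove j))
    have hx' : Submodule.span V (Set.range x') = ⊤ := by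
      have key : ∀ i, q (x i) ∈ Submodule.span V (Set.range x') := by
        intro i
        by_cases hil : i = l
        · rw [hil]
          have hsum : y = x l + ∑ j, v (l.succAbove j) • x (l.succAbove j) := by
            rw [hy, hπa, Fin.sum_univ_succAbove _ l, hvl, one_smul]
          have hxl : x l = y - ∑ j, v (l.succAbove j) • x (l.succAbove j) := by
            rw [hsum]; abel
          rw [hxl, map_sub, hqy, zero_sub, map_sum]
          refine Submodule.neg_mem _ (Submodule.sum_mem _ (fun j _ => ?_))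
          rw [map_smul]
          exact Submodule.smul_mem _ _ (Submodule.subset_span ⟨j, rfl⟩)
        · obtain ⟨j, rfl⟩ := Fin.exists_succAbove_eq hil
          exact Submodule.subset_span ⟨j, rfl⟩
      rw [eq_top_iff]
      rintro z' -
      obtain ⟨z, rfl⟩ := hq z'
      obtain ⟨c, rfl⟩ := hπ z
      rw [hπa, map_sum]
      refine Submodule.sum_mem _ (fun i _ => ?_)
      rw [map_smul]
      exact Submodule.smul_mem _ _ (key i)
    obtain ⟨ι, _, f, ⟨e⟩⟩ := ih (M ⧸ Submodule.span V {y}) x' hx'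
    refine ⟨Option ι, inferInstance, fun o => Option.elim o a f, ⟨?_⟩⟩
    exact (LinearEquiv.ofBijective Ψ ⟨hΨinj, hΨsurj⟩).trans
      ((LinearEquiv.prodCongr (LinearEquiv.refl V _) e).trans
        (LinearEquiv.piOptionEquivProd
          (M := fun o : Option ι => V ⧸ Ideal.span {Option.elim o a f}) V).symm)

/-- `r • id_M` factors through a finite product of cyclic modules `R/aR`. -/
def Fac (R : Type u) [CommRing R] (M : Type u) [AddCommGroup M] [Module R M] (r : R) : Prop :=
  ∃ (ι : Type) (_ : Fintype ι) (a : ι → R) (α : M →ₗ[R] ((i : ι) → R ⧸ Ideal.span {a i}))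
    (β : ((i : ι) → R ⧸ Ideal.span {a i}) →ₗ[R] M), β ∘ₗ α = r • LinearMap.id

section
variable {R : Type u} [CommRing R] {M : Type u} [AddCommGroup M] [Module R M]

theorem fac_zero : Fac R M 0 :=
  ⟨Empty, inferInstance, fun e => e.elim, 0, 0, by simp⟩

theorem fac_smul {r : R} (c : R) (h : Fac R M r) : Fac R M (c * r) := by
  obtain ⟨ι, hι, a, α, β, hβα⟩ := h
  refine ⟨ι, hι, a, α, c • β, ?_⟩
  rw [LinearMap.smul_comp, hβα, smul_smul]

theorem fac_add {r₁ r₂ : R} (h₁ : Fac R M r₁) (h₂ : Fac R M r₂) : Fac R M (r₁ + r₂) := by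
  obtain ⟨ι₁, hι₁, a₁, α₁, β₁, h₁⟩ := h₁
  obtain ⟨ι₂, hι₂, a₂, α₂, β₂, h₂⟩ := h₂
  let E : ((i : ι₁ ⊕ ι₂) → R ⧸ Ideal.span {Sum.elim a₁ a₂ i}) ≃ₗ[R]
      (((i : ι₁) → R ⧸ Ideal.span {a₁ i}) × ((j : ι₂) → R ⧸ Ideal.span {a₂ j})) :=
    LinearEquiv.sumPiEquivProdPi R ι₁ ι₂ (fun i => R ⧸ Ideal.span {Sum.elim a₁ a₂ i})
  refine ⟨ι₁ ⊕ ι₂, inferInstance, Sum.elim a₁ a₂, E.symm.toLinearMap ∘ₗ (LinearMap.prod α₁ α₂),
    (LinearMap.coprod β₁ β₂) ∘ₗ E.toLinearMap, ?_⟩
  ext z
  have e1 : β₁ (α₁ z) = r₁ • z := by simpa using LinearMap.congr_fun h₁ z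
  have e2 : β₂ (α₂ z) = r₂ • z := by simpa using LinearMap.congr_fun h₂ z
  show (LinearMap.coprod β₁ β₂) (E (E.symm (LinearMap.prod α₁ α₂ z))) = (r₁ + r₂) • z
  rw [LinearEquiv.apply_symm_apply, LinearMap.coprod_apply]
  show β₁ (α₁ z) + β₂ (α₂ z) = _
  rw [e1, e2, add_smul]

theorem fp_pi {ι : Type} [Fintype ι] (a : ι → R) :
    Module.FinitePresentation R ((i : ι) → R ⧸ Ideal.span {a i}) := by
  let P : (ι → R) →ₗ[R] ((i : ι) → R ⧸ Ideal.span {a i}) :=
    LinearMap.pi (fun i => (Submodule.mkQ (Ideal.span {a i})) ∘ₗ LinearMap.proj i)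
  have hP : Function.Surjective P := by
    intro c
    choose d hd using fun i => Submodule.Quotient.mk_surjective (Ideal.span {a i}) (c i)
    exact ⟨d, funext fun i => hd i⟩
  refine Module.finitePresentation_of_surjective P hP ?_
  have hker : LinearMap.ker P =
      Submodule.pi Set.univ (fun i => (Ideal.span {a i} : Submodule R R)) := by
    ext z
    simp only [LinearMap.mem_ker, Submodule.mem_pi, Set.mem_univ, true_imp_iff]
    constructor
    · intro h i
      have := congrFun h i
      exact (Submodule.Quotient.mk_eq_zero _).1 this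
    · intro h
      funext i
      exact (Submodule.Quotient.mk_eq_zero _).2 (h i)
  rw [hker]
  exact Submodule.fg_pi (fun i => Submodule.fg_span_singleton (a i))

section aux
variable (S : Submonoid R) (V : Type u) [CommRing V] [Algebra R V] [IsLocalization S V]

local notation "loc" a => Submodule.localized' V S (Algebra.linearMap R V) (Ideal.span {a})

theorem local_fac_aux
    (Mm : Type u) [AddCommGroup Mm] [Module R Mm] [Module V Mm] [IsScalarTower R V Mm]
    (g : M →ₗ[R] Mm) [IsLocalizedModule S g] [Module.FinitePresentation R M]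
    [Module.FinitePresentation V Mm]
    (hV : ∀ a b : V, a ∣ b ∨ b ∣ a) : ∃ s ∈ S, Fac R M s := by
  classical
  obtain ⟨n, x, hx⟩ := Module.Finite.exists_fin (R := V) (M := Mm)
  obtain ⟨ι, hι, φ, ⟨θ⟩⟩ := local_struct hV n Mm x hx
  have ha : ∀ i, ∃ a : R, Ideal.span {φ i} = loc a := by
    intro i
    obtain ⟨⟨r, s⟩, hrs⟩ := IsLocalization.surj S (φ i)
    refine ⟨r, ?_⟩
    rw [Ideal.localized'_eq_map, Ideal.map_span, Set.image_singleton]
    simp only at hrs
    rw [← hrs]
    exact (Ideal.span_singleton_mul_right_unit (IsLocalization.map_units V s) (φ i)).symm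
  choose a ha using ha
  let θ₂ : ((i : ι) → V ⧸ Ideal.span {φ i}) ≃ₗ[V] ((i : ι) → V ⧸ loc (a i)) :=
    LinearEquiv.piCongrRight (fun i => Submodule.quotEquivOfEq _ _ (ha i))
  let θ' : Mm ≃ₗ[R] ((i : ι) → V ⧸ loc (a i)) := (θ.trans θ₂).restrictScalars R
  let L : ((i : ι) → R ⧸ Ideal.span {a i}) →ₗ[R] ((i : ι) → V ⧸ loc (a i)) :=
    LinearMap.pi (fun i => (Submodule.toLocalizedQuotient' V S (Algebra.linearMap R V)
      (Ideal.span {a i})) ∘ₗ LinearMap.proj i)
  haveI : IsLocalizedModule S L := IsLocalizedModule.pi S _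
  obtain ⟨α, s₁, h₁⟩ := Module.FinitePresentation.exists_lift_of_isLocalizedModule S L
    (θ'.toLinearMap ∘ₗ g)
  haveI := fp_pi a
  obtain ⟨β, s₂, h₂⟩ := Module.FinitePresentation.exists_lift_of_isLocalizedModule S g
    (θ'.symm.toLinearMap ∘ₗ L)
  have h₃ : g ∘ₗ (β ∘ₗ α) = g ∘ₗ ((s₂ * s₁ : S) • (LinearMap.id : M →ₗ[R] M)) := by
    ext z
    have e1 : L (α z) = s₁ • θ' (g z) := LinearMap.congr_fun h₁ z
    have e2 : g (β (α z)) = s₂ • θ'.symm (L (α z)) := LinearMap.congr_fun h₂ (α z)
    show g (β (α z)) = g ((s₂ * s₁ : S) • z)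
    simp only [Submonoid.smul_def, Submonoid.coe_mul] at e1 e2 ⊢
    rw [e2, e1, map_smul, LinearEquiv.symm_apply_apply, map_smul, mul_smul]
  obtain ⟨s₃, h₄⟩ := Module.Finite.exists_smul_of_comp_eq_of_isLocalizedModule S g _ _ h₃
  refine ⟨(s₃ * (s₂ * s₁) : S), (s₃ * (s₂ * s₁)).2, ι, hι, a, α, (s₃ : R) • β, ?_⟩
  ext z
  have h5 := LinearMap.congr_fun h₄ z
  simp only [LinearMap.smul_apply, LinearMap.comp_apply, LinearMap.id_apply, Submonoid.smul_def,
    Submonoid.coe_mul] at h5 ⊢
  rw [h5, ← mul_smul]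

end aux

theorem fac_one (h : ∀ (m : Ideal R) [m.IsMaximal], ∀ a b : Localization.AtPrime m, a ∣ b ∨ b ∣ a)
    [Module.FinitePresentation R M] : Fac R M 1 := by
  let 𝔞 : Ideal R :=
    { carrier := {r | Fac R M r}
      add_mem' := fun h₁ h₂ => fac_add h₁ h₂
      zero_mem' := fac_zero
      smul_mem' := fun c r hr => fac_smul c hr }
  by_contra h1
  have hne : 𝔞 ≠ ⊤ := fun htop => h1 ((Ideal.eq_top_iff_one 𝔞).1 htop)
  obtain ⟨m, hm, hle⟩ := Ideal.exists_le_maximal 𝔞 hne
  obtain ⟨s, hsS, hs⟩ := local_fac_aux (M := M) m.primeCompl (Localization.AtPrime m)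
    (LocalizedModule m.primeCompl M) (LocalizedModule.mkLinearMap m.primeCompl M) (h m)
  exact hsS (hle hs)

/-- unpacked retract form -/
theorem exists_retract
    (h : ∀ (m : Ideal R) [m.IsMaximal], ∀ a b : Localization.AtPrime m, a ∣ b ∨ b ∣ a)
    [Module.FinitePresentation R M] :
    ∃ (ι : Type) (_ : Fintype ι) (a : ι → R) (α : M →ₗ[R] ((i : ι) → R ⧸ Ideal.span {a i}))
      (β : ((i : ι) → R ⧸ Ideal.span {a i}) →ₗ[R] M), ∀ z, β (α z) = z := by
  obtain ⟨ι, hι, a, α, β, hβα⟩ := fac_one (M := M) h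
  exact ⟨ι, hι, a, α, β, fun z => by simpa using LinearMap.congr_fun hβα z⟩

theorem exists_prod_equiv
    (h : ∀ (m : Ideal R) [m.IsMaximal], ∀ a b : Localization.AtPrime m, a ∣ b ∨ b ∣ a)
    [Module.FinitePresentation R M] :
    ∃ (n : ℕ) (f : Fin n → R) (N : Type u) (_ : AddCommGroup N) (_ : Module R N),
      Nonempty ((M × N) ≃ₗ[R] ((i : Fin n) → R ⧸ Ideal.span {f i})) := by
  obtain ⟨ι, hι, a, α, β, hid⟩ := exists_retract (M := M) h
  let e₀ : (M × LinearMap.ker β) →ₗ[R] ((i : ι) → R ⧸ Ideal.span {a i}) :=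
    α.coprod (LinearMap.ker β).subtype
  have he₀ : ∀ z (k : LinearMap.ker β), e₀ (z, k) = α z + (k : (i : ι) → R ⧸ Ideal.span {a i}) :=
    fun z k => by simp [e₀]
  have hinj : Function.Injective e₀ := by
    rw [← LinearMap.ker_eq_bot, LinearMap.ker_eq_bot']
    rintro ⟨z, k⟩ hzk
    rw [he₀] at hzk
    have hk : β (k : (i : ι) → R ⧸ Ideal.span {a i}) = 0 := k.2
    have h1 : z = 0 := by
      have := congrArg β hzk
      rwa [map_add, hid, map_zero, hk, add_zero] at this
    subst h1
    rw [map_zero, zero_add] at hzk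
    exact Prod.ext rfl (Subtype.ext hzk)
  have hsurj : Function.Surjective e₀ := by
    intro c
    refine ⟨(β c, ⟨c - α (β c), ?_⟩), ?_⟩
    · rw [LinearMap.mem_ker, map_sub, hid, sub_self]
    · rw [he₀]
      show α (β c) + (c - α (β c)) = c
      abel
  refine ⟨Fintype.card ι, fun j => a ((Fintype.equivFin ι).symm j), LinearMap.ker β,
    inferInstance, inferInstance, ⟨?_⟩⟩
  exact (LinearEquiv.ofBijective e₀ ⟨hinj, hsurj⟩).trans
    (LinearEquiv.piCongrLeft' R (fun i => R ⧸ Ideal.span {a i}) (Fintype.equivFin ι))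

end

end Groth.Agent.Lib.Helper26.CyclicSummand
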