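import Mathlib

/-!
# Discrete valuation rings from a principal regular maximal ideal
-/

set_option autoImplicit false
universe u

namespace Groth.Agent.Lib.Helper26.DVRFlat

open IsLocalRing

variable {T : Type*} [CommRing T] [IsLocalRing T] [IsNoetherianRing T]

/-- In a Noetherian local ring with principal maximal ideal `(t)`, every nonzero element is a unit
times a power of `t`. -/
theorem exists_unit_mul_pow (t : T) (ht : maximalIdeal T = Ideal.span {t}) (a : T) (ha : a ≠ 0) :
    ∃ (k : ℕ) (u : T), IsUnit u ∧ a = u * t ^ k := by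
  classical
  have hK : (⨅ i : ℕ, maximalIdeal T ^ i) = ⊥ :=
    Ideal.iInf_pow_eq_bot_of_isLocalRing _ (maximalIdeal.isMaximal T).ne_top
  have hex : ∃ k, a ∉ maximalIdeal T ^ k := by
    by_contra h
    push_neg at h
    apply ha
    have : a ∈ ⨅ i : ℕ, maximalIdeal T ^ i := by
      rw [Ideal.mem_iInf]; exact h
    rw [hK] at this
    simpa using this
  have hk : a ∉ maximalIdeal T ^ (Nat.find hex) := Nat.find_spec hex
  have hk0 : Nat.find hex ≠ 0 := by
    intro h0
    rw [h0, pow_zero, Ideal.one_eq_top] at hk
    exact hk Submodule.mem_top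
  obtain ⟨j, hj⟩ := Nat.exists_eq_succ_of_ne_zero hk0
  have hj' : a ∈ maximalIdeal T ^ j := by
    by_contra h
    exact Nat.find_min hex (by omega) h
  rw [ht, Ideal.span_singleton_pow, Ideal.mem_span_singleton'] at hj'
  obtain ⟨u, hu⟩ := hj'
  refine ⟨j, u, ?_, hu.symm⟩
  by_contra hnu
  have hum : u ∈ maximalIdeal T := (mem_maximalIdeal u).mpr hnu
  rw [ht, Ideal.mem_span_singleton'] at hum
  obtain ⟨v, hv⟩ := hum
  apply hk
  rw [hj, ht, Ideal.span_singleton_pow, Ideal.mem_span_singleton']
  exact ⟨v, by rw [← hu, ← hv, pow_succ]; ring⟩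

/-- A Noetherian local ring whose maximal ideal is generated by a regular element is a domain. -/
theorem isDomain_of_maximalIdeal_eq_span (t : T) (ht : maximalIdeal T = Ideal.span {t})
    (hreg : IsSMulRegular T t) : IsDomain T := by
  haveI : NoZeroDivisors T := by
    constructor
    intro a b hab
    by_contra hne
    push_neg at hne
    obtain ⟨k, u, hu, rfl⟩ := exists_unit_mul_pow t ht a hne.1
    obtain ⟨l, v, hv, rfl⟩ := exists_unit_mul_pow t ht b hne.2
    have h1 : (u * v) * t ^ (k + l) = 0 := by rw [← hab]; ring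
    have h2 : t ^ (k + l) = 0 := by
      have := (hu.mul hv).mul_right_eq_zero.mp h1
      exact this
    have h3 : IsSMulRegular T (t ^ (k + l)) := hreg.pow _
    have h4 : (1 : T) = 0 := by
      apply h3
      simp [h2]
    exact one_ne_zero h4
  exact NoZeroDivisors.to_isDomain T

/-- A Noetherian local ring whose maximal ideal is generated by a regular element is a discrete
valuation ring. -/
theorem isDiscreteValuationRing_of_maximalIdeal_eq_span (t : T)
    (ht : maximalIdeal T = Ideal.span {t}) (hreg : IsSMulRegular T t) :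
    ∃ _ : IsDomain T, IsDiscreteValuationRing T := by
  haveI hd := isDomain_of_maximalIdeal_eq_span t ht hreg
  refine ⟨hd, ?_⟩
  have htm : t ∈ maximalIdeal T := by rw [ht]; exact Ideal.mem_span_singleton_self t
  have ht0 : t ≠ 0 := by
    intro h0
    have : (1 : T) = 0 := by
      apply hreg
      simp [h0]
    exact one_ne_zero this
  have hnf : ¬ IsField T := by
    intro hf
    have h1 := (mem_maximalIdeal t).mp htm
    obtain ⟨b, hb⟩ := hf.mul_inv_cancel ht0
    exact h1 (IsUnit.of_mul_eq_one b hb)
  have hp : (maximalIdeal T).IsPrincipal := ⟨⟨t, ht⟩⟩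
  exact ((IsDiscreteValuationRing.TFAE T hnf).out 0 4).mpr hp

/-- A Noetherian local ring that is flat over a discrete valuation ring `A` with
`m_A B = m_B` is a discrete valuation ring. -/
theorem isDiscreteValuationRing_of_flat {A B : Type*} [CommRing A] [CommRing B] [IsDomain A]
    [IsDiscreteValuationRing A] [IsLocalRing B] [IsNoetherianRing B] (φ : A →+* B)
    (hφ : φ.Flat) (hm : (maximalIdeal A).map φ = maximalIdeal B) :
    ∃ _ : IsDomain B, IsDiscreteValuationRing B := by
  obtain ⟨ϖ, hϖ⟩ := IsDiscreteValuationRing.exists_irreducible A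
  have h1 : maximalIdeal A = Ideal.span {ϖ} := hϖ.maximalIdeal_eq
  have h2 : maximalIdeal B = Ideal.span {φ ϖ} := by
    rw [← hm, h1, Ideal.map_span, Set.image_singleton]
  apply isDiscreteValuationRing_of_maximalIdeal_eq_span (φ ϖ) h2
  algebraize [φ]
  have hreg : IsSMulRegular A ϖ := by
    intro a b hab
    exact mul_left_cancel₀ hϖ.ne_zero hab
  exact IsSMulRegular.of_flat (S := B) hreg

end Groth.Agent.Lib.Helper26.DVRFlat
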