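import Mathlib

set_option autoImplicit false
set_option linter.style.haveILetI false
set_option linter.unusedSectionVars false
universe w v u
open CategoryTheory Limits ZeroObject

namespace Groth.Agent.Lib.Helper26.DbCountable

variable {A : Type u} [Category.{v} A] [Abelian A]

section Code

variable (e : ℕ → A) (n₀ : ℕ) (a b : ℤ)

/-- Index function: the given indices on `[a, b]`, the fixed index `n₀` elsewhere. -/
noncomputable def tau (t : Set.Icc a b → ℕ) (i : ℤ) : ℕ := if h : i ∈ Set.Icc a b then t ⟨i, h⟩ else n₀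

/-- Raw codes for complexes concentrated in `[a, b]` with terms among the `e n`. -/
abbrev RawCode : Type v :=
  Σ t : Set.Icc a b → ℕ, ∀ i : Set.Icc a b, (e (tau n₀ a b t i) ⟶ e (tau n₀ a b t ((i : ℤ) + 1)))

variable {e n₀ a b}

/-- The differential attached to a raw code. -/
noncomputable def RawCode.D (c : RawCode e n₀ a b) (i : ℤ) :
    e (tau n₀ a b c.1 i) ⟶ e (tau n₀ a b c.1 (i + 1)) :=
  if h : i ∈ Set.Icc a b then c.2 ⟨i, h⟩ else 0

variable (e n₀ a b)

/-- Codes: raw codes whose differential squares to zero. -/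
abbrev Code : Type v := {c : RawCode e n₀ a b // ∀ i, c.D i ≫ c.D (i + 1) = 0}

variable {e n₀ a b}

/-- The complex attached to a code. -/
noncomputable def Code.decode (c : Code e n₀ a b) : CochainComplex A ℤ :=
  CochainComplex.of (fun i => e (tau n₀ a b c.1.1 i)) c.1.D c.2

theorem Code.decode_d (c : Code e n₀ a b) (i : ℤ) : c.decode.d i (i + 1) = c.1.D i := by
  unfold Code.decode
  exact CochainComplex.of_d (fun i => e (tau n₀ a b c.1.1 i)) c.1.D i

theorem Code.isZero_decode_X (hz : IsZero (e n₀)) (c : Code e n₀ a b) (i : ℤ)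
    (hi : i ∉ Set.Icc a b) : IsZero (c.decode.X i) := by
  show IsZero (e (tau n₀ a b c.1.1 i))
  rw [tau, dif_neg hi]
  exact hz

theorem countable_rawCode (hhom : ∀ X Y : A, Countable (X ⟶ Y)) : Countable (RawCode e n₀ a b) := by
  haveI : Finite (Set.Icc a b) := (Set.finite_Icc a b).to_subtype
  haveI : ∀ t : Set.Icc a b → ℕ, Countable (∀ i : Set.Icc a b,
      (e (tau n₀ a b t i) ⟶ e (tau n₀ a b t ((i : ℤ) + 1)))) := fun t => by
    haveI : ∀ i : Set.Icc a b, Countable (e (tau n₀ a b t i) ⟶ e (tau n₀ a b t ((i : ℤ) + 1))) :=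
      fun i => hhom _ _
    infer_instance
  unfold RawCode
  infer_instance

theorem countable_code (hhom : ∀ X Y : A, Countable (X ⟶ Y)) : Countable (Code e n₀ a b) := by
  haveI := countable_rawCode (e := e) (n₀ := n₀) (a := a) (b := b) hhom
  unfold Code
  infer_instance

section Exists

variable {e : ℕ → A} {n₀ : ℕ} {a b : ℤ}

theorem exists_code (hiso : ∀ X : A, ∃ n : ℕ, Nonempty (X ≅ e n)) (hz : IsZero (e n₀))
    (X : CochainComplex A ℤ) [X.IsStrictlyGE a] [X.IsStrictlyLE b] :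
    ∃ c : Code e n₀ a b, Nonempty (X ≅ c.decode) := by
  classical
  choose code hcode using hiso
  have isoCode : ∀ Y : A, Y ≅ e (code Y) := fun Y => (hcode Y).some
  let t : Set.Icc a b → ℕ := fun i => code (X.X i)
  have hXz : ∀ i : ℤ, i ∉ Set.Icc a b → IsZero (X.X i) := by
    intro i hi
    rw [Set.mem_Icc, not_and_or, not_le, not_le] at hi
    rcases hi with hi | hi
    · exact X.isZero_of_isStrictlyGE a i hi
    · exact X.isZero_of_isStrictlyLE b i hi
  have hTz : ∀ i : ℤ, i ∉ Set.Icc a b → IsZero (e (tau n₀ a b t i)) := by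
    intro i hi
    rw [tau, dif_neg hi]
    exact hz
  let φ : ∀ i : ℤ, X.X i ≅ e (tau n₀ a b t i) := fun i =>
    if h : i ∈ Set.Icc a b then
      isoCode (X.X i) ≪≫ eqToIso (by rw [tau, dif_pos h])
    else (hXz i h).iso (hTz i h)
  let raw : RawCode e n₀ a b :=
    ⟨t, fun i => (φ i).inv ≫ X.d i ((i : ℤ) + 1) ≫ (φ ((i : ℤ) + 1)).hom⟩
  have hD : ∀ i : ℤ, raw.D i = (φ i).inv ≫ X.d i (i + 1) ≫ (φ (i + 1)).hom := by
    intro i
    by_cases h : i ∈ Set.Icc a b
    · simp only [RawCode.D, dif_pos h]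
      rfl
    · exact (hTz i h).eq_of_src _ _
  have hsq : ∀ i, raw.D i ≫ raw.D (i + 1) = 0 := by
    intro i
    rw [hD, hD]
    simp
  refine ⟨⟨raw, hsq⟩, ⟨HomologicalComplex.Hom.isoOfComponents φ ?_⟩⟩
  intro i j hij
  have hij' : i + 1 = j := hij
  subst hij'
  have h1 : (Code.decode (⟨raw, hsq⟩ : Code e n₀ a b)).d i (i + 1) = raw.D i :=
    Code.decode_d _ i
  rw [h1, hD]
  exact Iso.hom_inv_id_assoc (φ i) _

end Exists

end Code

section Main

variable {e : ℕ → A} {n₀ : ℕ} {a b : ℤ}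

theorem Code.isStrictlyGE_decode (hz : IsZero (e n₀)) (c : Code e n₀ a b) :
    c.decode.IsStrictlyGE a := by
  rw [CochainComplex.isStrictlyGE_iff]
  intro i hi
  exact c.isZero_decode_X hz i (fun h => by have := h.1; omega)

theorem Code.isStrictlyLE_decode (hz : IsZero (e n₀)) (c : Code e n₀ a b) :
    c.decode.IsStrictlyLE b := by
  rw [CochainComplex.isStrictlyLE_iff]
  intro i hi
  exact c.isZero_decode_X hz i (fun h => by have := h.2; omega)

theorem countable_hom_decode (hhom : ∀ X Y : A, Countable (X ⟶ Y)) (hz : IsZero (e n₀))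
    (c : Code e n₀ a b) (Y : CochainComplex A ℤ) : Countable (c.decode ⟶ Y) := by
  haveI : Finite (Set.Icc a b) := (Set.finite_Icc a b).to_subtype
  haveI : ∀ i : Set.Icc a b, Countable (c.decode.X i ⟶ Y.X i) := fun i => hhom _ _
  refine Function.Injective.countable
    (f := fun (f : c.decode ⟶ Y) (i : Set.Icc a b) => f.f i) ?_
  intro f g hfg
  ext i
  by_cases h : i ∈ Set.Icc a b
  · exact congrFun hfg ⟨i, h⟩
  · exact (c.isZero_decode_X hz i h).eq_of_src _ _

variable [HasDerivedCategory.{w} A]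

open DerivedCategory in
theorem countable_hom_Q (hhom : ∀ X Y : A, Countable (X ⟶ Y))
    (hiso : ∀ X : A, ∃ n : ℕ, Nonempty (X ≅ e n)) (hz : IsZero (e n₀))
    (X Y : CochainComplex A ℤ) [X.IsStrictlyGE a] [X.IsStrictlyLE b] [Y.IsStrictlyGE a] :
    Countable (Q.obj X ⟶ Q.obj Y) := by
  classical
  haveI := countable_code (e := e) (n₀ := n₀) (a := a) (b := b) hhom
  haveI : ∀ c : Code e n₀ a b, Countable ((c.decode ⟶ X) × (c.decode ⟶ Y)) := fun c => by
    haveI := countable_hom_decode hhom hz c X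
    haveI := countable_hom_decode hhom hz c Y
    infer_instance
  let F : (Σ c : Code e n₀ a b, (c.decode ⟶ X) × (c.decode ⟶ Y)) → (Q.obj X ⟶ Q.obj Y) :=
    fun p => if h : IsIso (Q.map p.2.1) then (haveI := h; inv (Q.map p.2.1) ≫ Q.map p.2.2) else 0
  refine Function.Surjective.countable (f := F) ?_
  intro f
  obtain ⟨X', _, _, s, hs, g, rfl⟩ := right_fac_of_isStrictlyLE_of_isStrictlyGE a b f
  obtain ⟨c, ⟨ψ⟩⟩ := exists_code (n₀ := n₀) (a := a) (b := b) hiso hz X'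
  refine ⟨⟨c, ψ.inv ≫ s, ψ.inv ≫ g⟩, ?_⟩
  have h : IsIso (Q.map (ψ.inv ≫ s)) := by rw [Q.map_comp]; infer_instance
  simp only [F, dif_pos h]
  rw [← cancel_epi (Q.map (ψ.inv ≫ s)), IsIso.hom_inv_id_assoc]
  simp only [Functor.map_comp, Category.assoc, IsIso.hom_inv_id_assoc]

end Main

section Final

variable [HasDerivedCategory.{w} A]

open DerivedCategory in
theorem countable_hom_bounded (hhom : ∀ X Y : A, Countable (X ⟶ Y))
    (hiso : ∃ e : ℕ → A, ∀ X : A, ∃ n : ℕ, Nonempty (X ≅ e n))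
    (K L : DerivedCategory.Bounded A) : Countable (K ⟶ L) := by
  obtain ⟨e, he⟩ := hiso
  obtain ⟨n₀, ⟨i₀⟩⟩ := he 0
  have hz : IsZero (e n₀) := (isZero_zero A).of_iso i₀.symm
  obtain ⟨⟨a₁, hK1⟩, ⟨b₁, hK2⟩⟩ := K.property
  obtain ⟨⟨a₂, hL1⟩, ⟨b₂, hL2⟩⟩ := L.property
  haveI : K.obj.IsGE (min a₁ a₂) :=
    TStructure.t.isGE_of_ge K.obj (min a₁ a₂) a₁ (min_le_left _ _)
  haveI : L.obj.IsGE (min a₁ a₂) :=
    TStructure.t.isGE_of_ge L.obj (min a₁ a₂) a₂ (min_le_right _ _)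
  haveI : K.obj.IsLE b₁ := hK2
  obtain ⟨X, _, _, ⟨eX⟩⟩ := DerivedCategory.exists_iso_Q_obj_of_isGE_of_isLE K.obj (min a₁ a₂) b₁
  obtain ⟨Y, _, ⟨eY⟩⟩ := DerivedCategory.exists_iso_Q_obj_of_isGE L.obj (min a₁ a₂)
  haveI := countable_hom_Q (n₀ := n₀) (a := min a₁ a₂) (b := b₁) hhom he hz X Y
  refine Function.Injective.countable (f := fun f : K ⟶ L => eX.inv ≫ f.hom ≫ eY.hom) ?_
  intro f g hfg
  apply ObjectProperty.hom_ext
  have h1 := (cancel_epi eX.inv).1 hfg
  exact (cancel_mono eY.hom).1 h1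

open DerivedCategory in
theorem exists_enum_bounded (hhom : ∀ X Y : A, Countable (X ⟶ Y))
    (hiso : ∃ e : ℕ → A, ∀ X : A, ∃ n : ℕ, Nonempty (X ≅ e n)) :
    ∃ E : ℕ → DerivedCategory.Bounded A, ∀ K : DerivedCategory.Bounded A,
      ∃ n : ℕ, Nonempty (K ≅ E n) := by
  obtain ⟨e, he⟩ := hiso
  obtain ⟨n₀, ⟨i₀⟩⟩ := he 0
  have hz : IsZero (e n₀) := (isZero_zero A).of_iso i₀.symm
  let T : Type v := Σ p : ℤ × ℤ, Code e n₀ p.1 p.2
  haveI : Countable T := by
    haveI := fun p : ℤ × ℤ => countable_code (e := e) (n₀ := n₀) (a := p.1) (b := p.2) hhom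
    infer_instance
  have hne : Nonempty T := by
    let raw : RawCode e n₀ 0 0 := ⟨fun _ => n₀, fun _ => 0⟩
    have hD : ∀ j : ℤ, raw.D j = 0 := by
      intro j
      unfold RawCode.D
      split_ifs <;> rfl
    exact ⟨⟨(0, 0), ⟨raw, fun i => by rw [hD, zero_comp]⟩⟩⟩
  obtain ⟨g, hg⟩ := exists_surjective_nat T
  let obj : T → DerivedCategory.Bounded A := fun p =>
    ⟨Q.obj p.2.decode, by
      haveI := p.2.isStrictlyGE_decode hz
      haveI := p.2.isStrictlyLE_decode hz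
      exact ⟨⟨p.1.1, inferInstance⟩, ⟨p.1.2, inferInstance⟩⟩⟩
  refine ⟨fun n => obj (g n), ?_⟩
  intro K
  obtain ⟨⟨a, hK1⟩, ⟨b, hK2⟩⟩ := K.property
  haveI : K.obj.IsGE a := hK1
  haveI : K.obj.IsLE b := hK2
  obtain ⟨X, _, _, ⟨eX⟩⟩ := DerivedCategory.exists_iso_Q_obj_of_isGE_of_isLE K.obj a b
  obtain ⟨c, ⟨ψ⟩⟩ := exists_code (n₀ := n₀) (a := a) (b := b) he hz X
  obtain ⟨n, hn⟩ := hg ⟨(a, b), c⟩
  refine ⟨n, ⟨ObjectProperty.isoMk _ ?_⟩⟩
  show K.obj ≅ (obj (g n)).obj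
  rw [hn]
  exact eX ≪≫ Q.mapIso ψ

end Final

end Groth.Agent.Lib.Helper26.DbCountable
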