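import Groth.Prelude.Def_W4c5adicflatcomplDec
import Groth.Agent.Lib.Helper26.AdicFree
import Groth.Agent.S17541
import Mathlib.LinearAlgebra.TensorProduct.Pi
import Mathlib.LinearAlgebra.TensorProduct.RightExactness
import Mathlib.RingTheory.Finiteness.Cardinality
import Mathlib.RingTheory.AdicCompletion.Noetherian

/-!
# `M ⊗ decaying I Z A ≃ decaying I Z M` for finitely generated `M` (helper26)
-/

namespace Groth.Agent.Lib.Helper26.DecTensor

open W4c5adicflatcompl Groth.Agent.Lib.Helper26.Decaying Groth.Agent.Lib.Helper26.AdicFree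
open TensorProduct

section lift

variable {A : Type*} [CommRing A] (I : Ideal A) (Z : Type*)

/-- decaying functions lift along surjections onto Hausdorff modules (universe-free version of
S17542). -/
theorem exists_decaying_lift {M M'' : Type*} [AddCommGroup M] [Module A M] [AddCommGroup M'']
    [Module A M''] [IsHausdorff I M''] (φ : M →ₗ[A] M'')
    (hφ : Function.Surjective φ) (g : Z → M'') (hg : g ∈ decaying I Z M'') :
    ∃ f : Z → M, f ∈ decaying I Z M ∧ ∀ z, φ (f z) = g z := by
  classical
  have hmono : ∀ {a b : ℕ}, a ≤ b → (I ^ b • ⊤ : Submodule A M) ≤ I ^ a • ⊤ :=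
    fun hab => Submodule.smul_mono (Ideal.pow_le_pow_right hab) le_rfl
  have hmono'' : ∀ {a b : ℕ}, a ≤ b → (I ^ b • ⊤ : Submodule A M'') ≤ I ^ a • ⊤ :=
    fun hab => Submodule.smul_mono (Ideal.pow_le_pow_right hab) le_rfl
  have hlift : ∀ (n : ℕ) (y : M''), y ∈ (I ^ n • ⊤ : Submodule A M'') →
      ∃ x ∈ (I ^ n • ⊤ : Submodule A M), φ x = y := by
    intro n y hy
    have h1 : (I ^ n • ⊤ : Submodule A M).map φ = I ^ n • ⊤ := by
      rw [Submodule.map_smul'', Submodule.map_top, LinearMap.range_eq_top.mpr hφ]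
    rw [← h1] at hy
    obtain ⟨x, hx, rfl⟩ := hy
    exact ⟨x, hx, rfl⟩
  have hex : ∀ z, ∃ x : M, φ x = g z ∧
      ∀ n, g z ∈ (I ^ n • ⊤ : Submodule A M'') → x ∈ (I ^ n • ⊤ : Submodule A M) := by
    intro z
    by_cases h : ∃ n, g z ∉ (I ^ n • ⊤ : Submodule A M'')
    · have hn0 : 1 ≤ Nat.find h := by
        rw [Nat.one_le_iff_ne_zero]
        intro h0
        have := Nat.find_spec h
        rw [h0] at this
        apply this
        simp
      have hmem : g z ∈ (I ^ (Nat.find h - 1) • ⊤ : Submodule A M'') := by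
        have := Nat.find_min h (show Nat.find h - 1 < Nat.find h by omega)
        exact not_not.mp this
      obtain ⟨x, hx, hφx⟩ := hlift _ _ hmem
      refine ⟨x, hφx, fun n hn => ?_⟩
      have hle : n ≤ Nat.find h - 1 := by
        by_contra hlt
        have h2 : Nat.find h ≤ n := by omega
        exact Nat.find_spec h (hmono'' h2 hn)
      exact hmono hle hx
    · push Not at h
      have h0 : g z = 0 := by
        apply IsHausdorff.haus ‹IsHausdorff I M''›
        intro n
        rw [SModEq.zero]
        exact h n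
      exact ⟨0, by rw [map_zero, h0], fun n _ => Submodule.zero_mem _⟩
  choose f hf1 hf2 using hex
  refine ⟨f, fun n => ?_, hf1⟩
  refine (hg n).subset ?_
  intro z hz hmem
  exact hz (hf2 z n hmem)

end lift

section psi

variable {A : Type*} [CommRing A] (I : Ideal A) (Z : Type*)
  (M : Type*) [AddCommGroup M] [Module A M] {M' : Type*} [AddCommGroup M'] [Module A M']

/-- the canonical map `M ⊗ decaying I Z A → (Z → M)` -/
noncomputable def Psi : M ⊗[A] decaying I Z A →ₗ[A] (Z → M) :=
  (TensorProduct.piScalarRightHom A A M Z) ∘ₗ ((decaying I Z A).subtype.lTensor M)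

lemma Psi_tmul (m : M) (g : decaying I Z A) (z : Z) :
    Psi I Z M (m ⊗ₜ g) z = (g : Z → A) z • m := by
  simp [Psi, TensorProduct.piScalarRightHom_tmul]

lemma Psi_mem_decaying (ξ : M ⊗[A] decaying I Z A) : Psi I Z M ξ ∈ decaying I Z M := by
  induction ξ using TensorProduct.induction_on with
  | zero => rw [map_zero]; exact Submodule.zero_mem _
  | tmul m g =>
    intro n
    refine (g.2 n).subset ?_
    intro z hz hmem
    apply hz
    rw [Psi_tmul]
    have := map_mem_smul_top I (LinearMap.toSpanSingleton A M m) n hmem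
    simpa [LinearMap.toSpanSingleton_apply] using this
  | add x y hx hy => rw [map_add]; exact Submodule.add_mem _ hx hy

variable {M} in
lemma Psi_naturality (φ : M →ₗ[A] M') (ξ : M ⊗[A] decaying I Z A) (z : Z) :
    Psi I Z M' (φ.rTensor (decaying I Z A) ξ) z = φ (Psi I Z M ξ z) := by
  induction ξ using TensorProduct.induction_on with
  | zero => simp
  | tmul m g => rw [LinearMap.rTensor_tmul, Psi_tmul, Psi_tmul, map_smul]
  | add x y hx hy => simp only [map_add, Pi.add_apply, hx, hy]

/-- components of an element of `(Fin r → A) ⊗ D` -/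
noncomputable def comps (r : ℕ) :
    (Fin r → A) ⊗[A] decaying I Z A →ₗ[A] (Fin r → decaying I Z A) :=
  (TensorProduct.piScalarRight A A (decaying I Z A) (Fin r)).toLinearMap ∘ₗ
    (TensorProduct.comm A (Fin r → A) (decaying I Z A)).toLinearMap

lemma comps_apply (r : ℕ) (η : (Fin r → A) ⊗[A] decaying I Z A) (j : Fin r) (z : Z) :
    ((comps I Z r η j : decaying I Z A) : Z → A) z = Psi I Z (Fin r → A) η z j := by
  induction η using TensorProduct.induction_on with
  | zero => simp
  | tmul c g =>
    rw [Psi_tmul]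
    simp [comps, TensorProduct.piScalarRight_apply, TensorProduct.piScalarRightHom_tmul, mul_comm]
  | add x y hx hy =>
    simp only [map_add, Pi.add_apply, Submodule.coe_add, hx, hy]

lemma Psi_free_injective (r : ℕ) : Function.Injective (Psi I Z (Fin r → A)) := by
  rw [← LinearMap.ker_eq_bot, eq_bot_iff]
  intro η hη
  rw [LinearMap.mem_ker] at hη
  rw [Submodule.mem_bot]
  have h1 : comps I Z r η = 0 := by
    funext j
    apply Subtype.ext
    funext z
    rw [comps_apply, hη]
    rfl
  have hinj : Function.Injective (comps I Z r) := by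
    simp only [comps, LinearMap.coe_comp, LinearEquiv.coe_coe]
    exact (LinearEquiv.injective _).comp (LinearEquiv.injective _)
  exact hinj (by rw [h1, map_zero])

end psi

section main

variable {A : Type*} [CommRing A] [IsNoetherianRing A] (I : Ideal A) [IsAdicComplete I A]
  (Z : Type*) (M : Type*) [AddCommGroup M] [Module A M] [Module.Finite A M]

theorem exists_Psi_eq (h : Z → M) (hh : h ∈ decaying I Z M) :
    ∃ ξ : M ⊗[A] decaying I Z A, Psi I Z M ξ = h := by
  classical
  haveI : IsHausdorff I M := IsHausdorff.of_le_jacobson I M (IsAdicComplete.le_jacobson_bot I)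
  obtain ⟨r, π, hπ⟩ := Module.Finite.exists_fin' A M
  obtain ⟨h', hh', hπh⟩ := exists_decaying_lift I Z π hπ h hh
  let hj : Fin r → decaying I Z A := fun j =>
    decayingMap I Z (LinearMap.proj j : (Fin r → A) →ₗ[A] A) ⟨h', hh'⟩
  refine ⟨∑ j, π (Pi.single j 1) ⊗ₜ hj j, ?_⟩
  funext z
  rw [map_sum, Finset.sum_apply]
  simp only [Psi_tmul]
  rw [← hπh z]
  have h2 : h' z = ∑ j, (h' z j) • (Pi.single j (1 : A) : Fin r → A) := by
    funext i
    simp [Finset.sum_apply, Pi.single_apply]
  conv_rhs => rw [h2, map_sum]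
  apply Finset.sum_congr rfl
  intro j _
  rw [map_smul]
  rfl

theorem Psi_injective : Function.Injective (Psi I Z M) := by
  classical
  rw [← LinearMap.ker_eq_bot, eq_bot_iff]
  intro ξ hξ
  rw [LinearMap.mem_ker] at hξ
  rw [Submodule.mem_bot]
  obtain ⟨r, π, hπ⟩ := Module.Finite.exists_fin' A M
  obtain ⟨η, rfl⟩ := LinearMap.rTensor_surjective (decaying I Z A) hπ ξ
  let K : Submodule A (Fin r → A) := LinearMap.ker π
  have hu : ∀ z, Psi I Z (Fin r → A) η z ∈ K := by
    intro z
    rw [LinearMap.mem_ker, ← Psi_naturality, hξ]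
    rfl
  let u' : Z → K := fun z => ⟨Psi I Z (Fin r → A) η z, hu z⟩
  have hu' : u' ∈ decaying I Z K := by
    rw [Groth.Agent.S17541.result I Z (Fin r → A) K u']
    exact Psi_mem_decaying I Z (Fin r → A) η
  obtain ⟨κ, hκ⟩ := exists_Psi_eq I Z K u' hu'
  have h1 : K.subtype.rTensor (decaying I Z A) κ = η := by
    apply Psi_free_injective I Z r
    funext z
    rw [Psi_naturality, hκ]
    rfl
  rw [← h1, ← LinearMap.comp_apply, ← LinearMap.rTensor_comp]
  have h2 : π ∘ₗ K.subtype = 0 := by
    ext x
    exact x.2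
  rw [h2, LinearMap.rTensor_zero, LinearMap.zero_apply]

end main

end Groth.Agent.Lib.Helper26.DecTensor
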