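import Mathlib

/-!
# Quasi-compact open immersions into schemes whose local rings are Noetherian of dimension `≤ 1`
are affine (helper26)
-/

set_option autoImplicit false
set_option linter.style.haveILetI false
set_option linter.unusedSectionVars false
universe u
open CategoryTheory CategoryTheory.Limits AlgebraicGeometry TopologicalSpace Opposite

namespace Groth.Agent.Lib.Helper26.DimOneAffine

/-- Algebraic core: in a ring `A` with a prime `p` such that `A_p` is Noetherian of dimension `≤ 1`,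
a finitely generated ideal `I ≤ p` is, near `p`, set-theoretically cut out by one element. -/
theorem exists_local_generator {A : Type u} [CommRing A] (p : Ideal A) [p.IsPrime]
    (R : Type u) [CommRing R] [Algebra A R] [IsLocalization.AtPrime R p]
    [IsNoetherianRing R] (hdim : ringKrullDim R ≤ 1)
    (T : Finset A) (hT : ∀ t ∈ T, t ∈ p) :
    ∃ f ∈ Ideal.span (T : Set A), ∃ g : A, g ∉ p ∧
      ∀ q : Ideal A, q.IsPrime → f ∈ q → g ∉ q → ∀ t ∈ T, t ∈ q := by
  classical
  haveI : IsLocalRing R := IsLocalization.AtPrime.isLocalRing R p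
  set I : Ideal A := Ideal.span (T : Set A) with hI
  set I' : Ideal R := I.map (algebraMap A R) with hI'
  have hI'm : I' ≤ IsLocalRing.maximalIdeal R := by
    rw [hI', Ideal.map_le_iff_le_comap, hI, Ideal.span_le]
    intro t ht
    exact (IsLocalization.AtPrime.to_map_mem_maximal_iff R p t).mpr (hT t ht)
  -- the finite set of minimal primes not containing `I'`
  have hfin : (minimalPrimes R).Finite := minimalPrimes.finite_of_isNoetherianRing R
  set S : Finset (Ideal R) := hfin.toFinset.filter (fun q => ¬ I' ≤ q) with hS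
  have hSprime : ∀ q ∈ S, q.IsPrime := by
    intro q hq
    rw [hS, Finset.mem_filter, Set.Finite.mem_toFinset] at hq
    exact hq.1.1.1
  -- prime avoidance
  have havoid : ∃ f' ∈ I', ∀ q ∈ S, f' ∉ q := by
    by_contra hcon
    push_neg at hcon
    have hsub : (I' : Set R) ⊆ ⋃ q ∈ (S : Set (Ideal R)), (q : Set R) := by
      intro r hr
      obtain ⟨q, hq, hrq⟩ := hcon r hr
      exact Set.mem_biUnion (Finset.mem_coe.mpr hq) hrq
    obtain ⟨q, hq, hle⟩ := (Ideal.subset_union_prime (s := S) (f := fun q => q) ⊥ ⊥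
      (fun q hq _ _ => hSprime q hq)).mp hsub
    rw [hS, Finset.mem_filter] at hq
    exact hq.2 hle
  obtain ⟨f', hf'I, hf'S⟩ := havoid
  -- `I' ≤ radical (f')`
  have hkd : Ring.KrullDimLE 1 R := by
    rw [Ring.krullDimLE_iff]
    exact_mod_cast hdim
  have hrad : I' ≤ (Ideal.span {f'}).radical := by
    rw [Ideal.radical_eq_sInf]
    refine le_sInf ?_
    rintro q ⟨hfq, hqp⟩
    haveI := hqp
    have hf'q : f' ∈ q := hfq (Ideal.subset_span rfl)
    rcases (Ring.krullDimLE_one_iff.mp hkd) q hqp with hmin | hmax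
    · by_contra hnle
      have hqS : q ∈ S := by
        rw [hS, Finset.mem_filter, Set.Finite.mem_toFinset]
        exact ⟨hmin, hnle⟩
      exact hf'S q hqS hf'q
    · rw [IsLocalRing.eq_maximalIdeal hmax]
      exact hI'm
  -- write `f' = f / s`
  obtain ⟨⟨⟨f, hfI⟩, s⟩, hfs⟩ := (IsLocalization.mem_map_algebraMap_iff p.primeCompl R).mp hf'I
  have hfs' : f' * algebraMap A R (s : A) = algebraMap A R f := hfs
  have hsunit : IsUnit (algebraMap A R (s : A)) := IsLocalization.map_units R s
  have hspan : Ideal.span {f'} = Ideal.span {algebraMap A R f} := by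
    apply le_antisymm
    · rw [Ideal.span_singleton_le_iff_mem]
      obtain ⟨v, hv⟩ := hsunit
      have : f' = algebraMap A R f * (v⁻¹ : Rˣ) := by
        rw [← hfs', ← hv, mul_assoc, Units.mul_inv, mul_one]
      rw [this]
      exact Ideal.mul_mem_right _ _ (Ideal.subset_span rfl)
    · rw [Ideal.span_singleton_le_iff_mem, ← hfs']
      exact Ideal.mul_mem_right _ _ (Ideal.subset_span rfl)
  -- for each `t ∈ T` a denominator
  have hden : ∀ t ∈ T, ∃ g : A, g ∉ p ∧ ∃ n : ℕ, g * t ^ n ∈ Ideal.span {f} := by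
    intro t ht
    have htI' : algebraMap A R t ∈ I' := Ideal.mem_map_of_mem _ (Ideal.subset_span ht)
    obtain ⟨n, hn⟩ := hrad htI'
    rw [hspan, ← Set.image_singleton, ← Ideal.map_span, ← map_pow] at hn
    obtain ⟨⟨⟨c, hc⟩, s'⟩, hcs⟩ := (IsLocalization.mem_map_algebraMap_iff p.primeCompl R).mp hn
    have hcs' : algebraMap A R (t ^ n) * algebraMap A R (s' : A) = algebraMap A R c := hcs
    rw [← map_mul] at hcs'
    obtain ⟨u, hu⟩ := (IsLocalization.eq_iff_exists p.primeCompl R).mp hcs'
    refine ⟨(u : A) * (s' : A), ?_, n, ?_⟩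
    · intro hmem
      rcases Ideal.IsPrime.mem_or_mem inferInstance hmem with h | h
      · exact u.2 h
      · exact s'.2 h
    · have : (u : A) * (s' : A) * t ^ n = (u : A) * c := by
        rw [← hu]; ring
      rw [this]
      exact Ideal.mul_mem_left _ _ hc
  choose! gt hgt ngt hngt using hden
  refine ⟨f, hfI, ∏ t ∈ T, gt t, ?_, ?_⟩
  · intro hmem
    rw [Ideal.IsPrime.prod_mem_iff] at hmem
    obtain ⟨t, ht, htp⟩ := hmem
    exact hgt t ht htp
  · intro q hq hfq hgq t ht
    haveI := hq
    have h1 : gt t * t ^ ngt t ∈ q :=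
      ((Ideal.span_singleton_le_iff_mem q).mpr hfq) (hngt t ht)
    have h2 : gt t ∉ q := by
      intro hmem
      apply hgq
      rw [Ideal.IsPrime.prod_mem_iff]
      exact ⟨t, ht, hmem⟩
    rcases Ideal.IsPrime.mem_or_mem hq h1 with h | h
    · exact absurd h h2
    · exact Ideal.IsPrime.mem_of_pow_mem hq _ h

/-- basic opens of elements of the span of `T` lie in any open containing the basic opens of
the elements of `T`. -/
theorem basicOpen_le_of_mem_span {X : Scheme.{u}} {W : X.Opens} (T : Set Γ(X, W)) (U : X.Opens)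
    (hT : ∀ t ∈ T, X.basicOpen t ≤ U) {f : Γ(X, W)} (hf : f ∈ Ideal.span T) :
    X.basicOpen f ≤ U := by
  induction hf using Submodule.span_induction with
  | mem x hx => exact hT x hx
  | zero => rw [X.basicOpen_zero W]; exact bot_le
  | add x y _ _ hx hy => exact (X.basicOpen_add_le x y).trans (sup_le hx hy)
  | smul a x _ hx => rw [smul_eq_mul, X.basicOpen_mul]; exact inf_le_right.trans hx

/-- **Quasi-compact opens of a scheme with Noetherian local rings of dimension `≤ 1` have affine
inclusion.** -/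
theorem isAffineHom_ι (X : Scheme.{u})
    (hX : ∀ x : X, IsNoetherianRing (X.presheaf.stalk x) ∧
      ringKrullDim (X.presheaf.stalk x) ≤ 1)
    (U : X.Opens) [QuasiCompact U.ι] : IsAffineHom U.ι := by
  classical
  apply isAffineHom_of_forall_exists_isAffineOpen
  intro x
  by_cases hxU : x ∈ U
  · obtain ⟨_, ⟨W, hW, rfl⟩, hxW, hWU⟩ :=
      X.isBasis_affineOpens.exists_subset_of_mem_open hxU U.2
    refine ⟨W, hxW, hW, ?_⟩
    rw [← U.ι.isAffineOpen_iff_of_isOpenImmersion, U.ι.image_preimage_eq_opensRange_inf,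
      Scheme.Opens.opensRange_ι]
    have hUW : U ⊓ W = W := inf_eq_right.mpr hWU
    rw [hUW]
    exact hW
  · obtain ⟨_, ⟨W, hW, rfl⟩, hxW, -⟩ :=
      X.isBasis_affineOpens.exists_subset_of_mem_open (Set.mem_univ x) isOpen_univ
    have hW' : IsAffineOpen W := hW
    -- compactness of `U ⊓ W`
    have hcpt : IsCompact ((U ⊓ W : X.Opens) : Set X) := by
      have h1 : IsCompact (U.ι ⁻¹' (W : Set X)) :=
        QuasiCompact.isCompact_preimage (f := U.ι) _ W.isOpen hW'.isCompact
      have h2 := h1.image U.ι.continuous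
      convert h2 using 1
      ext y
      constructor
      · rintro ⟨hyU, hyW⟩
        exact ⟨⟨y, hyU⟩, hyW, rfl⟩
      · rintro ⟨z, hz, rfl⟩
        exact ⟨z.2, hz⟩
    -- cover by basic opens
    have hex : ∀ y : X, y ∈ (U ⊓ W : X.Opens) →
        ∃ t : Γ(X, W), X.basicOpen t ≤ U ∧ y ∈ X.basicOpen t := by
      intro y hy
      obtain ⟨t, ht1, ht2⟩ := hW'.exists_basicOpen_le (V := U) ⟨y, hy.1⟩ hy.2
      exact ⟨t, ht1, ht2⟩
    choose! τ hτU hτy using hex
    obtain ⟨F, hFs, hFcov⟩ := hcpt.elim_nhds_subcover (fun y => (X.basicOpen (τ y) : Set X))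
      (fun y hy => (X.basicOpen (τ y)).isOpen.mem_nhds (hτy y hy))
    set T : Finset Γ(X, W) := F.image τ with hT
    have hTU : ∀ t ∈ (T : Set Γ(X, W)), X.basicOpen t ≤ U := by
      intro t ht
      rw [hT, Finset.coe_image] at ht
      obtain ⟨y, hy, rfl⟩ := ht
      exact hτU y (hFs y hy)
    have hcov : ∀ y : X, y ∈ (U ⊓ W : X.Opens) → ∃ t ∈ T, y ∈ X.basicOpen t := by
      intro y hy
      have := hFcov hy
      simp only [Set.mem_iUnion] at this
      obtain ⟨z, hz, hyz⟩ := this
      exact ⟨τ z, Finset.mem_image_of_mem τ hz, hyz⟩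
    -- localisation at `x`
    letI : Algebra Γ(X, W) (X.presheaf.stalk x) :=
      TopCat.Presheaf.algebra_section_stalk X.presheaf ⟨x, hxW⟩
    let 𝔭 : Ideal Γ(X, W) := (hW'.primeIdealOf ⟨x, hxW⟩).asIdeal
    haveI : 𝔭.IsPrime := (hW'.primeIdealOf ⟨x, hxW⟩).isPrime
    haveI hloc : IsLocalization.AtPrime (X.presheaf.stalk x) 𝔭 :=
      hW'.isLocalization_stalk ⟨x, hxW⟩
    have hmem𝔭 : ∀ b : Γ(X, W), b ∈ 𝔭 ↔ ¬ IsUnit (X.presheaf.germ W x hxW b) := by
      intro b
      rw [← IsLocalization.AtPrime.to_map_mem_maximal_iff (X.presheaf.stalk x) 𝔭 b,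
        IsLocalRing.mem_maximalIdeal, mem_nonunits_iff]
      rfl
    haveI := (hX x).1
    have hT𝔭 : ∀ t ∈ T, t ∈ 𝔭 := by
      intro t ht
      rw [hmem𝔭]
      intro hu
      have h1 : x ∈ X.basicOpen t := (X.mem_basicOpen t x hxW).mpr hu
      exact hxU (hTU t (Finset.mem_coe.mpr ht) h1)
    obtain ⟨f, hfI, g, hg𝔭, hq⟩ :=
      exists_local_generator 𝔭 (X.presheaf.stalk x) (hX x).2 T hT𝔭
    have hxg : x ∈ X.basicOpen g := by
      rw [X.mem_basicOpen g x hxW]
      by_contra hnu
      exact hg𝔭 ((hmem𝔭 g).mpr hnu)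
    refine ⟨X.basicOpen g, hxg, hW'.basicOpen g, ?_⟩
    rw [← U.ι.isAffineOpen_iff_of_isOpenImmersion, U.ι.image_preimage_eq_opensRange_inf,
      Scheme.Opens.opensRange_ι]
    have hkey : U ⊓ X.basicOpen g = X.basicOpen (f * g) := by
      rw [X.basicOpen_mul]
      apply le_antisymm
      · rintro y ⟨hyU, hyg⟩
        have hyW : y ∈ W := X.basicOpen_le g hyg
        refine ⟨?_, hyg⟩
        let q : Ideal Γ(X, W) := (IsLocalRing.maximalIdeal (X.presheaf.stalk y)).comap
          (X.presheaf.germ W y hyW).hom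
        have hqprime : q.IsPrime := Ideal.comap_isPrime _ _
        have hmemq : ∀ b : Γ(X, W), b ∈ q ↔ ¬ IsUnit (X.presheaf.germ W y hyW b) := by
          intro b
          rw [Ideal.mem_comap, IsLocalRing.mem_maximalIdeal, mem_nonunits_iff]
        have hgq : g ∉ q := by
          rw [hmemq, not_not]
          exact (X.mem_basicOpen g y hyW).mp hyg
        show y ∈ X.basicOpen f
        rw [X.mem_basicOpen f y hyW]
        by_contra hnu
        have hfq : f ∈ q := (hmemq f).mpr hnu
        have hall := hq q hqprime hfq hgq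
        obtain ⟨t, htT, hyt⟩ := hcov y ⟨hyU, hyW⟩
        have h3 := (hmemq t).mp (hall t htT)
        exact h3 ((X.mem_basicOpen t y hyW).mp hyt)
      · exact inf_le_inf_right _ (basicOpen_le_of_mem_span (T : Set Γ(X, W)) U hTU hfI)
    rw [hkey]
    exact hW'.basicOpen (f * g)

end Groth.Agent.Lib.Helper26.DimOneAffine
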