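import Mathlib

/-!
# Two small length / Nakayama lemmas (helper7's requests B2, B3 for S3321)
-/

namespace Groth.Agent.Lib.Helper26.DvrLenA

/-- (B2) Nakayama for a surjective multiplication. -/
theorem subsingleton_of_smul_surjective {R : Type*} [CommRing R] [IsLocalRing R]
    (ϖ : R) (hϖ : ϖ ∈ IsLocalRing.maximalIdeal R) (M : Type*) [AddCommGroup M] [Module R M]
    [Module.Finite R M] (h : Function.Surjective (LinearMap.lsmul R M ϖ)) : Subsingleton M := by
  have htop : (⊤ : Submodule R M) = ⊥ := by
    refine Submodule.eq_bot_of_le_smul_of_le_jacobson_bot (Ideal.span {ϖ}) ⊤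
      Module.Finite.fg_top ?_ ?_
    · intro m _
      obtain ⟨m', rfl⟩ := h m
      exact Submodule.smul_mem_smul (Ideal.subset_span (Set.mem_singleton ϖ)) Submodule.mem_top
    · rw [IsLocalRing.jacobson_eq_maximalIdeal ⊥ bot_ne_top]
      exact (Ideal.span_singleton_le_iff_mem _).mpr hϖ
  exact (Submodule.subsingleton_iff R).mp (subsingleton_of_bot_eq_top htop.symm)

/-- (B3) length of the middle term of a five-term exact sequence `A →φ A →g Q →δ B →ψ B`. -/
theorem length_mid_of_exact {R : Type*} [Ring R] {A Q B : Type*}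
    [AddCommGroup A] [Module R A] [AddCommGroup Q] [Module R Q] [AddCommGroup B] [Module R B]
    (φ : A →ₗ[R] A) (g : A →ₗ[R] Q) (δ : Q →ₗ[R] B) (ψ : B →ₗ[R] B)
    (e₁ : Function.Exact φ g) (e₂ : Function.Exact g δ) (e₃ : Function.Exact δ ψ) :
    Module.length R Q =
      Module.length R (A ⧸ LinearMap.range φ) + Module.length R (LinearMap.ker ψ) := by
  have h1 : Module.length R Q =
      Module.length R (LinearMap.ker δ) + Module.length R (LinearMap.range δ) := by
    refine Module.length_eq_add_of_exact (LinearMap.ker δ).subtype δ.rangeRestrict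
      (Submodule.subtype_injective _) (LinearMap.surjective_rangeRestrict δ) ?_
    intro y
    constructor
    · intro hy
      have hy' : δ y = 0 := congrArg Subtype.val hy
      exact ⟨⟨y, hy'⟩, rfl⟩
    · rintro ⟨z, rfl⟩
      exact Subtype.ext z.2
  have h2 : LinearMap.ker ψ = LinearMap.range δ := LinearMap.exact_iff.mp e₃
  have h3 : LinearMap.ker δ = LinearMap.range g := LinearMap.exact_iff.mp e₂
  have h4 : LinearMap.ker g = LinearMap.range φ := LinearMap.exact_iff.mp e₁
  rw [h1, h2, h3, ← h4, (LinearMap.quotKerEquivRange g).length_eq]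

end Groth.Agent.Lib.Helper26.DvrLenA
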