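import Mathlib

/-!
# Rank formula over a DVR: `ℓ(M/ϖM) = ℓ(M[ϖ]) + rank M`  (helper7's request B1 for S3321)
-/

namespace Groth.Agent.Lib.Helper26.DvrLenB

section general

variable {R : Type*} [CommRing R] (ϖ : R)

/-- length of the cokernel of multiplication by `ϖ`. -/
noncomputable abbrev cLen (X : Type*) [AddCommGroup X] [Module R X] : ℕ∞ :=
  Module.length R (X ⧸ LinearMap.range (LinearMap.lsmul R X ϖ))

/-- length of the kernel of multiplication by `ϖ`. -/
noncomputable abbrev kLen (X : Type*) [AddCommGroup X] [Module R X] : ℕ∞ :=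
  Module.length R (LinearMap.ker (LinearMap.lsmul R X ϖ))

variable {X Y : Type*} [AddCommGroup X] [Module R X] [AddCommGroup Y] [Module R Y]

lemma cLen_congr (e : X ≃ₗ[R] Y) : cLen ϖ X = cLen ϖ Y := by
  refine (Submodule.Quotient.equiv _ _ e ?_).length_eq
  ext y
  constructor
  · rintro ⟨_, ⟨x, rfl⟩, rfl⟩
    exact ⟨e x, by simp⟩
  · rintro ⟨y', rfl⟩
    exact ⟨ϖ • e.symm y', ⟨e.symm y', rfl⟩, by simp⟩

lemma kLen_congr (e : X ≃ₗ[R] Y) : kLen ϖ X = kLen ϖ Y := by
  have h : (LinearMap.ker (LinearMap.lsmul R X ϖ)).map (e : X →ₗ[R] Y) =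
      LinearMap.ker (LinearMap.lsmul R Y ϖ) := by
    ext y
    constructor
    · rintro ⟨x, hx, rfl⟩
      have hx' : ϖ • x = 0 := hx
      show ϖ • e x = 0
      rw [← map_smul, hx', map_zero]
    · intro hy
      have hy' : ϖ • y = 0 := hy
      refine ⟨e.symm y, ?_, by simp⟩
      show ϖ • e.symm y = 0
      rw [← map_smul, hy', map_zero]
  unfold kLen
  rw [← h]
  exact (e.submoduleMap _).length_eq

variable (P N : Type*) [AddCommGroup P] [Module R P] [AddCommGroup N] [Module R N]

lemma cLen_prod : cLen ϖ (P × N) = cLen ϖ N + cLen ϖ P := by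
  have h1 : LinearMap.range (LinearMap.lsmul R N ϖ) ≤
      (LinearMap.range (LinearMap.lsmul R (P × N) ϖ)).comap (LinearMap.inr R P N) := by
    rintro _ ⟨y, rfl⟩
    exact ⟨(0, y), by simp⟩
  have h2 : LinearMap.range (LinearMap.lsmul R (P × N) ϖ) ≤
      (LinearMap.range (LinearMap.lsmul R P ϖ)).comap (LinearMap.fst R P N) := by
    rintro _ ⟨x, rfl⟩
    exact ⟨x.1, by simp⟩
  refine Module.length_eq_add_of_exact (Submodule.mapQ _ _ (LinearMap.inr R P N) h1)
    (Submodule.mapQ _ _ (LinearMap.fst R P N) h2) ?_ ?_ ?_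
  · rw [injective_iff_map_eq_zero]
    intro y
    induction y using Submodule.Quotient.induction_on with
    | H y =>
      intro hy
      rw [Submodule.mapQ_apply, Submodule.Quotient.mk_eq_zero] at hy
      obtain ⟨x, hx⟩ := hy
      rw [Submodule.Quotient.mk_eq_zero]
      refine ⟨x.2, ?_⟩
      have := congrArg Prod.snd hx
      simpa using this
  · intro z
    induction z using Submodule.Quotient.induction_on with
    | H z => exact ⟨Submodule.Quotient.mk (z, 0), by simp [Submodule.mapQ_apply]⟩
  · intro x
    induction x using Submodule.Quotient.induction_on with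
    | H x =>
      constructor
      · intro hx
        rw [Submodule.mapQ_apply, Submodule.Quotient.mk_eq_zero] at hx
        obtain ⟨a, ha⟩ := hx
        refine ⟨Submodule.Quotient.mk x.2, ?_⟩
        rw [Submodule.mapQ_apply, Submodule.Quotient.eq]
        refine ⟨(-a, 0), ?_⟩
        have ha' : ϖ • a = x.1 := by simpa using ha
        ext <;> simp [ha']
      · rintro ⟨y, hy⟩
        rw [← hy]
        induction y using Submodule.Quotient.induction_on with
        | H y => simp [Submodule.mapQ_apply]

lemma kLen_prod_of_injective (hP : Function.Injective (LinearMap.lsmul R P ϖ)) :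
    kLen ϖ (P × N) = kLen ϖ N := by
  have hmem : ∀ y ∈ LinearMap.ker (LinearMap.lsmul R N ϖ),
      LinearMap.inr R P N y ∈ LinearMap.ker (LinearMap.lsmul R (P × N) ϖ) := by
    intro y hy
    have hy' : ϖ • y = 0 := hy
    show ϖ • ((0 : P), y) = 0
    simp [hy']
  let f : LinearMap.ker (LinearMap.lsmul R N ϖ) →ₗ[R] LinearMap.ker (LinearMap.lsmul R (P × N) ϖ) :=
    (LinearMap.inr R P N).restrict hmem
  have hf : Function.Bijective f := by
    constructor
    · intro a b hab
      have := congrArg (fun z : LinearMap.ker (LinearMap.lsmul R (P × N) ϖ) => (z : P × N).2) hab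
      exact Subtype.ext (by simpa [f] using this)
    · rintro ⟨⟨a, b⟩, hab⟩
      have hab' : ϖ • (a, b) = 0 := hab
      have ha : ϖ • a = 0 := congrArg Prod.fst hab'
      have hb : ϖ • b = 0 := congrArg Prod.snd hab'
      have ha0 : a = 0 := hP (by simpa using ha)
      refine ⟨⟨b, hb⟩, Subtype.ext ?_⟩
      simp [f, ha0]
  exact (LinearEquiv.ofBijective f hf).length_eq.symm

lemma cLen_eq_kLen_of_isFiniteLength (hN : IsFiniteLength R N) : cLen ϖ N = kLen ϖ N := by
  set μ := LinearMap.lsmul R N ϖ with hμ
  have h1 : Module.length R N =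
      Module.length R (LinearMap.ker μ) + Module.length R (LinearMap.range μ) := by
    refine Module.length_eq_add_of_exact (LinearMap.ker μ).subtype μ.rangeRestrict
      (Submodule.subtype_injective _) (LinearMap.surjective_rangeRestrict μ) ?_
    intro y
    constructor
    · intro hy
      have hy' : μ y = 0 := congrArg Subtype.val hy
      exact ⟨⟨y, hy'⟩, rfl⟩
    · rintro ⟨z, rfl⟩
      exact Subtype.ext z.2
  have h2 : Module.length R N =
      Module.length R (LinearMap.range μ) + Module.length R (N ⧸ LinearMap.range μ) :=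
    Module.length_eq_add_of_exact (LinearMap.range μ).subtype (LinearMap.range μ).mkQ
      (Submodule.subtype_injective _) (Submodule.mkQ_surjective _)
      (LinearMap.exact_subtype_mkQ _)
  have hfin : Module.length R N ≠ ⊤ := Module.length_ne_top_iff.mpr hN
  have hr : Module.length R (LinearMap.range μ) ≠ ⊤ := by
    intro h
    rw [h, add_top] at h1
    exact hfin h1
  have : Module.length R (LinearMap.range μ) + Module.length R (N ⧸ LinearMap.range μ) =
      Module.length R (LinearMap.range μ) + Module.length R (LinearMap.ker μ) := by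
    rw [← h2, h1, add_comm]
  exact (ENat.addLECancellable_of_ne_top hr).inj.mp this

end general

section dvr

variable {R : Type*} [CommRing R] [IsDomain R] [IsDiscreteValuationRing R]
  (ϖ : R) (hϖ : Irreducible ϖ)

include hϖ

lemma length_quot_span_eq_one : Module.length R (R ⧸ Ideal.span {ϖ}) = 1 := by
  rw [Module.length_eq_one_iff, isSimpleModule_iff_isCoatom, ← Ideal.isMaximal_def,
    ← hϖ.maximalIdeal_eq]
  exact IsLocalRing.maximalIdeal.isMaximal R

lemma cLen_fun (n : ℕ) : cLen ϖ (Fin n → R) = n := by
  have h : LinearMap.range (LinearMap.lsmul R (Fin n → R) ϖ) =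
      Submodule.pi Set.univ (fun _ : Fin n => Ideal.span {ϖ}) := by
    ext f
    simp only [Submodule.mem_pi, Set.mem_univ, forall_true_left, Ideal.mem_span_singleton']
    constructor
    · rintro ⟨g, rfl⟩ i
      exact ⟨g i, by simp [mul_comm]⟩
    · intro hf
      choose g hg using hf
      exact ⟨g, by ext i; simp [← hg i, mul_comm]⟩
  unfold cLen
  rw [h, (Submodule.quotientPi (fun _ : Fin n => Ideal.span {ϖ})).length_eq,
    Module.length_pi_of_fintype]
  simp [length_quot_span_eq_one ϖ hϖ]

omit hϖ in
lemma isFiniteLength_of_isTorsion (T : Type*) [AddCommGroup T] [Module R T] [Module.Finite R T]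
    (hT : Module.IsTorsion R T) : IsFiniteLength R T := by
  classical
  obtain ⟨ι, _, p, hp, e, ⟨h⟩⟩ := Module.equiv_directSum_of_isTorsion hT
  have hA : ∀ i, IsArtinian R (R ⧸ Submodule.span R {p i ^ e i}) := fun i =>
    (isFiniteLength_iff_isNoetherian_isArtinian.mp
      (isFiniteLength_quotient_span_singleton R
        (mem_nonZeroDivisors_of_ne_zero (pow_ne_zero _ (hp i).ne_zero)))).2
  have : IsArtinian R (∀ i, R ⧸ Submodule.span R {p i ^ e i}) := inferInstance
  have hT' : IsArtinian R T :=
    isArtinian_of_linearEquiv (h.trans (DirectSum.linearEquivFunOnFintype R ι _)).symm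
  exact isFiniteLength_iff_isNoetherian_isArtinian.mpr ⟨inferInstance, hT'⟩

/-- (B1) rank formula over a DVR. -/
theorem length_quot_smul_eq_add
    (M : Type*) [AddCommGroup M] [Module R M] [Module.Finite R M] :
    Module.length R (M ⧸ LinearMap.range (LinearMap.lsmul R M ϖ)) =
      Module.length R (LinearMap.ker (LinearMap.lsmul R M ϖ)) +
        (Module.finrank (FractionRing R) (TensorProduct R (FractionRing R) M) : ℕ∞) := by
  classical
  set T := Submodule.torsion R M with hT
  have hfree : Module.Free R (M ⧸ T) := inferInstance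
  obtain ⟨f, hf⟩ := Module.projective_lifting_property T.mkQ LinearMap.id T.mkQ_surjective
  let e₀ : (T × (M ⧸ T)) ≃ₗ[R] M :=
    lequivProdOfRightSplitExact T.injective_subtype
      (by rw [Submodule.range_subtype, Submodule.ker_mkQ]) hf
  let e : ((M ⧸ T) × T) ≃ₗ[R] M := (LinearEquiv.prodComm R _ _).trans e₀
  set n := Module.finrank R (M ⧸ T) with hn
  let b : (M ⧸ T) ≃ₗ[R] (Fin n → R) := (Module.finBasis R (M ⧸ T)).equivFun
  have hinj : Function.Injective (LinearMap.lsmul R (M ⧸ T) ϖ) := by
    intro x y hxy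
    exact smul_right_injective _ hϖ.ne_zero hxy
  have hc : cLen ϖ M = cLen ϖ T + n := by
    rw [← cLen_congr ϖ e, cLen_prod, cLen_congr ϖ b, cLen_fun ϖ hϖ]
  have hk : kLen ϖ M = kLen ϖ T := by
    rw [← kLen_congr ϖ e, kLen_prod_of_injective ϖ _ _ hinj]
  have hTfin : IsFiniteLength R T :=
    isFiniteLength_of_isTorsion T (Submodule.torsion_isTorsion (R := R) (M := M))
  have hrank : Module.finrank (FractionRing R) (TensorProduct R (FractionRing R) M) = n := by
    rw [IsFractionRing.finrank_right_eq (R := R) (S := FractionRing R)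
      (N := TensorProduct R (FractionRing R) M),
      IsLocalizedModule.finrank_eq (nonZeroDivisors R)
        (TensorProduct.mk R (FractionRing R) M 1) le_rfl]
    have h1 := rank_quotient_add_rank_of_isDomain T
    have h2 : Module.rank R T = 0 :=
      Module.rank_eq_zero_iff_isTorsion.mpr (Submodule.torsion_isTorsion (R := R) (M := M))
    rw [h2, add_zero] at h1
    rw [hn, Module.finrank, Module.finrank, h1]
  show cLen ϖ M = kLen ϖ M + _
  rw [hc, hk, cLen_eq_kLen_of_isFiniteLength ϖ T hTfin, hrank]

end dvr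

end Groth.Agent.Lib.Helper26.DvrLenB
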