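import Mathlib

/-!
# Flatness of a closed subscheme over an affine base, checked on affine quotients
(helper9's request F2 for helper18's R3)
-/

set_option autoImplicit false
universe u
open CategoryTheory CategoryTheory.Limits AlgebraicGeometry

namespace Groth.Agent.Lib.Helper26.EmbR3F2

/-- F2 -/
theorem flat_subschemeι_comp {Y : Scheme.{u}} {R : CommRingCat.{u}} (f : Y ⟶ Spec R)
    (I : Y.IdealSheafData)
    (H : ∀ W : Y.affineOpens, ((Ideal.Quotient.mk (I.ideal W)).comp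
      ((Scheme.ΓSpecIso R).inv ≫ f.appLE ⊤ W.1 le_top).hom).Flat) :
    Flat (I.subschemeι ≫ f) := by
  let U : Y.affineOpens → I.subscheme.affineOpens :=
    fun W => ⟨I.subschemeι ⁻¹ᵁ W.1, W.2.preimage I.subschemeι⟩
  have hU : ⨆ W, ((U W : I.subscheme.affineOpens) : I.subscheme.Opens) = ⊤ := by
    have h1 : (⨆ W : Y.affineOpens, I.subschemeι ⁻¹ᵁ (W : Y.Opens)) =
        I.subschemeι ⁻¹ᵁ (⨆ W : Y.affineOpens, (W : Y.Opens)) :=
      (Scheme.Hom.preimage_iSup I.subschemeι _).symm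
    rw [show (⨆ W, ((U W : I.subscheme.affineOpens) : I.subscheme.Opens)) =
      ⨆ W : Y.affineOpens, I.subschemeι ⁻¹ᵁ (W : Y.Opens) from rfl, h1,
      iSup_affineOpens_eq_top]
    rfl
  rw [HasRingHomProperty.iff_of_iSup_eq_top (P := @Flat) U hU]
  intro W
  have e1 : (I.subschemeι ≫ f).appLE ⊤ (I.subschemeι ⁻¹ᵁ W.1) le_top =
      f.appLE ⊤ W.1 le_top ≫ I.subschemeι.app W.1 := by
    rw [Scheme.Hom.app_eq_appLE, Scheme.Hom.appLE_comp_appLE]
  have e2 : ((I.subschemeι ≫ f).appLE ⊤ (I.subschemeι ⁻¹ᵁ W.1) le_top).hom =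
      ((I.subschemeObjIso W).inv.hom.comp
        ((Ideal.Quotient.mk (I.ideal W)).comp
          ((Scheme.ΓSpecIso R).inv ≫ f.appLE ⊤ W.1 le_top).hom)).comp
        (Scheme.ΓSpecIso R).hom.hom := by
    rw [e1, I.subschemeι_app W]
    ext r
    simp only [CommRingCat.hom_comp, CommRingCat.hom_ofHom, RingHom.comp_apply]
    congr 3
    exact (congrArg (fun g => g.hom r) (Scheme.ΓSpecIso R).hom_inv_id).symm
  show (((I.subschemeι ≫ f).appLE ⊤ (U W).1 le_top).hom).Flat
  rw [show (U W).1 = I.subschemeι ⁻¹ᵁ W.1 from rfl, e2]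
  refine RingHom.Flat.comp ?_ (RingHom.Flat.comp (H W) ?_)
  · exact RingHom.Flat.of_bijective (ConcreteCategory.bijective_of_isIso (Scheme.ΓSpecIso R).hom)
  · exact RingHom.Flat.of_bijective (ConcreteCategory.bijective_of_isIso (I.subschemeObjIso W).inv)

end Groth.Agent.Lib.Helper26.EmbR3F2
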