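import Mathlib
import Groth.Prelude.Def_SGA3x
import Groth.Agent.Lib.Helper26.GenFreeNil

/-!
# A flat scheme over an Artinian ring is essentially free (helper27's request EB for S5356)
-/

universe u
open CategoryTheory CategoryTheory.Limits AlgebraicGeometry TensorProduct

namespace Groth.Agent.Lib.Helper26.EssFreeB

/-- a flat module over an Artinian local ring is free. -/
theorem free_of_flat_of_local_artinian {R N : Type u} [CommRing R] [IsArtinianRing R]
    [IsLocalRing R] [AddCommGroup N] [Module R N] [Module.Flat R N] : Module.Free R N := by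
  refine Groth.Agent.Lib.Helper26.GenFreeNil.free_of_flat_of_nilpotent
    (IsLocalRing.maximalIdeal R) ?_ N ?_
  · rw [← IsLocalRing.jacobson_eq_maximalIdeal ⊥ bot_ne_top]
    exact IsArtinianRing.isNilpotent_jacobson_bot
  · letI : Field (R ⧸ IsLocalRing.maximalIdeal R) := Ideal.Quotient.field _
    infer_instance

/-- ring-hom form, with the algebra structure induced by the ring hom. -/
theorem projective_of_ringHom_flat {R N : Type u} [CommRing R] [CommRing N] [IsArtinianRing R]
    [IsLocalRing R] (φ : R →+* N) (hφ : φ.Flat) :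
    letI := φ.toAlgebra
    Module.Projective R N := by
  letI := φ.toAlgebra
  have : Module.Flat R N := hφ
  have : Module.Free R N := free_of_flat_of_local_artinian
  infer_instance

/-- (EB) a flat scheme over an Artinian ring is essentially free. -/
theorem isEssentiallyFree_of_flat_artinian (A : Type u) [CommRing A] [IsArtinianRing A]
    (X : Scheme.{u}) (f : X ⟶ Spec (CommRingCat.of A)) (h : Flat f) :
    SGA3x.IsEssentiallyFree f := by
  have : IsLocallyArtinian (Spec (CommRingCat.of A)) :=
    Scheme.isLocallyArtinianScheme_Spec.mpr ‹_›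
  intro s
  let U : (Spec (CommRingCat.of A)).Opens := ⟨{s}, isOpen_discrete _⟩
  have hsU : s ∈ U := Set.mem_singleton s
  have hU : IsAffineOpen U := by
    obtain ⟨W, hW, hsW, hWU⟩ := exists_isAffineOpen_mem_and_subset hsU
    have hWeq : W = U := by
      apply le_antisymm
      · exact hWU
      · intro x hx
        have hxs : x = s := hx
        rw [hxs]
        exact hsW
    rwa [← hWeq]
  haveI : IsAffine (U : Scheme.{u}) := hU
  have : Subsingleton ↥(U : Scheme.{u}) :=
    ⟨fun a b => Subtype.ext ((a.2 : a.1 = s).trans (b.2 : b.1 = s).symm)⟩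
  have : Nonempty ↥(U : Scheme.{u}) := ⟨⟨s, hsU⟩⟩
  have : IsArtinianRing Γ((U : Scheme.{u}), ⊤) := inferInstance
  have : Subsingleton (PrimeSpectrum Γ((U : Scheme.{u}), ⊤)) :=
    (Scheme.isoSpec (U : Scheme.{u})).inv.homeomorph.injective.subsingleton
  have : Nontrivial Γ((U : Scheme.{u}), ⊤) :=
    @Scheme.component_nontrivial (U : Scheme.{u}) ⊤ ⟨⟨⟨s, hsU⟩, trivial⟩⟩
  have : Subsingleton (MaximalSpectrum Γ((U : Scheme.{u}), ⊤)) :=
    MaximalSpectrum.toPrimeSpectrum_injective.subsingleton
  have : IsLocalRing Γ((U : Scheme.{u}), ⊤) := IsLocalRing.of_singleton_maximalSpectrum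
  refine ⟨U, hsU, hU, (U : Scheme.{u}), hU, 𝟙 _, inferInstance, inferInstance, ?_⟩
  intro x
  obtain ⟨V, hV, hxV, -⟩ := exists_isAffineOpen_mem_and_subset
    (X := pullback f (𝟙 _ ≫ U.ι)) (x := x) (U := ⊤) trivial
  refine ⟨V, hxV, hV, ?_⟩
  have : IsAffine (V : Scheme.{u}) := hV
  have hflat : (V.ι ≫ pullback.snd f (𝟙 _ ≫ U.ι)).appTop.hom.Flat := Scheme.Hom.flat_appTop _
  exact projective_of_ringHom_flat _ hflat

end Groth.Agent.Lib.Helper26.EssFreeB
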