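import Mathlib
import Groth.Prelude.Def_SGA3x

/-!
# Every scheme over a field is essentially free (helper27's request EC for S5356)
-/

universe u
open CategoryTheory CategoryTheory.Limits AlgebraicGeometry

namespace Groth.Agent.Lib.Helper26.EssFreeC

/-- over a ring which is a field every module is projective. -/
theorem projective_of_isField {R M : Type*} [CommRing R] [AddCommGroup M] [Module R M]
    (h : IsField R) : Module.Projective R M := by
  letI := h.toField
  infer_instance

/-- algebra version, with the algebra structure an explicit argument (for unification). -/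
theorem projective_of_isField' {R A : Type*} [CommRing R] [CommRing A] (h : IsField R)
    (alg : Algebra R A) : Module.Projective R A :=
  projective_of_isField h

/-- chart condition of `SGA3x.IsEssentiallyFree` when the base ring of sections is a field. -/
theorem isEssentiallyFree_of_isField_top {X S : Scheme.{u}} (f : X ⟶ S) [IsAffine S]
    (hS : IsField Γ(S, ⊤)) : SGA3x.IsEssentiallyFree f := by
  intro s
  have hF : IsField Γ(((⊤ : S.Opens) : Scheme.{u}), ⊤) :=
    MulEquiv.isField hS
      ((Scheme.Opens.topIso (⊤ : S.Opens)).commRingCatIsoToRingEquiv).toMulEquiv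
  refine ⟨⊤, trivial, isAffineOpen_top S, ((⊤ : S.Opens) : Scheme.{u}), (isAffineOpen_top S),
    𝟙 _, inferInstance, inferInstance, ?_⟩
  intro x
  obtain ⟨V, hV, hxV, -⟩ := exists_isAffineOpen_mem_and_subset
    (X := pullback f (𝟙 _ ≫ (⊤ : S.Opens).ι)) (x := x) (U := ⊤) trivial
  refine ⟨V, hxV, hV, ?_⟩
  exact projective_of_isField' hF _

/-- (EC) every scheme over a field is essentially free. -/
theorem isEssentiallyFree_field (k : Type u) [Field k] (X : Scheme.{u})
    (f : X ⟶ Spec (CommRingCat.of k)) : SGA3x.IsEssentiallyFree f := by
  apply isEssentiallyFree_of_isField_top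
  exact MulEquiv.isField (Field.toIsField k)
    ((Scheme.ΓSpecIso (CommRingCat.of k)).commRingCatIsoToRingEquiv).toMulEquiv

end Groth.Agent.Lib.Helper26.EssFreeC
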