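import Groth.Agent.Lib.Helper26.PairHensNbhd
import Mathlib

/-!
# From pointed étale algebras to étale neighbourhoods (helper26)

`exists_nbhd_of_pointed`: a pointed étale algebra `(E, σ : E → A/I)` maps to an étale neighbourhood
`A'` of `(A, I)` (i.e. `A/I → A'/IA'` bijective) compatibly with the points.
-/

set_option autoImplicit false
universe u

namespace Groth.Agent.Lib.Helper26.EtaleNbhd

open Groth.Agent.Lib.Helper26.PairHensConstr Groth.Agent.Lib.Helper26.PairHensNbhd

variable {A : Type u} [CommRing A] (I : Ideal A)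

theorem exists_nbhd_of_pointed {E : Type u} [CommRing E] [Algebra A E] [Algebra.Etale A E]
    (σ : E →ₐ[A] A ⧸ I) :
    ∃ (A' : Type u) (_ : CommRing A') (_ : Algebra A A') (_ : Algebra.Etale A A'), QuotBij I A' ∧
      ∃ τ : E →ₐ[A] A', ∀ x : E, Ideal.Quotient.mk (I.map (algebraMap A A')) (τ x) =
        algebraMap (A ⧸ I) (A' ⧸ I.map (algebraMap A A')) (σ x) := by
  obtain ⟨g₁, hg₁, hg₁'⟩ := exists_mul_mem I σ
  have hu : σ (g₁ * 1) = 1 := by rw [mul_one, hg₁]
  have hQB := quotBij_away σ g₁ hg₁' 1 hu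
  haveI : Algebra.Etale A (Localization.Away (g₁ * 1)) :=
    Algebra.Etale.comp A E (Localization.Away (g₁ * 1))
  refine ⟨Localization.Away (g₁ * 1), inferInstance, inferInstance, inferInstance, hQB,
    IsScalarTower.toAlgHom A E (Localization.Away (g₁ * 1)), fun x => ?_⟩
  obtain ⟨a, ha⟩ := Ideal.Quotient.mk_surjective (σ x)
  have hy : σ (x - algebraMap A E a) = 0 := by
    rw [map_sub, σ.commutes, Ideal.Quotient.algebraMap_eq, ha, sub_self]
  have h1 := hg₁' _ hy
  have hmap : I.map (algebraMap A (Localization.Away (g₁ * 1))) =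
      (I.map (algebraMap A E)).map (algebraMap E (Localization.Away (g₁ * 1))) := by
    rw [Ideal.map_map, ← IsScalarTower.algebraMap_eq]
  have h2 : algebraMap E (Localization.Away (g₁ * 1)) (g₁ * (x - algebraMap A E a)) ∈
      I.map (algebraMap A (Localization.Away (g₁ * 1))) := by
    rw [hmap]; exact Ideal.mem_map_of_mem _ h1
  have hunit : IsUnit (algebraMap E (Localization.Away (g₁ * 1)) g₁) := by
    have := IsLocalization.Away.algebraMap_isUnit (S := Localization.Away (g₁ * 1)) (g₁ * 1)
    rw [map_mul] at this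
    exact isUnit_of_mul_isUnit_left this
  rw [map_mul, Ideal.unit_mul_mem_iff_mem _ hunit, map_sub] at h2
  rw [← ha]
  show Ideal.Quotient.mk _ (algebraMap E (Localization.Away (g₁ * 1)) x) =
    Ideal.Quotient.mk _ (algebraMap A (Localization.Away (g₁ * 1)) a)
  rw [Ideal.Quotient.eq, IsScalarTower.algebraMap_apply A E (Localization.Away (g₁ * 1))]
  exact h2

end Groth.Agent.Lib.Helper26.EtaleNbhd
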