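import Mathlib
import Groth.Prelude.Def_W4c2filtblowupsingRees

/-!
# Extended Rees algebra: basic structure (helper26)

For a filtration of ideals `𝓕` on `A`:
* `toLaurent_mem`, `single_mem`: membership in `𝓕.extRees`;
* `extRees_fg`, `isNoetherianRing_extRees`: if the Rees algebra is of finite type over a Noetherian
  ring then the extended Rees algebra is finitely generated, hence Noetherian;
* `isSMulRegular_u`: `u = T⁻¹` is a non-zero-divisor on `𝓕.extRees`;
* `isLocalization_away_u`: `A[T;T⁻¹]` is the localization of `𝓕.extRees` at `u`;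
* `primeL q` : the prime `q A[T;T⁻¹]` (kernel of `A[T;T⁻¹] → (A/q)[T;T⁻¹]`), `primeR 𝓕 q` its
  contraction to `𝓕.extRees`; `primeR_sup_span_u_ne_top`.
-/

set_option autoImplicit false

open Polynomial LaurentPolynomial

universe u

namespace Groth.Agent.Lib.Helper26.ExtRees

variable {A : Type u} [CommRing A] (𝓕 : FiltBl.IdealFiltration A)

lemma mem_extRees_iff (f : A[T;T⁻¹]) :
    f ∈ 𝓕.extRees ↔ ∀ n : ℤ, f.coeff n ∈ 𝓕.F n.toNat := Iff.rfl

lemma mem_rees_iff (f : A[X]) : f ∈ 𝓕.rees ↔ ∀ n : ℕ, f.coeff n ∈ 𝓕.F n := Iff.rfl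

lemma single_mem (n : ℤ) (a : A) (ha : a ∈ 𝓕.F n.toNat) :
    (AddMonoidAlgebra.single n a : A[T;T⁻¹]) ∈ 𝓕.extRees := by
  rw [mem_extRees_iff]
  intro k
  rw [AddMonoidAlgebra.coeff_single, Finsupp.single_apply]
  split_ifs with h
  · subst h; exact ha
  · exact Ideal.zero_mem _

lemma toLaurent_mem (g : A[X]) (hg : g ∈ 𝓕.rees) : toLaurent g ∈ 𝓕.extRees := by
  have hsum := g.as_sum_support_C_mul_X_pow
  rw [hsum, map_sum]
  refine Subalgebra.sum_mem _ (fun i _ => ?_)
  rw [Polynomial.toLaurent_C_mul_X_pow, ← LaurentPolynomial.single_eq_C_mul_T]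
  refine single_mem 𝓕 _ _ ?_
  rw [Int.toNat_natCast]
  exact hg i

theorem extRees_fg (h : Algebra.FiniteType A 𝓕.rees) : 𝓕.extRees.FG := by
  classical
  obtain ⟨s, hs⟩ := (Subalgebra.fg_iff_finiteType 𝓕.rees).2 h
  refine ⟨s.image toLaurent ∪ {T (-1)}, ?_⟩
  apply le_antisymm
  · apply Algebra.adjoin_le
    intro x hx
    rw [Finset.coe_union, Finset.coe_image, Finset.coe_singleton] at hx
    rcases hx with ⟨g, hg, rfl⟩ | hx
    · refine toLaurent_mem 𝓕 g ?_
      rw [← hs]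
      exact Algebra.subset_adjoin hg
    · rw [Set.mem_singleton_iff] at hx
      rw [hx]
      exact 𝓕.u.2
  · intro f hf
    rw [← AddMonoidAlgebra.sum_coeff_single f]
    unfold Finsupp.sum
    refine Subalgebra.sum_mem _ (fun n _ => ?_)
    have ha : f.coeff n ∈ 𝓕.F n.toNat := hf n
    rcases le_or_gt 0 n with hn | hn
    · obtain ⟨k, rfl⟩ := Int.eq_ofNat_of_zero_le hn
      rw [Int.toNat_natCast] at ha
      have hg : Polynomial.C (f.coeff (k : ℤ)) * X ^ k ∈ 𝓕.rees := by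
        rw [mem_rees_iff]
        intro m
        rw [Polynomial.coeff_C_mul_X_pow]
        split_ifs with hm
        · rw [hm]; exact ha
        · exact Ideal.zero_mem _
      rw [← hs] at hg
      have h1 : toLaurentAlg (Polynomial.C (f.coeff (k : ℤ)) * X ^ k) ∈
          (Algebra.adjoin A (s : Set A[X])).map toLaurentAlg :=
        (Subalgebra.mem_map).2 ⟨_, hg, rfl⟩
      rw [AlgHom.map_adjoin, Polynomial.coe_toLaurentAlg] at h1
      rw [LaurentPolynomial.single_eq_C_mul_T, ← Polynomial.toLaurent_C_mul_X_pow]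
      refine Algebra.adjoin_mono ?_ h1
      rw [Finset.coe_union, Finset.coe_image]
      exact Set.subset_union_left
    · have hT : (T n : A[T;T⁻¹]) = T (-1) ^ (-n).toNat := by
        rw [T_pow]
        congr 1
        omega
      rw [LaurentPolynomial.single_eq_C_mul_T, ← LaurentPolynomial.smul_eq_C_mul, hT]
      refine Subalgebra.smul_mem _ (Subalgebra.pow_mem _ (Algebra.subset_adjoin ?_) _) _
      rw [Finset.coe_union, Finset.coe_singleton]
      exact Set.mem_union_right _ rfl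

theorem isNoetherianRing_extRees [IsNoetherianRing A] (h : Algebra.FiniteType A 𝓕.rees) :
    IsNoetherianRing 𝓕.extRees := by
  haveI : Algebra.FiniteType A 𝓕.extRees :=
    (Subalgebra.fg_iff_finiteType _).1 (extRees_fg 𝓕 h)
  exact Algebra.FiniteType.isNoetherianRing A _

lemma coe_u : ((𝓕.u : 𝓕.extRees) : A[T;T⁻¹]) = T (-1) := rfl

lemma algebraMap_extRees (x : 𝓕.extRees) : algebraMap 𝓕.extRees A[T;T⁻¹] x = (x : A[T;T⁻¹]) := rfl

lemma isSMulRegular_u : IsSMulRegular 𝓕.extRees 𝓕.u := by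
  intro x y hxy
  apply Subtype.ext
  have h1 : (T (-1) : A[T;T⁻¹]) * (x : A[T;T⁻¹]) = T (-1) * (y : A[T;T⁻¹]) :=
    congrArg Subtype.val hxy
  exact (isUnit_T (-1)).mul_left_cancel h1

instance isLocalization_away_u : IsLocalization.Away 𝓕.u A[T;T⁻¹] where
  map_units := by
    rintro ⟨_, n, rfl⟩
    show IsUnit ((algebraMap 𝓕.extRees A[T;T⁻¹]) (𝓕.u ^ n))
    rw [map_pow]
    exact (isUnit_T (-1)).pow n
  surj z := by
    classical
    obtain ⟨N, hN⟩ : ∃ N : ℕ, N = z.coeff.support.sup Int.toNat := ⟨_, rfl⟩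
    have hmem : z * T (-(N : ℤ)) ∈ 𝓕.extRees := by
      rw [mem_extRees_iff]
      intro k
      rw [show (T (-(N : ℤ)) : A[T;T⁻¹]) = AddMonoidAlgebra.single (-(N : ℤ)) 1 from rfl,
        AddMonoidAlgebra.coeff_mul_single_apply, mul_one, neg_neg]
      by_cases hk : 0 < k
      · have h0 : z.coeff (k + N) = 0 := by
          by_contra hne
          have hs : k + N ∈ z.coeff.support := Finsupp.mem_support_iff.2 hne
          have hle := Finset.le_sup (f := Int.toNat) hs
          rw [← hN] at hle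
          omega
        rw [h0]
        exact Ideal.zero_mem _
      · have h0 : k.toNat = 0 := by omega
        rw [h0, 𝓕.zero_eq]
        exact Submodule.mem_top
    refine ⟨(⟨z * T (-(N : ℤ)), hmem⟩, ⟨𝓕.u ^ N, N, rfl⟩), ?_⟩
    show z * (algebraMap 𝓕.extRees A[T;T⁻¹]) (𝓕.u ^ N) = z * T (-(N : ℤ))
    rw [map_pow]
    show z * (T (-1) : A[T;T⁻¹]) ^ N = z * T (-(N : ℤ))
    rw [T_pow]
    congr 2
    ring
  exists_of_eq := by
    intro x y h
    refine ⟨1, ?_⟩
    have hxy : x = y := Subtype.ext h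
    rw [hxy]

/-! ### The prime `q A[T;T⁻¹]` and its contraction -/

/-- the ideal of Laurent polynomials all of whose coefficients lie in `q`. -/
noncomputable def primeL (q : Ideal A) : Ideal A[T;T⁻¹] :=
  RingHom.ker (AddMonoidAlgebra.mapRingHom ℤ (Ideal.Quotient.mk q))

lemma mem_primeL (q : Ideal A) (f : A[T;T⁻¹]) : f ∈ primeL q ↔ ∀ n : ℤ, f.coeff n ∈ q := by
  unfold primeL
  rw [RingHom.mem_ker]
  constructor
  · intro h n
    have h1 : ((AddMonoidAlgebra.mapRingHom ℤ (Ideal.Quotient.mk q)) f).coeff n = 0 := by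
      rw [h]; rfl
    rw [AddMonoidAlgebra.coeff_mapRingHom] at h1
    exact Ideal.Quotient.eq_zero_iff_mem.1 h1
  · intro h
    apply LaurentPolynomial.ext
    intro n
    rw [AddMonoidAlgebra.coeff_mapRingHom]
    exact Ideal.Quotient.eq_zero_iff_mem.2 (h n)

instance primeL_isPrime (q : Ideal A) [q.IsPrime] : (primeL q).IsPrime :=
  RingHom.ker_isPrime _

lemma comap_primeL (q : Ideal A) : (primeL q).comap (algebraMap A A[T;T⁻¹]) = q := by
  ext a
  rw [Ideal.mem_comap, mem_primeL]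
  constructor
  · intro h
    have h0 := h 0
    rw [LaurentPolynomial.algebraMap_apply, Algebra.algebraMap_self, RingHom.id_apply,
      LaurentPolynomial.C_apply, if_pos rfl] at h0
    exact h0
  · intro ha n
    rw [LaurentPolynomial.algebraMap_apply, Algebra.algebraMap_self, RingHom.id_apply,
      LaurentPolynomial.C_apply]
    split_ifs
    · exact ha
    · exact Ideal.zero_mem _

lemma primeL_eq_map (q : Ideal A) : primeL q = q.map (algebraMap A A[T;T⁻¹]) := by
  apply le_antisymm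
  · intro f hf
    rw [mem_primeL] at hf
    rw [← AddMonoidAlgebra.sum_coeff_single f]
    unfold Finsupp.sum
    refine Ideal.sum_mem _ (fun n _ => ?_)
    rw [LaurentPolynomial.single_eq_C_mul_T]
    refine Ideal.mul_mem_right _ _ ?_
    have : (LaurentPolynomial.C (f.coeff n) : A[T;T⁻¹]) = algebraMap A A[T;T⁻¹] (f.coeff n) := by
      rw [LaurentPolynomial.algebraMap_apply, Algebra.algebraMap_self, RingHom.id_apply]
    rw [this]
    exact Ideal.mem_map_of_mem _ (hf n)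
  · rw [Ideal.map_le_iff_le_comap, comap_primeL]

/-- the contraction of `q A[T;T⁻¹]` to the extended Rees algebra. -/
noncomputable def primeR (q : Ideal A) : Ideal 𝓕.extRees :=
  (primeL q).comap (algebraMap 𝓕.extRees A[T;T⁻¹])

instance primeR_isPrime (q : Ideal A) [q.IsPrime] : (primeR 𝓕 q).IsPrime :=
  Ideal.comap_isPrime _ _

lemma mem_primeR (q : Ideal A) (f : 𝓕.extRees) :
    f ∈ primeR 𝓕 q ↔ ∀ n : ℤ, (f : A[T;T⁻¹]).coeff n ∈ q := by
  unfold primeR
  rw [Ideal.mem_comap, mem_primeL]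
  rfl

lemma u_notMem_primeR (q : Ideal A) (hq : q ≠ ⊤) : 𝓕.u ∉ primeR 𝓕 q := by
  rw [mem_primeR]
  intro h
  have h1 := h (-1)
  rw [coe_u, LaurentPolynomial.T_apply, if_pos rfl] at h1
  exact hq ((Ideal.eq_top_iff_one _).2 h1)

lemma primeR_sup_span_u_ne_top (q : Ideal A) (hq : q ≠ ⊤) (hF : 𝓕.F 1 ≤ q) :
    primeR 𝓕 q ⊔ Ideal.span {𝓕.u} ≠ ⊤ := by
  intro htop
  have h1 : (1 : 𝓕.extRees) ∈ primeR 𝓕 q ⊔ Ideal.span {𝓕.u} := by
    rw [htop]; exact Submodule.mem_top
  obtain ⟨p, hp, z, hz, hpz⟩ := Submodule.mem_sup.1 h1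
  obtain ⟨g, rfl⟩ := Ideal.mem_span_singleton'.1 hz
  have hc : ((p + g * 𝓕.u : 𝓕.extRees) : A[T;T⁻¹]).coeff 0 =
      ((1 : 𝓕.extRees) : A[T;T⁻¹]).coeff 0 := by rw [hpz]
  have e1 : ((p + g * 𝓕.u : 𝓕.extRees) : A[T;T⁻¹]) =
      (p : A[T;T⁻¹]) + (g : A[T;T⁻¹]) * AddMonoidAlgebra.single (-1) 1 := rfl
  have e2 : ((1 : 𝓕.extRees) : A[T;T⁻¹]) = T 0 := by rw [T_zero]; rfl
  have h01 : (0 + - -1 : ℤ) = 1 := by norm_num
  rw [e1, e2, AddMonoidAlgebra.coeff_add, Finsupp.add_apply,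
    AddMonoidAlgebra.coeff_mul_single_apply, LaurentPolynomial.T_apply, if_pos rfl, mul_one,
    h01] at hc
  have hp0 : (p : A[T;T⁻¹]).coeff 0 ∈ q := (mem_primeR 𝓕 q p).1 hp 0
  have hg1 : (g : A[T;T⁻¹]).coeff 1 ∈ q := hF (g.2 1)
  have h1q : (1 : A) ∈ q := by
    rw [← hc]
    exact q.add_mem hp0 hg1
  exact hq ((Ideal.eq_top_iff_one _).2 h1q)

lemma F_one_ne_top [Nontrivial A] (hsep : ⨅ n, 𝓕.F n = ⊥) : 𝓕.F 1 ≠ ⊤ := by
  intro h1
  have hall : ∀ n, 𝓕.F n = ⊤ := by
    intro n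
    induction n with
    | zero => exact 𝓕.zero_eq
    | succ n ih =>
      have h2 := 𝓕.mul_le n 1
      rw [ih, h1, Ideal.mul_top] at h2
      exact top_le_iff.1 h2
  have h3 : (⊤ : Ideal A) = ⊥ := by
    rw [← hsep]
    simp [hall]
  exact top_ne_bot h3

end Groth.Agent.Lib.Helper26.ExtRees
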