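import Mathlib
import Groth.Agent.Lib.Helper26.ExtRees
import Groth.Agent.Lib.Helper26.RegQuotLoc
import Groth.Agent.Lib.Helper22.CMReg
import Groth.Agent.Lib.Helper14.CMLocus
import Groth.Agent.Lib.Helper14.CMFlat
import Groth.Agent.Lib.Helper4.GorFibre

/-!
# Cohen–Macaulay and Gorenstein properties of the extended Rees algebra (helper26)

* `isRegularRing_fiber_laurent`: the fibres of `A → A[T;T⁻¹]` are regular;
* `gor_laurent_atPrime_iff`, `cm_laurent_atPrime_iff`: `A[T;T⁻¹]_Q` is Gorenstein / CM iff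
  `A_{Q ∩ A}` is;
* `gorRing_extRees_iff`, `cmRing_extRees_iff`: for `A` local, `R'` is Gorenstein / CM iff
  `G = R'/uR'` is;
* `cm_off_irrelevant_iff`: Cohen–Macaulayness of `Spec R' − V(R_+R')`.
-/

set_option autoImplicit false
set_option linter.unusedSectionVars false
set_option linter.unusedVariables false

open Polynomial LaurentPolynomial IsLocalRing

universe u

namespace Groth.Agent.Lib.Helper26.ExtRees

open Groth.Agent.Lib.Helper4 Groth.Agent.Lib.Helper4.GorRing Groth.Agent.Lib.Helper4.GorFlat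
  Groth.Agent.Lib.Helper4.GorFibre Groth.Agent.Lib.Helper4.FlatFibre
  Groth.Agent.Lib.Helper22.CMG Groth.Agent.Lib.Helper26.RegQuotLoc

section laurent

variable {A : Type u} [CommRing A] [IsNoetherianRing A]

instance isNoetherianRing_laurent : IsNoetherianRing A[T;T⁻¹] :=
  IsLocalization.isNoetherianRing (Submonoid.powers (X : A[X])) _ inferInstance

theorem isRegularRing_fiber_laurent (p : Ideal A) [p.IsPrime] :
    IsRegularRing (p.Fiber A[T;T⁻¹]) := by
  haveI : IsRegularRing (LaurentPolynomial p.ResidueField) :=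
    isRegularRing_of_isLocalization (Submonoid.powers (X : p.ResidueField[X])) _
  have e : p.Fiber A[T;T⁻¹] ≃ₐ[p.ResidueField] LaurentPolynomial p.ResidueField :=
    AddMonoidAlgebra.scalarTensorEquiv A p.ResidueField
  exact IsRegularRing.of_ringEquiv e.symm.toRingEquiv

theorem gor_laurent_atPrime_iff (Q : Ideal A[T;T⁻¹]) [Q.IsPrime] :
    LocCoh.IsGorensteinLocalRing (Localization.AtPrime Q) ↔
      LocCoh.IsGorensteinLocalRing (Localization.AtPrime (Q.comap (algebraMap A A[T;T⁻¹]))) := by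
  rw [gor_atPrime_iff A A[T;T⁻¹] Q]
  exact and_iff_left (gor_fibLocRing_of_isRegularRing A A[T;T⁻¹] _
    (isRegularRing_fiber_laurent _) Q rfl)

theorem cm_laurent_atPrime_iff (Q : Ideal A[T;T⁻¹]) [Q.IsPrime] :
    LocCoh.IsCohenMacaulayLocalRing (Localization.AtPrime Q) ↔
      LocCoh.IsCohenMacaulayLocalRing
        (Localization.AtPrime (Q.comap (algebraMap A A[T;T⁻¹]))) := by
  haveI := isRegularRing_fiber_laurent (Q.comap (algebraMap A A[T;T⁻¹]))
  have hcm : LocCoh.IsCohenMacaulayRing ((Q.comap (algebraMap A A[T;T⁻¹])).Fiber A[T;T⁻¹]) :=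
    Groth.Agent.Lib.Helper14.CMFlat.cm_of_isRegularRing _
  have hF := (isCohenMacaulayRing_fiber_iff A A[T;T⁻¹] (Q.comap (algebraMap A A[T;T⁻¹]))).mp
    hcm Q rfl
  exact Groth.Agent.Lib.Helper14.CMLocus.cm_atPrime_iff_of_fibre A A[T;T⁻¹] Q hF

end laurent

section main

variable {A : Type u} [CommRing A] [IsNoetherianRing A] (𝓕 : FiltBl.IdealFiltration A)

lemma disjoint_powers_u (P : Ideal 𝓕.extRees) [P.IsPrime] (h : 𝓕.u ∉ P) :
    Disjoint ((Submonoid.powers 𝓕.u : Submonoid 𝓕.extRees) : Set 𝓕.extRees) (P : Set 𝓕.extRees) :=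
  (Ideal.disjoint_powers_iff_notMem_of_isPrime 𝓕.u).2 h

/-- `R'_{q A[T;T⁻¹] ∩ R'}` is Gorenstein iff `A_q` is. -/
theorem gor_primeR_iff (q : Ideal A) [q.IsPrime] :
    LocCoh.IsGorensteinLocalRing (Localization.AtPrime (primeR 𝓕 q)) ↔
      LocCoh.IsGorensteinLocalRing (Localization.AtPrime q) := by
  obtain ⟨e⟩ : Nonempty (Localization.AtPrime (primeR 𝓕 q) ≃+* Localization.AtPrime (primeL q)) :=
    nonempty_atPrime_comap_equiv (Submonoid.powers 𝓕.u) A[T;T⁻¹] (primeL q)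
  have h1 : LocCoh.IsGorensteinLocalRing (Localization.AtPrime (primeR 𝓕 q)) ↔
      LocCoh.IsGorensteinLocalRing (Localization.AtPrime (primeL q)) := gor_ringEquiv_iff e
  rw [h1, gor_laurent_atPrime_iff]
  exact gor_atPrime_congr _ _ (comap_primeL q)

/-- `R'_{q A[T;T⁻¹] ∩ R'}` is Cohen–Macaulay iff `A_q` is. -/
theorem cm_primeR_iff (q : Ideal A) [q.IsPrime] :
    LocCoh.IsCohenMacaulayLocalRing (Localization.AtPrime (primeR 𝓕 q)) ↔
      LocCoh.IsCohenMacaulayLocalRing (Localization.AtPrime q) := by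
  obtain ⟨e⟩ : Nonempty (Localization.AtPrime (primeR 𝓕 q) ≃+* Localization.AtPrime (primeL q)) :=
    nonempty_atPrime_comap_equiv (Submonoid.powers 𝓕.u) A[T;T⁻¹] (primeL q)
  have h1 : LocCoh.IsCohenMacaulayLocalRing (Localization.AtPrime (primeR 𝓕 q)) ↔
      LocCoh.IsCohenMacaulayLocalRing (Localization.AtPrime (primeL q)) :=
    ⟨fun h => by
        haveI := h
        exact isCMLocalRing_of_ringEquiv (R := Localization.AtPrime (primeR 𝓕 q))
          (R' := Localization.AtPrime (primeL q)) e,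
      fun h => by
        haveI := h
        exact isCMLocalRing_of_ringEquiv (R := Localization.AtPrime (primeL q))
          (R' := Localization.AtPrime (primeR 𝓕 q)) e.symm⟩
  rw [h1, cm_laurent_atPrime_iff]
  exact cm_atPrime_congr _ _ (comap_primeL q)

/-- away from `u`, the local rings of `R'` are local rings of `A[T;T⁻¹]`. -/
theorem exists_prime_laurent (P : Ideal 𝓕.extRees) [P.IsPrime] (h : 𝓕.u ∉ P) :
    ∃ (Q : Ideal A[T;T⁻¹]) (_ : Q.IsPrime), Q.comap (algebraMap 𝓕.extRees A[T;T⁻¹]) = P ∧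
      Nonempty (Localization.AtPrime P ≃+* Localization.AtPrime Q) :=
  nonempty_atPrime_equiv_of_disjoint (Submonoid.powers 𝓕.u) A[T;T⁻¹] P (disjoint_powers_u 𝓕 P h)

variable [IsLocalRing A]

/-- a prime of `R'` containing `u` and `𝔪 A[T;T⁻¹] ∩ R'`. -/
theorem exists_prime_ge (hsep : ⨅ n, 𝓕.F n = ⊥) :
    ∃ (𝔐 : Ideal 𝓕.extRees) (_ : 𝔐.IsPrime), 𝓕.u ∈ 𝔐 ∧ primeR 𝓕 (maximalIdeal A) ≤ 𝔐 := by
  have hF1 : 𝓕.F 1 ≤ maximalIdeal A := le_maximalIdeal (F_one_ne_top 𝓕 hsep)
  have hmtop : maximalIdeal A ≠ ⊤ := (maximalIdeal.isMaximal A).ne_top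
  obtain ⟨𝔐, h𝔐max, h𝔐le⟩ := Ideal.exists_le_maximal _
    (primeR_sup_span_u_ne_top 𝓕 (maximalIdeal A) hmtop hF1)
  exact ⟨𝔐, h𝔐max.isPrime, h𝔐le (Ideal.mem_sup_right (Ideal.mem_span_singleton_self _)),
    le_sup_left.trans h𝔐le⟩

theorem gorRing_extRees_iff (hsep : ⨅ n, 𝓕.F n = ⊥) (hfg : Algebra.FiniteType A 𝓕.rees) :
    LocCoh.IsGorensteinRing 𝓕.extRees ↔ LocCoh.IsGorensteinRing 𝓕.Gr := by
  haveI := isNoetherianRing_extRees 𝓕 hfg
  have hu := isSMulRegular_u 𝓕
  constructor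
  · exact gorRing_quot 𝓕.u hu
  · intro hG
    obtain ⟨𝔐, h𝔐, hu𝔐, hle⟩ := exists_prime_ge 𝓕 hsep
    haveI := h𝔐
    have h1 : LocCoh.IsGorensteinLocalRing (Localization.AtPrime 𝔐) :=
      gor_atPrime_of_mem 𝓕.u hu hG 𝔐 hu𝔐
    have h2 : LocCoh.IsGorensteinLocalRing (Localization.AtPrime (primeR 𝓕 (maximalIdeal A))) :=
      gor_atPrime_of_le _ 𝔐 hle h1
    have h5 : LocCoh.IsGorensteinLocalRing (Localization.AtPrime (maximalIdeal A)) :=
      (gor_primeR_iff 𝓕 _).1 h2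
    have hA : LocCoh.IsGorensteinLocalRing A := (gor_atPrime_maximalIdeal_iff A).1 h5
    have hAring := gorRing_of_gor A hA
    refine gorRing_of_quot 𝓕.u hu hG (fun P _ huP => ?_)
    obtain ⟨Q, hQ, -, ⟨e'⟩⟩ := exists_prime_laurent 𝓕 P huP
    haveI := hQ
    exact gor_of_ringEquiv e'.symm
      ((gor_laurent_atPrime_iff Q).2 (hAring.isGorensteinLocalRing_localization _))

theorem cmRing_extRees_iff (hsep : ⨅ n, 𝓕.F n = ⊥) (hfg : Algebra.FiniteType A 𝓕.rees) :
    LocCoh.IsCohenMacaulayRing 𝓕.extRees ↔ LocCoh.IsCohenMacaulayRing 𝓕.Gr := by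
  haveI := isNoetherianRing_extRees 𝓕 hfg
  have hu := isSMulRegular_u 𝓕
  constructor
  · exact cmRing_quot 𝓕.u hu
  · intro hG
    obtain ⟨𝔐, h𝔐, hu𝔐, hle⟩ := exists_prime_ge 𝓕 hsep
    haveI := h𝔐
    have h1 : LocCoh.IsCohenMacaulayLocalRing (Localization.AtPrime 𝔐) :=
      cm_atPrime_of_mem 𝓕.u hu hG 𝔐 hu𝔐
    have h2 : LocCoh.IsCohenMacaulayLocalRing
        (Localization.AtPrime (primeR 𝓕 (maximalIdeal A))) :=
      cm_atPrime_of_le _ 𝔐 hle h1
    have h5 : LocCoh.IsCohenMacaulayLocalRing (Localization.AtPrime (maximalIdeal A)) :=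
      (cm_primeR_iff 𝓕 _).1 h2
    haveI := h5
    have hAring : LocCoh.IsCohenMacaulayRing (Localization.AtPrime (maximalIdeal A)) :=
      cmRing_of_cmLocal _
    -- every `A_q` is Cohen–Macaulay
    have hAq : ∀ (q : Ideal A) [q.IsPrime],
        LocCoh.IsCohenMacaulayLocalRing (Localization.AtPrime q) := by
      intro q _
      exact cm_atPrime_of_le q (maximalIdeal A) (le_maximalIdeal (Ideal.IsPrime.ne_top ‹_›)) h5
    refine cmRing_of_quot 𝓕.u hu hG (fun P _ huP => ?_)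
    obtain ⟨Q, hQ, -, ⟨e'⟩⟩ := exists_prime_laurent 𝓕 P huP
    haveI := hQ
    haveI := (cm_laurent_atPrime_iff Q).2 (hAq _)
    exact isCMLocalRing_of_ringEquiv e'.symm

end main

section off

variable {A : Type u} [CommRing A] [IsNoetherianRing A] (𝓕 : FiltBl.IdealFiltration A)
  {G : Type u} [CommRing G] (φ : 𝓕.extRees →+* G) (hφ : Function.Surjective φ)
  (hker : RingHom.ker φ = Ideal.span {𝓕.u})

/-- the identification `R'/uR' ≃ G`. -/
noncomputable def grEquiv : 𝓕.Gr ≃+* G :=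
  (Ideal.quotEquivOfEq hker.symm).trans (RingHom.quotientKerEquivOfSurjective hφ)

lemma grEquiv_mk (x : 𝓕.extRees) :
    grEquiv 𝓕 φ hφ hker (Ideal.Quotient.mk (Ideal.span {𝓕.u}) x) = φ x := by
  unfold grEquiv
  rw [RingEquiv.trans_apply, Ideal.quotEquivOfEq_mk,
    RingHom.quotientKerEquivOfSurjective_apply_mk]

/-- local rings under a ring isomorphism. -/
noncomputable def atPrimeEquivOfRingEquiv {R S : Type u} [CommRing R] [CommRing S] (e : R ≃+* S)
    (p : Ideal S) [p.IsPrime] :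
    Localization.AtPrime (p.comap e) ≃+* Localization.AtPrime p :=
  IsLocalization.ringEquivOfRingEquiv (Localization.AtPrime (p.comap e))
    (Localization.AtPrime p) e (e.map_primeCompl_comap_eq p)

include hφ hker in
theorem cm_off_irrelevant_iff (hfg : Algebra.FiniteType A 𝓕.rees) (Rp : Ideal 𝓕.extRees)
    (hRp : Rp = Ideal.span {x : 𝓕.extRees | ∃ n : ℕ, 0 < n ∧ ∃ a ∈ 𝓕.F n,
      (x : LaurentPolynomial A) = LaurentPolynomial.C a * LaurentPolynomial.T (n : ℤ)}) :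
    (∀ (P : Ideal 𝓕.extRees) [P.IsPrime], ¬ Rp ≤ P →
        LocCoh.IsCohenMacaulayLocalRing (Localization.AtPrime P)) ↔
      ((∀ (p : Ideal G) [p.IsPrime], ¬ Ideal.map φ Rp ≤ p →
          LocCoh.IsCohenMacaulayLocalRing (Localization.AtPrime p)) ∧
        (∀ (q : Ideal A) [q.IsPrime], ¬ 𝓕.F 1 ≤ q →
            LocCoh.IsCohenMacaulayLocalRing (Localization.AtPrime q))) := by
  haveI := isNoetherianRing_extRees 𝓕 hfg
  have hu := isSMulRegular_u 𝓕
  have he := grEquiv_mk 𝓕 φ hφ hker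
  constructor
  · intro h
    refine ⟨fun p _ hp => ?_, fun q _ hq => ?_⟩
    · -- primes of `G`
      have hQ' : (p.comap (grEquiv 𝓕 φ hφ hker)).IsPrime :=
        Ideal.comap_isPrime _ _
      obtain ⟨Q, hQdef⟩ : ∃ Q : Ideal 𝓕.Gr,
        Q = p.comap (grEquiv 𝓕 φ hφ hker) := ⟨_, rfl⟩
      haveI hQp : Q.IsPrime := hQdef ▸ hQ'
      have hP : ¬ Rp ≤ Q.comap (Ideal.Quotient.mk (Ideal.span {𝓕.u})) := by
        intro hle
        apply hp
        rw [Ideal.map_le_iff_le_comap]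
        intro x hx
        have h1 := hle hx
        rw [Ideal.mem_comap, hQdef, Ideal.mem_comap] at h1
        rw [Ideal.mem_comap, ← he x]
        exact h1
      have h1 := h (Q.comap (Ideal.Quotient.mk (Ideal.span {𝓕.u}))) hP
      have h2 := (cm_atPrime_iff_quot 𝓕.u hu Q _ rfl).1 h1
      subst hQdef
      haveI := h2
      exact isCMLocalRing_of_ringEquiv
        (atPrimeEquivOfRingEquiv (R := 𝓕.Gr) (S := G) (grEquiv 𝓕 φ hφ hker) p)
    · -- primes of `A`
      have hP : ¬ Rp ≤ primeR 𝓕 q := by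
        intro hle
        obtain ⟨a, ha, haq⟩ := SetLike.not_le_iff_exists.1 hq
        have hmem : (LaurentPolynomial.C a * LaurentPolynomial.T ((1 : ℕ) : ℤ) : A[T;T⁻¹]) ∈
            𝓕.extRees := by
          rw [← LaurentPolynomial.single_eq_C_mul_T]
          refine single_mem 𝓕 _ _ ?_
          rw [Int.toNat_natCast]
          exact ha
        have hx : (⟨_, hmem⟩ : 𝓕.extRees) ∈ Rp := by
          rw [hRp]
          exact Ideal.subset_span ⟨1, one_pos, a, ha, rfl⟩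
        have h1 : (LaurentPolynomial.C a * LaurentPolynomial.T ((1 : ℕ) : ℤ) :
            A[T;T⁻¹]).coeff ((1 : ℕ) : ℤ) ∈ q := (mem_primeR 𝓕 q _).1 (hle hx) ((1 : ℕ) : ℤ)
        rw [← LaurentPolynomial.single_eq_C_mul_T, AddMonoidAlgebra.coeff_single,
          Finsupp.single_eq_same] at h1
        exact haq h1
      exact (cm_primeR_iff 𝓕 q).1 (h _ hP)
  · rintro ⟨hG, hA⟩ P _ hP
    by_cases huP : 𝓕.u ∈ P
    · obtain ⟨Q, hQp, hcomap, -⟩ := exists_prime_quot 𝓕.u hu P huP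
      haveI := hQp
      rw [cm_atPrime_iff_quot 𝓕.u hu Q P hcomap]
      have hp : ¬ Ideal.map φ Rp ≤ Q.comap (grEquiv 𝓕 φ hφ hker).symm := by
        intro hle
        apply hP
        intro x hx
        have h1 := hle (Ideal.mem_map_of_mem φ hx)
        rw [Ideal.mem_comap, ← he x] at h1
        rw [hcomap, Ideal.mem_comap]
        simpa using h1
      haveI := hG _ hp
      exact isCMLocalRing_of_ringEquiv
        (atPrimeEquivOfRingEquiv (R := G) (S := 𝓕.Gr) (grEquiv 𝓕 φ hφ hker).symm Q)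
    · obtain ⟨Q, hQ, hQc, ⟨e'⟩⟩ := exists_prime_laurent 𝓕 P huP
      haveI := hQ
      have hq : ¬ 𝓕.F 1 ≤ Q.comap (algebraMap A A[T;T⁻¹]) := by
        intro hle
        apply hP
        rw [hRp, Ideal.span_le]
        rintro x ⟨n, hn, a, ha, hx⟩
        have ha1 : a ∈ 𝓕.F 1 := 𝓕.antitone (Nat.succ_le_of_lt hn) ha
        have haQ : algebraMap A A[T;T⁻¹] a ∈ Q := hle ha1
        rw [LaurentPolynomial.algebraMap_apply, Algebra.algebraMap_self, RingHom.id_apply] at haQ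
        show x ∈ P
        rw [← hQc, Ideal.mem_comap, algebraMap_extRees, hx]
        exact Ideal.mul_mem_right _ _ haQ
      haveI := (cm_laurent_atPrime_iff Q).2 (hA _ hq)
      exact isCMLocalRing_of_ringEquiv e'.symm

end off

end Groth.Agent.Lib.Helper26.ExtRees
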