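import Mathlib
import Groth.Agent.Lib.Helper26.ExtReesCM
import Groth.Agent.Lib.Helper4.SkLift
import Groth.Agent.Lib.Helper4.SkRing
import Groth.Agent.Lib.Helper4.FlatRing
import Groth.Agent.Lib.Helper4.SerreNormal

/-!
# Serre's condition `(S_2)` for the extended Rees algebra (helper26)

`hasSk_extRees_iff`: `R'` is `(S_2)` iff `G = R'/uR'` is `(S_1)` and `A` is `(S_2)`.
-/

set_option autoImplicit false
set_option linter.unusedSectionVars false
set_option linter.unusedVariables false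

open Polynomial LaurentPolynomial IsLocalRing

universe u

namespace Groth.Agent.Lib.Helper26.ExtRees

open Groth.Agent.Lib.Helper4 Groth.Agent.Lib.Helper4.FlatRing Groth.Agent.Lib.Helper4.FlatFibre
  Groth.Agent.Lib.Helper26.RegQuotLoc

section enat

lemma enat_min_succ (h d : ℕ∞) :
    min ((2 : ℕ) : ℕ∞) (h + 1) ≤ d + 1 ↔ min ((1 : ℕ) : ℕ∞) h ≤ d := by
  have h2 : ((2 : ℕ) : ℕ∞) = ((1 : ℕ) : ℕ∞) + 1 := by norm_num
  rw [h2, min_add_add_right]
  exact ENat.add_le_add_iff_right (by simp)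

lemma enat_min_add (a b c : ℕ∞) : min a (b + c) ≤ min a b + c := by
  rcases le_total a b with h | h
  · rw [min_eq_left h]
    exact (min_le_left _ _).trans le_self_add
  · rw [min_eq_right h]
    exact min_le_right _ _

end enat

section quot

variable {R : Type u} [CommRing R] [IsNoetherianRing R]

/-- `(S_k)` at a prime, in terms of height and depth. -/
def SkAt (k : ℕ) (P : Ideal R) [P.IsPrime] : Prop :=
  min (k : ℕ∞) P.height ≤ LocCoh.depth (Localization.AtPrime P) (Localization.AtPrime P)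

lemma skAt_congr (k : ℕ) (P P' : Ideal R) [P.IsPrime] [P'.IsPrime] (h : P = P') :
    SkAt k P ↔ SkAt k P' := by
  subst h
  exact Iff.rfl

lemma hasSk_iff_skAt (k : ℕ) : LocCoh.HasSk k R R ↔ ∀ (P : Ideal R) [P.IsPrime], SkAt k P :=
  hasSk_self_iff' k

lemma skAt_of_ringEquiv {R' : Type u} [CommRing R'] [IsNoetherianRing R'] (k : ℕ) (P : Ideal R)
    [P.IsPrime] (Q : Ideal R') [Q.IsPrime]
    (e : Localization.AtPrime P ≃+* Localization.AtPrime Q) : SkAt k P ↔ SkAt k Q := by
  unfold SkAt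
  have hht : P.height = Q.height := by
    rw [← SerreNormal.height_maximalIdeal_atPrime P, ← SerreNormal.height_maximalIdeal_atPrime Q]
    exact Groth.Agent.Lib.Helper4.FlatFibre.height_maximalIdeal_eq_of_ringEquiv e
  rw [hht, Groth.Agent.Lib.Helper4.FlatFibre.depth_eq_of_ringEquiv e]

/-- explicit version of `SkLift.depth_height_of_mem`. -/
theorem depth_height_quot (t : R) (ht : t ∈ nonZeroDivisors R)
    (Q : Ideal (R ⧸ Ideal.span {t})) [Q.IsPrime] (P : Ideal R) [P.IsPrime]
    (hcomap : P = Q.comap (Ideal.Quotient.mk (Ideal.span {t}))) :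
    Q.height + 1 = P.height ∧
      LocCoh.depth (Localization.AtPrime Q) (Localization.AtPrime Q) + 1 =
        LocCoh.depth (Localization.AtPrime P) (Localization.AtPrime P) := by
  have htP : t ∈ P := by
    rw [hcomap, Ideal.mem_comap,
      Ideal.Quotient.eq_zero_iff_mem.2 (Ideal.mem_span_singleton_self t)]
    exact zero_mem _
  obtain ⟨π, hπdef⟩ : ∃ π : Localization.AtPrime P →+* Localization.AtPrime Q,
      π = Localization.localRingHom P Q (Ideal.Quotient.mk (Ideal.span {t})) hcomap := ⟨_, rfl⟩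
  have hker : RingHom.ker π = Ideal.span {algebraMap R (Localization.AtPrime P) t} := by
    rw [hπdef]; exact HypersurfaceCM.ker_localRingHom_quotient t Q P hcomap
  have hπ : Function.Surjective π := by
    rw [hπdef]
    clear hker hπdef
    subst hcomap
    exact RingHom.surjective_localRingHom_of_surjective _ Ideal.Quotient.mk_surjective Q
  have htnzd : algebraMap R (Localization.AtPrime P) t ∈
      nonZeroDivisors (Localization.AtPrime P) :=
    IsLocalization.map_nonZeroDivisors_le P.primeCompl (S := Localization.AtPrime P)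
      (Submonoid.mem_map_of_mem _ ht)
  have htm : algebraMap R (Localization.AtPrime P) t ∈
      maximalIdeal (Localization.AtPrime P) := by
    rw [IsLocalization.AtPrime.to_map_mem_maximal_iff (Localization.AtPrime P) P]
    exact htP
  constructor
  · have h2 := Groth.Agent.Lib.Helper3.ringKrullDim_add_one_of_surjective π hπ _ htnzd htm hker
    rw [IsLocalization.AtPrime.ringKrullDim_eq_height Q (Localization.AtPrime Q),
      IsLocalization.AtPrime.ringKrullDim_eq_height P (Localization.AtPrime P)] at h2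
    exact_mod_cast h2
  · exact Groth.Agent.Lib.Helper3.depth_add_one_of_surjective π hπ _ htnzd htm hker

end quot

section laurent

variable {A : Type u} [CommRing A] [IsNoetherianRing A]

theorem closedCM_fib_laurent (Q : Ideal A[T;T⁻¹]) [Q.IsPrime] :
    ClosedCM (EGA4.FibLocRing A A[T;T⁻¹] Q) := by
  haveI := isRegularRing_fiber_laurent (Q.comap (algebraMap A A[T;T⁻¹]))
  have hcm : LocCoh.IsCohenMacaulayRing ((Q.comap (algebraMap A A[T;T⁻¹])).Fiber A[T;T⁻¹]) :=
    Groth.Agent.Lib.Helper14.CMFlat.cm_of_isRegularRing _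
  have hF := (isCohenMacaulayRing_fiber_iff A A[T;T⁻¹] (Q.comap (algebraMap A A[T;T⁻¹]))).mp
    hcm Q rfl
  intro _
  exact hF

theorem fib_height_zero (q : Ideal A) [q.IsPrime] :
    (maximalIdeal (EGA4.FibLocRing A A[T;T⁻¹] (primeL q))).height = 0 := by
  have hI : ((primeL q).comap (algebraMap A A[T;T⁻¹])).map
      (algebraMap A (Localization.AtPrime (primeL q))) =
      maximalIdeal (Localization.AtPrime (primeL q)) := by
    rw [comap_primeL, ← Localization.AtPrime.map_eq_maximalIdeal,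
      IsScalarTower.algebraMap_eq A A[T;T⁻¹] (Localization.AtPrime (primeL q)),
      ← Ideal.map_map, ← primeL_eq_map]
  have hbot : maximalIdeal (EGA4.FibLocRing A A[T;T⁻¹] (primeL q)) = ⊥ := by
    rw [eq_bot_iff]
    intro x hx
    obtain ⟨y, rfl⟩ := Ideal.Quotient.mk_surjective x
    have hy : y ∈ maximalIdeal (Localization.AtPrime (primeL q)) := by
      by_contra hyn
      have hyu : IsUnit y := IsLocalRing.notMem_maximalIdeal.mp hyn
      exact (IsLocalRing.mem_maximalIdeal _).1 hx (hyu.map (Ideal.Quotient.mk _))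
    rw [Ideal.mem_bot, Ideal.Quotient.eq_zero_iff_mem, hI]
    exact hy
  rw [hbot]
  exact Ideal.height_bot

/-- `(S_k)` ascends from `A_{Q ∩ A}` to `A[T;T⁻¹]_Q`. -/
theorem skAt_laurent_of_skAt (k : ℕ) (Q : Ideal A[T;T⁻¹]) [Q.IsPrime]
    (h : SkAt k (Q.comap (algebraMap A A[T;T⁻¹]))) : SkAt k Q := by
  unfold SkAt at h ⊢
  obtain ⟨k1, k2, -⟩ := exists_local_data A A[T;T⁻¹] Q
  have hF : (maximalIdeal (EGA4.FibLocRing A A[T;T⁻¹] Q)).height =
      LocCoh.depth (EGA4.FibLocRing A A[T;T⁻¹] Q) (EGA4.FibLocRing A A[T;T⁻¹] Q) :=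
    closedCM_fib_laurent Q
  rw [k1, k2, ← hF]
  exact (enat_min_add _ _ _).trans (add_le_add h le_rfl)

/-- `(S_k)` at `q A[T;T⁻¹]` is `(S_k)` at `q`. -/
theorem skAt_primeL_iff (k : ℕ) (q : Ideal A) [q.IsPrime] : SkAt k (primeL q) ↔ SkAt k q := by
  rw [← skAt_congr k _ _ (comap_primeL q)]
  unfold SkAt
  obtain ⟨k1, k2, -⟩ := exists_local_data A A[T;T⁻¹] (primeL q)
  have hF : (maximalIdeal (EGA4.FibLocRing A A[T;T⁻¹] (primeL q))).height =
      LocCoh.depth (EGA4.FibLocRing A A[T;T⁻¹] (primeL q))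
        (EGA4.FibLocRing A A[T;T⁻¹] (primeL q)) :=
    closedCM_fib_laurent (primeL q)
  rw [k1, k2, ← hF, fib_height_zero q, add_zero, add_zero]

end laurent

section main

variable {A : Type u} [CommRing A] [IsNoetherianRing A] (𝓕 : FiltBl.IdealFiltration A)

theorem hasSk_extRees_iff (hfg : Algebra.FiniteType A 𝓕.rees) :
    LocCoh.HasSk 2 𝓕.extRees 𝓕.extRees ↔ (LocCoh.HasSk 1 𝓕.Gr 𝓕.Gr ∧ LocCoh.HasSk 2 A A) := by
  haveI := isNoetherianRing_extRees 𝓕 hfg
  have hu := isSMulRegular_u 𝓕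
  have hnzd : 𝓕.u ∈ nonZeroDivisors 𝓕.extRees := GorFlat.mem_nzd hu
  rw [hasSk_iff_skAt, hasSk_iff_skAt, hasSk_iff_skAt]
  constructor
  · intro h
    refine ⟨fun Q _ => ?_, fun q _ => ?_⟩
    · obtain ⟨hh, hd⟩ := depth_height_quot 𝓕.u hnzd Q (Q.comap (Ideal.Quotient.mk _)) rfl
      have h1 := h (Q.comap (Ideal.Quotient.mk (Ideal.span {𝓕.u})))
      unfold SkAt at h1 ⊢
      rw [← hh, ← hd] at h1
      exact (enat_min_succ _ _).1 h1
    · obtain ⟨e⟩ : Nonempty (Localization.AtPrime (primeR 𝓕 q) ≃+*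
          Localization.AtPrime (primeL q)) :=
        nonempty_atPrime_comap_equiv (Submonoid.powers 𝓕.u) A[T;T⁻¹] (primeL q)
      exact (skAt_primeL_iff 2 q).1 ((skAt_of_ringEquiv 2 _ _ e).1 (h (primeR 𝓕 q)))
  · rintro ⟨hG, hA⟩ P _
    by_cases huP : 𝓕.u ∈ P
    · obtain ⟨Q, hQp, hcomap, -⟩ := exists_prime_quot 𝓕.u hu P huP
      haveI := hQp
      obtain ⟨hh, hd⟩ := depth_height_quot 𝓕.u hnzd Q P hcomap
      have h1 := hG Q
      unfold SkAt at h1 ⊢
      rw [← hh, ← hd]
      exact (enat_min_succ _ _).2 h1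
    · obtain ⟨Q, hQ, hQc, ⟨e⟩⟩ := exists_prime_laurent 𝓕 P huP
      haveI := hQ
      exact (skAt_of_ringEquiv 2 _ _ e).2 (skAt_laurent_of_skAt 2 Q (hA _))

end main

end Groth.Agent.Lib.Helper26.ExtRees
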