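import Mathlib
import Groth.Agent.Lib.Helper26.ExtReesSk

/-!
# Unique factorization in the extended Rees algebra (helper26)

* `exists_eq_C_mul_T_of_mul_eq_T`: factors of `T n` in `A[T;T⁻¹]`, `A` a domain;
* `irreducible_u`: `u = T⁻¹` is irreducible in `R'`;
* `ufm_of_ufm_laurent`: `A[T;T⁻¹]` UFD implies `A` UFD (`A` a Noetherian domain);
* `ufd_extRees_iff`: `R'` is a UFD iff `A` is a UFD and `G = R'/uR'` is a domain.
-/

set_option autoImplicit false
set_option linter.unusedSectionVars false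
set_option linter.unusedVariables false

open Polynomial LaurentPolynomial IsLocalRing

universe u

namespace Groth.Agent.Lib.Helper26.ExtRees

open Groth.Agent.Lib.Helper4 Groth.Agent.Lib.Helper4.FlatRing

section monomial

variable {A : Type u} [CommRing A] [IsDomain A]

/-- factors of `T n` in `A[T;T⁻¹]` over a domain are monomials with unit coefficient. -/
theorem exists_eq_C_mul_T_of_mul_eq_T (f g : A[T;T⁻¹]) (n : ℤ) (h : f * g = T n) :
    ∃ (a : A) (i : ℤ), IsUnit a ∧ f = LaurentPolynomial.C a * T i := by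
  obtain ⟨m, f', hf'⟩ := f.exists_T_pow
  obtain ⟨k, g', hg'⟩ := g.exists_T_pow
  obtain ⟨s, hs⟩ : ∃ s : ℕ, s = (-(n + m + k)).toNat := ⟨_, rfl⟩
  obtain ⟨N, hN⟩ : ∃ N : ℕ, (N : ℤ) = n + m + k + s := ⟨(n + m + k + s).toNat, by omega⟩
  have hprod : f' * X ^ s * g' = X ^ N := by
    apply Polynomial.toLaurent_injective
    rw [map_mul, map_mul, hf', hg', Polynomial.toLaurent_X_pow, Polynomial.toLaurent_X_pow, hN]
    calc f * T m * T s * (g * T k) = (f * g) * (T m * T s * T k) := by ring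
      _ = T n * (T m * T s * T k) := by rw [h]
      _ = T (n + m + k + s) := by
        rw [← T_add, ← T_add, ← T_add]
        congr 1
        ring
  have hdvd : f' ∣ X ^ N := ⟨X ^ s * g', by rw [← hprod]; ring⟩
  obtain ⟨i, -, hassoc⟩ := (dvd_prime_pow Polynomial.prime_X N).1 hdvd
  obtain ⟨w, hw⟩ := hassoc
  obtain ⟨r, hr, hrw⟩ := Polynomial.isUnit_iff.1 w.isUnit
  obtain ⟨r', hr'⟩ := hr.exists_left_inv
  refine ⟨r', (i : ℤ) - m, IsUnit.of_mul_eq_one r hr', ?_⟩
  have hf'eq : f' = Polynomial.C r' * X ^ i := by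
    rw [← hw, ← hrw, mul_comm f', ← mul_assoc, ← Polynomial.C_mul, hr', Polynomial.C_1, one_mul]
  have hfe : f = toLaurent f' * T (-(m : ℤ)) := by
    rw [hf', mul_T_assoc, add_neg_cancel, T_zero, mul_one]
  rw [hfe, hf'eq, Polynomial.toLaurent_C_mul_X_pow, mul_T_assoc, sub_eq_add_neg]

end monomial

section irreducible

variable {A : Type u} [CommRing A] [IsDomain A] (𝓕 : FiltBl.IdealFiltration A)

lemma coeff_C_mul_T_self (a : A) (i : ℤ) :
    (LaurentPolynomial.C a * T i : A[T;T⁻¹]).coeff i = a := by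
  rw [← LaurentPolynomial.single_eq_C_mul_T, AddMonoidAlgebra.coeff_single,
    Finsupp.single_eq_same]

/-- a monomial `a T^i` of `R'` with `a` a unit has `i ≤ 0`. -/
lemma nonpos_of_unit_monomial_mem (hF1 : 𝓕.F 1 ≠ ⊤) (a : A) (ha : IsUnit a) (i : ℤ)
    (hmem : (LaurentPolynomial.C a * T i : A[T;T⁻¹]) ∈ 𝓕.extRees) : i ≤ 0 := by
  by_contra hi
  have h1 := hmem i
  rw [coeff_C_mul_T_self] at h1
  have htop : 𝓕.F i.toNat = ⊤ := Ideal.eq_top_of_isUnit_mem _ h1 ha
  have hle : 𝓕.F i.toNat ≤ 𝓕.F 1 := 𝓕.antitone (by omega)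
  exact hF1 (top_le_iff.1 (htop ▸ hle))

theorem irreducible_u (hF1 : 𝓕.F 1 ≠ ⊤) : Irreducible 𝓕.u := by
  rw [irreducible_iff]
  constructor
  · intro hu
    obtain ⟨v, hv⟩ := hu.exists_right_inv
    have h1 : (T (-1) : A[T;T⁻¹]) * (v : A[T;T⁻¹]) = 1 := congrArg Subtype.val hv
    have hv1 : (v : A[T;T⁻¹]) = T 1 := by
      calc (v : A[T;T⁻¹]) = T 1 * ((T (-1) : A[T;T⁻¹]) * (v : A[T;T⁻¹])) := by
            rw [← mul_assoc, ← T_add, show (1 + -1 : ℤ) = 0 from by norm_num, T_zero, one_mul]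
        _ = T 1 := by rw [h1, mul_one]
    have h2 := v.2 1
    rw [hv1, LaurentPolynomial.T_apply, if_pos rfl, Int.toNat_one] at h2
    exact hF1 ((Ideal.eq_top_iff_one _).2 h2)
  · intro f g hfg
    have h : (f : A[T;T⁻¹]) * (g : A[T;T⁻¹]) = T (-1) := (congrArg Subtype.val hfg).symm
    obtain ⟨a, i, ha, hf⟩ := exists_eq_C_mul_T_of_mul_eq_T _ _ _ h
    obtain ⟨b, j, hb, hg⟩ := exists_eq_C_mul_T_of_mul_eq_T _ _ _ ((mul_comm _ _).trans h)
    have hi : i ≤ 0 := nonpos_of_unit_monomial_mem 𝓕 hF1 a ha i (hf ▸ f.2)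
    have hj : j ≤ 0 := nonpos_of_unit_monomial_mem 𝓕 hF1 b hb j (hg ▸ g.2)
    have hij : i + j = -1 := by
      have h3 : (LaurentPolynomial.C (a * b) * T (i + j) : A[T;T⁻¹]) = T (-1) := by
        rw [← h, hf, hg, map_mul, T_add]
        ring
      have h4 := congrArg (fun z : A[T;T⁻¹] => z.coeff (i + j)) h3
      simp only [coeff_C_mul_T_self, LaurentPolynomial.T_apply] at h4
      by_contra hne
      rw [if_neg (fun h5 => hne h5.symm)] at h4
      exact (ha.mul hb).ne_zero h4
    have hcases : i = 0 ∨ j = 0 := by omega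
    rcases hcases with hi0 | hj0
    · left
      have hfa : f = algebraMap A 𝓕.extRees a := by
        apply Subtype.ext
        rw [hf, hi0, T_zero, mul_one, LaurentPolynomial.C_eq_algebraMap]
        rfl
      rw [hfa]
      exact ha.map (algebraMap A 𝓕.extRees)
    · right
      have hgb : g = algebraMap A 𝓕.extRees b := by
        apply Subtype.ext
        rw [hg, hj0, T_zero, mul_one, LaurentPolynomial.C_eq_algebraMap]
        rfl
      rw [hgb]
      exact hb.map (algebraMap A 𝓕.extRees)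

end irreducible

section descent

variable (A : Type u) [CommRing A] [IsDomain A] [IsNoetherianRing A]

theorem height_primeL (q : Ideal A) [q.IsPrime] : (primeL q).height = q.height := by
  obtain ⟨k1, -, -⟩ := exists_local_data A A[T;T⁻¹] (primeL q)
  rw [k1, fib_height_zero, add_zero, comap_primeL]

/-- evaluation at `T = 1`. -/
noncomputable def epsL : A[T;T⁻¹] →+* A := LaurentPolynomial.eval₂ (RingHom.id A) 1

lemma epsL_C (a : A) : epsL A (LaurentPolynomial.C a) = a := by
  unfold epsL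
  rw [LaurentPolynomial.eval₂_C]
  rfl

theorem ufm_of_ufm_laurent [UniqueFactorizationMonoid A[T;T⁻¹]] :
    UniqueFactorizationMonoid A := by
  apply UniqueFactorizationMonoid.of_forall_isPrincipal_of_height_eq_one
  intro p _ hp1
  have hht : (primeL p).height = 1 := by rw [height_primeL, hp1]
  obtain ⟨⟨f, hf⟩⟩ := UniqueFactorizationMonoid.isPrincipal_of_height_eq_one hht
  have hf' : primeL p = Ideal.span {f} := hf
  refine ⟨⟨epsL A f, ?_⟩⟩
  show p = Ideal.span {epsL A f}
  apply le_antisymm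
  · intro a ha
    have hCa : LaurentPolynomial.C a ∈ primeL p := by
      rw [mem_primeL]
      intro n
      rw [LaurentPolynomial.C_apply]
      split_ifs
      · exact ha
      · exact Ideal.zero_mem _
    rw [hf'] at hCa
    obtain ⟨h, hh⟩ := Ideal.mem_span_singleton'.1 hCa
    have h1 := congrArg (epsL A) hh
    rw [map_mul, epsL_C] at h1
    rw [← h1]
    exact Ideal.mul_mem_left _ _ (Ideal.mem_span_singleton_self _)
  · rw [Ideal.span_singleton_le_iff_mem]
    have hfmem : f ∈ primeL p := by rw [hf']; exact Ideal.mem_span_singleton_self f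
    rw [primeL_eq_map] at hfmem
    have hle : p.map (algebraMap A A[T;T⁻¹]) ≤ p.comap (epsL A) := by
      rw [Ideal.map_le_iff_le_comap]
      intro a ha
      rw [Ideal.mem_comap, Ideal.mem_comap, LaurentPolynomial.algebraMap_apply,
        Algebra.algebraMap_self, RingHom.id_apply, epsL_C]
      exact ha
    exact hle hfmem

end descent

section main

variable {A : Type u} [CommRing A] [IsNoetherianRing A] [IsDomain A]
  (𝓕 : FiltBl.IdealFiltration A) [IsDomain 𝓕.extRees]

theorem ufd_extRees_iff (hsep : ⨅ n, 𝓕.F n = ⊥) (hfg : Algebra.FiniteType A 𝓕.rees) :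
    UniqueFactorizationMonoid 𝓕.extRees ↔ (UniqueFactorizationMonoid A ∧ IsDomain 𝓕.Gr) := by
  haveI := isNoetherianRing_extRees 𝓕 hfg
  have hF1 := F_one_ne_top 𝓕 hsep
  have hirr := irreducible_u 𝓕 hF1
  have hu0 : 𝓕.u ≠ 0 := hirr.ne_zero
  constructor
  · intro hU
    haveI := hU
    haveI : UniqueFactorizationMonoid A[T;T⁻¹] :=
      UniqueFactorizationMonoid.of_isLocalization (Submonoid.powers 𝓕.u) A[T;T⁻¹]
    refine ⟨ufm_of_ufm_laurent A, ?_⟩
    have hp : Prime 𝓕.u := UniqueFactorizationMonoid.irreducible_iff_prime.1 hirr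
    have hprime : (Ideal.span {𝓕.u}).IsPrime := (Ideal.span_singleton_prime hu0).2 hp
    exact (Ideal.Quotient.isDomain_iff_prime _).2 hprime
  · rintro ⟨hA, hG⟩
    haveI := hA
    have hprime : (Ideal.span {𝓕.u}).IsPrime := (Ideal.Quotient.isDomain_iff_prime _).1 hG
    have hp : Prime 𝓕.u := (Ideal.span_singleton_prime hu0).1 hprime
    haveI : UniqueFactorizationMonoid A[T;T⁻¹] :=
      UniqueFactorizationMonoid.of_isLocalization (Submonoid.powers (X : A[X])) A[T;T⁻¹]
    exact (UniqueFactorizationMonoid.iff_of_isLocalizationAway_of_prime hp A[T;T⁻¹]).2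
      inferInstance

end main

end Groth.Agent.Lib.Helper26.ExtRees
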