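import Mathlib

/-!
# Regular extensions and degrees (helper26)

`k ⊆ K` fields with `k` algebraically closed in `K`; `F/k` finite with `K ⊗[k] F` reduced.  Then
`K ⊗[k] F → L` is injective for any common overfield `L`, and `[F : k] ∣ [L : K]`.
-/

set_option autoImplicit false
set_option linter.style.haveILetI false
open TensorProduct Polynomial

namespace Groth.Agent.Lib.Helper26.RegularExt

variable {k K : Type*} [Field k] [Field K] [Algebra k K]

/-- If `k` is algebraically closed in `K`, monic irreducible polynomials over `k` stay irreducible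
over `K`. -/
theorem irreducible_map_of_algClosedIn
    (hic : ∀ x : K, IsIntegral k x → x ∈ (algebraMap k K).range)
    {m : k[X]} (hm : Irreducible m) (hmon : m.Monic) :
    Irreducible (m.map (algebraMap k K)) := by
  have hinj : Function.Injective (algebraMap k K) := (algebraMap k K).injective
  have hm1 : m.map (algebraMap k K) ≠ 1 := by
    intro h
    have : m = 1 := Polynomial.map_injective _ hinj (by rw [h, Polynomial.map_one])
    exact hm.not_isUnit (this ▸ isUnit_one)
  rw [Polynomial.irreducible_of_monic (hmon.map _) hm1]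
  have key : ∀ f g : K[X], f.Monic → f * g = m.map (algebraMap k K) →
      ∃ f₀ : k[X], f₀.map (algebraMap k K) = f ∧ f₀.Monic := by
    intro f g hf hfg
    have h1 := integralClosure.mem_lifts_of_monic_of_dvd_map K hmon hf ⟨g, hfg.symm⟩
    have h2 : f ∈ lifts (algebraMap k K) := by
      rw [lifts_iff_coeff_lifts]
      intro n
      rw [lifts_iff_coeff_lifts] at h1
      obtain ⟨c, hc⟩ := h1 n
      obtain ⟨c', hc'⟩ := hic (c : K) c.2
      exact ⟨c', hc'.trans hc⟩
    obtain ⟨f₀, hf₀, -, hf₀m⟩ := lifts_and_natDegree_eq_and_monic h2 hf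
    exact ⟨f₀, hf₀, hf₀m⟩
  intro f g hf hg hfg
  obtain ⟨f₀, rfl, hf₀⟩ := key f g hf hfg
  obtain ⟨g₀, rfl, hg₀⟩ := key g (f₀.map _) hg (by rw [mul_comm]; exact hfg)
  have hprod : f₀ * g₀ = m := Polynomial.map_injective _ hinj (by rw [Polynomial.map_mul]; exact hfg)
  rcases hm.isUnit_or_isUnit hprod.symm with h | h
  · left; rw [hf₀.eq_one_of_isUnit h, Polynomial.map_one]
  · right; rw [hg₀.eq_one_of_isUnit h, Polynomial.map_one]

variable {F L : Type*} [Field F] [Field L] [Algebra k F] [Algebra K L] [Algebra F L] [Algebra k L]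
  [IsScalarTower k K L] [IsScalarTower k F L]

variable (k K F L) in
/-- The multiplication map `K ⊗[k] F → L`, as a `K`-algebra map. -/
noncomputable def mulMap : K ⊗[k] F →ₐ[K] L :=
  Algebra.TensorProduct.productLeftAlgHom (Algebra.ofId K L) (IsScalarTower.toAlgHom k F L)

@[simp] theorem mulMap_tmul (a : K) (b : F) :
    mulMap k K F L (a ⊗ₜ b) = algebraMap K L a * algebraMap F L b := by
  simp [mulMap]

theorem mulMap_injective_of_separable [FiniteDimensional k F] [Algebra.IsSeparable k F]
    (hic : ∀ x : K, IsIntegral k x → x ∈ (algebraMap k K).range) :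
    Function.Injective (mulMap k K F L) := by
  classical
  let pb := Field.powerBasisOfFiniteOfSeparable k F
  set α := pb.gen with hα
  set a : L := algebraMap F L α with ha
  have hint : IsIntegral k α := Algebra.IsIntegral.isIntegral α
  have hmin : (minpoly k α).map (algebraMap k K) = minpoly K a := by
    apply minpoly.eq_of_irreducible_of_monic
      (irreducible_map_of_algClosedIn hic (minpoly.irreducible hint) (minpoly.monic hint)) ?_
      ((minpoly.monic hint).map _)
    rw [aeval_map_algebraMap, ha, aeval_algebraMap_apply, minpoly.aeval, map_zero]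
  have hdeg : (minpoly K a).natDegree = pb.dim := by
    rw [← hmin, natDegree_map, pb.natDegree_minpoly]
  have hli : LinearIndependent K (fun i : Fin pb.dim => a ^ (i : ℕ)) :=
    hdeg ▸ linearIndependent_pow (K := K) a
  let B := Algebra.TensorProduct.basis K pb.basis
  have hB : ∀ i, mulMap k K F L (B i) = a ^ (i : ℕ) := by
    intro i
    simp only [B, Algebra.TensorProduct.basis_apply, mulMap_tmul, map_one, one_mul,
      PowerBasis.coe_basis, map_pow]
    rfl
  rw [injective_iff_map_eq_zero]
  intro z hz
  have hsum : z = ∑ i, B.repr z i • B i := (B.sum_repr z).symm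
  have h0 : ∑ i, B.repr z i • a ^ (i : ℕ) = 0 := by
    rw [← hz]
    conv_rhs => rw [hsum]
    simp only [map_sum, map_smul, hB]
  have hc := Fintype.linearIndependent_iff.mp hli _ h0
  rw [hsum]
  simp [hc]

theorem mulMap_injective [FiniteDimensional k F]
    (hic : ∀ x : K, IsIntegral k x → x ∈ (algebraMap k K).range)
    (hred : IsReduced (K ⊗[k] F)) :
    Function.Injective (mulMap k K F L) := by
  classical
  let Fs := separableClosure k F
  have hs : Function.Injective (mulMap k K Fs L) := mulMap_injective_of_separable hic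
  let ι : K ⊗[k] Fs →ₐ[K] K ⊗[k] F := Algebra.TensorProduct.map (AlgHom.id K K) Fs.val
  have hι : ∀ w, mulMap k K F L (ι w) = mulMap k K Fs L w := by
    intro w
    induction w using TensorProduct.induction_on with
    | zero => simp
    | tmul a b =>
      simp only [ι, Algebra.TensorProduct.map_tmul, AlgHom.coe_id, id_eq, mulMap_tmul]
      rfl
    | add x y hx hy => simp only [map_add, hx, hy]
  let q := ringExpChar k
  have : ExpChar k q := ringExpChar.expChar k
  have : ExpChar Fs q := expChar_of_injective_algebraMap (algebraMap k Fs).injective q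
  have : Nontrivial (K ⊗[k] F) := RingHom.domain_nontrivial (mulMap k K F L).toRingHom
  have : ExpChar (K ⊗[k] F) q :=
    expChar_of_injective_algebraMap (algebraMap k (K ⊗[k] F)).injective q
  have : Algebra.IsAlgebraic k F := Algebra.IsAlgebraic.of_finite k F
  have hpow : ∀ z : K ⊗[k] F, ∃ n : ℕ, z ^ q ^ n ∈ ι.range := by
    intro z
    induction z using TensorProduct.induction_on with
    | zero => exact ⟨0, by simp⟩
    | tmul a b =>
      obtain ⟨n, y, hy⟩ := IsPurelyInseparable.pow_mem Fs q b
      refine ⟨n, ?_⟩
      rw [Algebra.TensorProduct.tmul_pow, ← hy]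
      refine ⟨(a ^ q ^ n) ⊗ₜ y, ?_⟩
      simp only [ι, AlgHom.toRingHom_eq_coe, RingHom.coe_coe, Algebra.TensorProduct.map_tmul,
        AlgHom.coe_id, id_eq]
      rfl
    | add x y hx hy =>
      obtain ⟨n, hn⟩ := hx
      obtain ⟨m, hm⟩ := hy
      refine ⟨n + m, ?_⟩
      rw [add_pow_expChar_pow]
      apply add_mem
      · rw [pow_add, pow_mul]; exact pow_mem hn _
      · rw [add_comm, pow_add, pow_mul]; exact pow_mem hm _
  rw [injective_iff_map_eq_zero]
  intro z hz
  obtain ⟨n, w, hw⟩ := hpow z
  replace hw : ι w = z ^ q ^ n := hw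
  have h1 : mulMap k K Fs L w = 0 := by
    rw [← hι, hw, map_pow, hz, zero_pow]
    exact pow_ne_zero _ (expChar_ne_zero k q)
  have h2 : w = 0 := hs (by rw [h1, map_zero])
  rw [h2, map_zero] at hw
  exact eq_zero_of_pow_eq_zero hw.symm

theorem finrank_dvd [FiniteDimensional k F]
    (hic : ∀ x : K, IsIntegral k x → x ∈ (algebraMap k K).range)
    (hred : IsReduced (K ⊗[k] F)) :
    Module.finrank k F ∣ Module.finrank K L := by
  have hinj := mulMap_injective (k := k) (K := K) (F := F) (L := L) hic hred
  haveI : IsDomain (K ⊗[k] F) := hinj.isDomain (mulMap k K F L).toRingHom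
  have hfield : IsField (K ⊗[k] F) :=
    Algebra.TensorProduct.isField_of_isAlgebraic k K F (Or.inr (Algebra.IsAlgebraic.of_finite k F))
  letI := hfield.toField
  letI : Algebra (K ⊗[k] F) L := (mulMap k K F L).toRingHom.toAlgebra
  haveI : IsScalarTower K (K ⊗[k] F) L := IsScalarTower.of_algebraMap_eq (fun a => by
    show algebraMap K L a = mulMap k K F L (algebraMap K (K ⊗[k] F) a)
    rw [AlgHom.commutes])
  have h := Module.finrank_dvd_finrank_right (F := K) (K := K ⊗[k] F) (A := L)
  rwa [Module.finrank_baseChange] at h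

end Groth.Agent.Lib.Helper26.RegularExt
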