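import Groth.Agent.S17469
import Groth.Agent.Lib.Helper26.RegularExtFld

/-!
# Global sections vs. function field on a normal integral scheme (helper26)

* `isReduced_tensor_of_frac`: reducedness of `A ⊗ E` passes to `Frac A ⊗ E`.
* `mem_range_Γevaluation_of_isIntegral`: on a normal integral scheme, elements of the residue field
  at the generic point that are integral over the global sections are global sections.
* `isReduced_tensor_sections`: `Γ(X, U) ⊗[Γ(X, ⊤)] E` is reduced if `X ×_{Spec Γ} Spec E` is.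
-/

set_option autoImplicit false
set_option linter.style.haveILetI false
universe u
open CategoryTheory AlgebraicGeometry TensorProduct CategoryTheory.Limits

namespace Groth.Agent.Lib.Helper26.FBaseDeg

section Alg

variable {k A K E : Type*} [Field k] [CommRing A] [Field K] [Field E]
  [Algebra k A] [Algebra A K] [Algebra k K] [IsScalarTower k A K] [Algebra k E]

theorem isReduced_tensor_of_frac
    (hinj : Function.Injective (algebraMap A K))
    (hfrac : ∀ x : K, ∃ a s : A, algebraMap A K s ≠ 0 ∧ x * algebraMap A K s = algebraMap A K a)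
    (h : IsReduced (A ⊗[k] E)) : IsReduced (K ⊗[k] E) := by
  classical
  let ι : A ⊗[k] E →ₐ[k] K ⊗[k] E :=
    Algebra.TensorProduct.map (IsScalarTower.toAlgHom k A K) (AlgHom.id k E)
  have hιr : ∀ w, ι w = LinearMap.rTensor E (IsScalarTower.toAlgHom k A K).toLinearMap w := by
    intro w
    induction w using TensorProduct.induction_on with
    | zero => simp
    | tmul a e => simp [ι]
    | add x y hx hy => simp only [map_add, hx, hy]
  have hιinj : Function.Injective ι := by
    have := Module.Flat.rTensor_preserves_injective_linearMap (M := E)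
      (IsScalarTower.toAlgHom k A K).toLinearMap hinj
    intro x y hxy
    apply this
    rw [← hιr, ← hιr, hxy]
  have key : ∀ z : K ⊗[k] E, ∃ s : A, algebraMap A K s ≠ 0 ∧
      ∃ w : A ⊗[k] E, (algebraMap A K s ⊗ₜ[k] (1 : E)) * z = ι w := by
    intro z
    induction z using TensorProduct.induction_on with
    | zero => exact ⟨1, by simp, 0, by simp⟩
    | tmul x e =>
      obtain ⟨a, s, hs, hxs⟩ := hfrac x
      refine ⟨s, hs, a ⊗ₜ e, ?_⟩
      simp only [ι, Algebra.TensorProduct.tmul_mul_tmul, one_mul, Algebra.TensorProduct.map_tmul,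
        IsScalarTower.coe_toAlgHom', AlgHom.coe_id, id_eq, ← hxs, mul_comm x]
    | add z₁ z₂ h₁ h₂ =>
      obtain ⟨s₁, hs₁, w₁, hw₁⟩ := h₁
      obtain ⟨s₂, hs₂, w₂, hw₂⟩ := h₂
      refine ⟨s₁ * s₂, by rw [map_mul]; exact mul_ne_zero hs₁ hs₂,
        (s₂ ⊗ₜ 1) * w₁ + (s₁ ⊗ₜ 1) * w₂, ?_⟩
      have e2 : (algebraMap A K (s₁ * s₂) ⊗ₜ[k] (1 : E)) =
          (algebraMap A K s₁ ⊗ₜ[k] (1 : E)) * (algebraMap A K s₂ ⊗ₜ[k] (1 : E)) := by
        rw [Algebra.TensorProduct.tmul_mul_tmul, one_mul, map_mul]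
      have e3 : ∀ s : A, ι (s ⊗ₜ 1) = algebraMap A K s ⊗ₜ[k] (1 : E) := by
        intro s; simp [ι]
      calc (algebraMap A K (s₁ * s₂) ⊗ₜ[k] (1 : E)) * (z₁ + z₂)
          = (algebraMap A K s₂ ⊗ₜ[k] (1 : E)) * ((algebraMap A K s₁ ⊗ₜ[k] (1 : E)) * z₁) +
            (algebraMap A K s₁ ⊗ₜ[k] (1 : E)) * ((algebraMap A K s₂ ⊗ₜ[k] (1 : E)) * z₂) := by
            rw [e2]; ring
        _ = ι ((s₂ ⊗ₜ 1) * w₁ + (s₁ ⊗ₜ 1) * w₂) := by
            rw [hw₁, hw₂, map_add, map_mul, map_mul, e3, e3]
  refine ⟨fun z hz => ?_⟩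
  obtain ⟨n, hn⟩ := hz
  obtain ⟨s, hs, w, hw⟩ := key z
  have hw0 : w = 0 := by
    apply eq_zero_of_pow_eq_zero (n := n)
    apply hιinj
    rw [map_pow, ← hw, mul_pow, hn, mul_zero, map_zero]
  rw [hw0, map_zero] at hw
  have hunit : ((algebraMap A K s)⁻¹ ⊗ₜ[k] (1 : E)) * (algebraMap A K s ⊗ₜ[k] (1 : E)) = 1 := by
    rw [Algebra.TensorProduct.tmul_mul_tmul, inv_mul_cancel₀ hs, one_mul]
    rfl
  calc z = (((algebraMap A K s)⁻¹ ⊗ₜ[k] (1 : E)) * (algebraMap A K s ⊗ₜ[k] (1 : E))) * z := by
        rw [hunit, one_mul]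
    _ = 0 := by rw [mul_assoc, hw, mul_zero]

end Alg

section Sch

variable (X : Scheme.{u}) [IsIntegral X]

/-- Evaluation at the generic point is injective on sections over nonempty opens. -/
theorem evaluation_genericPoint_injective (U : X.Opens) (hηU : genericPoint X ∈ U) :
    Function.Injective (X.evaluation U (genericPoint X) hηU).hom := by
  have h1 : Function.Injective (X.presheaf.germ U (genericPoint X) hηU).hom :=
    germ_injective_of_isIntegral X (genericPoint X) hηU
  have h2 : Function.Injective (X.residue (genericPoint X)).hom :=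
    RingHom.injective (R := X.functionField) (X.residue (genericPoint X)).hom
  exact h2.comp h1

omit [IsIntegral X] in
theorem Γevaluation_eq_comp (U : X.Opens) (x : X) (hxU : x ∈ U) :
    (X.Γevaluation x).hom =
      (X.evaluation U x hxU).hom.comp (X.presheaf.map (homOfLE le_top : U ⟶ ⊤).op).hom := by
  ext t
  simp only [RingHom.comp_apply]
  show (X.residue x).hom ((X.presheaf.germ ⊤ x trivial).hom t) =
    (X.residue x).hom ((X.presheaf.germ U x hxU).hom _)
  congr 1
  exact (TopCat.Presheaf.germ_res_apply X.presheaf (homOfLE le_top : U ⟶ ⊤) x hxU t).symm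

/-- On a normal integral scheme, elements of the residue field at the generic point which are
integral over the ring of global sections come from global sections. -/
theorem mem_range_Γevaluation_of_isIntegral [IsLocallyNoetherian X]
    (hX : Pi1.IsNormalScheme X) (y : X) (hy : y = genericPoint X) (a : X.residueField y)
    (ha : (X.Γevaluation y).hom.IsIntegralElem a) :
    a ∈ Set.range (X.Γevaluation y).hom := by
  subst hy
  obtain ⟨s, rfl⟩ := X.residue_surjective (genericPoint X) a
  obtain ⟨U, hηU, b, rfl⟩ := X.presheaf.exists_germ_eq s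
  obtain ⟨p, hp, hpa⟩ := ha
  have hinj := evaluation_genericPoint_injective X U hηU
  have hfac := Γevaluation_eq_comp X U (genericPoint X) hηU
  have hb : (X.presheaf.map (homOfLE le_top : U ⟶ ⊤).op).hom.IsIntegralElem b := by
    refine ⟨p, hp, hinj ?_⟩
    rw [map_zero, Polynomial.hom_eval₂, ← hfac]
    exact hpa
  obtain ⟨t, ht⟩ := Groth.Agent.S17469.result X hX U b hb
  refine ⟨t, ?_⟩
  rw [hfac, RingHom.comp_apply, ht]
  rfl

/-- The residue field at the generic point is the fraction field of any nonempty affine open. -/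
theorem exists_frac_evaluation (U : X.Opens) (hU : IsAffineOpen U) (y : X)
    (hy : y = genericPoint X) (hyU : y ∈ U) (x : X.residueField y) :
    ∃ a s : Γ(X, U), (X.evaluation U y hyU).hom s ≠ 0 ∧
      x * (X.evaluation U y hyU).hom s = (X.evaluation U y hyU).hom a := by
  subst hy
  haveI : Nonempty U := ⟨⟨genericPoint X, hyU⟩⟩
  haveI := functionField_isFractionRing_of_isAffineOpen X U hU
  obtain ⟨z, rfl⟩ := X.residue_surjective (genericPoint X) x
  obtain ⟨⟨a, s⟩, h⟩ := IsLocalization.surj (nonZeroDivisors Γ(X, U)) (z : X.functionField)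
  refine ⟨a, s, ?_, ?_⟩
  · intro h0
    have : (s : Γ(X, U)) = 0 :=
      evaluation_genericPoint_injective X U hyU (by rw [h0, map_zero])
    exact nonZeroDivisors.coe_ne_zero s this
  · have := congrArg (X.residue (genericPoint X)).hom h
    rw [map_mul] at this
    exact this

theorem evaluation_injective_of_eq (U : X.Opens) (y : X) (hy : y = genericPoint X) (hyU : y ∈ U) :
    Function.Injective (X.evaluation U y hyU).hom := by
  subst hy
  exact evaluation_genericPoint_injective X U hyU

end Sch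

section Red

theorem isReduced_tensor_sections (X : Scheme.{u}) (U : X.Opens) (hU : IsAffineOpen U)
    (E : Type u) [Field E] (i : Γ(X, ⊤) →+* E)
    (h : AlgebraicGeometry.IsReduced (pullback X.toSpecΓ (Spec.map (CommRingCat.ofHom i)))) :
    letI := (X.presheaf.map (homOfLE le_top : U ⟶ ⊤).op).hom.toAlgebra
    letI := i.toAlgebra
    _root_.IsReduced (Γ(X, U) ⊗[Γ(X, ⊤)] E) := by
  letI := (X.presheaf.map (homOfLE le_top : U ⟶ ⊤).op).hom.toAlgebra
  letI := i.toAlgebra
  have e₁ : Spec.map (CommRingCat.ofHom (algebraMap Γ(X, ⊤) Γ(X, U))) ≫ 𝟙 (Spec Γ(X, ⊤)) =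
      hU.fromSpec ≫ X.toSpecΓ := by
    refine (Category.comp_id _).trans ?_
    rw [hU.fromSpec_toSpecΓ]
    rfl
  have e₂ : Spec.map (CommRingCat.ofHom (algebraMap Γ(X, ⊤) E)) ≫ 𝟙 (Spec Γ(X, ⊤)) =
      𝟙 (Spec (CommRingCat.of E)) ≫ Spec.map (CommRingCat.ofHom i) := by
    refine (Category.comp_id _).trans ?_
    rw [Category.id_comp]
  let ψ := pullback.map (Spec.map (CommRingCat.ofHom (algebraMap Γ(X, ⊤) Γ(X, U))))
      (Spec.map (CommRingCat.ofHom (algebraMap Γ(X, ⊤) E)))
      X.toSpecΓ (Spec.map (CommRingCat.ofHom i)) hU.fromSpec (𝟙 _) (𝟙 _) e₁ e₂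
  haveI : IsOpenImmersion ψ := inferInstance
  haveI := isReduced_of_isOpenImmersion ψ
  haveI := isReduced_of_isOpenImmersion (pullbackSpecIso Γ(X, ⊤) Γ(X, U) E).inv
  exact (affine_isReduced_iff (CommRingCat.of (Γ(X, U) ⊗[Γ(X, ⊤)] E))).mp inferInstance

end Red

end Groth.Agent.Lib.Helper26.FBaseDeg
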