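import Mathlib

/-!
# `Spec K` as the cofiltered limit of `Spec A`, `A` running over the finitely generated
`k`-subalgebras of a field extension `K / k`  (helper3's request M1, for S1555)
-/

open CategoryTheory Limits AlgebraicGeometry Opposite

universe u

namespace Groth.Agent.Lib.Helper26.FGSubLim

variable (k K : Type u) [Field k] [Field K] [Algebra k K]

/-- finitely generated `k`-subalgebras of `K` (a category through the preorder). -/
abbrev FGSub := {A : Subalgebra k K // A.FG}

instance : Nonempty (FGSub k K) := ⟨⟨⊥, Subalgebra.fg_bot⟩⟩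

instance : IsDirectedOrder (FGSub k K) where
  directed A B := ⟨⟨A.1 ⊔ B.1, A.2.sup B.2⟩, le_sup_left (a := A.1), le_sup_right (b := B.1)⟩

instance : IsFiltered (FGSub k K) := inferInstance

/-- the diagram of finitely generated subalgebras. -/
noncomputable def ringDiag : FGSub k K ⥤ CommRingCat.{u} where
  obj A := CommRingCat.of A.1
  map h := CommRingCat.ofHom (Subalgebra.inclusion (leOfHom h)).toRingHom
  map_id _ := rfl
  map_comp _ _ := rfl

/-- the cocone of inclusions into `K`. -/
noncomputable def ringCocone : Cocone (ringDiag k K) where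
  pt := CommRingCat.of K
  ι := { app := fun A => CommRingCat.ofHom A.1.val.toRingHom
         naturality := fun _ _ _ => rfl }

/-- the finitely generated subalgebra generated by one element. -/
noncomputable def adjOne (x : K) : FGSub k K :=
  ⟨Algebra.adjoin k {x}, by simpa using Subalgebra.fg_adjoin_finset (R := k) ({x} : Finset K)⟩

lemma mem_adjOne (x : K) : x ∈ (adjOne k K x).1 := Algebra.subset_adjoin (Set.mem_singleton x)

lemma adjOne_le {x : K} {A : FGSub k K} (hx : x ∈ A.1) : adjOne k K x ≤ A :=
  Algebra.adjoin_le (by simpa using hx)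

variable {k K}

/-- the value of the descended map. -/
noncomputable def descFun (s : Cocone (ringDiag k K)) (x : K) : s.pt :=
  (s.ι.app (adjOne k K x)).hom ⟨x, mem_adjOne k K x⟩

lemma descFun_eq (s : Cocone (ringDiag k K)) {x : K} (A : FGSub k K) (hx : x ∈ A.1) :
    descFun s x = (s.ι.app A).hom ⟨x, hx⟩ := by
  have h := s.ι.naturality (homOfLE (adjOne_le (k := k) (K := K) hx))
  have h2 := congrArg (fun f => f.hom ⟨x, mem_adjOne k K x⟩) h
  simp only [Functor.const_obj_obj, Functor.const_obj_map, Category.comp_id] at h2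
  rw [descFun, ← h2]
  rfl

variable (k K)

/-- `K` is the filtered colimit of its finitely generated subalgebras. -/
noncomputable def isColimitRingCocone : IsColimit (ringCocone k K) where
  desc s := CommRingCat.ofHom
    { toFun := descFun s
      map_one' := by
        rw [descFun_eq s ⟨⊥, Subalgebra.fg_bot⟩ (one_mem _)]
        exact map_one (s.ι.app ⟨⊥, Subalgebra.fg_bot⟩).hom
      map_zero' := by
        rw [descFun_eq s ⟨⊥, Subalgebra.fg_bot⟩ (zero_mem _)]
        exact map_zero (s.ι.app ⟨⊥, Subalgebra.fg_bot⟩).hom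
      map_mul' := fun x y => by
        obtain ⟨A, hxA, hyA⟩ := exists_ge_ge (adjOne k K x) (adjOne k K y)
        have hx : x ∈ A.1 := hxA (mem_adjOne k K x)
        have hy : y ∈ A.1 := hyA (mem_adjOne k K y)
        rw [descFun_eq s A (mul_mem hx hy), descFun_eq s A hx, descFun_eq s A hy]
        exact map_mul (s.ι.app A).hom ⟨x, hx⟩ ⟨y, hy⟩
      map_add' := fun x y => by
        obtain ⟨A, hxA, hyA⟩ := exists_ge_ge (adjOne k K x) (adjOne k K y)
        have hx : x ∈ A.1 := hxA (mem_adjOne k K x)
        have hy : y ∈ A.1 := hyA (mem_adjOne k K y)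
        rw [descFun_eq s A (add_mem hx hy), descFun_eq s A hx, descFun_eq s A hy]
        exact map_add (s.ι.app A).hom ⟨x, hx⟩ ⟨y, hy⟩ }
  fac s A := by
    ext ⟨x, hx⟩
    exact descFun_eq s A hx
  uniq s m hm := by
    ext x
    have := congrArg (fun f => f.hom ⟨x, mem_adjOne k K x⟩) (hm (adjOne k K x))
    exact this

/-- the diagram of spectra. -/
noncomputable def specDiag : (FGSub k K)ᵒᵖ ⥤ Scheme.{u} := (ringDiag k K).op ⋙ Scheme.Spec

/-- the cone of spectra. -/
noncomputable def specCone : Cone (specDiag k K) := Scheme.Spec.mapCone (ringCocone k K).op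

/-- `Spec K` is the cofiltered limit of the `Spec A`. -/
noncomputable def isLimitSpecCone : IsLimit (specCone k K) :=
  isLimitOfPreserves Scheme.Spec (isColimitRingCocone k K).op

@[simp] lemma specDiag_obj (A : FGSub k K) :
    (specDiag k K).obj (op A) = Spec (CommRingCat.of A.1) := rfl

@[simp] lemma specCone_pt : (specCone k K).pt = Spec (CommRingCat.of K) := rfl

@[simp] lemma specCone_π_app (A : FGSub k K) :
    (specCone k K).π.app (op A) = Spec.map (CommRingCat.ofHom A.1.val.toRingHom) := rfl

@[simp] lemma specDiag_map {A B : FGSub k K} (h : A ⟶ B) :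
    (specDiag k K).map h.op = Spec.map (CommRingCat.ofHom (Subalgebra.inclusion (leOfHom h)).toRingHom) :=
  rfl

instance {i j : (FGSub k K)ᵒᵖ} (f : i ⟶ j) : IsAffineHom ((specDiag k K).map f) := by
  change IsAffineHom (Spec.map _)
  infer_instance

end Groth.Agent.Lib.Helper26.FGSubLim
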