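import Mathlib
import Groth.Agent.Lib.Helper26.NbhdDescent

/-!
# Étale-local lifting of coprime factorizations (unit leading coefficient version) (helper26)
-/

set_option autoImplicit false
universe u v

namespace Groth.Agent.Lib.Helper26.FactorNbhd

open Polynomial Groth.Agent.Lib.Helper26.PairHensConstr
  Groth.Agent.Lib.Helper26.PairHensNbhd Groth.Agent.Lib.Helper26.PairHensOps
  Groth.Agent.Lib.Helper26.HenselTFAE Groth.Agent.Lib.Helper26.HenselIdem
  Groth.Agent.Lib.Helper26.NbhdDescent Groth.Agent.Lib.Helper3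

variable {A : Type u} [CommRing A] (I : Ideal A)

theorem map_mk_eq_of_map_eq {N' : Type u} [CommRing N'] [Algebra A N'] (hN' : QuotBij I N')
    (φ' : N' →ₐ[A] PH A I) (p' : N'[X]) (p : (A ⧸ I)[X])
    (h : (p'.map (φ' : N' →+* PH A I)).map
      (Ideal.Quotient.mk (I.map (algebraMap A (PH A I)))) = p.map (θ I)) :
    p'.map (Ideal.Quotient.mk (I.map (algebraMap A N'))) =
      p.map (Ideal.quotientMap (I.map (algebraMap A N')) (algebraMap A N')
        Ideal.le_comap_map) := by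
  ext k
  rw [Polynomial.coeff_map, Polynomial.coeff_map]
  obtain ⟨a, ha⟩ := Ideal.Quotient.mk_surjective (p.coeff k)
  rw [← ha, Ideal.quotientMap_mk, Ideal.Quotient.eq]
  apply mem_map_of_map_mem I hN' φ'
  rw [map_sub, AlgHom.commutes, ← Ideal.Quotient.eq, ← θ_mk, ha]
  have := congrArg (fun q => q.coeff k) h
  simp only [Polynomial.coeff_map] at this
  exact this

theorem exists_nbhd_factorization (f : A[X]) (hf : f.Monic) (g h : (A ⧸ I)[X])
    (hgh : f.map (Ideal.Quotient.mk I) = g * h) (hlead : IsUnit g.leadingCoeff)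
    (hcop : IsCoprime g h) :
    ∃ (A' : Type u) (_ : CommRing A') (_ : Algebra A A') (_ : Algebra.Etale A A'), QuotBij I A' ∧
      ∃ g' h' : A'[X], f.map (algebraMap A A') = g' * h' ∧
        g'.map (Ideal.Quotient.mk (I.map (algebraMap A A'))) =
          g.map (Ideal.quotientMap (I.map (algebraMap A A')) (algebraMap A A')
            Ideal.le_comap_map) ∧
        h'.map (Ideal.Quotient.mk (I.map (algebraMap A A'))) =
          h.map (Ideal.quotientMap (I.map (algebraMap A A')) (algebraMap A A')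
            Ideal.le_comap_map) := by
  classical
  obtain ⟨u, hu⟩ := hlead
  set v : A ⧸ I := ((u⁻¹ : (A ⧸ I)ˣ) : A ⧸ I) with hv
  have huv : (u : A ⧸ I) * v = 1 := by rw [hv]; exact Units.mul_inv u
  have hvu : v * g.leadingCoeff = 1 := by rw [← hu, hv]; exact Units.inv_mul u
  have hg₁m : (C v * g).Monic := Polynomial.monic_C_mul_of_mul_leadingCoeff_eq_one hvu
  have hprod : C v * g * (C (u : A ⧸ I) * h) = f.map (Ideal.Quotient.mk I) := by
    rw [hgh]
    have : C v * g * (C (u : A ⧸ I) * h) = C ((u : A ⧸ I) * v) * (g * h) := by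
      rw [C_mul]; ring
    rw [this, huv, C_1, one_mul]
  have hh₁m : (C (u : A ⧸ I) * h).Monic :=
    hg₁m.of_mul_monic_left (by rw [hprod]; exact hf.map _)
  have hcop₁ : IsCoprime (C v * g) (C (u : A ⧸ I) * h) := by
    have hCv : IsUnit (C v : (A ⧸ I)[X]) := Polynomial.isUnit_C.mpr ⟨u⁻¹, rfl⟩
    have hCu : IsUnit (C (u : A ⧸ I) : (A ⧸ I)[X]) := Polynomial.isUnit_C.mpr u.isUnit
    exact (isCoprime_mul_unit_left_left hCv _ _).mpr
      ((isCoprime_mul_unit_left_right hCu _ _).mpr hcop)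
  have hfH : (f.map (algebraMap A (PH A I))).map
      (Ideal.Quotient.mk (I.map (algebraMap A (PH A I))))
      = (C v * g).map (θ I) * (C (u : A ⧸ I) * h).map (θ I) := by
    have h1 : (Ideal.Quotient.mk (I.map (algebraMap A (PH A I)))).comp (algebraMap A (PH A I))
        = (θ I).comp (Ideal.Quotient.mk I) := by
      ext a
      simp [θ_mk]
    rw [Polynomial.map_map, h1, ← Polynomial.map_map, ← hprod, Polynomial.map_mul]
  have hcopH : IsCoprime ((C v * g).map (θ I)) ((C (u : A ⧸ I) * h).map (θ I)) :=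
    by
      obtain ⟨a, b, hab⟩ := hcop₁
      exact ⟨a.map (θ I), b.map (θ I), by
        rw [← Polynomial.map_mul, ← Polynomial.map_mul, ← Polynomial.map_add, hab,
          Polynomial.map_one]⟩
  obtain ⟨P, Q, hP, hQ, hPQ, hPmap, hQmap⟩ := liftsFactorizations_PH I _ (hf.map _)
    ((C v * g).map (θ I)) ((C (u : A ⧸ I) * h).map (θ I)) (hg₁m.map _) (hh₁m.map _) hcopH hfH
  obtain ⟨ũ, hũ⟩ := Ideal.Quotient.mk_surjective (θ I (u : A ⧸ I))
  have hũu : IsUnit ũ := by
    apply isUnit_of_isUnit_mk (map_le_jacobson_PH (A := A) (I := I))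
    rw [hũ]; exact (u.isUnit).map (θ I)
  obtain ⟨ũ', rfl⟩ := hũu
  have hGK : f.map (algebraMap A (PH A I))
      = C (ũ' : PH A I) * P * (C ((ũ'⁻¹ : (PH A I)ˣ) : PH A I) * Q) := by
    rw [hPQ]
    have : C (ũ' : PH A I) * P * (C ((ũ'⁻¹ : (PH A I)ˣ) : PH A I) * Q)
        = C ((ũ' : PH A I) * ((ũ'⁻¹ : (PH A I)ˣ) : PH A I)) * (P * Q) := by
      rw [C_mul]; ring
    rw [this, Units.mul_inv, C_1, one_mul]
  have hGmap : (C (ũ' : PH A I) * P).map (Ideal.Quotient.mk (I.map (algebraMap A (PH A I))))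
      = g.map (θ I) := by
    rw [Polynomial.map_mul, Polynomial.map_C, hũ, hPmap, Polynomial.map_mul, Polynomial.map_C,
      ← mul_assoc, ← C_mul, ← map_mul, huv, map_one, C_1, one_mul]
  have hKmap : (C ((ũ'⁻¹ : (PH A I)ˣ) : PH A I) * Q).map
      (Ideal.Quotient.mk (I.map (algebraMap A (PH A I)))) = h.map (θ I) := by
    rw [Polynomial.map_mul, Polynomial.map_C, hQmap, Polynomial.map_mul, Polynomial.map_C, ← hũ,
      ← mul_assoc, ← C_mul, ← map_mul, Units.inv_mul, map_one, C_1, one_mul]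
  obtain ⟨N, _, _, _, hN, φ, hφ⟩ := exists_nbhd_finset I
    ((C (ũ' : PH A I) * P).coeffs ∪ (C ((ũ'⁻¹ : (PH A I)ˣ) : PH A I) * Q).coeffs)
  obtain ⟨gN, hgN⟩ := exists_map_eq_of_coeffs I φ (C (ũ' : PH A I) * P)
    (fun x hx => hφ x (Finset.mem_union_left _ hx))
  obtain ⟨kN, hkN⟩ := exists_map_eq_of_coeffs I φ (C ((ũ'⁻¹ : (PH A I)ˣ) : PH A I) * Q)
    (fun x hx => hφ x (Finset.mem_union_right _ hx))
  have hφA : (φ : N →+* PH A I).comp (algebraMap A N) = algebraMap A (PH A I) :=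
    φ.comp_algebraMap
  have hzmap : (f.map (algebraMap A N) - gN * kN).map (φ : N →+* PH A I) = 0 := by
    rw [Polynomial.map_sub, Polynomial.map_mul, hgN, hkN, Polynomial.map_map, hφA, hGK, sub_self]
  obtain ⟨N', _, _, _, hN', ψ, φ', hφ'ψ, hψ⟩ := exists_nbhd_kill I hN φ
    (f.map (algebraMap A N) - gN * kN).coeffs (coeffs_map_eq_zero _ _ hzmap)
  have hzψ := map_eq_zero_of_coeffs (ψ : N →+* N') _ hψ
  have hψA : (ψ : N →+* N').comp (algebraMap A N) = algebraMap A N' := ψ.comp_algebraMap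
  rw [Polynomial.map_sub, Polynomial.map_mul, Polynomial.map_map, hψA, sub_eq_zero] at hzψ
  have hcomp : (φ' : N' →+* PH A I).comp (ψ : N →+* N') = (φ : N →+* PH A I) := by
    rw [← hφ'ψ]; rfl
  refine ⟨N', inferInstance, inferInstance, inferInstance, hN', gN.map (ψ : N →+* N'),
    kN.map (ψ : N →+* N'), hzψ, ?_, ?_⟩
  · apply map_mk_eq_of_map_eq I hN' φ'
    rw [Polynomial.map_map (ψ : N →+* N') (φ' : N' →+* PH A I), hcomp, hgN, hGmap]
  · apply map_mk_eq_of_map_eq I hN' φ'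
    rw [Polynomial.map_map (ψ : N →+* N') (φ' : N' →+* PH A I), hcomp, hkN, hKmap]

end Groth.Agent.Lib.Helper26.FactorNbhd
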