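import Groth.Agent.Lib.Helper26.FinAlg
import Mathlib.RingTheory.Idempotents

/-!
# The unique algebra section of `ev : A → (E → k)` for a finite-dimensional algebra over an
algebraically closed field.
-/

set_option autoImplicit false

universe u v

namespace Groth.Agent.Lib.Helper26.FinAlg

variable (k : Type u) [Field k] (A : Type v) [CommRing A] [Algebra k A]
variable [IsAlgClosed k] [Module.Finite k A]

theorem ker_ev_isNilpotent : ∀ x ∈ RingHom.ker ((ev k A : A →+* ((A →ₐ[k] k) → k))), IsNilpotent x := by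
  intro x hx
  have : x ∈ RingHom.ker (ev k A) := hx
  rw [ker_ev] at this
  exact mem_nilradical.1 this

/-- `A ⧸ nilradical A ≃ (E → k)` -/
noncomputable def evQuot : (A ⧸ nilradical A) ≃ₐ[k] ((A →ₐ[k] k) → k) :=
  (Ideal.quotientEquivAlgOfEq k (ker_ev k A).symm).trans
    (Ideal.quotientKerAlgEquivOfSurjective (ev_surjective (k := k) (A := A)))

theorem evQuot_mk (a : A) : evQuot k A (Ideal.Quotient.mk _ a) = ev k A a := rfl

open Classical in
/-- lifted idempotents -/
theorem exists_lift_idem :
    ∃ e' : (A →ₐ[k] k) → A, (letI : Fintype (A →ₐ[k] k) := Fintype.ofFinite _;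
      CompleteOrthogonalIdempotents e') ∧
      ∀ f, ev k A (e' f) = Pi.single f (1 : k) := by
  letI : Fintype (A →ₐ[k] k) := Fintype.ofFinite _
  obtain ⟨e', h1, h2⟩ := CompleteOrthogonalIdempotents.lift_of_isNilpotent_ker
    (ev k A : A →+* ((A →ₐ[k] k) → k)) (ker_ev_isNilpotent k A)
    (CompleteOrthogonalIdempotents.single (fun _ : (A →ₐ[k] k) => k))
    (fun i => by
      obtain ⟨a, ha⟩ := ev_surjective (k := k) (A := A) (Pi.single i (1 : k))
      exact ⟨a, ha⟩)
  exact ⟨e', h1, fun f => congrFun h2 f⟩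

open Classical in
theorem existsUnique_section_ev :
    ∃! s : ((A →ₐ[k] k) → k) →ₐ[k] A, (ev k A).comp s = AlgHom.id k _ := by
  letI : Fintype (A →ₐ[k] k) := Fintype.ofFinite _
  obtain ⟨e', he', hev⟩ := exists_lift_idem k A
  have hdec : ∀ g : (A →ₐ[k] k) → k, g = ∑ f : A →ₐ[k] k, g f • (Pi.single f (1 : k) : (A →ₐ[k] k) → k) := by
    intro g
    ext x
    simp [Finset.sum_apply, Pi.single_apply]
  let L : ((A →ₐ[k] k) → k) →ₗ[k] A :=
    { toFun := fun g => ∑ f : A →ₐ[k] k, g f • e' f
      map_add' := fun g h => by simp [add_smul, Finset.sum_add_distrib]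
      map_smul' := fun c g => by simp [mul_smul, Finset.smul_sum] }
  have hL1 : L 1 = 1 := by
    change ∑ f : A →ₐ[k] k, (1 : (A →ₐ[k] k) → k) f • e' f = 1
    simp only [Pi.one_apply, one_smul]
    exact he'.complete
  have hLmul : ∀ x y, L (x * y) = L x * L y := by
    intro x y
    change ∑ f : A →ₐ[k] k, (x * y) f • e' f = (∑ f : A →ₐ[k] k, x f • e' f) * (∑ f : A →ₐ[k] k, y f • e' f)
    rw [Finset.sum_mul_sum]
    symm
    calc ∑ i, ∑ j, x i • e' i * y j • e' j
        = ∑ i, x i • e' i * y i • e' i := by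
          refine Finset.sum_congr rfl (fun i _ => ?_)
          refine Finset.sum_eq_single i (fun j _ hj => ?_) (fun h => absurd (Finset.mem_univ _) h)
          rw [smul_mul_smul_comm, he'.ortho (Ne.symm hj), smul_zero]
      _ = ∑ f, (x * y) f • e' f := by
          refine Finset.sum_congr rfl (fun i _ => ?_)
          rw [smul_mul_smul_comm, (he'.idem i).eq, Pi.mul_apply]
  let s : ((A →ₐ[k] k) → k) →ₐ[k] A := AlgHom.ofLinearMap L hL1 hLmul
  have hs : ∀ g, s g = ∑ f : A →ₐ[k] k, g f • e' f := fun g => rfl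
  refine ⟨s, ?_, ?_⟩
  · ext g : 1
    change ev k A (s g) = g
    rw [hs, map_sum]
    conv_rhs => rw [hdec g]
    refine Finset.sum_congr rfl (fun f _ => ?_)
    rw [map_smul, hev]
  · intro s' hs'
    have hsec : ∀ g, ev k A (s' g) = g := fun g => congrArg (fun t => t g) hs'
    have hidem : ∀ f, s' (Pi.single f (1 : k)) = e' f := by
      intro f
      refine eq_of_isNilpotent_sub_of_isIdempotentElem ?_ (he'.idem f) ?_
      · have hi : IsIdempotentElem (Pi.single f (1 : k) : (A →ₐ[k] k) → k) :=
          (CompleteOrthogonalIdempotents.single (fun _ : (A →ₐ[k] k) => k)).idem f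
        exact hi.map s'
      · apply ker_ev_isNilpotent k A
        rw [RingHom.mem_ker, map_sub]
        change ev k A (s' _) - ev k A (e' f) = 0
        rw [hsec, hev, sub_self]
    ext g : 1
    conv_lhs => rw [hdec g]
    rw [map_sum, hs]
    refine Finset.sum_congr rfl (fun f _ => ?_)
    rw [map_smul, hidem]

end Groth.Agent.Lib.Helper26.FinAlg
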