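import Groth.Agent.Lib.Helper26.FinFlatPurity

/-!
# Purity of the branch locus for finite flat morphisms (scheme level)

A finite flat morphism `π : Y ⟶ X` to a locally Noetherian scheme which is étale over an open `U`
whose complement has codimension `≥ 2` is étale.
-/

set_option autoImplicit false
set_option linter.style.haveILetI false
set_option linter.unusedSectionVars false
universe u
open CategoryTheory CategoryTheory.Limits AlgebraicGeometry TensorProduct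

namespace Groth.Agent.Lib.Helper26.FinFlatPuritySch

open Groth.Agent.Lib.Helper26

/-- If `π` is étale over `U`, sections over affine opens inside `U` give étale ring maps. -/
theorem etale_app_of_etale_restrict {X Y : Scheme.{u}} (π : Y ⟶ X) [IsAffineHom π]
    (U : X.Opens) [Etale (π ∣_ U)] (D : X.Opens) (hD : IsAffineOpen D) (hDU : D ≤ U) :
    (π.app D).hom.Etale := by
  haveI : IsAffineHom (π ∣_ U) :=
    IsZariskiLocalAtTarget.restrict (P := @IsAffineHom) inferInstance U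
  have hV' : IsAffineOpen (U.ι ⁻¹ᵁ D) :=
    hD.preimage_of_isOpenImmersion U.ι (by rw [Scheme.Opens.opensRange_ι]; exact hDU)
  have hW' : IsAffineOpen ((π ∣_ U) ⁻¹ᵁ (U.ι ⁻¹ᵁ D)) := hV'.preimage (π ∣_ U)
  have h := Etale.etale_appLE (π ∣_ U) hV' hW' le_rfl
  rw [morphismRestrict_appLE] at h
  have e1 : U.ι ''ᵁ (U.ι ⁻¹ᵁ D) = D := by
    rw [U.ι.image_preimage_eq_opensRange_inf, Scheme.Opens.opensRange_ι]
    exact inf_eq_right.mpr hDU
  have e2 : (π ⁻¹ᵁ U).ι ''ᵁ ((π ∣_ U) ⁻¹ᵁ (U.ι ⁻¹ᵁ D)) = π ⁻¹ᵁ D := by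
    rw [image_morphismRestrict_preimage, e1]
  rw [Scheme.Hom.app_eq_appLE]
  exact (Scheme.Hom.appLE_congr (f := π) _ e1 e2 (fun φ => φ.hom.Etale)).mp h

/-- An affine morphism all of whose section maps over affine opens are étale is étale. -/
theorem etale_of_app {X Y : Scheme.{u}} (π : Y ⟶ X) [IsAffineHom π]
    (h : ∀ V : X.affineOpens, (π.app V.1).hom.Etale) : Etale π := by
  rw [IsZariskiLocalAtTarget.iff_of_iSup_eq_top (P := @Etale) (fun V : X.affineOpens => V.1)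
    (iSup_affineOpens_eq_top X)]
  intro V
  haveI : IsAffine (V.1 : Scheme.{u}) := V.2
  haveI : IsAffine (π ⁻¹ᵁ V.1 : Scheme.{u}) := V.2.preimage π
  rw [HasRingHomProperty.iff_of_isAffine (P := @Etale)]
  have h1 := h V
  rw [Scheme.Hom.app_eq_appLE] at h1
  have e1 : V.1.ι ''ᵁ ⊤ = V.1 := Scheme.Opens.ι_image_top V.1
  have e2 : (π ⁻¹ᵁ V.1).ι ''ᵁ ((π ∣_ V.1) ⁻¹ᵁ ⊤) = π ⁻¹ᵁ V.1 := by
    rw [image_morphismRestrict_preimage, e1]
  have h2 := (Scheme.Hom.appLE_congr (f := π) _ e1.symm e2.symm (fun φ => φ.hom.Etale)).mp h1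
  rw [← morphismRestrict_appLE π V.1 ⊤ ((π ∣_ V.1) ⁻¹ᵁ ⊤) le_rfl] at h2
  rw [Scheme.Hom.appTop, Scheme.Hom.app_eq_appLE]
  exact h2

/-- **Purity for finite flat morphisms.** -/
theorem etale_of_finite_flat_of_codim_two {X Y : Scheme.{u}} [IsLocallyNoetherian X] (π : Y ⟶ X)
    [IsFinite π] [Flat π] (U : X.Opens)
    (hU : ∀ x : X, x ∉ U → (2 : WithBot ℕ∞) ≤ ringKrullDim (X.presheaf.stalk x))
    [Etale (π ∣_ U)] : Etale π := by
  apply etale_of_app
  rintro ⟨V, hV⟩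
  show (π.app V).hom.Etale
  have hW : IsAffineOpen (π ⁻¹ᵁ V) := hV.preimage π
  letI : Algebra Γ(X, V) Γ(Y, π ⁻¹ᵁ V) := (π.app V).hom.toAlgebra
  haveI : IsNoetherianRing Γ(X, V) := IsLocallyNoetherian.component_noetherian ⟨V, hV⟩
  haveI : Module.Finite Γ(X, V) Γ(Y, π ⁻¹ᵁ V) := IsFinite.finite_app π V hV
  haveI : Module.Flat Γ(X, V) Γ(Y, π ⁻¹ᵁ V) := by
    have := Flat.flat_appLE π hV hW le_rfl
    rw [← Scheme.Hom.app_eq_appLE] at this
    exact this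
  show Algebra.Etale Γ(X, V) Γ(Y, π ⁻¹ᵁ V)
  apply FinFlatPurity.etale_of_finite_flat_of_height_le_one
  intro p _ hp
  set y : PrimeSpectrum Γ(X, V) := ⟨p, inferInstance⟩ with hy
  have hyV : hV.fromSpec y ∈ V := by
    have : hV.fromSpec y ∈ Set.range hV.fromSpec := ⟨y, rfl⟩
    rw [hV.range_fromSpec] at this
    exact this
  have hyU : hV.fromSpec y ∈ U := by
    by_contra hcon
    have hdim := hU _ hcon
    have hloc := hV.isLocalization_stalk' y hyV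
    have h2 := @IsLocalization.AtPrime.ringKrullDim_eq_height _ _ y.asIdeal _
      (X.presheaf.stalk (hV.fromSpec y)) _
      (TopCat.Presheaf.algebra_section_stalk X.presheaf ⟨hV.fromSpec y, hyV⟩) hloc
    rw [h2] at hdim
    have h3 : ((2 : ℕ∞) : WithBot ℕ∞) ≤ ((y.asIdeal.height : ℕ∞) : WithBot ℕ∞) := hdim
    have h4 : (2 : ℕ∞) ≤ p.height := WithBot.coe_le_coe.mp h3
    exact absurd (h4.trans hp) (by norm_num)
  obtain ⟨g, hgU, hxg⟩ := hV.exists_basicOpen_le (V := U) ⟨hV.fromSpec y, hyU⟩ hyV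
  have hgp : g ∉ p := by
    have h1 : y ∈ hV.fromSpec ⁻¹ᵁ X.basicOpen g := hxg
    rw [hV.fromSpec_preimage_basicOpen] at h1
    exact h1
  have hD : IsAffineOpen (X.basicOpen g) := hV.basicOpen g
  have hEt := etale_app_of_etale_restrict π U (X.basicOpen g) hD hgU
  letI : Algebra Γ(Y, π ⁻¹ᵁ V) Γ(Y, π ⁻¹ᵁ X.basicOpen g) :=
    (Y.presheaf.map (homOfLE (π.preimage_mono (X.basicOpen_le g))).op).hom.toAlgebra
  letI : Algebra Γ(X, X.basicOpen g) Γ(Y, π ⁻¹ᵁ X.basicOpen g) :=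
    (π.app (X.basicOpen g)).hom.toAlgebra
  letI : Algebra Γ(X, V) Γ(Y, π ⁻¹ᵁ X.basicOpen g) :=
    ((algebraMap Γ(X, X.basicOpen g) Γ(Y, π ⁻¹ᵁ X.basicOpen g)).comp
      (algebraMap Γ(X, V) Γ(X, X.basicOpen g))).toAlgebra
  haveI : IsScalarTower Γ(X, V) Γ(X, X.basicOpen g) Γ(Y, π ⁻¹ᵁ X.basicOpen g) :=
    IsScalarTower.of_algebraMap_eq' rfl
  haveI : IsScalarTower Γ(X, V) Γ(Y, π ⁻¹ᵁ V) Γ(Y, π ⁻¹ᵁ X.basicOpen g) :=
    IsScalarTower.of_algebraMap_eq (fun a => by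
      have := π.naturality (homOfLE (X.basicOpen_le g)).op
      exact congrArg (fun φ => φ.hom a) this)
  haveI : IsLocalization.Away g Γ(X, X.basicOpen g) := hV.isLocalization_basicOpen g
  haveI : IsLocalization.Away (algebraMap Γ(X, V) Γ(Y, π ⁻¹ᵁ V) g)
      Γ(Y, π ⁻¹ᵁ X.basicOpen g) :=
    hW.isLocalization_of_eq_basicOpen _ (homOfLE (π.preimage_mono (X.basicOpen_le g)))
      (Scheme.preimage_basicOpen π g)
  haveI : Algebra.Etale Γ(X, X.basicOpen g) Γ(Y, π ⁻¹ᵁ X.basicOpen g) := hEt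
  exact FinFlatPurity.etale_atPrime_of_away Γ(X, V) Γ(Y, π ⁻¹ᵁ V) g Γ(X, X.basicOpen g)
    Γ(Y, π ⁻¹ᵁ X.basicOpen g) p hgp

end Groth.Agent.Lib.Helper26.FinFlatPuritySch
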