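import Mathlib
import Groth.Prelude.Def_ArtFun6
import Groth.Prelude.Def_KLin
import Groth.Prelude.Def_ClSub2
import Groth.Agent.Lib.Helper24.KSCoh
import Groth.Agent.Lib.Helper26.RefShQ
import Groth.Agent.Lib.Helper1.FFSupp
import Groth.Agent.Lib.Helper1.PushInt
import Groth.Agent.Lib.Helper1.MaxAnnInt
import Groth.Agent.Lib.Helper8.ProperAtDvr

/-!
# `Hom(I₀, O/I₀)` is finite-dimensional when `V(I₀)` is projective (helper18's request G1)
-/

set_option autoImplicit false
universe u
open CategoryTheory CategoryTheory.Limits AlgebraicGeometry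

namespace Groth.Agent.Lib.Helper26.FinHomIQ

open Groth.Agent.Lib.Helper26.RefSh

variable {Y : Scheme.{u}}

/-- the support of a sheaf Hom out of a finitely presented module is contained in the support of
the target. -/
theorem support_homSh_subset (F G : Y.Modules) (hF : CohB1.IsFP F) :
    CohB1.support (RefHull.homSh F G) ⊆ CohB1.support G := by
  intro x hx hG
  apply hx
  haveI : Subsingleton (G.presheaf.stalk x) := hG
  haveI : Subsingleton (RefHull.StalkHom F G x) :=
    ⟨fun a b => LinearMap.ext fun v => Subsingleton.elim _ _⟩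
  exact (stalkEquiv F G hF x).injective.subsingleton

/-- a closed subset of a closed subscheme which is proper over the base is proper over the base. -/
theorem isProperOver_of_subset {S : Scheme.{u}} (y : Y ⟶ S) (I₀ : Y.IdealSheafData)
    (hI : IsProper (I₀.subschemeι ≫ y)) (Z : Set Y) (hZc : IsClosed Z)
    (hZ : Z ⊆ (I₀.support : Set Y)) : ClSub.IsProperOver y Z := by
  refine ⟨hZc, ?_⟩
  have hle : I₀ ≤ Scheme.IdealSheafData.vanishingIdeal ⟨Z, hZc⟩ :=
    Scheme.IdealSheafData.le_support_iff_le_vanishingIdeal.mp hZ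
  have hfac : Scheme.IdealSheafData.inclusion hle ≫ I₀.subschemeι =
      (Scheme.IdealSheafData.vanishingIdeal ⟨Z, hZc⟩).subschemeι :=
    Scheme.IdealSheafData.inclusion_subschemeι hle
  rw [← hfac, Category.assoc]
  infer_instance

/-- (G1) `Hom(I₀, O/I₀)` is finite-dimensional when `V(I₀)` is projective. -/
theorem finite_hom_idealMod_quotMod {k : Type u} [Field k] (Y : Scheme.{u})
    (y : Y ⟶ Spec (CommRingCat.of k)) [LocallyOfFiniteType y] [IsSeparated y] [QuasiCompact y]
    (I₀ : Y.IdealSheafData)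
    (hproj : ∃ (n : ℕ) (c : I₀.subscheme ⟶ CohB1.ProjSpaceOver n (Spec (CommRingCat.of k))),
      IsClosedImmersion c ∧
        c ≫ CohB1.ProjSpaceOver.toBase n (Spec (CommRingCat.of k)) = I₀.subschemeι ≫ y) :
    letI : Y.Over (Spec (CommRingCat.of k)) := ⟨y⟩
    Module.Finite k (ClSub.idealMod I₀ ⟶ ClSub.quotMod I₀) := by
  letI : Y.Over (Spec (CommRingCat.of k)) := ⟨y⟩
  haveI : LocallyOfFiniteType (Y ↘ Spec (CommRingCat.of k)) := ‹LocallyOfFiniteType y›
  haveI : IsLocallyNoetherian Y := LocallyOfFiniteType.isLocallyNoetherian y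
  haveI : IsLocallyNoetherian I₀.subscheme :=
    LocallyOfFiniteType.isLocallyNoetherian I₀.subschemeι
  have hF : Coh.IsCoh (ClSub.idealMod I₀) := isCoh_idealMod I₀
  have hO : Coh.IsCoh (Coh.structureModule I₀.subscheme) := isCoh_structureModule _
  have hG : Coh.IsCoh (ClSub.quotMod I₀) :=
    Groth.Agent.Lib.Helper1.PushInt.isCoh_push I₀ _ hO
  have hH : Coh.IsCoh (RefHull.homSh (ClSub.idealMod I₀) (ClSub.quotMod I₀)) :=
    isCoh_homSh _ _ hF hG
  haveI := hH.1
  haveI := hH.2
  have hsupp : CohB1.support (RefHull.homSh (ClSub.idealMod I₀) (ClSub.quotMod I₀)) ⊆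
      (I₀.support : Set Y) :=
    (support_homSh_subset _ _ (isFP_of_isCoh' hF)).trans
      (Groth.Agent.Lib.Helper1.PushInt.support_push_subset I₀ _ hO)
  have hIprop : IsProper (I₀.subschemeι ≫ y) := by
    obtain ⟨n, c, hc, hcy⟩ := hproj
    haveI := hc
    haveI := Groth.Agent.Lib.Helper8.ProperAtDvr.isProper_toBase n (Spec (CommRingCat.of k))
    rw [← hcy]
    infer_instance
  have hprop : ClSub.IsProperOver (Y ↘ Spec (CommRingCat.of k))
      (CohB1.support (RefHull.homSh (ClSub.idealMod I₀) (ClSub.quotMod I₀))) :=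
    isProperOver_of_subset y I₀ hIprop _
      (Groth.Agent.Lib.Helper1.MaxAnnInt.isClosed_support _) hsupp
  haveI : Module.Finite k (Coh.HH Y (RefHull.homSh (ClSub.idealMod I₀) (ClSub.quotMod I₀)) 0) :=
    Groth.Agent.Lib.Helper1.FFSupp.finite_HH_of_properSupport k _ hH hprop 0
  exact Module.Finite.of_injective
    (Groth.Agent.Lib.Helper24.KSCoh.homToH0 k (ClSub.idealMod I₀) (ClSub.quotMod I₀))
    (Groth.Agent.Lib.Helper24.KSCoh.homToH0_injective k _ _)

end Groth.Agent.Lib.Helper26.FinHomIQ
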