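import Groth.Agent.Lib.Helper26.FinPush
import Mathlib

/-!
# Pushforward along an affine morphism and coproducts (helper26)
-/

set_option autoImplicit false
set_option linter.style.haveILetI false
universe u
open CategoryTheory CategoryTheory.Limits AlgebraicGeometry Opposite TopologicalSpace

namespace Groth.Agent.Lib.Helper26.FinPush

open Groth.Agent.Lib.Helper3 Groth.Agent.Lib.Helper17 Groth.Agent.Lib.Helper13
open Scheme.Modules

variable {X Y : Scheme.{u}}

/-- the comparison map `∐ f_* F_k ⟶ f_* (∐ F_k)` is an epimorphism for `f` affine -/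
theorem epi_sigma_comparison (f : X ⟶ Y) [IsAffineHom f] {κ : Type u} (F : κ → X.Modules)
    [∀ k, (F k).IsQuasicoherent] :
    Epi (Sigma.desc (fun k => (pushforward f).map (Sigma.ι F k)) :
      (∐ fun k => (pushforward f).obj (F k)) ⟶ (pushforward f).obj (∐ F)) := by
  haveI : (∐ F : X.Modules).IsQuasicoherent := QCLim.isQuasicoherent_sigma F
  haveI : ((pushforward f).obj (∐ F)).IsQuasicoherent := QCSec.isQuasicoherent_pushforward f _
  apply QCExact.epi_of_surjective_on_affine_cover
  intro y
  obtain ⟨V, hV, hyV⟩ := QCProps.exists_affine_nbhd y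
  refine ⟨V, hV, hyV, ?_⟩
  intro s
  obtain ⟨S, t, ht⟩ := CoprodSec.exists_finset_sum F (hV.preimage f)
    (show Γ((∐ F : X.Modules), f ⁻¹ᵁ V) from s)
  refine ⟨∑ k ∈ S, (Sigma.ι (fun k => (pushforward f).obj (F k)) k).app V
    (show Γ((pushforward f).obj (F k), V) from t k), ?_⟩
  rw [map_sum]
  refine Eq.trans ?_ ht.symm
  refine Finset.sum_congr rfl (fun k _ => ?_)
  have h := congrArg (fun φ : (pushforward f).obj (F k) ⟶ (pushforward f).obj (∐ F) =>
    φ.app V (show Γ((pushforward f).obj (F k), V) from t k))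
    (Sigma.ι_desc (fun k => (pushforward f).map (Sigma.ι F k)) k)
  exact h

end Groth.Agent.Lib.Helper26.FinPush
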