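import Groth.Agent.Lib.Helper14.DepthTwoGlobal
import Mathlib

/-!
# Extension of morphisms of finite flat schemes across a locus of depth ≥ 2 (helper26)

Generalises helper14's `DepthTwoGlobal` from finite étale to finite flat source and arbitrary finite
target, with a gluing argument based on local uniqueness.
-/

set_option autoImplicit false

universe u

open AlgebraicGeometry CategoryTheory Opposite TopologicalSpace CategoryTheory.Limits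

namespace Groth.Agent.Lib.Helper26.FlatExt

open Groth.Agent.Lib.Helper14.DepthTwoSections Groth.Agent.Lib.Helper14.DepthTwoFEt
  Groth.Agent.Lib.Helper14.DepthTwoGlobal RingTheory.Sequence

variable {X Y Y' : Scheme.{u}} [IsLocallyNoetherian X] (π : Y ⟶ X) (π' : Y' ⟶ X)
  [IsFinite π] [Flat π] [IsFinite π'] (U : X.Opens)
  (hdepth : ∀ x : X, x ∉ U →
    (2 : ℕ∞) ≤ LocCoh.depth (X.presheaf.stalk x) (X.presheaf.stalk x))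

include hdepth in
theorem bijective_appTop (W : X.Opens) (hW : IsAffineOpen W) :
    Function.Bijective
      (Y.homOfLE (inf_le_left : π ⁻¹ᵁ W ⊓ π ⁻¹ᵁ U ≤ π ⁻¹ᵁ W)).appTop.hom := by
  have hT : IsAffineOpen (π ⁻¹ᵁ W) := hW.preimage π
  obtain ⟨a, b, hab, ha, hb⟩ := exists_regular_pair_affineOpen U hdepth hW
  have hfl : (π.app W).hom.Flat := by
    have := HasRingHomProperty.appLE (P := @Flat) π inferInstance ⟨W, hW⟩ ⟨π ⁻¹ᵁ W, hT⟩ le_rfl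
    rwa [← Scheme.Hom.app_eq_appLE] at this
  obtain ⟨hx, hy⟩ := pair_of_isWeaklyRegular (isWeaklyRegular_map_of_flat _ hfl hab)
  have hxU : Y.basicOpen (π.app W a) ≤ π ⁻¹ᵁ W ⊓ π ⁻¹ᵁ U := by
    rw [← Scheme.preimage_basicOpen]
    exact le_inf (fun p hp => X.basicOpen_le a hp) (fun p hp => ha hp)
  have hyU : Y.basicOpen (π.app W b) ≤ π ⁻¹ᵁ W ⊓ π ⁻¹ᵁ U := by
    rw [← Scheme.preimage_basicOpen]
    exact le_inf (fun p hp => X.basicOpen_le b hp) (fun p hp => hb hp)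
  have hbij0 := bijective_res_of_regular' hT (π ⁻¹ᵁ W ⊓ π ⁻¹ᵁ U) inf_le_left _ _ hx hy hxU hyU
  have : (Y.homOfLE (inf_le_left : π ⁻¹ᵁ W ⊓ π ⁻¹ᵁ U ≤ π ⁻¹ᵁ W)).appTop =
      Y.presheaf.map (homOfLE <| Y.ι_image_homOfLE_le_ι_image inf_le_left ⊤).op :=
    Scheme.homOfLE_appTop _
  rw [this]
  exact bijective_res_congr (Scheme.Opens.ι_image_top _).symm (Scheme.Opens.ι_image_top _).symm
    _ _ hbij0

variable (h : ((π ⁻¹ᵁ U : Y.Opens) : Scheme.{u}) ⟶ Y')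

/-- `φW : π⁻¹W ⟶ Y'` is an `X`-morphism compatible with `h` on `π⁻¹(U)`. -/
def IsLocExt (W : X.Opens) (φW : ((π ⁻¹ᵁ W : Y.Opens) : Scheme.{u}) ⟶ Y') : Prop :=
  φW ≫ π' = (π ⁻¹ᵁ W).ι ≫ π ∧
    ∀ (Q : Scheme.{u}) (q₁ : Q ⟶ ((π ⁻¹ᵁ W : Y.Opens) : Scheme.{u}))
      (q₂ : Q ⟶ ((π ⁻¹ᵁ U : Y.Opens) : Scheme.{u})),
      q₁ ≫ (π ⁻¹ᵁ W).ι = q₂ ≫ (π ⁻¹ᵁ U).ι → q₁ ≫ φW = q₂ ≫ h

variable {π π' U h} in
theorem IsLocExt.restrict {W W'' : X.Opens} (hle : W'' ≤ W)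
    {φ : ((π ⁻¹ᵁ W : Y.Opens) : Scheme.{u}) ⟶ Y'} (hφ : IsLocExt π π' U h W φ) :
    IsLocExt π π' U h W'' (Y.homOfLE (π.preimage_mono hle) ≫ φ) := by
  refine ⟨?_, ?_⟩
  · rw [Category.assoc, hφ.1, ← Category.assoc, Scheme.homOfLE_ι]
  · intro Q q₁ q₂ hq
    have := hφ.2 Q (q₁ ≫ Y.homOfLE (π.preimage_mono hle)) q₂
      (by rw [Category.assoc, Scheme.homOfLE_ι, hq])
    exact (Category.assoc _ _ _).symm.trans this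

include hdepth in
theorem local_unique (W : X.Opens) (hW : IsAffineOpen W)
    (φ φ' : ((π ⁻¹ᵁ W : Y.Opens) : Scheme.{u}) ⟶ Y')
    (hφ : IsLocExt π π' U h W φ) (hφ' : IsLocExt π π' U h W φ') : φ = φ' := by
  have hT' : IsAffineOpen (π' ⁻¹ᵁ W) := hW.preimage π'
  haveI : IsAffine ((π' ⁻¹ᵁ W : Y'.Opens) : Scheme.{u}) := hT'
  let j : ((π ⁻¹ᵁ W ⊓ π ⁻¹ᵁ U : Y.Opens) : Scheme.{u}) ⟶ ((π ⁻¹ᵁ W : Y.Opens) : Scheme.{u}) :=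
    Y.homOfLE inf_le_left
  let jV : ((π ⁻¹ᵁ W ⊓ π ⁻¹ᵁ U : Y.Opens) : Scheme.{u}) ⟶ ((π ⁻¹ᵁ U : Y.Opens) : Scheme.{u}) :=
    Y.homOfLE inf_le_right
  have hj : j ≫ (π ⁻¹ᵁ W).ι = jV ≫ (π ⁻¹ᵁ U).ι := by
    rw [Scheme.homOfLE_ι, Scheme.homOfLE_ι]
  have e1 : j ≫ φ = jV ≫ h := hφ.2 _ j jV hj
  have e2 : j ≫ φ' = jV ≫ h := hφ'.2 _ j jV hj
  have hr : ∀ a : ((π ⁻¹ᵁ W : Y.Opens) : Scheme.{u}) ⟶ Y', a ≫ π' = (π ⁻¹ᵁ W).ι ≫ π →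
      Set.range a.base ⊆ Set.range (π' ⁻¹ᵁ W).ι.base := by
    intro a ha
    rintro _ ⟨z, rfl⟩
    rw [Scheme.Opens.range_ι]
    show a.base z ∈ π' ⁻¹ᵁ W
    show π'.base (a.base z) ∈ W
    have h1 : π'.base (a.base z) = (a ≫ π').base z := by
      simp only [Scheme.Hom.comp_apply]
    rw [h1, ha]
    exact z.2
  let a' := IsOpenImmersion.lift (π' ⁻¹ᵁ W).ι φ (hr φ hφ.1)
  let b' := IsOpenImmersion.lift (π' ⁻¹ᵁ W).ι φ' (hr φ' hφ'.1)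
  have ha' : a' ≫ (π' ⁻¹ᵁ W).ι = φ := IsOpenImmersion.lift_fac _ _ _
  have hb' : b' ≫ (π' ⁻¹ᵁ W).ι = φ' := IsOpenImmersion.lift_fac _ _ _
  have hab : a' = b' := by
    apply extension_to_affine_unique j (bijective_appTop π U hdepth W hW).1
    rw [← cancel_mono (π' ⁻¹ᵁ W).ι, Category.assoc, Category.assoc, ha', hb', e1, e2]
  rw [← ha', ← hb', hab]

variable (hh : h ≫ π' = (π ⁻¹ᵁ U).ι ≫ π)

include hdepth hh in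
theorem exists_local_ext (W : X.Opens) (hW : IsAffineOpen W) :
    ∃ φW : ((π ⁻¹ᵁ W : Y.Opens) : Scheme.{u}) ⟶ Y', IsLocExt π π' U h W φW := by
  have hT : IsAffineOpen (π ⁻¹ᵁ W) := hW.preimage π
  have hT' : IsAffineOpen (π' ⁻¹ᵁ W) := hW.preimage π'
  haveI : IsAffine ((π ⁻¹ᵁ W : Y.Opens) : Scheme.{u}) := hT
  haveI : IsAffine ((π' ⁻¹ᵁ W : Y'.Opens) : Scheme.{u}) := hT'
  haveI : IsAffine (W : Scheme.{u}) := hW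
  let j : ((π ⁻¹ᵁ W ⊓ π ⁻¹ᵁ U : Y.Opens) : Scheme.{u}) ⟶ ((π ⁻¹ᵁ W : Y.Opens) : Scheme.{u}) :=
    Y.homOfLE inf_le_left
  let jV : ((π ⁻¹ᵁ W ⊓ π ⁻¹ᵁ U : Y.Opens) : Scheme.{u}) ⟶ ((π ⁻¹ᵁ U : Y.Opens) : Scheme.{u}) :=
    Y.homOfLE inf_le_right
  have hbij : Function.Bijective j.appTop.hom := bijective_appTop π U hdepth W hW
  have hrange : Set.range (jV ≫ h).base ⊆ Set.range (π' ⁻¹ᵁ W).ι.base := by
    rintro _ ⟨z, rfl⟩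
    rw [Scheme.Opens.range_ι]
    show (jV ≫ h).base z ∈ π' ⁻¹ᵁ W
    show π'.base ((jV ≫ h).base z) ∈ W
    have h1 : π'.base ((jV ≫ h).base z) = ((jV ≫ h) ≫ π').base z := by
      simp only [Scheme.Hom.comp_apply]
    rw [h1, Category.assoc, hh, ← Category.assoc, Scheme.homOfLE_ι]
    exact z.2.1
  let kW : ((π ⁻¹ᵁ W ⊓ π ⁻¹ᵁ U : Y.Opens) : Scheme.{u}) ⟶ ((π' ⁻¹ᵁ W : Y'.Opens) : Scheme.{u}) :=
    IsOpenImmersion.lift (π' ⁻¹ᵁ W).ι (jV ≫ h) hrange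
  have hkW : kW ≫ (π' ⁻¹ᵁ W).ι = jV ≫ h := IsOpenImmersion.lift_fac _ _ _
  obtain ⟨φb, hφb⟩ := exists_extension_to_affine j hbij kW
  refine ⟨φb ≫ (π' ⁻¹ᵁ W).ι, ?_, ?_⟩
  · have h1 : φb ≫ (π' ∣_ W) = (π ∣_ W) := by
      apply extension_to_affine_unique j hbij.1
      rw [← cancel_mono W.ι]
      simp only [Category.assoc]
      rw [morphismRestrict_ι, morphismRestrict_ι, ← Category.assoc, hφb, ← Category.assoc, hkW,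
        Category.assoc, hh, ← Category.assoc, Scheme.homOfLE_ι, ← Category.assoc,
        Scheme.homOfLE_ι]
    rw [Category.assoc, ← morphismRestrict_ι, ← Category.assoc, h1, morphismRestrict_ι]
  · intro Q q₁ q₂ hq
    have hr : Set.range (q₁ ≫ (π ⁻¹ᵁ W).ι).base ⊆ Set.range (π ⁻¹ᵁ W ⊓ π ⁻¹ᵁ U).ι.base := by
      rintro _ ⟨z, rfl⟩
      rw [Scheme.Opens.range_ι]
      refine ⟨?_, ?_⟩
      · rw [Scheme.Hom.comp_apply]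
        exact (q₁.base z).2
      · rw [hq, Scheme.Hom.comp_apply]
        exact (q₂.base z).2
    let l : Q ⟶ ((π ⁻¹ᵁ W ⊓ π ⁻¹ᵁ U : Y.Opens) : Scheme.{u}) :=
      IsOpenImmersion.lift (π ⁻¹ᵁ W ⊓ π ⁻¹ᵁ U).ι (q₁ ≫ (π ⁻¹ᵁ W).ι) hr
    have hl : l ≫ (π ⁻¹ᵁ W ⊓ π ⁻¹ᵁ U).ι = q₁ ≫ (π ⁻¹ᵁ W).ι := IsOpenImmersion.lift_fac _ _ _
    have hl1 : l ≫ j = q₁ := by
      rw [← cancel_mono (π ⁻¹ᵁ W).ι, Category.assoc, Scheme.homOfLE_ι, hl]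
    have hl2 : l ≫ jV = q₂ := by
      rw [← cancel_mono (π ⁻¹ᵁ U).ι, Category.assoc, Scheme.homOfLE_ι, hl, hq]
    rw [← hl1, ← hl2, Category.assoc, Category.assoc, ← Category.assoc j, hφb, hkW]

include hdepth hh in
theorem existsUnique_extension :
    ∃! φ : Y ⟶ Y', φ ≫ π' = π ∧ (π ⁻¹ᵁ U).ι ≫ φ = h := by
  choose φW hφW using fun W : X.affineOpens =>
    exists_local_ext π π' U hdepth h hh W.1 W.2
  let 𝒰 : Y.OpenCover := Y.openCoverOfIsOpenCover (fun W : X.affineOpens => π ⁻¹ᵁ W.1)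
    (.comap (iSup_affineOpens_eq_top X) π.base.hom)
  have hcompat : ∀ W W' : X.affineOpens,
      pullback.fst (𝒰.f W) (𝒰.f W') ≫ φW W = pullback.snd (𝒰.f W) (𝒰.f W') ≫ φW W' := by
    intro W W'
    let g : pullback (𝒰.f W) (𝒰.f W') ⟶ X :=
      pullback.fst (𝒰.f W) (𝒰.f W') ≫ (π ⁻¹ᵁ W.1).ι ≫ π
    have hg' : g = pullback.snd (𝒰.f W) (𝒰.f W') ≫ (π ⁻¹ᵁ W'.1).ι ≫ π := by
      show pullback.fst (𝒰.f W) (𝒰.f W') ≫ (π ⁻¹ᵁ W.1).ι ≫ π = _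
      rw [← Category.assoc, ← Category.assoc]
      exact congrArg (fun t => t ≫ π) (pullback.condition (f := 𝒰.f W) (g := 𝒰.f W'))
    let I := {W'' : X.affineOpens // W''.1 ≤ W.1 ⊓ W'.1}
    have hcov : IsOpenCover (fun W'' : I => g ⁻¹ᵁ W''.1.1) := by
      refine IsOpenCover.mk (eq_top_iff.mpr (fun p _ => Opens.mem_iSup.mpr ?_))
      have hx1 : g.base p ∈ W.1 := ((pullback.fst (𝒰.f W) (𝒰.f W')).base p).2
      have hx2 : g.base p ∈ W'.1 := by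
        rw [hg']
        exact ((pullback.snd (𝒰.f W) (𝒰.f W')).base p).2
      obtain ⟨W₀, hW₀, hxW₀, hle⟩ := Opens.isBasis_iff_nbhd.mp X.isBasis_affineOpens
        (show g.base p ∈ W.1 ⊓ W'.1 from ⟨hx1, hx2⟩)
      exact ⟨⟨⟨W₀, hW₀⟩, hle⟩, hxW₀⟩
    apply Scheme.Cover.hom_ext ((pullback (𝒰.f W) (𝒰.f W')).openCoverOfIsOpenCover _ hcov)
    rintro ⟨W'', hW''⟩
    have le1 : W''.1 ≤ W.1 := hW''.trans inf_le_left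
    have le2 : W''.1 ≤ W'.1 := hW''.trans inf_le_right
    show (g ⁻¹ᵁ W''.1).ι ≫ pullback.fst (𝒰.f W) (𝒰.f W') ≫ φW W =
      (g ⁻¹ᵁ W''.1).ι ≫ pullback.snd (𝒰.f W) (𝒰.f W') ≫ φW W'
    have hr : Set.range ((g ⁻¹ᵁ W''.1).ι ≫ pullback.fst (𝒰.f W) (𝒰.f W') ≫
        (π ⁻¹ᵁ W.1).ι).base ⊆ Set.range (π ⁻¹ᵁ W''.1).ι.base := by
      rintro _ ⟨z, rfl⟩
      rw [Scheme.Opens.range_ι]
      exact z.2
    let q₁ : ((g ⁻¹ᵁ W''.1 : (pullback (𝒰.f W) (𝒰.f W')).Opens) : Scheme.{u}) ⟶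
        ((π ⁻¹ᵁ W''.1 : Y.Opens) : Scheme.{u}) :=
      IsOpenImmersion.lift (π ⁻¹ᵁ W''.1).ι
        ((g ⁻¹ᵁ W''.1).ι ≫ pullback.fst (𝒰.f W) (𝒰.f W') ≫ (π ⁻¹ᵁ W.1).ι) hr
    have hq₁ : q₁ ≫ (π ⁻¹ᵁ W''.1).ι =
        (g ⁻¹ᵁ W''.1).ι ≫ pullback.fst (𝒰.f W) (𝒰.f W') ≫ (π ⁻¹ᵁ W.1).ι :=
      IsOpenImmersion.lift_fac _ _ _
    have k1 : (g ⁻¹ᵁ W''.1).ι ≫ pullback.fst (𝒰.f W) (𝒰.f W') =
        q₁ ≫ Y.homOfLE (π.preimage_mono le1) := by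
      refine (cancel_mono (π ⁻¹ᵁ W.1).ι).1 ?_
      exact (Category.assoc _ _ _).trans (hq₁.symm.trans
        ((congrArg (fun t => q₁ ≫ t) (Scheme.homOfLE_ι Y (π.preimage_mono le1)).symm).trans
          (Category.assoc _ _ _).symm))
    have k2 : (g ⁻¹ᵁ W''.1).ι ≫ pullback.snd (𝒰.f W) (𝒰.f W') =
        q₁ ≫ Y.homOfLE (π.preimage_mono le2) := by
      refine (cancel_mono (π ⁻¹ᵁ W'.1).ι).1 ?_
      exact (Category.assoc _ _ _).trans ((congrArg (fun t => (g ⁻¹ᵁ W''.1).ι ≫ t)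
        (pullback.condition (f := 𝒰.f W) (g := 𝒰.f W')).symm).trans (hq₁.symm.trans
        ((congrArg (fun t => q₁ ≫ t) (Scheme.homOfLE_ι Y (π.preimage_mono le2)).symm).trans
          (Category.assoc _ _ _).symm)))
    have key : Y.homOfLE (π.preimage_mono le1) ≫ φW W =
        Y.homOfLE (π.preimage_mono le2) ≫ φW W' :=
      local_unique π π' U hdepth h W''.1 W''.2 _ _ ((hφW W).restrict le1) ((hφW W').restrict le2)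
    calc (g ⁻¹ᵁ W''.1).ι ≫ pullback.fst (𝒰.f W) (𝒰.f W') ≫ φW W
        = ((g ⁻¹ᵁ W''.1).ι ≫ pullback.fst (𝒰.f W) (𝒰.f W')) ≫ φW W :=
          (Category.assoc _ _ _).symm
      _ = (q₁ ≫ Y.homOfLE (π.preimage_mono le1)) ≫ φW W := congrArg (fun t => t ≫ φW W) k1
      _ = q₁ ≫ Y.homOfLE (π.preimage_mono le1) ≫ φW W := Category.assoc _ _ _
      _ = q₁ ≫ Y.homOfLE (π.preimage_mono le2) ≫ φW W' := congrArg (fun t => q₁ ≫ t) key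
      _ = (q₁ ≫ Y.homOfLE (π.preimage_mono le2)) ≫ φW W' := (Category.assoc _ _ _).symm
      _ = ((g ⁻¹ᵁ W''.1).ι ≫ pullback.snd (𝒰.f W) (𝒰.f W')) ≫ φW W' :=
          congrArg (fun t => t ≫ φW W') k2.symm
      _ = (g ⁻¹ᵁ W''.1).ι ≫ pullback.snd (𝒰.f W) (𝒰.f W') ≫ φW W' := Category.assoc _ _ _
  let φ := 𝒰.glueMorphisms φW hcompat
  have hφ : ∀ W, 𝒰.f W ≫ φ = φW W := 𝒰.ι_glueMorphisms _ _
  refine ⟨φ, ⟨?_, ?_⟩, ?_⟩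
  · apply 𝒰.hom_ext
    intro W
    exact ((Category.assoc _ _ _).symm.trans (congrArg (fun t => t ≫ π') (hφ W))).trans (hφW W).1
  · apply Scheme.Cover.hom_ext (𝒰.pullback₁ (π ⁻¹ᵁ U).ι)
    intro W
    show pullback.fst (π ⁻¹ᵁ U).ι (𝒰.f W) ≫ (π ⁻¹ᵁ U).ι ≫ φ =
      pullback.fst (π ⁻¹ᵁ U).ι (𝒰.f W) ≫ h
    have e1 := (hφW W).2 _ (pullback.snd (π ⁻¹ᵁ U).ι (𝒰.f W)) (pullback.fst (π ⁻¹ᵁ U).ι (𝒰.f W))
      (pullback.condition (f := (π ⁻¹ᵁ U).ι) (g := 𝒰.f W)).symm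
    calc pullback.fst (π ⁻¹ᵁ U).ι (𝒰.f W) ≫ (π ⁻¹ᵁ U).ι ≫ φ
        = (pullback.fst (π ⁻¹ᵁ U).ι (𝒰.f W) ≫ (π ⁻¹ᵁ U).ι) ≫ φ := (Category.assoc _ _ _).symm
      _ = (pullback.snd (π ⁻¹ᵁ U).ι (𝒰.f W) ≫ 𝒰.f W) ≫ φ := by rw [pullback.condition]
      _ = pullback.snd (π ⁻¹ᵁ U).ι (𝒰.f W) ≫ (𝒰.f W ≫ φ) := Category.assoc _ _ _
      _ = pullback.snd (π ⁻¹ᵁ U).ι (𝒰.f W) ≫ φW W :=
          congrArg (fun t => pullback.snd (π ⁻¹ᵁ U).ι (𝒰.f W) ≫ t) (hφ W)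
      _ = pullback.fst (π ⁻¹ᵁ U).ι (𝒰.f W) ≫ h := e1
  · rintro ψ ⟨hψ1, hψ2⟩
    apply 𝒰.hom_ext
    intro W
    rw [hφ W]
    refine local_unique π π' U hdepth h W.1 W.2 _ _ ⟨?_, ?_⟩ (hφW W)
    · show ((π ⁻¹ᵁ W.1).ι ≫ ψ) ≫ π' = _
      rw [Category.assoc, hψ1]
    · intro Q q₁ q₂ hq
      show q₁ ≫ (π ⁻¹ᵁ W.1).ι ≫ ψ = q₂ ≫ h
      rw [← Category.assoc, hq, Category.assoc, hψ2]

end Groth.Agent.Lib.Helper26.FlatExt
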