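import Mathlib

/-!
# Kernel of a surjection onto a flat algebra (helper26)

If `φ : H → B` is a surjective `A`-algebra map with `B` flat over `A`, then
`ker φ ∩ IH = I · ker φ` for every ideal `I` of `A`.
-/

set_option autoImplicit false

namespace Groth.Agent.Lib.Helper26.FlatKer

theorem mem_smul_ker_of_flat {A H B : Type*} [CommRing A] [CommRing H] [CommRing B]
    [Algebra A H] [Algebra A B] [Module.Flat A B] (I : Ideal A) (φ : H →ₐ[A] B)
    (hφ : Function.Surjective φ) {x : H} (hx : φ x = 0) (hxI : x ∈ I.map (algebraMap A H)) :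
    x ∈ (I.map (algebraMap A H)) • (RingHom.ker φ : Ideal H) := by
  classical
  have hx' : x ∈ I • (⊤ : Submodule A H) := by
    rw [Ideal.smul_top_eq_map]; exact hxI
  have htop : (⊤ : Submodule A H) = Submodule.span A (Set.range (id : H → H)) := by
    rw [Set.range_id, Submodule.span_univ]
  rw [htop, Submodule.mem_ideal_smul_span_iff_exists_sum] at hx'
  obtain ⟨a, ha, hax⟩ := hx'
  have hax' : x = ∑ h ∈ a.support, a h • h := by
    rw [← hax, Finsupp.sum]; rfl
  have hsum : ∑ i : a.support, (fun i : a.support => a i.1) i •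
      (fun i : a.support => φ i.1) i = 0 := by
    show ∑ i : a.support, a i.1 • φ i.1 = 0
    rw [Finset.sum_coe_sort a.support (fun h => a h • φ h)]
    have : φ x = ∑ h ∈ a.support, a h • φ h := by
      rw [hax', map_sum]
      simp
    rw [← this, hx]
  obtain ⟨k, c, y, hy1, hy2⟩ := Module.Flat.isTrivialRelation_of_sum_smul_eq_zero (R := A) (M := B)
    (f := fun i : a.support => a i.1) (x := fun i : a.support => φ i.1) hsum
  choose h' hh' using fun j => hφ (y j)
  have hk : ∀ i : a.support, i.1 - ∑ j, c i j • h' j ∈ RingHom.ker φ := by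
    intro i
    rw [RingHom.mem_ker, map_sub, map_sum]
    simp only [map_smul, hh']
    rw [← hy1 i, sub_self]
  have hxsum : x = ∑ i : a.support, a i.1 • (i.1 - ∑ j, c i j • h' j) := by
    have h1 : x = ∑ i : a.support, a i.1 • (i.1 : H) := by
      rw [Finset.sum_coe_sort a.support (fun h => a h • h)]; exact hax'
    have h2 : ∑ i : a.support, a i.1 • ∑ j, c i j • h' j = 0 := by
      simp_rw [Finset.smul_sum, smul_smul]
      rw [Finset.sum_comm]
      apply Finset.sum_eq_zero
      intro j _
      rw [← Finset.sum_smul, hy2 j, zero_smul]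
    simp_rw [smul_sub]
    rw [Finset.sum_sub_distrib, h2, sub_zero]
    exact h1
  rw [hxsum]
  apply Submodule.sum_mem
  intro i _
  have e : a i.1 • ((i.1 : H) - ∑ j, c i j • h' j) =
      algebraMap A H (a i.1) • ((i.1 : H) - ∑ j, c i j • h' j) := (algebraMap_smul H _ _).symm
  rw [e]
  exact Submodule.smul_mem_smul (Ideal.mem_map_of_mem (algebraMap A H) (ha i.1)) (hk i)

end Groth.Agent.Lib.Helper26.FlatKer
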