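import Mathlib
import Groth.Prelude.Def_EtMil

/-!
# Flatness of kernels, products; fibre squares of flat algebras (helper26)

* `flat_prod` : `M × N` is flat if `M`, `N` are.
* `flat_of_exact` : in `0 → M → N → P → 0` exact with `N`, `P` flat, `M` is flat.
* `FibreSq.gMap`, `FibreSq.fMap` : the exact sequence `0 → B' → B × A' → A → 0` of a fibre square
  (`EtMil.IsFibreSquare`) of `R`-algebras, with `gMap_injective`, `fMap_surjective`, `exact`.
-/

set_option autoImplicit false
set_option linter.unusedSectionVars false
universe u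
open TensorProduct

namespace Groth.Agent.Lib.Helper26.FlatKer

theorem flat_prod {R : Type u} [CommRing R] {M N : Type u} [AddCommGroup M] [AddCommGroup N]
    [Module R M] [Module R N] [Module.Flat R M] [Module.Flat R N] : Module.Flat R (M × N) := by
  rw [Module.Flat.iff_rTensor_preserves_injective_linearMap]
  intro X Y _ _ _ _ f hf
  have hcomm : (TensorProduct.prodRight R R Y M N).toLinearMap ∘ₗ f.rTensor (M × N) =
      (LinearMap.prodMap (f.rTensor M) (f.rTensor N)) ∘ₗ
        (TensorProduct.prodRight R R X M N).toLinearMap := by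
    apply TensorProduct.ext'
    intro x mn
    simp
  have hinj : Function.Injective ((LinearMap.prodMap (f.rTensor M) (f.rTensor N)) ∘ₗ
        (TensorProduct.prodRight R R X M N).toLinearMap) := by
    rw [LinearMap.coe_comp]
    refine Function.Injective.comp ?_ (TensorProduct.prodRight R R X M N).injective
    exact Function.Injective.prodMap
      (Module.Flat.rTensor_preserves_injective_linearMap f hf)
      (Module.Flat.rTensor_preserves_injective_linearMap f hf)
  rw [← hcomm, LinearMap.coe_comp] at hinj
  exact Function.Injective.of_comp hinj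

theorem flat_of_exact {R : Type u} [CommRing R] {M N P : Type u} [AddCommGroup M] [AddCommGroup N]
    [AddCommGroup P] [Module R M] [Module R N] [Module R P] [Module.Flat R N] [Module.Flat R P]
    (g : M →ₗ[R] N) (f : N →ₗ[R] P) (hg : Function.Injective g) (hf : Function.Surjective f)
    (H : Function.Exact g f) : Module.Flat R M := by
  rw [Module.Flat.iff_rTensor_preserves_injective_linearMap]
  intro X Y _ _ _ _ i hi
  have hcomm : (i.rTensor N) ∘ₗ (g.lTensor X) = (g.lTensor Y) ∘ₗ (i.rTensor M) := by
    apply TensorProduct.ext'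
    intro x m
    simp
  have hinj : Function.Injective ((i.rTensor N) ∘ₗ (g.lTensor X)) := by
    rw [LinearMap.coe_comp]
    exact (Module.Flat.rTensor_preserves_injective_linearMap i hi).comp
      (LinearMap.lTensor_injective_of_exact_of_flat f hf g hg H X)
  rw [hcomm, LinearMap.coe_comp] at hinj
  exact Function.Injective.of_comp hinj

namespace FibreSq

variable (R B' B A' A : Type u) [CommRing R] [CommRing B'] [CommRing B] [CommRing A'] [CommRing A]
    [Algebra B' B] [Algebra B' A'] [Algebra B A] [Algebra A' A] [Algebra B' A]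
    [IsScalarTower B' B A] [IsScalarTower B' A' A]
    [Algebra R B'] [Algebra R B] [Algebra R A'] [Algebra R A]
    [IsScalarTower R B' B] [IsScalarTower R B' A'] [IsScalarTower R B' A] [IsScalarTower R B A]
    [IsScalarTower R A' A]

/-- `B' → B × A'`. -/
noncomputable def gMap : B' →ₗ[R] B × A' :=
  (IsScalarTower.toAlgHom R B' B).toLinearMap.prod (IsScalarTower.toAlgHom R B' A').toLinearMap

/-- `B × A' → A`, `(b, a') ↦ b - a'`. -/
noncomputable def fMap : B × A' →ₗ[R] A :=
  (IsScalarTower.toAlgHom R B A).toLinearMap.coprod (-(IsScalarTower.toAlgHom R A' A).toLinearMap)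

@[simp] lemma gMap_apply (x : B') :
    gMap R B' B A' x = (algebraMap B' B x, algebraMap B' A' x) := rfl

@[simp] lemma fMap_apply (x : B × A') :
    fMap R B A' A x = algebraMap B A x.1 - algebraMap A' A x.2 := by
  simp [fMap, sub_eq_add_neg]

variable {B' B A' A}

lemma gMap_injective (hsq : EtMil.IsFibreSquare B' B A' A) :
    Function.Injective (gMap R B' B A') := by
  intro x y hxy
  simp only [gMap_apply, Prod.mk.injEq] at hxy
  have hc : algebraMap B A (algebraMap B' B x) = algebraMap A' A (algebraMap B' A' x) := by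
    rw [← IsScalarTower.algebraMap_apply, ← IsScalarTower.algebraMap_apply]
  obtain ⟨z, -, hz⟩ := hsq.2 _ _ hc
  rw [hz x ⟨rfl, rfl⟩, hz y ⟨hxy.1.symm, hxy.2.symm⟩]

lemma fMap_surjective (hsq : EtMil.IsFibreSquare B' B A' A) :
    Function.Surjective (fMap R B A' A) := by
  intro a
  obtain ⟨a', ha'⟩ := hsq.1 (-a)
  exact ⟨(0, a'), by simp [ha']⟩

lemma exact (hsq : EtMil.IsFibreSquare B' B A' A) :
    Function.Exact (gMap R B' B A') (fMap R B A' A) := by
  intro x
  constructor
  · intro hx
    rw [fMap_apply, sub_eq_zero] at hx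
    obtain ⟨z, ⟨hz1, hz2⟩, -⟩ := hsq.2 _ _ hx
    exact ⟨z, by simp [hz1, hz2]⟩
  · rintro ⟨z, rfl⟩
    rw [fMap_apply, gMap_apply, sub_eq_zero, ← IsScalarTower.algebraMap_apply,
      ← IsScalarTower.algebraMap_apply]

end FibreSq

end Groth.Agent.Lib.Helper26.FlatKer
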