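import Mathlib
import Groth.Prelude.Def_Coh
import Groth.Prelude.Def_FlatMod2
import Groth.Agent.Lib.Helper3.QCSubSec
import Groth.Agent.Lib.Helper3.StalkLin
import Groth.Agent.Lib.Helper3.QcohStalk
import Groth.Agent.Lib.Helper3.FreeBasis
import Groth.Agent.Lib.Helper3.QCPush
import Groth.Agent.Lib.Helper3.QCLim
import Groth.Agent.Lib.Helper3.QCProps
import Groth.Agent.Lib.Helper3.QCExact
import Groth.Agent.Lib.Helper3.InvGen
import Groth.Agent.Lib.Helper1.GenCoverGeo
import Groth.Agent.Lib.Helper17.FittSheaf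
import Groth.Agent.Lib.Helper26.FinPush

/-!
# Coherent modules as quotients of torsion-free coherent modules (helper26)

On a Noetherian integral scheme `Y` in which the intersection of two affine opens is affine,
every coherent module `F` is a quotient of a coherent module all of whose stalks are torsion-free.

Construction: for a finite affine cover `U i` with inclusions `j i` (affine morphisms), choose
epimorphisms `O^{n i} ⟶ F|_{U i}`; then `F` embeds in `⨁ (j i)_* (F|_{U i})`, which is a quotient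
of the torsion-free module `⨁ (j i)_* O^{n i}`; the pullback `G` is a quasi-coherent submodule of
the latter surjecting onto `F`, and a suitable submodule of finite type of `G` still surjects.
-/

set_option autoImplicit false
set_option linter.style.haveILetI false
universe u
open CategoryTheory CategoryTheory.Limits AlgebraicGeometry TopologicalSpace Opposite
open Scheme.Modules

noncomputable section

namespace Groth.Agent.Lib.Helper26.TorsionFreeQuot

open Groth.Agent.Lib.Helper3 Groth.Agent.Lib.Helper17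

attribute [local instance] Abelian.hasFiniteBiproducts

variable {Y : Scheme.{u}}

/-- sectionwise torsion-freeness of a module -/
def SecTF (M : Y.Modules) : Prop :=
  ∀ (W : Y.Opens) (r : Γ(Y, W)) (s : Γ(M, W)), r • s = 0 → r = 0 ∨ s = 0

/-- a sectionwise torsion-free module has torsion-free stalks -/
theorem noZeroSMulDivisors_stalk {M : Y.Modules} (hM : SecTF M) (y : Y) :
    NoZeroSMulDivisors (Y.presheaf.stalk y) (M.presheaf.stalk y) := by
  refine ⟨fun {a m} h => ?_⟩
  obtain ⟨W, hy, r, s, rfl, rfl⟩ := QS.exists_germ_pair M y a m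
  rw [← QS.germ_smul] at h
  have h0 : M.presheaf.germ W y hy (0 : Γ(M, W)) = 0 := map_zero _
  rw [← h0] at h
  obtain ⟨W', hyW', i1, i2, hW⟩ := M.presheaf.germ_eq y hy hy _ _ h
  rw [Scheme.Modules.map_smul, map_zero] at hW
  rcases hM W' _ _ hW with h2 | h2
  · left
    rw [← Y.presheaf.germ_res_apply i1 y hyW' r, h2, map_zero]
  · right
    rw [← M.presheaf.germ_res_apply i1 y hyW' s, h2, map_zero]

theorem SecTF.of_mono {K M : Y.Modules} (m : K ⟶ M) [Mono m] (hM : SecTF M) : SecTF K := by
  intro W r s h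
  have hinj := (QCProps.mono_iff_app_injective m).mp inferInstance W
  have h1 : r • m.app W s = 0 := by
    rw [← Scheme.Modules.Hom.app_smul, h]
    exact QCExact.app_zero m W
  rcases hM W r _ h1 with h2 | h2
  · exact Or.inl h2
  · right
    apply hinj
    rw [h2]
    exact (QCExact.app_zero m W).symm

theorem SecTF.biproduct {ι : Type u} [Fintype ι] (P : ι → Y.Modules) (h : ∀ i, SecTF (P i)) :
    SecTF (⨁ P : Y.Modules) := by
  intro W r s hs
  by_cases hr : r = 0
  · exact Or.inl hr
  right
  have h1 : ∀ i, (biproduct.π P i).app W s = 0 := by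
    intro i
    have h2 : r • (biproduct.π P i).app W s = 0 := by
      rw [← Scheme.Modules.Hom.app_smul, hs]
      exact QCExact.app_zero _ W
    exact (h i W r _ h2).resolve_left hr
  have htot : ∑ i, biproduct.π P i ≫ biproduct.ι P i = 𝟙 (⨁ P : Y.Modules) :=
    Limits.IsBilimit.total (biproduct.isBilimit P)
  have h2 : s = (∑ i, biproduct.π P i ≫ biproduct.ι P i).app W s := by
    rw [htot]
    rfl
  rw [h2, FreeBasis.sum_app]
  refine Finset.sum_eq_zero fun i _ => ?_
  change (biproduct.ι P i).app W ((biproduct.π P i).app W s) = 0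
  rw [h1 i]
  exact QCExact.app_zero _ W

/-- the pushforward of a free module from an open subscheme of an integral scheme is
sectionwise torsion-free -/
theorem secTF_pushforward_free [IsIntegral Y] (U : Y.Opens) (n : ℕ) :
    SecTF ((pushforward U.ι).obj (FlatMod.freeMod (U : Scheme.{u}) n)) := by
  intro W r s hs
  by_cases hr : r = 0
  · exact Or.inl hr
  right
  let V' : (U : Scheme.{u}).Opens := U.ι ⁻¹ᵁ W
  let s' : Γ(FlatMod.freeMod (U : Scheme.{u}) n, V') := s
  let r' : Γ((U : Scheme.{u}), V') := (U.ι.app W).hom r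
  have hs' : r' • s' = 0 := hs
  have key : ∀ k, (FreeBasis.proj (U : Scheme.{u}) n k).app V' s' = 0 := by
    intro k
    have h1 : r' • (FreeBasis.proj (U : Scheme.{u}) n k).app V' s' = 0 := by
      rw [← Scheme.Modules.Hom.app_smul, hs']
      exact QCExact.app_zero _ V'
    let c' : Γ((U : Scheme.{u}), V') :=
      InvGen.toFun V' ((FreeBasis.proj (U : Scheme.{u}) n k).app V' s')
    have h2 : r' * c' = 0 := h1
    suffices hc : c' = 0 from hc
    by_cases hne : ((U.ι ''ᵁ V' : Y.Opens) : Set Y).Nonempty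
    · haveI : Nonempty ↥(U.ι ''ᵁ V') := ⟨⟨hne.some, hne.some_mem⟩⟩
      haveI hdom : IsDomain Γ(Y, U.ι ''ᵁ V') :=
        @IsIntegral.component_integral Y _ (U.ι ''ᵁ V') this
      have hinj : Function.Injective (Y.presheaf.map (homOfLE (U.ι.image_preimage_le W)).op) :=
        @map_injective_of_isIntegral Y _ _ _ (homOfLE (U.ι.image_preimage_le W))
          ⟨⟨hne.some, hne.some_mem⟩⟩
      have hr' : (show Γ(Y, U.ι ''ᵁ V') from r') ≠ 0 := by
        intro h0
        apply hr
        apply hinj
        rw [map_zero]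
        exact h0
      have h3 : (show Γ(Y, U.ι ''ᵁ V') from r') * (show Γ(Y, U.ι ''ᵁ V') from c') = 0 := h2
      exact (mul_eq_zero.mp h3).resolve_left hr'
    · have hbot : U.ι ''ᵁ V' = ⊥ := (Opens.not_nonempty_iff_eq_bot _).mp hne
      haveI : Subsingleton Γ(Y, U.ι ''ᵁ V') := by
        rw [hbot]
        infer_instance
      exact Subsingleton.elim (α := Γ(Y, U.ι ''ᵁ V')) c' 0
  have h2 : s' = (∑ k, FreeBasis.proj (U : Scheme.{u}) n k ≫
      FreeBasis.inj (U : Scheme.{u}) n k).app V' s' := by
    rw [FreeBasis.sum_proj_inj]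
    rfl
  change s' = 0
  rw [h2, FreeBasis.sum_app]
  refine Finset.sum_eq_zero fun k _ => ?_
  change (FreeBasis.inj (U : Scheme.{u}) n k).app V'
    ((FreeBasis.proj (U : Scheme.{u}) n k).app V' s') = 0
  rw [key k]
  exact QCExact.app_zero _ V'

/-- if affine opens have affine intersections, the inclusion of an affine open is an affine
morphism -/
theorem isAffineHom_ι
    (hd : ∀ V W : Y.Opens, IsAffineOpen V → IsAffineOpen W → IsAffineOpen (V ⊓ W))
    {U : Y.Opens} (hU : IsAffineOpen U) : IsAffineHom U.ι :=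
  ⟨fun V hV => by
    rw [← U.ι.isAffineOpen_iff_of_isOpenImmersion, U.ι.image_preimage_eq_opensRange_inf,
      Scheme.Opens.opensRange_ι]
    exact hd U V hU hV⟩

theorem isQuasicoherent_biproduct {ι : Type u} [Finite ι] (P : ι → Y.Modules)
    [∀ i, (P i).IsQuasicoherent] :
    SheafOfModules.IsQuasicoherent (R := Y.ringCatSheaf) (⨁ P) := by
  have h := QCLim.isQuasicoherent_sigma P
  exact (SheafOfModules.isQuasicoherent Y.ringCatSheaf).prop_of_iso
    (biproduct.isoCoproduct P).symm h

/-- on a quasi-compact quasi-separated scheme, a quasi-coherent quotient of finite type of a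
quasi-coherent module `G` is already a quotient of a submodule of finite type of `G` -/
theorem exists_sub_epi [CompactSpace Y] [QuasiSeparatedSpace Y] {F G : Y.Modules}
    [F.IsQuasicoherent] [F.IsFiniteType] [G.IsQuasicoherent] (g : G ⟶ F) [Epi g] :
    ∃ (K : Y.Modules) (m : K ⟶ G), Mono m ∧ K.IsQuasicoherent ∧ K.IsFiniteType ∧
      Epi (m ≫ g) := by
  classical
  obtain ⟨ι, hι, U, hUa, -, hcov⟩ := QCSec.exists_finite_affine_cover (⊤ : Y.Opens)
    (by simpa using (isCompact_univ : IsCompact (Set.univ : Set Y)))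
  haveI := hι
  have hgen : ∀ i, ∃ (n : ℕ) (e : Fin n → Γ(F, U i)),
      Submodule.span Γ(Y, U i) (Set.range e) = ⊤ := by
    intro i
    haveI := QCProps.finite_sections F (hUa i)
    exact Module.Finite.exists_fin (R := Γ(Y, U i)) (M := Γ(F, U i))
  choose n e he using hgen
  have hsurj : ∀ i, Function.Surjective (g.app (U i)) := fun i =>
    (QCExact.epi_iff_surjective_on_affines g).mp inferInstance (U i) (hUa i)
  let J : Type u := Σ i : ι, Fin (n i)
  have hO : ∀ j : J, IsCompact ((U j.1 : Y.Opens) : Set Y) := fun j => (hUa j.1).isCompact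
  choose t ht using fun j : J => hsurj j.1 (e j.1 j.2)
  obtain ⟨K, m, hm, hKq, hKf, hmem⟩ :=
    QCSubSec.exists_finiteType_sub_sections G (fun j : J => U j.1) hO t
  refine ⟨K, m, hm, hKq, hKf, ?_⟩
  apply QCExact.epi_of_surjective_on_affine_cover
  intro x
  obtain ⟨i, hi⟩ := Opens.mem_iSup.mp (hcov (show x ∈ (⊤ : Y.Opens) from trivial))
  refine ⟨U i, hUa i, hi, ?_⟩
  have hr : LinearMap.range (QCProps.appₗ (m ≫ g) (U i)) = ⊤ := by
    rw [eq_top_iff, ← he i, Submodule.span_le]
    rintro _ ⟨k, rfl⟩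
    obtain ⟨z, hz⟩ := hmem ⟨i, k⟩
    refine ⟨z, ?_⟩
    change g.app (U i) (m.app (U i) z) = e i k
    rw [hz]
    exact ht ⟨i, k⟩
  intro s
  have hs : s ∈ LinearMap.range (QCProps.appₗ (m ≫ g) (U i)) := hr ▸ Submodule.mem_top
  obtain ⟨z, hz⟩ := hs
  exact ⟨z, hz⟩

/-- the main construction -/
theorem exists_torsionFree_cover [IsNoetherian Y] [IsIntegral Y]
    (hd : ∀ V W : Y.Opens, IsAffineOpen V → IsAffineOpen W → IsAffineOpen (V ⊓ W))
    (F : Y.Modules) [F.IsQuasicoherent] [F.IsFiniteType] :
    ∃ (F' : Y.Modules) (π : F' ⟶ F), F'.IsQuasicoherent ∧ F'.IsFiniteType ∧ SecTF F' ∧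
      Epi π := by
  classical
  obtain ⟨ι, hι, U, hUa, -, hcov⟩ := QCSec.exists_finite_affine_cover (⊤ : Y.Opens)
    (by simpa using (isCompact_univ : IsCompact (Set.univ : Set Y)))
  haveI := hι
  haveI := Fintype.ofFinite ι
  have hgen : ∀ i, ∃ (n : ℕ) (e : Fin n → Γ(F, U i)),
      Submodule.span Γ(Y, U i) (Set.range e) = ⊤ := by
    intro i
    haveI := QCProps.finite_sections F (hUa i)
    exact Module.Finite.exists_fin (R := Γ(Y, U i)) (M := Γ(F, U i))
  choose n e he using hgen
  haveI hAff : ∀ i, IsAffineHom (U i).ι := fun i => isAffineHom_ι hd (hUa i)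
  haveI hFr : ∀ i, (F.restrict (U i).ι).IsQuasicoherent := fun i =>
    Scheme.Modules.isQuasicoherent_restrictFunctor (U i).ι F
  haveI hfree : ∀ i, (FlatMod.freeMod (U i : Scheme.{u}) (n i)).IsQuasicoherent := fun i =>
    Groth.Agent.Lib.Helper1.GenCover.isQuasicoherent_freeMod _ _
  let φ : ∀ i, FlatMod.freeMod (U i : Scheme.{u}) (n i) ⟶ F.restrict (U i).ι := fun i =>
    FreeBasis.homOfSecs F (U i) (e i)
  haveI hφ : ∀ i, Epi (φ i) := fun i =>
    FittSheaf.epi_homOfSecs_of_isSpanAt F (hUa i) (e i)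
      ((FittSheaf.isSpanAt_iff_span _ _ _).mpr (he i))
  let P : ι → Y.Modules := fun i =>
    (pushforward (U i).ι).obj (FlatMod.freeMod (U i : Scheme.{u}) (n i))
  let Q : ι → Y.Modules := fun i => (pushforward (U i).ι).obj (F.restrict (U i).ι)
  haveI hPq : ∀ i, (P i).IsQuasicoherent := fun i =>
    QCSec.isQuasicoherent_pushforward (U i).ι _
  haveI hQq : ∀ i, (Q i).IsQuasicoherent := fun i =>
    QCSec.isQuasicoherent_pushforward (U i).ι _
  let q : ∀ i, P i ⟶ Q i := fun i => (pushforward (U i).ι).map (φ i)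
  haveI hq : ∀ i, Epi (q i) := fun i => FinPush.epi_pushforward_map (U i).ι (φ i)
  let un : ∀ i, F ⟶ Q i := fun i => (restrictAdjunction (U i).ι).unit.app F
  let qq : (⨁ P : Y.Modules) ⟶ ⨁ Q := biproduct.map q
  let uu : F ⟶ ⨁ Q := biproduct.lift un
  haveI hqq : Epi qq := biproduct.map_epi q
  haveI huu : Mono uu := by
    rw [QCProps.mono_iff_app_injective]
    intro W a b hab
    refine InvGen.sec_eq_of_locally_eq F (fun i => (U i).ι ''ᵁ (U i).ι ⁻¹ᵁ W) W
      (fun i => (U i).ι.image_preimage_le W) ?_ a b ?_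
    · intro x hx
      obtain ⟨i, hi⟩ := Opens.mem_iSup.mp (hcov (show x ∈ (⊤ : Y.Opens) from trivial))
      refine Opens.mem_iSup.mpr ⟨i, ?_⟩
      rw [(U i).ι.image_preimage_eq_opensRange_inf, Scheme.Opens.opensRange_ι]
      exact ⟨hi, hx⟩
    · intro i
      have h1 : un i = uu ≫ biproduct.π Q i := (biproduct.lift_π un i).symm
      have h2 : (un i).app W a = (un i).app W b := by
        rw [h1]
        exact congrArg (fun t => (biproduct.π Q i).app W t) hab
      exact h2
  haveI hPPq : (⨁ P : Y.Modules).IsQuasicoherent := isQuasicoherent_biproduct P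
  haveI hQQq : (⨁ Q : Y.Modules).IsQuasicoherent := isQuasicoherent_biproduct Q
  haveI hGq : (pullback uu qq : Y.Modules).IsQuasicoherent :=
    QCLim.isQuasicoherent_pullback uu qq
  haveI hg₁ : Epi (pullback.fst uu qq) := Abelian.epi_pullback_of_epi_g uu qq
  haveI hg₂ : Mono (pullback.snd uu qq) := pullback.snd_of_mono
  obtain ⟨K, m, hm, hKq, hKf, hepi⟩ := exists_sub_epi (pullback.fst uu qq)
  haveI := hm
  refine ⟨K, m ≫ pullback.fst uu qq, hKq, hKf, ?_, hepi⟩
  haveI : Mono (m ≫ pullback.snd uu qq) := mono_comp m _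
  exact SecTF.of_mono (m ≫ pullback.snd uu qq)
    (SecTF.biproduct P fun i => secTF_pushforward_free (U i) (n i))

end Groth.Agent.Lib.Helper26.TorsionFreeQuot
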