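import Mathlib
import Groth.Prelude.Def_Coh
import Groth.Prelude.Def_FlatMod2
import Groth.Agent.Lib.Helper26.TorsionFreeQuot
import Groth.Agent.Lib.Helper2.StalkFlat.Closure
import Groth.Agent.Lib.Helper17.FinLocFreeSec
import Groth.Agent.Lib.Helper17.FlatSections
import Groth.Agent.Lib.Helper22.ArtinFlat
import Groth.Agent.Lib.Helper3.GlobGen
import Groth.Agent.Lib.Helper3.AssPoints
import Groth.Agent.Lib.Helper1.TildeFlat

/-!
# Quasi-coherent modules as quotients of flat quasi-coherent modules (helper26)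

On a quasi-compact scheme `X` in which the intersection of two affine opens is affine, every
quasi-coherent module is a quotient of a flat quasi-coherent module.

Step: for an affine open `U` with (affine) inclusion `u`, choose a free module `L` on `U` with an
epimorphism `φ : L ⟶ M|_U`; the pullback `M' = M ×_{u_* u^* M} u_* L` surjects onto `M`, is
isomorphic to `L` over `U`, and is flat over every affine open over which `M` is flat.  Iterating
over a finite affine cover gives a flat module.
-/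

set_option autoImplicit false
set_option linter.style.haveILetI false
universe u v
open CategoryTheory CategoryTheory.Limits AlgebraicGeometry TopologicalSpace Opposite
open Scheme.Modules

noncomputable section

namespace Groth.Agent.Lib.Helper26.FlatQuot

open Groth.Agent.Lib.Helper3 Groth.Agent.Lib.Helper17 Groth.Agent.Lib.Helper1
open Groth.Agent.Lib.Helper22

section Alg

variable {R : Type u} [CommRing R]
variable {K E N : Type v} [AddCommGroup K] [Module R K] [AddCommGroup E] [Module R E]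
  [AddCommGroup N] [Module R N]

/-- an extension of flat modules is flat -/
theorem flat_of_exact_ext [Module.Flat R K] [Module.Flat R N] (f : K →ₗ[R] E) (g : E →ₗ[R] N)
    (hf : Function.Injective f) (hg : Function.Surjective g) (hfg : Function.Exact f g) :
    Module.Flat R E := by
  rw [Module.Flat.iff_rTensor_injective']
  intro I
  rw [injective_iff_map_eq_zero]
  intro t ht
  have h1 : (g.lTensor I) t = 0 := by
    have hinj : Function.Injective (LinearMap.rTensor N I.subtype) :=
      Module.Flat.rTensor_preserves_injective_linearMap (M := N) I.subtype I.injective_subtype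
    apply hinj
    rw [map_zero, ← LinearMap.comp_apply, LinearMap.rTensor_comp_lTensor,
      ← LinearMap.lTensor_comp_rTensor, LinearMap.comp_apply, ht, map_zero]
  obtain ⟨t', rfl⟩ := (lTensor_exact I hfg hg t).mp h1
  have h3 : (LinearMap.rTensor K I.subtype) t' = 0 := by
    have hinj : Function.Injective (f.lTensor R) :=
      Module.Flat.lTensor_preserves_injective_linearMap (M := R) f hf
    apply hinj
    rw [map_zero, ← LinearMap.comp_apply, LinearMap.lTensor_comp_rTensor,
      ← LinearMap.rTensor_comp_lTensor, LinearMap.comp_apply]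
    exact ht
  have hinjK : Function.Injective (LinearMap.rTensor K I.subtype) :=
    Module.Flat.rTensor_preserves_injective_linearMap (M := K) I.subtype I.injective_subtype
  rw [hinjK (h3.trans (map_zero _).symm), map_zero]

/-- a product of two flat modules is flat -/
theorem flat_prod (R : Type u) [CommRing R] (A B : Type v) [AddCommGroup A] [Module R A]
    [AddCommGroup B] [Module R B] [Module.Flat R A] [Module.Flat R B] :
    Module.Flat R (A × B) := by
  refine flat_of_exact_ext (LinearMap.inl R A B) (LinearMap.snd R A B) LinearMap.inl_injective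
    LinearMap.snd_surjective ?_
  intro y
  constructor
  · intro h
    exact ⟨y.1, Prod.ext rfl (show (0 : B) = y.2 from h.symm)⟩
  · rintro ⟨x, rfl⟩
    rfl

end Alg

variable {X Y : Scheme.{u}}

/-- flatness at all points of an open -/
def FlatOn (M : X.Modules) (V : X.Opens) : Prop := ∀ x ∈ V, FlatMod.IsFlatAt M x

/-- sections over an affine open of a quasi-coherent module which is flat at the points of that
open form a flat module -/
theorem flat_sections_of_flatOn (F : X.Modules) [F.IsQuasicoherent] {U : X.Opens}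
    (hU : IsAffineOpen U) (hF : FlatOn F U) : Module.Flat Γ(X, U) Γ(F, U) := by
  apply TildeFlat.flat_of_forall_maximal_tower (R := Γ(X, U)) (S := Γ(X, U)) (M := Γ(F, U))
  intro P hP
  obtain ⟨x, hx, rfl⟩ : ∃ x, ∃ hx : x ∈ U, (hU.primeIdealOf ⟨x, hx⟩).asIdeal = P := by
    have hx : hU.fromSpec ⟨P, hP.isPrime⟩ ∈ U := by
      have : hU.fromSpec ⟨P, hP.isPrime⟩ ∈ Set.range hU.fromSpec := ⟨_, rfl⟩
      rw [hU.range_fromSpec] at this
      exact this
    refine ⟨hU.fromSpec ⟨P, hP.isPrime⟩, hx, ?_⟩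
    have : hU.primeIdealOf ⟨hU.fromSpec ⟨P, hP.isPrime⟩, hx⟩ = ⟨P, hP.isPrime⟩ :=
      hU.fromSpec.isOpenEmbedding.injective (hU.fromSpec_primeIdealOf _)
    rw [this]
  obtain ⟨i1, i2, i3, i4, g, h1, h2, h3⟩ := QS.exists_isLocalizedModule hU F x hx
  refine ⟨F.presheaf.stalk x, inferInstance, i2, i2, inferInstance, g, h3, ?_⟩
  rw [← Module.flat_iff_of_isLocalization (X.presheaf.stalk x)
    (hU.primeIdealOf ⟨x, hx⟩).asIdeal.primeCompl]
  exact hF x hx

/-- sections of a pushforward along a flat morphism: transfer of flatness -/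
theorem flat_sections_pushforward (f : X ⟶ Y) [Flat f] (E : X.Modules) {V : Y.Opens}
    (hV : IsAffineOpen V) (hW : IsAffineOpen (f ⁻¹ᵁ V))
    (h : Module.Flat Γ(X, f ⁻¹ᵁ V) Γ(E, f ⁻¹ᵁ V)) :
    Module.Flat Γ(Y, V) Γ((pushforward f).obj E, V) := by
  letI alg : Algebra Γ(Y, V) Γ(X, f ⁻¹ᵁ V) := (f.app V).hom.toAlgebra
  letI mod : Module Γ(Y, V) Γ(E, f ⁻¹ᵁ V) := Module.compHom _ (f.app V).hom
  haveI : IsScalarTower Γ(Y, V) Γ(X, f ⁻¹ᵁ V) Γ(E, f ⁻¹ᵁ V) :=
    IsScalarTower.of_algebraMap_smul fun _ _ => rfl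
  have hfl : (f.app V).hom.Flat := by
    have := HasRingHomProperty.appLE (P := @Flat) f inferInstance ⟨V, hV⟩ ⟨f ⁻¹ᵁ V, hW⟩ le_rfl
    rwa [← Scheme.Hom.app_eq_appLE] at this
  haveI : Module.Flat Γ(Y, V) Γ(X, f ⁻¹ᵁ V) := hfl
  haveI : Module.Flat Γ(X, f ⁻¹ᵁ V) Γ(E, f ⁻¹ᵁ V) := h
  haveI : Module.Flat Γ(Y, V) Γ(E, f ⁻¹ᵁ V) :=
    Module.Flat.trans Γ(Y, V) Γ(X, f ⁻¹ᵁ V) Γ(E, f ⁻¹ᵁ V)
  let e : Γ((pushforward f).obj E, V) ≃ₗ[Γ(Y, V)] Γ(E, f ⁻¹ᵁ V) :=
    { toFun := fun m => m
      invFun := fun m => m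
      map_add' := fun _ _ => rfl
      map_smul' := fun _ _ => rfl
      left_inv := fun _ => rfl
      right_inv := fun _ => rfl }
  exact Module.Flat.of_linearEquiv e

/-- sections of the restriction of a module to an open subscheme: transfer of flatness -/
theorem flat_sections_restrict (U : X.Opens) (M : X.Modules) (W : (U : Scheme.{u}).Opens)
    (h : Module.Flat Γ(X, U.ι ''ᵁ W) Γ(M, U.ι ''ᵁ W)) :
    Module.Flat Γ((U : Scheme.{u}), W) Γ(M.restrict U.ι, W) := by
  letI inst : Module Γ((U : Scheme.{u}), W) Γ(M, U.ι ''ᵁ W) :=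
    (inferInstance : Module Γ(X, U.ι ''ᵁ W) Γ(M, U.ι ''ᵁ W))
  haveI : Module.Flat Γ((U : Scheme.{u}), W) Γ(M, U.ι ''ᵁ W) := h
  let e : Γ(M.restrict U.ι, W) ≃ₗ[Γ((U : Scheme.{u}), W)] Γ(M, U.ι ''ᵁ W) :=
    { toFun := fun m => m
      invFun := fun m => m
      map_add' := fun _ _ => rfl
      map_smul' := fun r m => by
        have h1 := QCExtend.toR_smul M U W (show Γ(X, U.ι ''ᵁ W) from r)
          (show Γ(M, U.ι ''ᵁ W) from m)
        have h2 : (U.ι.appIso W).hom (show Γ(X, U.ι ''ᵁ W) from r) = r := by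
          rw [Scheme.Opens.ι_appIso]
          rfl
        rw [h2] at h1
        exact h1.symm
      left_inv := fun _ => rfl
      right_inv := fun _ => rfl }
  exact Module.Flat.of_linearEquiv e

section PB

variable {A B C : X.Modules} (f : A ⟶ C) (g : B ⟶ C) (W : X.Opens)

/-- sections of a pullback of modules: existence -/
theorem exists_sec_pullback (a : Γ(A, W)) (b : Γ(B, W)) (h : f.app W a = g.app W b) :
    ∃ z : Γ((pullback f g : X.Modules), W),
      (pullback.fst f g).app W z = a ∧ (pullback.snd f g).app W z = b := by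
  let G : X.Modules ⥤ Type u := QCExact.secFunctor W ⋙ forget Ab
  have hpb : IsPullback (G.map (pullback.fst f g)) (G.map (pullback.snd f g)) (G.map f)
      (G.map g) := (IsPullback.of_hasPullback f g).map G
  exact Types.exists_of_isPullback hpb a b h

/-- sections of a pullback of modules: uniqueness -/
theorem sec_pullback_ext (z z' : Γ((pullback f g : X.Modules), W))
    (h1 : (pullback.fst f g).app W z = (pullback.fst f g).app W z')
    (h2 : (pullback.snd f g).app W z = (pullback.snd f g).app W z') : z = z' := by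
  let G : X.Modules ⥤ Type u := QCExact.secFunctor W ⋙ forget Ab
  have hpb : IsPullback (G.map (pullback.fst f g)) (G.map (pullback.snd f g)) (G.map f)
      (G.map g) := (IsPullback.of_hasPullback f g).map G
  exact Types.ext_of_isPullback hpb h1 h2

end PB

section Step

variable (U : X.Opens) (M : X.Modules) {L : (U : Scheme.{u}).Modules} (φ : L ⟶ M.restrict U.ι)

/-- the unit `M ⟶ u_* u^* M` -/
abbrev unitMap : M ⟶ (pushforward U.ι).obj (M.restrict U.ι) :=
  (restrictAdjunction U.ι).unit.app M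

/-- `u_* φ` -/
abbrev pushMap : (pushforward U.ι).obj L ⟶ (pushforward U.ι).obj (M.restrict U.ι) :=
  (pushforward U.ι).map φ

/-- the pullback `M ×_{u_* u^* M} u_* L` -/
abbrev PB : X.Modules := pullback (unitMap U M) (pushMap U M φ)

theorem pb_condition_app (V : X.Opens) (w : Γ(PB U M φ, V)) :
    (unitMap U M).app V ((pullback.fst (unitMap U M) (pushMap U M φ)).app V w) =
      (pushMap U M φ).app V ((pullback.snd (unitMap U M) (pushMap U M φ)).app V w) :=
  congrArg (fun t => t.app V w)
    (pullback.condition (f := unitMap U M) (g := pushMap U M φ))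

theorem bijective_unitMap_app_self : Function.Bijective ((unitMap U M).app U) := by
  have e : U.ι ''ᵁ U.ι ⁻¹ᵁ U = U := by
    rw [U.ι.image_preimage_eq_opensRange_inf, Scheme.Opens.opensRange_ι, inf_idem]
  rw [Function.bijective_iff_has_inverse]
  refine ⟨fun t => QCSec.res M e.ge (show Γ(M, U.ι ''ᵁ U.ι ⁻¹ᵁ U) from t), fun s => ?_,
    fun t => ?_⟩
  · change QCSec.res M e.ge (QCSec.res M (U.ι.image_preimage_le U) s) = s
    rw [QCSec.res_res, QCSec.res_self]
  · change QCSec.res M (U.ι.image_preimage_le U)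
      (QCSec.res M e.ge (show Γ(M, U.ι ''ᵁ U.ι ⁻¹ᵁ U) from t)) = t
    rw [QCSec.res_res, QCSec.res_self]

variable {U}

/-- over `U` itself the pullback is `L` -/
theorem flat_sections_PB_self (hU : IsAffineOpen U) [IsAffineHom U.ι]
    (hL : FlatMod.IsFlat L) [L.IsQuasicoherent] :
    Module.Flat Γ(X, U) Γ(PB U M φ, U) := by
  have hW : IsAffineOpen (U.ι ⁻¹ᵁ U) := hU.preimage U.ι
  haveI hLs : Module.Flat Γ(X, U) Γ((pushforward U.ι).obj L, U) :=
    flat_sections_pushforward U.ι L hU hW (FlatSections.flat_sections_of_isFlat L hL hW)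
  have hun := bijective_unitMap_app_self U M
  have hbij : Function.Bijective
      ((pullback.snd (unitMap U M) (pushMap U M φ)).app U) := by
    constructor
    · intro z z' h
      refine sec_pullback_ext _ _ U z z' ?_ h
      apply hun.1
      exact ((pb_condition_app U M φ U z).trans
        (congrArg (fun b => (pushMap U M φ).app U b) h)).trans (pb_condition_app U M φ U z').symm
    · intro b
      obtain ⟨a, ha⟩ := hun.2 ((pushMap U M φ).app U b)
      obtain ⟨z, -, hz⟩ := exists_sec_pullback _ _ U a b ha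
      exact ⟨z, hz⟩
  let e : Γ(PB U M φ, U) ≃ₗ[Γ(X, U)] Γ((pushforward U.ι).obj L, U) :=
    LinearEquiv.ofBijective
      (QCProps.appₗ (pullback.snd (unitMap U M) (pushMap U M φ)) U) hbij
  exact Module.Flat.of_linearEquiv e

/-- over an affine open over which `M` is flat the pullback is flat -/
theorem flat_sections_PB (hU : IsAffineOpen U) [IsAffineHom U.ι] [M.IsQuasicoherent]
    (hL : FlatMod.IsFlat L) [L.IsQuasicoherent] [Epi φ]
    {V : X.Opens} (hV : IsAffineOpen V) (hM : FlatOn M V) :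
    Module.Flat Γ(X, V) Γ(PB U M φ, V) := by
  have hW : IsAffineOpen (U.ι ⁻¹ᵁ V) := hV.preimage U.ι
  haveI hLs : Module.Flat Γ(X, V) Γ((pushforward U.ι).obj L, V) :=
    flat_sections_pushforward U.ι L hV hW (FlatSections.flat_sections_of_isFlat L hL hW)
  have hWi : IsAffineOpen (U.ι ''ᵁ U.ι ⁻¹ᵁ V) := hW.image_of_isOpenImmersion U.ι
  have hN : Module.Flat Γ(X, U.ι ''ᵁ U.ι ⁻¹ᵁ V) Γ(M, U.ι ''ᵁ U.ι ⁻¹ᵁ V) :=
    flat_sections_of_flatOn M hWi (fun x hx => hM x (U.ι.image_preimage_le V hx))
  have hN' : Module.Flat Γ((U : Scheme.{u}), U.ι ⁻¹ᵁ V) Γ(M.restrict U.ι, U.ι ⁻¹ᵁ V) :=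
    flat_sections_restrict U M (U.ι ⁻¹ᵁ V) hN
  haveI hNs : Module.Flat Γ(X, V) Γ((pushforward U.ι).obj (M.restrict U.ι), V) :=
    flat_sections_pushforward U.ι (M.restrict U.ι) hV hW hN'
  haveI hMs : Module.Flat Γ(X, V) Γ(M, V) := flat_sections_of_flatOn M hV hM
  haveI : Module.Flat Γ(X, V) (Γ(M, V) × Γ((pushforward U.ι).obj L, V)) := flat_prod _ _ _
  haveI : (M.restrict U.ι).IsQuasicoherent :=
    Scheme.Modules.isQuasicoherent_restrictFunctor U.ι M
  haveI : ((pushforward U.ι).obj L).IsQuasicoherent := QCSec.isQuasicoherent_pushforward U.ι L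
  haveI : ((pushforward U.ι).obj (M.restrict U.ι)).IsQuasicoherent :=
    QCSec.isQuasicoherent_pushforward U.ι _
  haveI : Epi (pushMap U M φ) := FinPush.epi_pushforward_map U.ι φ
  have hqs : Function.Surjective ((pushMap U M φ).app V) :=
    (QCExact.epi_iff_surjective_on_affines (pushMap U M φ)).mp inferInstance V hV
  let f1 : Γ(PB U M φ, V) →ₗ[Γ(X, V)] (Γ(M, V) × Γ((pushforward U.ι).obj L, V)) :=
    (QCProps.appₗ (pullback.fst (unitMap U M) (pushMap U M φ)) V).prod
      (QCProps.appₗ (pullback.snd (unitMap U M) (pushMap U M φ)) V)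
  let g1 : (Γ(M, V) × Γ((pushforward U.ι).obj L, V)) →ₗ[Γ(X, V)]
      Γ((pushforward U.ι).obj (M.restrict U.ι), V) :=
    (QCProps.appₗ (unitMap U M) V).coprod (-(QCProps.appₗ (pushMap U M φ) V))
  refine ArtinFlat.flat_of_exact_of_flat_of_flat f1 g1 ?_ ?_ ?_
  · intro z z' h
    exact sec_pullback_ext _ _ V z z' (congrArg Prod.fst h) (congrArg Prod.snd h)
  · intro c
    obtain ⟨b, hb⟩ := hqs c
    refine ⟨(0, -b), ?_⟩
    change (QCProps.appₗ (unitMap U M) V) 0 + (-(QCProps.appₗ (pushMap U M φ) V)) (-b) = c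
    rw [map_zero, zero_add, LinearMap.neg_apply, map_neg, neg_neg]
    exact hb
  · intro y
    constructor
    · intro hy
      have h1 : (unitMap U M).app V y.1 = (pushMap U M φ).app V y.2 := by
        have h0 : (QCProps.appₗ (unitMap U M) V) y.1 +
            (-(QCProps.appₗ (pushMap U M φ) V)) y.2 = 0 := hy
        rw [LinearMap.neg_apply, ← sub_eq_add_neg, sub_eq_zero] at h0
        exact h0
      obtain ⟨z, hz1, hz2⟩ := exists_sec_pullback _ _ V y.1 y.2 h1
      exact ⟨z, Prod.ext hz1 hz2⟩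
    · rintro ⟨z, rfl⟩
      change (QCProps.appₗ (unitMap U M) V)
          ((pullback.fst (unitMap U M) (pushMap U M φ)).app V z) +
        (-(QCProps.appₗ (pushMap U M φ) V))
          ((pullback.snd (unitMap U M) (pushMap U M φ)).app V z) = 0
      rw [LinearMap.neg_apply, ← sub_eq_add_neg, sub_eq_zero]
      exact pb_condition_app U M φ V z

end Step

/-- the inductive step -/
theorem step (U : X.Opens) (hU : IsAffineOpen U) [IsAffineHom U.ι] (M : X.Modules)
    [M.IsQuasicoherent] :
    ∃ (M' : X.Modules) (p : M' ⟶ M), M'.IsQuasicoherent ∧ Epi p ∧ FlatOn M' U ∧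
      ∀ V : X.Opens, IsAffineOpen V → FlatOn M V → FlatOn M' V := by
  haveI : IsAffine (U : Scheme.{u}) := hU
  haveI hNq : (M.restrict U.ι).IsQuasicoherent :=
    Scheme.Modules.isQuasicoherent_restrictFunctor U.ι M
  let L : (U : Scheme.{u}).Modules := QCExtend.freeMod (U : Scheme.{u}) Γ(M.restrict U.ι, ⊤)
  haveI hLq : L.IsQuasicoherent := QCExtend.isQuasicoherent_freeMod _ _
  have hLfl : FlatMod.IsFlat L := by
    have h1 : FlatMod.IsFlat (Coh.structureModule (U : Scheme.{u})) :=
      FinLocFreeSec.isFlat_of_isFinLocFree _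
        (FinPush.isFinLocFree_structureModule (U : Scheme.{u}))
    exact Groth.Agent.Lib.Helper2.StalkFlat.isFlat_sigma
      (fun _ : Γ(M.restrict U.ι, ⊤) => Coh.structureModule (U : Scheme.{u})) (fun _ => h1)
  let φ : L ⟶ M.restrict U.ι := GlobGen.freeHom (M.restrict U.ι) (fun s => s)
  haveI hφ : Epi φ := GlobGen.epi_freeHom (M.restrict U.ι) _ (fun x =>
    ⟨⊤, isAffineOpen_top _, trivial, eq_top_iff.mpr fun s _ =>
      Submodule.subset_span ⟨s, QCSec.res_self (M.restrict U.ι) _ s⟩⟩)
  haveI : ((pushforward U.ι).obj L).IsQuasicoherent := QCSec.isQuasicoherent_pushforward U.ι L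
  haveI : ((pushforward U.ι).obj (M.restrict U.ι)).IsQuasicoherent :=
    QCSec.isQuasicoherent_pushforward U.ι _
  haveI hq : Epi (pushMap U M φ) := FinPush.epi_pushforward_map U.ι φ
  haveI hM'q : (PB U M φ).IsQuasicoherent :=
    QCLim.isQuasicoherent_pullback (unitMap U M) (pushMap U M φ)
  haveI hp : Epi (pullback.fst (unitMap U M) (pushMap U M φ)) :=
    Abelian.epi_pullback_of_epi_g (unitMap U M) (pushMap U M φ)
  refine ⟨PB U M φ, pullback.fst (unitMap U M) (pushMap U M φ), hM'q, hp, ?_, ?_⟩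
  · intro x hx
    exact FlatSections.isFlatAt_of_flat_sections hU (PB U M φ) x hx
      (flat_sections_PB_self M φ hU hLfl)
  · intro V hV hM x hx
    exact FlatSections.isFlatAt_of_flat_sections hV (PB U M φ) x hx
      (flat_sections_PB M φ hU hLfl hV hM)

/-- iterating the step over a finite family of affine opens -/
theorem exists_flatOn_cover
    (hd : ∀ V W : X.Opens, IsAffineOpen V → IsAffineOpen W → IsAffineOpen (V ⊓ W))
    (M : X.Modules) [M.IsQuasicoherent] {ι : Type*} (U : ι → X.Opens)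
    (hU : ∀ i, IsAffineOpen (U i)) (S : Finset ι) :
    ∃ (M' : X.Modules) (p : M' ⟶ M), M'.IsQuasicoherent ∧ Epi p ∧
      ∀ i ∈ S, FlatOn M' (U i) := by
  classical
  induction S using Finset.induction_on with
  | empty =>
    exact ⟨M, 𝟙 M, inferInstance, inferInstance, fun i hi => absurd hi (Finset.notMem_empty i)⟩
  | insert a S ha ih =>
    obtain ⟨M₁, p₁, hq₁, hp₁, hfl₁⟩ := ih
    haveI := hq₁
    haveI := TorsionFreeQuot.isAffineHom_ι hd (hU a)
    obtain ⟨M₂, p₂, hq₂, hp₂, hflU, hflV⟩ := step (U a) (hU a) M₁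
    haveI := hp₁
    haveI := hp₂
    refine ⟨M₂, p₂ ≫ p₁, hq₂, epi_comp _ _, ?_⟩
    intro i hi
    rcases Finset.mem_insert.mp hi with rfl | hi
    · exact hflU
    · exact hflV (U i) (hU i) (hfl₁ i hi)

/-- on a quasi-compact scheme with affine diagonal every quasi-coherent module is a quotient of
a flat quasi-coherent module -/
theorem exists_flat_cover [CompactSpace X]
    (hd : ∀ V W : X.Opens, IsAffineOpen V → IsAffineOpen W → IsAffineOpen (V ⊓ W))
    (M : X.Modules) [M.IsQuasicoherent] :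
    ∃ (F : X.Modules) (π : F ⟶ M), F.IsQuasicoherent ∧ FlatMod.IsFlat F ∧ Epi π := by
  obtain ⟨ι, hι, U, hUa, -, hcov⟩ := QCSec.exists_finite_affine_cover (⊤ : X.Opens)
    (by simpa using (isCompact_univ : IsCompact (Set.univ : Set X)))
  haveI := hι
  haveI := Fintype.ofFinite ι
  obtain ⟨M', p, hq, hp, hfl⟩ := exists_flatOn_cover hd M U hUa Finset.univ
  refine ⟨M', p, hq, ?_, hp⟩
  intro x
  obtain ⟨i, hi⟩ := Opens.mem_iSup.mp (hcov (show x ∈ (⊤ : X.Opens) from trivial))
  exact hfl i (Finset.mem_univ i) x hi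

end Groth.Agent.Lib.Helper26.FlatQuot
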