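import Mathlib
import Groth.Agent.Lib.Helper17.GenFin2
import Groth.Agent.Lib.Helper17.CohBijLocus
import Groth.Agent.Lib.Helper17.CohCentre

/-!
# Finite morphisms of integral Noetherian schemes: `f_* G → F^m`, `m = deg f`, generically an iso
-/

set_option autoImplicit false
set_option linter.style.haveILetI false
universe u
open CategoryTheory CategoryTheory.Limits AlgebraicGeometry TopologicalSpace Opposite

noncomputable section

namespace Groth.Agent.Lib.Helper26.GenFin3

open Groth.Agent.Lib.Helper3 Scheme.Modules Groth.Agent.Lib.Helper17.DevBasic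
  Groth.Agent.Lib.Helper17.StalkExact Groth.Agent.Lib.Helper17.DevGM
  Groth.Agent.Lib.Helper17.GenSub Groth.Agent.Lib.Helper17.DevTF
  Groth.Agent.Lib.Helper17.DevSplit Groth.Agent.Lib.Helper17.DevSpread
  Groth.Agent.Lib.Helper17.GenFin Groth.Agent.Lib.Helper17
  Groth.Agent.Lib.Helper1

attribute [local instance] GenSub.hasFiniteBiproducts

/-- a morphism bijective on the stalks at the points of `V` restricts to an isomorphism on `V`. -/
theorem isIso_restrict_of_stalk_bijective {X : Scheme.{u}} {M N : X.Modules} (φ : M ⟶ N)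
    (V : X.Opens) (h : ∀ x ∈ V, Function.Bijective (stalkLin φ x)) :
    IsIso ((restrictFunctor V.ι).map φ) := by
  rw [Scheme.Modules.Hom.isIso_iff_isIso_app]
  intro U
  let F : TopCat.Sheaf Ab X := ⟨M.presheaf, M.isSheaf⟩
  let G : TopCat.Sheaf Ab X := ⟨N.presheaf, N.isSheaf⟩
  let f : F ⟶ G := ⟨φ.mapPresheaf⟩
  have hb := TopCat.Presheaf.app_bijective_of_stalkFunctor_map_bijective f (V.ι ''ᵁ U)
    (fun x hx => h x (V.ι_image_le U hx))
  exact (ConcreteCategory.isIso_iff_bijective _).mpr hb

theorem main' {X Y : Scheme.{u}} [IsIntegral X] [IsNoetherian X] [IsIntegral Y] [IsNoetherian Y]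
    (f : X ⟶ Y) [IsFinite f] (F : Y.Modules) (hF : Coh.IsCoh F) (d : ℕ)
    (hd : Module.finrank (Y.presheaf.stalk (genericPoint Y))
      (((pushforward f).obj (Coh.structureModule X)).presheaf.stalk (genericPoint Y)) = d) :
    ∃ (G : X.Modules) (u : (pushforward f).obj G ⟶ ∐ fun _ : Fin d => F),
      Coh.IsCoh G ∧ ∃ V : Y.Opens, genericPoint Y ∈ V ∧
        IsIso ((restrictFunctor V.ι).map u) := by
  classical
  have hK : IsField (Y.presheaf.stalk (genericPoint Y)) :=
    (inferInstance : Field Y.functionField).toIsField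
  let P := pushforward f
  let A₀ : X.Modules := Coh.structureModule X
  have hA₀ : Coh.IsCoh A₀ := CohCentre.isCoh_structureModule
  let G₀ : Y.Modules := P.obj A₀
  have hG₀ : Coh.IsCoh G₀ := Groth.Agent.S0019.result f A₀ hA₀
  haveI := hG₀.1
  haveI := hG₀.2
  haveI := hF.1
  haveI := hF.2
  haveI : Module.Finite (Y.presheaf.stalk (genericPoint Y)) (G₀.presheaf.stalk (genericPoint Y)) :=
    CohStalk.finite_stalk G₀ _
  haveI : Module.Finite (Y.presheaf.stalk (genericPoint Y)) (F.presheaf.stalk (genericPoint Y)) :=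
    CohStalk.finite_stalk F _
  obtain ⟨t, ht⟩ : ∃ t, Module.finrank (Y.presheaf.stalk (genericPoint Y))
    (F.presheaf.stalk (genericPoint Y)) = t := ⟨_, rfl⟩
  obtain ⟨e⟩ := exists_linearEquiv' hK (G₀.presheaf.stalk (genericPoint Y))
    (F.presheaf.stalk (genericPoint Y)) d t hd ht
  let N : X.Modules := ⨁ fun _ : Fin t => A₀
  have hN : Coh.IsCoh N := isCoh_biproduct_const A₀ hA₀ t
  haveI : PreservesLimitsOfSize.{0, 0} P :=
    (Scheme.Modules.pullbackPushforwardAdjunction f).rightAdjoint_preservesLimits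
  haveI : PreservesBiproduct (fun _ : Fin t => A₀) P := preservesBiproduct_of_preservesProduct _
  let eA : P.obj N ≅ ⨁ fun _ : Fin t => P.obj A₀ := P.mapBiproduct (fun _ : Fin t => A₀)
  let B : Y.Modules := ∐ fun _ : Fin d => F
  let eB : B ≅ ⨁ fun _ : Fin d => F := (biproduct.isoCoproduct (fun _ : Fin d => F)).symm
  have hB : Coh.IsCoh B := isCoh_of_iso eB.symm (isCoh_biproduct_const F hF d)
  let a := (stalkEquivOfIso eA (genericPoint Y)).trans
    (stalkPiEquiv (fun _ : Fin t => P.obj A₀) (genericPoint Y))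
  let b := (stalkEquivOfIso eB (genericPoint Y)).trans
    (stalkPiEquiv (fun _ : Fin d => F) (genericPoint Y))
  let E : (P.obj N).presheaf.stalk (genericPoint Y) ≃ₗ[Y.presheaf.stalk (genericPoint Y)]
      B.presheaf.stalk (genericPoint Y) := (a.trans e).trans b.symm
  obtain ⟨N', β, hN', hbij⟩ := exists_push_hom_bijective f N hN B hB.1 (genericPoint Y) E
  have hPN' : Coh.IsCoh (P.obj N') := Groth.Agent.S0019.result f N' hN'
  haveI := hPN'.1
  haveI := hPN'.2
  haveI := hB.1
  haveI := hB.2
  have hopen := CohBijLocus.isOpen_bijective_stalk β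
  let V : Y.Opens := ⟨_, hopen⟩
  have hηV : genericPoint Y ∈ V :=
    (show Function.Bijective (RefHull.stalkMapₗ β (genericPoint Y)) from hbij)
  exact ⟨N', β, hN', V, hηV, isIso_restrict_of_stalk_bijective β V (fun x hx => hx)⟩

end Groth.Agent.Lib.Helper26.GenFin3

end
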