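import Mathlib
import Groth.Agent.Lib.Helper17.GenFin2
import Groth.Agent.Lib.Helper3.FreeSec

/-!
# Finite surjective morphisms of integral schemes: `O_Y^r → f_* M` generically an isomorphism
-/

set_option autoImplicit false
set_option linter.style.haveILetI false
universe u
open CategoryTheory CategoryTheory.Limits AlgebraicGeometry TopologicalSpace Opposite

noncomputable section

namespace Groth.Agent.Lib.Helper26.GenFree

open Groth.Agent.Lib.Helper3 Scheme.Modules Groth.Agent.Lib.Helper17.DevBasic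
  Groth.Agent.Lib.Helper17.StalkExact Groth.Agent.Lib.Helper17.DevGM
  Groth.Agent.Lib.Helper17.GenSub Groth.Agent.Lib.Helper17.DevTF
  Groth.Agent.Lib.Helper17.DevSplit
  Groth.Agent.Lib.Helper3.QCSec Groth.Agent.Lib.Helper3.FreeSec Groth.Agent.Lib.Helper3.GlobGen
  Groth.Agent.Lib.Helper3.QCExtend

/-- a nontrivial finite module over a ring which is a field has a finite nonempty basis. -/
theorem exists_basis_of_isField {K : Type*} [CommRing K] (hK : IsField K) (V : Type*)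
    [AddCommGroup V] [Module K V] [Module.Finite K V] [Nontrivial V] :
    ∃ (r : ℕ) (v : ULift.{u} (Fin r) → V), 0 < r ∧ LinearIndependent K v ∧
      ⊤ ≤ Submodule.span K (Set.range v) := by
  letI := hK.toField
  let b := (Module.finBasis K V).reindex (Equiv.ulift.{u}.symm)
  exact ⟨Module.finrank K V, b, Module.finrank_pos, b.linearIndependent, b.span_eq.ge⟩

section Stalk

variable {Y : Scheme.{u}}

theorem germ_fs (I : Type u) (i : I) (W : Y.Opens) (y : Y) (hy : y ∈ W) :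
    (freeMod Y I).presheaf.germ W y hy (fs I i W) =
      (freeMod Y I).presheaf.germ ⊤ y (Opens.mem_top y) (fs I i ⊤) := by
  rw [← res_fs I i (le_top : W ≤ ⊤)]
  exact TopCat.Presheaf.germ_res_apply (freeMod Y I).presheaf (homOfLE le_top) y hy (fs I i ⊤)

/-- every element of the stalk of a finite free module is a combination of the basis germs. -/
theorem exists_coeff (I : Type u) [Fintype I] (y : Y) (x : (freeMod Y I).presheaf.stalk y) :
    ∃ c : I → Y.presheaf.stalk y,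
      x = ∑ i, c i • (freeMod Y I).presheaf.germ ⊤ y (Opens.mem_top y) (fs I i ⊤) := by
  obtain ⟨W, hyW, t, rfl⟩ := TopCat.Presheaf.exists_germ_eq (freeMod Y I).presheaf x
  obtain ⟨W', hW', hyW', hspan⟩ := exists_local_span_free I W t y hyW
  obtain ⟨c, hc⟩ := (Submodule.mem_span_range_iff_exists_fun Γ(Y, W')).mp hspan
  refine ⟨fun i => Y.presheaf.germ W' y hyW' (c i), ?_⟩
  have h1 : (freeMod Y I).presheaf.germ W y hyW t =
      (freeMod Y I).presheaf.germ W' y hyW' (res (freeMod Y I) hW' t) :=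
    (TopCat.Presheaf.germ_res_apply (freeMod Y I).presheaf (homOfLE hW') y hyW' t).symm
  rw [h1, ← hc, map_sum]
  refine Finset.sum_congr rfl (fun i _ => ?_)
  rw [QS.germ_smul, germ_fs]

/-- the abstract stalk argument. -/
theorem bijective_of_basis {I : Type u} [Fintype I] {G G₀ T : Y.Modules} (y : Y)
    (α : freeMod Y I ⟶ G) (ι' : G ⟶ T) (u : G₀ ⟶ T)
    (hι : Function.Injective (stalkLin ι' y)) (hu : Function.Bijective (stalkLin u y))
    (v : I → G₀.presheaf.stalk y)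
    (hli : LinearIndependent (Y.presheaf.stalk y) v)
    (hsp : ⊤ ≤ Submodule.span (Y.presheaf.stalk y) (Set.range v))
    (hv : ∀ i, stalkLin (α ≫ ι') y ((freeMod Y I).presheaf.germ ⊤ y (Opens.mem_top y) (fs I i ⊤)) =
      stalkLin u y (v i)) :
    Function.Bijective (stalkLin α y) := by
  have key : ∀ c : I → Y.presheaf.stalk y,
      stalkLin ι' y (stalkLin α y
        (∑ i, c i • (freeMod Y I).presheaf.germ ⊤ y (Opens.mem_top y) (fs I i ⊤))) =
        stalkLin u y (∑ i, c i • v i) := by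
    intro c
    rw [← stalkLin_comp_apply, map_sum, map_sum]
    refine Finset.sum_congr rfl (fun i _ => ?_)
    rw [_root_.map_smul, _root_.map_smul, hv]
  constructor
  · rw [injective_iff_map_eq_zero]
    intro x hx
    obtain ⟨c, rfl⟩ := exists_coeff I y x
    have h1 := key c
    rw [hx, map_zero] at h1
    have h2 : ∑ i, c i • v i = 0 := hu.1 (by rw [← h1, map_zero])
    have h3 := Fintype.linearIndependent_iff.mp hli c h2
    exact Finset.sum_eq_zero (fun i _ => by rw [h3 i, zero_smul])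
  · intro z
    obtain ⟨w, hw⟩ := hu.2 (stalkLin ι' y z)
    obtain ⟨c, hc⟩ := (Submodule.mem_span_range_iff_exists_fun (Y.presheaf.stalk y)).mp
      (hsp (Submodule.mem_top : w ∈ ⊤))
    refine ⟨∑ i, c i • (freeMod Y I).presheaf.germ ⊤ y (Opens.mem_top y) (fs I i ⊤), hι ?_⟩
    rw [key c, hc, hw]

end Stalk

section Construction

variable {X Y : Scheme.{u}}

/-- `j_* j^* A` for the open `U`. -/
abbrev jj (U : X.Opens) (A : X.Modules) : X.Modules :=
  (pushforward U.ι).obj ((restrictFunctor U.ι).obj A)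

/-- a section of `f_* A` over `W` as a global section of `j_* j^* A`, `j : f⁻¹ W → X`. -/
def tsec (f : X ⟶ Y) (A : X.Modules) (W : Y.Opens) (b : Γ((pushforward f).obj A, W)) :
    Γ(jj (f ⁻¹ᵁ W) A, ⊤) :=
  res A ((f ⁻¹ᵁ W).ι_image_le ((f ⁻¹ᵁ W).ι ⁻¹ᵁ ⊤)) (b : Γ(A, f ⁻¹ᵁ W))

theorem construction [IsNoetherian X] (f : X ⟶ Y) (A : X.Modules) [A.IsQuasicoherent]
    (W : Y.Opens) {I : Type u} [Finite I] (b : I → Γ((pushforward f).obj A, W)) :
    ∃ (M : X.Modules) (α : freeMod Y I ⟶ (pushforward f).obj M)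
      (ι' : (pushforward f).obj M ⟶ (pushforward f).obj (jj (f ⁻¹ᵁ W) A)),
      Coh.IsCoh M ∧ Mono ι' ∧
      ∀ i, res ((pushforward f).obj (jj (f ⁻¹ᵁ W) A)) (le_top : W ≤ ⊤)
          ((α ≫ ι').app ⊤ (fs I i ⊤)) =
        ((pushforward f).map (un (f ⁻¹ᵁ W) A)).app W (b i) := by
  let T : X.Modules := jj (f ⁻¹ᵁ W) A
  haveI : ((restrictFunctor (f ⁻¹ᵁ W).ι).obj A).IsQuasicoherent :=
    Scheme.Modules.isQuasicoherent_restrictFunctor (f ⁻¹ᵁ W).ι A
  haveI : T.IsQuasicoherent := QCSec.isQuasicoherent_pushforward (f ⁻¹ᵁ W).ι _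
  haveI := QCExtend.isQuasicoherent_freeMod X I
  haveI := QCExtend.isFiniteType_freeMod X I
  let t : I → Γ(T, ⊤) := fun i => tsec f A W (b i)
  let σ : freeMod X I ⟶ T := freeHom T t
  have hσ : ∀ i, σ.app ⊤ (fs I i ⊤) = t i := fun i => freeHom_fs T t i
  let M : X.Modules := Abelian.image σ
  let p : freeMod X I ⟶ M := Abelian.factorThruImage σ
  let j : M ⟶ T := Abelian.image.ι σ
  have hpj : p ≫ j = σ := Abelian.image.fac σ
  haveI : M.IsQuasicoherent := QCLim.isQuasicoherent_image σ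
  haveI : Epi p := inferInstanceAs (Epi (Abelian.factorThruImage σ))
  have hM : Coh.IsCoh M := ⟨inferInstance, QCProps.isFiniteType_of_epi p⟩
  let m : I → Γ((pushforward f).obj M, ⊤) := fun i => p.app (f ⁻¹ᵁ ⊤) (fs I i (f ⁻¹ᵁ ⊤))
  let α : freeMod Y I ⟶ (pushforward f).obj M := freeHom _ m
  have hα : ∀ i, α.app ⊤ (fs I i ⊤) = m i := fun i => freeHom_fs _ m i
  haveI : Mono j := inferInstanceAs (Mono (Abelian.image.ι σ))
  have hmono : Mono ((pushforward f).map j) := by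
    rw [QCProps.mono_iff_app_injective]
    intro O
    exact QCExact.injective_sections j (f ⁻¹ᵁ O)
  refine ⟨M, α, (pushforward f).map j, hM, hmono, fun i => ?_⟩
  have e1 : (α ≫ (pushforward f).map j).app ⊤ (fs I i ⊤) =
      res T (le_top : f ⁻¹ᵁ ⊤ ≤ ⊤) (t i) := by
    change ((pushforward f).map j).app ⊤ (α.app ⊤ (fs I i ⊤)) = _
    rw [hα]
    change j.app (f ⁻¹ᵁ ⊤) (p.app (f ⁻¹ᵁ ⊤) (fs I i (f ⁻¹ᵁ ⊤))) = _
    have h2 : j.app (f ⁻¹ᵁ ⊤) (p.app (f ⁻¹ᵁ ⊤) (fs I i (f ⁻¹ᵁ ⊤))) =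
        σ.app (f ⁻¹ᵁ ⊤) (fs I i (f ⁻¹ᵁ ⊤)) :=
      congrArg (fun φ => φ.app (f ⁻¹ᵁ ⊤) (fs I i (f ⁻¹ᵁ ⊤))) hpj
    rw [h2, ← res_fs I i (le_top : f ⁻¹ᵁ ⊤ ≤ ⊤), QCExact.app_res', hσ]
  rw [e1]
  have hW1 : f ⁻¹ᵁ W ≤ f ⁻¹ᵁ ⊤ := fun _ _ => trivial
  have hW2 : (f ⁻¹ᵁ W).ι ''ᵁ ((f ⁻¹ᵁ W).ι ⁻¹ᵁ (f ⁻¹ᵁ W)) ≤
      (f ⁻¹ᵁ W).ι ''ᵁ ((f ⁻¹ᵁ W).ι ⁻¹ᵁ ⊤) := (f ⁻¹ᵁ W).ι.image_mono (fun _ _ => trivial)
  have hW3 := (f ⁻¹ᵁ W).ι_image_le ((f ⁻¹ᵁ W).ι ⁻¹ᵁ ⊤)
  have s1 : res ((pushforward f).obj T) (le_top : W ≤ ⊤) (res T (le_top : f ⁻¹ᵁ ⊤ ≤ ⊤) (t i)) =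
      res T (le_top : f ⁻¹ᵁ W ≤ ⊤) (t i) := res_res T hW1 le_top (t i)
  have s2 : res T (le_top : f ⁻¹ᵁ W ≤ ⊤) (t i) =
      res A (hW2.trans hW3) (b i : Γ(A, f ⁻¹ᵁ W)) :=
    res_res A hW2 hW3 (b i : Γ(A, f ⁻¹ᵁ W))
  have s3 : res A (hW2.trans hW3) (b i : Γ(A, f ⁻¹ᵁ W)) =
      ((pushforward f).map (un (f ⁻¹ᵁ W) A)).app W (b i) := rfl
  exact s1.trans (s2.trans s3)

end Construction

theorem main {X Y : Scheme.{u}} [IsIntegral X] [IsNoetherian X] [IsIntegral Y] [IsNoetherian Y]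
    (f : X ⟶ Y) [IsFinite f] [Surjective f] :
    ∃ (r : ℕ) (M : X.Modules)
      (α : freeMod Y (ULift.{u} (Fin r)) ⟶ (pushforward f).obj M),
      0 < r ∧ Coh.IsCoh M ∧ Function.Bijective (stalkLin α (genericPoint Y)) := by
  classical
  have hK : IsField (Y.presheaf.stalk (genericPoint Y)) :=
    (inferInstance : Field Y.functionField).toIsField
  let P := pushforward f
  let ξ' : X := genericPoint X
  let A₀ : X.Modules := Groth.Agent.Lib.Helper17.DevTest.A (Groth.Agent.Lib.Helper17.DevFin.JJ ξ')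
  have hA₀ : Coh.IsCoh A₀ := Groth.Agent.Lib.Helper17.DevTest.isCoh_A _
  let G₀ : Y.Modules := P.obj A₀
  have hG₀ : Coh.IsCoh G₀ := Groth.Agent.S0019.result f A₀ hA₀
  haveI := hG₀.1
  haveI := hG₀.2
  haveI : A₀.IsQuasicoherent := hA₀.1
  haveI : Module.Finite (Y.presheaf.stalk (genericPoint Y)) (G₀.presheaf.stalk (genericPoint Y)) :=
    Groth.Agent.Lib.Helper17.CohStalk.finite_stalk G₀ _
  obtain ⟨z, hz⟩ := f.surjective (genericPoint Y)
  have hmem : genericPoint Y ∈ CohB1.support G₀ := by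
    rw [← hz]
    apply Groth.Agent.Lib.Helper17.DevFin.mem_support_pushA f ξ' z
    have := (genericPoint_spec X).def
    rw [this]
    trivial
  haveI : Nontrivial (G₀.presheaf.stalk (genericPoint Y)) := not_subsingleton_iff_nontrivial.mp hmem
  obtain ⟨r, v, hr, hli, hsp⟩ :=
    exists_basis_of_isField.{u} hK (G₀.presheaf.stalk (genericPoint Y))
  have hrep : ∀ i, ∃ (Wi : Y.Opens) (hi : genericPoint Y ∈ Wi) (bi : Γ(G₀, Wi)),
      G₀.presheaf.germ Wi (genericPoint Y) hi bi = v i :=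
    fun i => TopCat.Presheaf.exists_germ_eq G₀.presheaf (v i)
  choose Wi hWi bi hbi using hrep
  let W : Y.Opens := ⨅ i, Wi i
  have hηW : genericPoint Y ∈ W := by
    change genericPoint Y ∈ ((⨅ i, Wi i : Y.Opens) : Set Y)
    rw [Opens.coe_iInf, Set.mem_iInter]
    exact hWi
  let b : ULift.{u} (Fin r) → Γ(G₀, W) := fun i => res G₀ (iInf_le Wi i) (bi i)
  have hb : ∀ i, G₀.presheaf.germ W (genericPoint Y) hηW (b i) = v i := by
    intro i
    rw [← hbi i]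
    exact TopCat.Presheaf.germ_res_apply G₀.presheaf (homOfLE (iInf_le Wi i)) (genericPoint Y)
      hηW (bi i)
  obtain ⟨M, α, ι', hM, hmono, hsec⟩ := construction f A₀ W b
  haveI := hmono
  refine ⟨r, M, α, hr, hM, ?_⟩
  let u : G₀ ⟶ P.obj (jj (f ⁻¹ᵁ W) A₀) := P.map (un (f ⁻¹ᵁ W) A₀)
  have hu : Function.Bijective (stalkLin u (genericPoint Y)) :=
    stalkLin_bijective_of_app u W (genericPoint Y) hηW
      (fun W' hW' => unit_app_bijective (f ⁻¹ᵁ W) A₀ (f ⁻¹ᵁ W') (fun _ hx => hW' hx))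
  refine bijective_of_basis (genericPoint Y) α ι' u (stalkLin_injective ι' _) hu v hli hsp ?_
  intro i
  rw [← hb i, stalkLin_apply, stalkLin_apply, QS.stalkMap_germ, QS.stalkMap_germ]
  have h3 := hsec i
  change _ = (P.obj (jj (f ⁻¹ᵁ W) A₀)).presheaf.germ W (genericPoint Y) hηW
    ((P.map (un (f ⁻¹ᵁ W) A₀)).app W (b i))
  rw [← h3]
  exact (TopCat.Presheaf.germ_res_apply (P.obj (jj (f ⁻¹ᵁ W) A₀)).presheaf (homOfLE le_top)
    (genericPoint Y) hηW _).symm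

end Groth.Agent.Lib.Helper26.GenFree

end
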