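import Mathlib
import Groth.Prelude
import Groth.Agent.Lib.Helper23.AmpleCurve3

/-!
# A section generating at all closed points of a quasi-compact scheme is an isomorphism
(helper26, sub-lemma R8 for helper11 / S16301, S16302)
-/

set_option autoImplicit false
set_option linter.unusedSectionVars false
universe u

open CategoryTheory CategoryTheory.Limits AlgebraicGeometry TopologicalSpace Opposite

namespace Groth.Agent.Lib.Helper26.GenLocusTop

/-- general form: `X` quasi-compact. -/
theorem genLocus_eq_top_of_forall_closed {X : Scheme.{u}} [CompactSpace X] {L : X.Modules}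
    (s : Coh.structureModule X ⟶ L)
    (h : ∀ Q : X, IsClosed ({Q} : Set X) → Q ∈ CohB1.genLocus L s) : CohB1.genLocus L s = ⊤ := by
  by_contra hne
  obtain ⟨x, hxs⟩ : ∃ x : X, x ∉ CohB1.genLocus L s := by
    by_contra hcon
    push Not at hcon
    apply hne
    ext y
    simp only [Opens.coe_top, Set.mem_univ, iff_true]
    exact hcon y
  have hZ : IsClosed ((CohB1.genLocus L s : Set X)ᶜ) := (CohB1.genLocus L s).isOpen.isClosed_compl
  obtain ⟨Q, hQ, hQc⟩ := hZ.exists_closed_singleton ⟨x, hxs⟩
  exact hQ (h Q hQc)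

theorem iso_of_forall_closed_mem_genLocus_aux {X : Scheme.{u}} [CompactSpace X] {L : X.Modules}
    (s : Coh.structureModule X ⟶ L)
    (h : ∀ Q : X, IsClosed ({Q} : Set X) → Q ∈ CohB1.genLocus L s) :
    Nonempty (L ≅ Coh.structureModule X) := by
  haveI := Groth.Agent.Lib.Helper23.AmpleCurve.isIso_of_genLocus_eq_top s
    (genLocus_eq_top_of_forall_closed s h)
  exact ⟨(asIso s).symm⟩

variable (k : Type u) [Field k] {X : Scheme.{u}} [X.Over (Spec (CommRingCat.of k))] [IsIntegral X]
  [IsProper (X ↘ Spec (CommRingCat.of k))]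

include k in
/-- (R8) -/
theorem iso_of_forall_closed_mem_genLocus {L : X.Modules} (hL : PicF.IsInvertible L)
    (s : Coh.structureModule X ⟶ L)
    (h : ∀ Q : X, IsClosed ({Q} : Set X) → Q ∈ CohB1.genLocus L s) :
    Nonempty (L ≅ Coh.structureModule X) := by
  haveI : CompactSpace X :=
    QuasiCompact.compactSpace_of_compactSpace (X ↘ Spec (CommRingCat.of k))
  exact iso_of_forall_closed_mem_genLocus_aux s h

end Groth.Agent.Lib.Helper26.GenLocusTop
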