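import Mathlib
import Groth.Prelude
import Groth.Agent.Lib.Helper23.FBC5
import Groth.Agent.Lib.Helper3.PbBasic
import Groth.Agent.Lib.Helper3.InvCoh
import Groth.Agent.Lib.Helper7.PnH0

/-!
# (Lc) for S1485 (helper27): vanishing of `H^n(fibre, O)` descends along base change of the base
(flat base change along the residue field extension `κ(g y') → κ(y')`).
-/

set_option autoImplicit false
set_option linter.style.haveILetI false
universe u
open CategoryTheory CategoryTheory.Limits AlgebraicGeometry

namespace Groth.Agent.Lib.Helper26.H1FibLc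

open Groth.Agent.Lib.Helper3

theorem subsingleton_HH_fiber_of_isPullback {X Y X' Y' : Scheme.{u}} (f : X ⟶ Y) [IsProper f]
    (g : Y' ⟶ Y) (f' : X' ⟶ Y') (g' : X' ⟶ X) (sq : IsPullback g' f' f g) (y' : Y') (n : ℕ)
    (H : Subsingleton (Coh.HH (f'.fiber y') (Coh.structureModule (f'.fiber y')) n)) :
    Subsingleton (Coh.HH (f.fiber (g y')) (Coh.structureModule (f.fiber (g y'))) n) := by
  obtain ⟨π, hpb⟩ : ∃ π : f'.fiber y' ⟶ f.fiber (g y'),
      IsPullback π (f'.fiberToSpecResidueField y') (f.fiberToSpecResidueField (g y'))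
        (Spec.map (g.residueFieldMap y')) :=
    ⟨_, isPullback_fiberToSpecResidueField_of_isPullback sq y'⟩
  letI : Algebra (Y.residueField (g y')) (Y'.residueField y') :=
    (g.residueFieldMap y').hom.toAlgebra
  letI : (f.fiber (g y')).Over (Spec (CommRingCat.of (Y.residueField (g y')))) :=
    ⟨f.fiberToSpecResidueField (g y')⟩
  letI : (f'.fiber y').Over (Spec (CommRingCat.of (Y'.residueField y'))) :=
    ⟨f'.fiberToSpecResidueField y'⟩
  haveI : IsProper ((f.fiber (g y')) ↘ Spec (CommRingCat.of (Y.residueField (g y')))) := by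
    show IsProper (pullback.snd f (Y.fromSpecResidueField (g y')))
    infer_instance
  haveI : (Coh.structureModule (f.fiber (g y'))).IsQuasicoherent :=
    InvCoh.isQuasicoherent_of_isInvertible (InvGen.isInvertible_structureModule _)
  have hpb' : IsPullback π ((f'.fiber y') ↘ Spec (CommRingCat.of (Y'.residueField y')))
      ((f.fiber (g y')) ↘ Spec (CommRingCat.of (Y.residueField (g y'))))
      (Spec.map (CommRingCat.ofHom (algebraMap (Y.residueField (g y')) (Y'.residueField y')))) :=
    hpb
  have key := Groth.Agent.Lib.Helper23.FBC.subsingleton_iff_of_isProper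
    (Y.residueField (g y')) (Y'.residueField y') (X := f.fiber (g y')) (X' := f'.fiber y')
    (π := π) hpb' n (Coh.structureModule (f.fiber (g y')))
  refine key.mp ?_
  haveI := H
  exact Groth.Agent.Lib.Helper7.PnSections.subsingleton_HH_of_iso (PbBasic.pbUnit π) n

end Groth.Agent.Lib.Helper26.H1FibLc
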