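import Groth.Agent.Lib.Helper26.HenselTFAE
import Mathlib

/-!
# Direct limits of Henselian pairs (helper26)
-/

set_option autoImplicit false

namespace Groth.Agent.Lib.Helper26.HenselDirectLimit

open Polynomial Groth.Agent.Lib.Helper26.HenselGabber Groth.Agent.Lib.Helper26.HenselTFAE

variable {ι : Type*} [Preorder ι] [IsDirectedOrder ι] [Nonempty ι]
  (B : ι → Type*) [∀ i, CommRing (B i)] (g : ∀ i j : ι, i ≤ j → (B i →+* B j))
  [DirectedSystem B (fun i j h => g i j h)] (K : ∀ i, Ideal (B i))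
  (hK : ∀ i j (h : i ≤ j), (K i).map (g i j h) ≤ K j)

/-- The ideal of elements coming from some `K i`. -/
def stageIdeal : Ideal (DirectLimit B g) where
  carrier := {x | ∃ i, ∃ y ∈ K i, DirectLimit.Ring.of B g i y = x}
  add_mem' := by
    rintro _ _ ⟨i, y, hy, rfl⟩ ⟨j, z, hz, rfl⟩
    obtain ⟨k, hik, hjk⟩ := exists_ge_ge i j
    refine ⟨k, g i k hik y + g j k hjk z,
      (K k).add_mem (hK i k hik (Ideal.mem_map_of_mem _ hy))
        (hK j k hjk (Ideal.mem_map_of_mem _ hz)), ?_⟩
    rw [map_add, DirectLimit.Ring.of_f, DirectLimit.Ring.of_f]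
  zero_mem' := ⟨Classical.arbitrary ι, 0, (K _).zero_mem, map_zero _⟩
  smul_mem' := by
    rintro c _ ⟨i, y, hy, rfl⟩
    induction c using DirectLimit.induction with | _ j c
    obtain ⟨k, hik, hjk⟩ := exists_ge_ge i j
    refine ⟨k, g j k hjk c * g i k hik y,
      (K k).mul_mem_left _ (hK i k hik (Ideal.mem_map_of_mem _ hy)), ?_⟩
    rw [map_mul, DirectLimit.Ring.of_f, DirectLimit.Ring.of_f]
    rfl

include hK in
theorem exists_of_mem_iSup_map {x : DirectLimit B g}
    (hx : x ∈ ⨆ i, (K i).map (DirectLimit.Ring.of B g i)) :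
    ∃ i, ∃ y ∈ K i, DirectLimit.Ring.of B g i y = x := by
  have : (⨆ i, (K i).map (DirectLimit.Ring.of B g i)) ≤ stageIdeal B g K hK :=
    iSup_le fun i => Ideal.map_le_iff_le_comap.mpr fun y hy => ⟨i, y, hy, rfl⟩
  exact this hx

include hK in
theorem exists_stage_family (s : Finset ℕ) (c : ℕ → DirectLimit B g)
    (hc : ∀ j ∈ s, c j ∈ ⨆ i, (K i).map (DirectLimit.Ring.of B g i)) :
    ∃ i, ∃ d : ℕ → B i, (∀ j, d j ∈ K i) ∧ ∀ j ∈ s, DirectLimit.Ring.of B g i (d j) = c j := by
  classical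
  induction s using Finset.induction_on with
  | empty => exact ⟨Classical.arbitrary ι, fun _ => 0, fun _ => (K _).zero_mem, by simp⟩
  | insert j₀ s hj₀ ih =>
    obtain ⟨i₁, d₁, hd₁, hd₁'⟩ := ih (fun j hj => hc j (Finset.mem_insert_of_mem hj))
    obtain ⟨i₂, y, hy, hy'⟩ :=
      exists_of_mem_iSup_map B g K hK (hc j₀ (Finset.mem_insert_self _ _))
    obtain ⟨k, h₁, h₂⟩ := exists_ge_ge i₁ i₂
    refine ⟨k, fun j => if j = j₀ then g i₂ k h₂ y else g i₁ k h₁ (d₁ j), fun j => ?_,
      fun j hj => ?_⟩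
    · show (if j = j₀ then g i₂ k h₂ y else g i₁ k h₁ (d₁ j)) ∈ K k
      split_ifs
      · exact hK i₂ k h₂ (Ideal.mem_map_of_mem _ hy)
      · exact hK i₁ k h₁ (Ideal.mem_map_of_mem _ (hd₁ j))
    · show DirectLimit.Ring.of B g k (if j = j₀ then g i₂ k h₂ y else g i₁ k h₁ (d₁ j)) = c j
      rcases Finset.mem_insert.mp hj with rfl | hj
      · rw [if_pos rfl, DirectLimit.Ring.of_f, hy']
      · have hne : j ≠ j₀ := fun h => hj₀ (h ▸ hj)
        rw [if_neg hne, DirectLimit.Ring.of_f, hd₁' j hj]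

include hK in
theorem map_le_jacobson_directLimit [∀ i, HenselianRing (B i) (K i)] :
    (⨆ i, (K i).map (DirectLimit.Ring.of B g i)) ≤ Ideal.jacobson ⊥ := by
  intro x hx
  rw [Ideal.mem_jacobson_bot]
  intro y
  obtain ⟨i, z, hz, hz'⟩ := exists_of_mem_iSup_map B g K hK (Ideal.mul_mem_right y _ hx)
  have h1 := Ideal.mem_jacobson_bot.mp (HenselianRing.jac (R := B i) (I := K i) hz) 1
  have h2 := h1.map (DirectLimit.Ring.of B g i)
  rw [map_add, map_mul, map_one, mul_one, hz'] at h2
  exact h2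

include hK in
theorem gabber_directLimit [∀ i, HenselianRing (B i) (K i)] :
    Gabber (⨆ i, (K i).map (DirectLimit.Ring.of B g i)) := by
  classical
  intro n hn p hp hpK
  obtain ⟨i, d, hd, hd'⟩ := exists_stage_family B g K hK (Finset.range (n + 1))
    (fun j => p.coeff j) (fun j _ => hpK j)
  let q : (B i)[X] := ∑ j ∈ Finset.range (n + 1), Polynomial.monomial j (d j)
  have hqcoeff : ∀ j, q.coeff j = if j ∈ Finset.range (n + 1) then d j else 0 := by
    intro j
    simp only [q, Polynomial.finset_sum_coeff, Polynomial.coeff_monomial]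
    rw [Finset.sum_ite_eq']
  have hqdeg : q.natDegree ≤ n := by
    rw [Polynomial.natDegree_le_iff_coeff_eq_zero]
    intro N hN
    rw [hqcoeff, if_neg]
    rw [Finset.mem_range]; omega
  have hqK : ∀ j, q.coeff j ∈ K i := by
    intro j
    rw [hqcoeff]
    split_ifs
    · exact hd j
    · exact zero_mem _
  have hqmap : q.map (DirectLimit.Ring.of B g i) = p := by
    ext j
    rw [Polynomial.coeff_map, hqcoeff]
    split_ifs with h
    · exact hd' j h
    · rw [map_zero]
      symm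
      apply Polynomial.coeff_eq_zero_of_natDegree_lt
      rw [Finset.mem_range] at h
      omega
  obtain ⟨α, hα1, hα⟩ := gabber_of_henselianRing (K i) n hn q hqdeg hqK
  refine ⟨DirectLimit.Ring.of B g i α, ?_, ?_⟩
  · rw [← map_one (DirectLimit.Ring.of B g i), ← map_sub]
    exact (le_iSup (fun i => (K i).map (DirectLimit.Ring.of B g i)) i)
      (Ideal.mem_map_of_mem _ hα1)
  · have := hα.map (f := DirectLimit.Ring.of B g i)
    simpa [hqmap] using this

include hK in
/-- A direct limit of Henselian pairs is a Henselian pair. -/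
theorem henselianRing_directLimit [∀ i, HenselianRing (B i) (K i)] :
    HenselianRing (DirectLimit B g) (⨆ i, (K i).map (DirectLimit.Ring.of B g i)) :=
  henselianRing_of_gabber _ (map_le_jacobson_directLimit B g K hK) (gabber_directLimit B g K hK)

section Fin

variable {ι : Type*} [Preorder ι] [IsDirectedOrder ι] [Nonempty ι]
  (G : ι → Type*) [∀ i, CommRing (G i)] (f : ∀ i j : ι, i ≤ j → (G i →+* G j))
  [DirectedSystem G (fun i j h => f i j h)]

/-- Finitely many elements of a direct limit come from a common stage. -/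
theorem exists_stage_finset {κ : Type*} (s : Finset κ) (c : κ → DirectLimit G f) :
    ∃ i, ∃ d : κ → G i, ∀ k ∈ s, DirectLimit.Ring.of G f i (d k) = c k := by
  classical
  induction s using Finset.induction_on with
  | empty => exact ⟨Classical.arbitrary ι, fun _ => 0, by simp⟩
  | insert k₀ s hk₀ ih =>
    obtain ⟨i₁, d₁, hd₁⟩ := ih
    obtain ⟨i₂, y, hy⟩ := DirectLimit.exists_eq_mk f (c k₀)
    obtain ⟨k, h₁, h₂⟩ := exists_ge_ge i₁ i₂
    refine ⟨k, fun j => if j = k₀ then f i₂ k h₂ y else f i₁ k h₁ (d₁ j), fun j hj => ?_⟩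
    show DirectLimit.Ring.of G f k (if j = k₀ then f i₂ k h₂ y else f i₁ k h₁ (d₁ j)) = c j
    rcases Finset.mem_insert.mp hj with rfl | hj
    · rw [if_pos rfl, DirectLimit.Ring.of_f, hy]; rfl
    · have hne : j ≠ k₀ := fun h => hk₀ (h ▸ hj)
      rw [if_neg hne, DirectLimit.Ring.of_f, hd₁ j hj]

/-- Finitely many equalities in a direct limit hold at a common stage. -/
theorem exists_stage_eq_finset {κ : Type*} (s : Finset κ) (i : ι) (x y : κ → G i)
    (h : ∀ k ∈ s, DirectLimit.Ring.of G f i (x k) = DirectLimit.Ring.of G f i (y k)) :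
    ∃ j, ∃ hij : i ≤ j, ∀ k ∈ s, f i j hij (x k) = f i j hij (y k) := by
  classical
  induction s using Finset.induction_on with
  | empty => exact ⟨i, le_rfl, by simp⟩
  | insert k₀ s hk₀ ih =>
    obtain ⟨j₁, h₁, hj₁⟩ := ih (fun k hk => h k (Finset.mem_insert_of_mem hk))
    obtain ⟨j₂, h₂, h₂', hj₂⟩ := Quotient.exact (h k₀ (Finset.mem_insert_self _ _))
    obtain ⟨j, hj₁j, hj₂j⟩ := exists_ge_ge j₁ j₂
    refine ⟨j, h₁.trans hj₁j, fun k hk => ?_⟩
    rcases Finset.mem_insert.mp hk with rfl | hk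
    · have e1 := DirectedSystem.map_map' f h₂ hj₂j (x k)
      have e2 := DirectedSystem.map_map' f h₂' hj₂j (y k)
      have hj₂' : f i j₂ h₂ (x k) = f i j₂ h₂' (y k) := hj₂
      rw [← e1, ← e2, hj₂']
    · have e1 := DirectedSystem.map_map' f h₁ hj₁j (x k)
      have e2 := DirectedSystem.map_map' f h₁ hj₁j (y k)
      rw [← e1, ← e2, hj₁ k hk]

end Fin

end Groth.Agent.Lib.Helper26.HenselDirectLimit
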