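import Groth.Agent.Lib.Helper26.PairHensFunctor
import Groth.Agent.Lib.Helper26.HenselDirectLimit
import Mathlib

/-!
# Compact objects among Henselian pairs are Henselian finitely presented (helper26)
-/

set_option autoImplicit false
universe u

namespace Groth.Agent.Lib.Helper26.HensCompact

open Groth.Agent.Lib.Helper26.PairHensConstr Groth.Agent.Lib.Helper26.PairHensNbhd
  Groth.Agent.Lib.Helper26.PairHensOps Groth.Agent.Lib.Helper26.PairHensFunctor
  Groth.Agent.Lib.Helper26.HenselDirectLimit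

/-- Every `A`-algebra map from `B` to a directed colimit of Henselian `A`-algebras factors through
a stage. -/
def Factors (A : Type u) [CommRing A] (I : Ideal A) (B : Type u) [CommRing B] [Algebra A B] :
    Prop :=
  ∀ (κ : Type u) [Preorder κ] [IsDirectedOrder κ] [Nonempty κ]
      (Ra : κ → Type u) [∀ a, CommRing (Ra a)] [∀ a, Algebra A (Ra a)]
      [∀ a, HenselianRing (Ra a) (I.map (algebraMap A (Ra a)))]
      (t : ∀ a b : κ, a ≤ b → (Ra a →+* Ra b)) [DirectedSystem Ra (fun a b hab => t a b hab)],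
      (∀ (a b : κ) (hab : a ≤ b), (t a b hab).comp (algebraMap A (Ra a)) = algebraMap A (Ra b)) →
      ∀ [Algebra A (DirectLimit Ra t)],
      (∀ (a : κ) (x : A), algebraMap A (DirectLimit Ra t) x =
        DirectLimit.Ring.of Ra t a (algebraMap A (Ra a) x)) →
      (∀ χ : B →ₐ[A] DirectLimit Ra t, ∃ (a : κ) (φ : B →ₐ[A] Ra a),
          ∀ x : B, DirectLimit.Ring.of Ra t a (φ x) = χ x)

section Step1

variable {A : Type u} [CommRing A] (I : Ideal A) (B : Type u) [CommRing B] [Algebra A B]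

/-- Finitely generated subalgebras. -/
abbrev Idx1 : Type u := {C : Subalgebra A B // C.FG}

instance : IsDirectedOrder (Idx1 (A := A) B) :=
  ⟨fun a b => ⟨⟨a.1 ⊔ b.1, a.2.sup b.2⟩, (le_sup_left : a.1 ≤ a.1 ⊔ b.1),
    (le_sup_right : b.1 ≤ a.1 ⊔ b.1)⟩⟩

instance : Nonempty (Idx1 (A := A) B) := ⟨⟨⊥, Subalgebra.fg_bot⟩⟩

/-- Transition maps. -/
noncomputable def t1 (a b : Idx1 (A := A) B) (hab : a ≤ b) : HA I ↥a.1 →+* HA I ↥b.1 :=
  (map I (Subalgebra.inclusion (show a.1 ≤ b.1 from hab)) : HA I ↥a.1 →ₐ[A] HA I ↥b.1)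

theorem t1_apply (a b : Idx1 (A := A) B) (hab : a ≤ b) (x : HA I ↥a.1) :
    t1 I B a b hab x = map I (Subalgebra.inclusion (show a.1 ≤ b.1 from hab)) x := rfl

theorem t1_self (a : Idx1 (A := A) B) (x : HA I ↥a.1) : t1 I B a a le_rfl x = x := by
  rw [t1_apply]
  have h : Subalgebra.inclusion (show a.1 ≤ a.1 from le_rfl) = AlgHom.id A ↥a.1 :=
    Subalgebra.inclusion_self
  rw [h, map_id, AlgHom.id_apply]

theorem t1_trans (a b c : Idx1 (A := A) B) (hab : a ≤ b) (hbc : b ≤ c) (x : HA I ↥a.1) :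
    t1 I B b c hbc (t1 I B a b hab x) = t1 I B a c (hab.trans hbc) x := by
  rw [t1_apply, t1_apply, t1_apply, ← AlgHom.comp_apply, ← map_comp]
  rfl

instance : DirectedSystem (fun a : Idx1 (A := A) B => HA I ↥a.1)
    (fun a b hab => t1 I B a b hab) where
  map_self a x := t1_self I B a x
  map_map c b a hab hbc x := t1_trans I B a b c hab hbc x

/-- The subalgebra generated by one element. -/
def adj1 (b : B) : Idx1 (A := A) B :=
  ⟨Algebra.adjoin A {b}, ⟨{b}, by rw [Finset.coe_singleton]⟩⟩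

theorem mem_adj1 (b : B) : b ∈ (adj1 (A := A) B b).1 := Algebra.subset_adjoin rfl

theorem hcomp1 (a b : Idx1 (A := A) B) (hab : a ≤ b) :
    (t1 I B a b hab).comp (algebraMap A (HA I ↥a.1)) = algebraMap A (HA I ↥b.1) :=
  RingHom.ext fun x => (map I (Subalgebra.inclusion (show a.1 ≤ b.1 from hab))).commutes x

variable [HenselianRing B (I.map (algebraMap A B))]

theorem step1 (hF : Factors A I B) : ∃ C : Subalgebra A B, C.FG ∧
    ∃ π : HA I ↥C →ₐ[A] B, Function.Surjective π := by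
  classical
  obtain ⟨alg, halg⟩ := exists_algebra_directLimit (fun a : Idx1 (A := A) B => HA I ↥a.1)
    (t1 I B) (hcomp1 I B)
  letI : Algebra A (DirectLimit (fun a : Idx1 (A := A) B => HA I ↥a.1) (t1 I B)) := alg
  -- the canonical maps to `B`
  have hπ : ∀ a : Idx1 (A := A) B, ∃ π : HA I ↥a.1 →ₐ[A] B,
      ∀ c : ↥a.1, π (algebraMap ↥a.1 (HA I ↥a.1) c) = c :=
    fun a => exists_lift I (isPH_HA I _) B a.1.val
  choose π hπ using hπ
  have hπt : ∀ (a b : Idx1 (A := A) B) (hab : a ≤ b) (x : HA I ↥a.1),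
      π b (t1 I B a b hab x) = π a x := by
    intro a b hab x
    have : (π b).comp (map I (Subalgebra.inclusion (show a.1 ≤ b.1 from hab))) = π a :=
      algHom_ext I (isPH_HA I _) _ _ (fun c => by
        rw [AlgHom.comp_apply, map_algebraMap, hπ, hπ]; rfl)
    exact DFunLike.congr_fun this x
  let Λ : DirectLimit (fun a : Idx1 (A := A) B => HA I ↥a.1) (t1 I B) →+* B :=
    DirectLimit.Ring.lift (fun a : Idx1 (A := A) B => HA I ↥a.1) (t1 I B) B
      (fun a => (π a : HA I ↥a.1 →+* B)) hπt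
  -- the maps from the subalgebras to the colimit
  let ofAlg : ∀ a : Idx1 (A := A) B, HA I ↥a.1 →ₐ[A]
      DirectLimit (fun a : Idx1 (A := A) B => HA I ↥a.1) (t1 I B) := fun a =>
    { toRingHom := DirectLimit.Ring.of (fun a : Idx1 (A := A) B => HA I ↥a.1) (t1 I B) a
      commutes' := fun x => (halg a x).symm }
  let f : ∀ a : Idx1 (A := A) B, ↥a.1 →ₐ[A]
      DirectLimit (fun a : Idx1 (A := A) B => HA I ↥a.1) (t1 I B) := fun a =>
    (ofAlg a).comp (IsScalarTower.toAlgHom A ↥a.1 (HA I ↥a.1))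
  have hf : ∀ (i j : Idx1 (A := A) B) (h : i.1 ≤ j.1),
      f i = (f j).comp (Subalgebra.inclusion h) := by
    intro i j h
    ext c
    show DirectLimit.Ring.of _ (t1 I B) i (algebraMap ↥i.1 (HA I ↥i.1) c) =
      DirectLimit.Ring.of _ (t1 I B) j (algebraMap ↥j.1 (HA I ↥j.1) (Subalgebra.inclusion h c))
    rw [← map_algebraMap I (Subalgebra.inclusion h) c]
    exact (DirectLimit.Ring.of_f (f := t1 I B) (show i ≤ j from h) _).symm
  have dir : Directed (· ≤ ·) (fun a : Idx1 (A := A) B => a.1) := fun a b =>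
    ⟨⟨a.1 ⊔ b.1, a.2.sup b.2⟩, le_sup_left, le_sup_right⟩
  have hT : (⊤ : Subalgebra A B) ≤ iSup (fun a : Idx1 (A := A) B => a.1) := by
    intro b _
    exact (le_iSup (fun a : Idx1 (A := A) B => a.1) (adj1 B b)) (mem_adj1 B b)
  let χ : B →ₐ[A] DirectLimit (fun a : Idx1 (A := A) B => HA I ↥a.1) (t1 I B) :=
    (Subalgebra.iSupLift (fun a : Idx1 (A := A) B => a.1) dir f hf ⊤ hT).comp
      (Subalgebra.topEquiv (R := A) (A := B)).symm.toAlgHom
  have hΛ : ∀ (a : Idx1 (A := A) B) (x : HA I ↥a.1),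
      Λ (DirectLimit.Ring.of (fun a : Idx1 (A := A) B => HA I ↥a.1) (t1 I B) a x) = π a x :=
    fun a x => rfl
  have hΛχ : ∀ b : B, Λ (χ b) = b := by
    intro b
    have h1 : χ b = f (adj1 B b) ⟨b, mem_adj1 B b⟩ := by
      show Subalgebra.iSupLift (fun a : Idx1 (A := A) B => a.1) dir f hf ⊤ hT
        ⟨b, Algebra.mem_top⟩ = _
      exact Subalgebra.iSupLift_of_mem (fun a : Idx1 (A := A) B => a.1) (i := adj1 B b)
        (⟨b, Algebra.mem_top⟩ : (⊤ : Subalgebra A B)) (mem_adj1 B b)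
    rw [h1]
    show Λ (DirectLimit.Ring.of (fun a : Idx1 (A := A) B => HA I ↥a.1) (t1 I B) (adj1 B b)
      (algebraMap _ _ (⟨b, mem_adj1 B b⟩ : ↥(adj1 (A := A) B b).1))) = b
    rw [hΛ]
    exact hπ (adj1 B b) ⟨b, mem_adj1 B b⟩
  obtain ⟨a, φ, hφ⟩ := hF (Idx1 (A := A) B) (fun a => HA I ↥a.1) (t1 I B) (hcomp1 I B) halg χ
  refine ⟨a.1, a.2, π a, fun b => ⟨φ b, ?_⟩⟩
  rw [← hΛ, hφ, hΛχ]

theorem step15 (hF : Factors A I B) :
    ∃ (n : ℕ) (π₀ : HA I (MvPolynomial (Fin n) A) →ₐ[A] B), Function.Surjective π₀ := by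
  obtain ⟨C, hC, π, hsurj⟩ := step1 I B hF
  haveI : Algebra.FiniteType A ↥C := (Subalgebra.fg_iff_finiteType C).mp hC
  obtain ⟨n, f, hf⟩ := Algebra.FiniteType.iff_quotient_mvPolynomial''.mp this
  exact ⟨n, π.comp (map I f), hsurj.comp (map_surjective I f hf)⟩

end Step1

section Step2

variable {A : Type u} [CommRing A] (I : Ideal A) (B : Type u) [CommRing B] [Algebra A B]
  {H : Type u} [CommRing H] [Algebra A H] (π₀ : H →ₐ[A] B)

/-- Finitely generated ideals inside the kernel. -/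
abbrev Idx2 : Type u := {μ : Ideal H // μ.FG ∧ μ ≤ RingHom.ker π₀}

instance : IsDirectedOrder (Idx2 B π₀) :=
  ⟨fun a b => ⟨⟨a.1 ⊔ b.1, Submodule.FG.sup a.2.1 b.2.1, sup_le a.2.2 b.2.2⟩, (le_sup_left : a.1 ≤ a.1 ⊔ b.1),
    (le_sup_right : b.1 ≤ a.1 ⊔ b.1)⟩⟩

instance : Nonempty (Idx2 B π₀) := ⟨⟨⊥, Submodule.fg_bot, bot_le⟩⟩

/-- Transition maps. -/
def t2 (a b : Idx2 B π₀) (hab : a ≤ b) : H ⧸ a.1 →+* H ⧸ b.1 :=
  Ideal.Quotient.factor (show a.1 ≤ b.1 from hab)

theorem t2_mk (a b : Idx2 B π₀) (hab : a ≤ b) (x : H) :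
    t2 B π₀ a b hab (Ideal.Quotient.mk a.1 x) = Ideal.Quotient.mk b.1 x := rfl

instance : DirectedSystem (fun a : Idx2 B π₀ => H ⧸ a.1) (fun a b hab => t2 B π₀ a b hab) where
  map_self a x := by
    obtain ⟨y, rfl⟩ := Ideal.Quotient.mk_surjective x
    exact t2_mk B π₀ a a le_rfl y
  map_map c b a hab hbc x := by
    obtain ⟨y, rfl⟩ := Ideal.Quotient.mk_surjective x
    show t2 B π₀ b c hbc (t2 B π₀ a b hab (Ideal.Quotient.mk a.1 y)) =
      t2 B π₀ a c (hab.trans hbc) (Ideal.Quotient.mk a.1 y)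
    rw [t2_mk, t2_mk, t2_mk]

theorem hcomp2 (a b : Idx2 B π₀) (hab : a ≤ b) :
    (t2 B π₀ a b hab).comp (algebraMap A (H ⧸ a.1)) = algebraMap A (H ⧸ b.1) :=
  RingHom.ext fun x => t2_mk B π₀ a b hab (algebraMap A H x)

variable {B} {π₀}
variable {P : Type u} [CommRing P] [Algebra A P] [Algebra P H] [IsScalarTower A P H]
  [Algebra.FiniteType A P]

theorem ker_fg (hF : Factors A I B)
    (hH : Hens2.IsPairHenselization P (I.map (algebraMap A P)) H)
    (hπ₀ : Function.Surjective π₀) : (RingHom.ker π₀).FG := by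
  classical
  haveI := henselianRing_of_isPH I hH
  haveI : ∀ a : Idx2 B π₀, HenselianRing (H ⧸ a.1) (I.map (algebraMap A (H ⧸ a.1))) :=
    fun a => henselianRing_quotient I H a.1
  obtain ⟨alg, halg⟩ := exists_algebra_directLimit (fun a : Idx2 B π₀ => H ⧸ a.1)
    (t2 B π₀) (hcomp2 B π₀)
  letI : Algebra A (DirectLimit (fun a : Idx2 B π₀ => H ⧸ a.1) (t2 B π₀)) := alg
  let bot2 : Idx2 B π₀ := ⟨⊥, Submodule.fg_bot, bot_le⟩
  let ofAlg : ∀ a : Idx2 B π₀, (H ⧸ a.1) →ₐ[A]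
      DirectLimit (fun a : Idx2 B π₀ => H ⧸ a.1) (t2 B π₀) := fun a =>
    { toRingHom := DirectLimit.Ring.of (fun a : Idx2 B π₀ => H ⧸ a.1) (t2 B π₀) a
      commutes' := fun x => (halg a x).symm }
  let g : H →ₐ[A] DirectLimit (fun a : Idx2 B π₀ => H ⧸ a.1) (t2 B π₀) :=
    (ofAlg bot2).comp (Ideal.Quotient.mkₐ A bot2.1)
  have hg : ∀ (a : Idx2 B π₀) (x : H),
      DirectLimit.Ring.of (fun a : Idx2 B π₀ => H ⧸ a.1) (t2 B π₀) a (Ideal.Quotient.mk a.1 x) =
        g x := by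
    intro a x
    have hle : bot2 ≤ a := (bot_le : (⊥ : Ideal H) ≤ a.1)
    show _ = DirectLimit.Ring.of (fun a : Idx2 B π₀ => H ⧸ a.1) (t2 B π₀) bot2
      (Ideal.Quotient.mk bot2.1 x)
    rw [← DirectLimit.Ring.of_f (f := t2 B π₀) hle (Ideal.Quotient.mk bot2.1 x), t2_mk]
  have hker : RingHom.ker π₀.toRingHom ≤ RingHom.ker g.toRingHom := by
    intro x hx
    have hx' : x ∈ RingHom.ker π₀ := hx
    let μ : Idx2 B π₀ := ⟨Ideal.span {x}, Submodule.fg_span_singleton x,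
      (Ideal.span_singleton_le_iff_mem _).mpr hx'⟩
    have h0 : Ideal.Quotient.mk μ.1 x = 0 :=
      Ideal.Quotient.eq_zero_iff_mem.mpr (Ideal.mem_span_singleton_self x)
    show g x = 0
    rw [← hg μ x, h0, map_zero]
  let χ : B →ₐ[A] DirectLimit (fun a : Idx2 B π₀ => H ⧸ a.1) (t2 B π₀) :=
    AlgHom.liftOfSurjective π₀ hπ₀ g hker
  have hχ : ∀ x : H, χ (π₀ x) = g x := fun x => AlgHom.liftOfSurjective_apply π₀ hπ₀ g hker x
  obtain ⟨μ, φ, hφ⟩ := hF (Idx2 B π₀) (fun a => H ⧸ a.1) (t2 B π₀) (hcomp2 B π₀) halg χ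
  obtain ⟨s, hs⟩ := (Algebra.FiniteType.out : (⊤ : Subalgebra A P).FG)
  obtain ⟨μ', hμμ', hk⟩ := exists_stage_eq_finset (fun a : Idx2 B π₀ => H ⧸ a.1) (t2 B π₀) s μ
    (fun p => φ (π₀ (algebraMap P H p))) (fun p => Ideal.Quotient.mk μ.1 (algebraMap P H p))
    (fun p _ => by rw [hφ, hχ, hg])
  let U₁ : H →ₐ[A] H ⧸ μ'.1 :=
    ((Ideal.Quotient.factorₐ A (show μ.1 ≤ μ'.1 from hμμ')).comp φ).comp π₀
  let U₂ : H →ₐ[A] H ⧸ μ'.1 := Ideal.Quotient.mkₐ A μ'.1
  have hU : U₁.comp (IsScalarTower.toAlgHom A P H) = U₂.comp (IsScalarTower.toAlgHom A P H) := by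
    apply AlgHom.ext_of_adjoin_eq_top hs
    intro p hp
    exact hk p (Finset.mem_coe.mp hp)
  have hUU : U₁ = U₂ := algHom_ext I hH U₁ U₂ (fun p => DFunLike.congr_fun hU p)
  have hle : RingHom.ker π₀ ≤ μ'.1 := by
    intro x hx
    have hx0 : π₀ x = 0 := hx
    have h1 : U₁ x = 0 := by
      show Ideal.Quotient.factorₐ A (show μ.1 ≤ μ'.1 from hμμ') (φ (π₀ x)) = 0
      rw [hx0, map_zero, map_zero]
    rw [hUU] at h1
    exact Ideal.Quotient.eq_zero_iff_mem.mp h1
  rw [le_antisymm hle μ'.2.2]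
  exact μ'.2.1

end Step2

section Step3

variable {A : Type u} [CommRing A] (I : Ideal A) {B : Type u} [CommRing B] [Algebra A B]
  {H : Type u} [CommRing H] [Algebra A H] (π₀ : H →ₐ[A] B)
  {P : Type u} [CommRing P] [Algebra A P] [Algebra P H] [IsScalarTower A P H]
  [Algebra.FinitePresentation A P]

theorem exists_fp_of_ker_fg (hH : Hens2.IsPairHenselization P (I.map (algebraMap A P)) H)
    (hπ₀ : Function.Surjective π₀) (hk : (RingHom.ker π₀).FG) :
    ∃ (R : Type u) (_ : CommRing R) (_ : Algebra A R) (_ : Algebra R B) (_ : IsScalarTower A R B),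
      Algebra.FinitePresentation A R ∧ Hens2.IsPairHenselization R (I.map (algebraMap A R)) B := by
  classical
  obtain ⟨s, hs⟩ := hk
  obtain ⟨N, _, _, _, hN, φN, hφN⟩ := exists_nbhd_of_finset hH s
  letI : Algebra A N := ((algebraMap P N).comp (algebraMap A P)).toAlgebra
  haveI : IsScalarTower A P N := IsScalarTower.of_algebraMap_eq fun _ => rfl
  letI : Algebra N H := φN.toRingHom.toAlgebra
  haveI : IsScalarTower P N H := IsScalarTower.of_algebraMap_eq fun p => (φN.commutes p).symm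
  have hHN := isPairHenselization_of_nbhd hH hN
  choose! Y hY using hφN
  have h𝔞 : (Ideal.span (Y '' (s : Set H))).map (algebraMap N H) = RingHom.ker π₀ := by
    rw [Ideal.map_span, ← hs, Set.image_image]
    congr 1
    have : ∀ x ∈ (s : Set H), algebraMap N H (Y x) = x := fun x hx => hY x (Finset.mem_coe.mp hx)
    rw [Set.image_congr this, Set.image_id']
  have h𝔞fg : (Ideal.span (Y '' (s : Set H))).FG :=
    Submodule.fg_span (Set.Finite.image Y s.finite_toSet)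
  have hQ := isPairHenselization_quotient hHN (Ideal.span (Y '' (s : Set H)))
  let e : (H ⧸ (Ideal.span (Y '' (s : Set H))).map (algebraMap N H)) ≃+* B :=
    (Ideal.quotEquivOfEq h𝔞).trans (Ideal.quotientKerAlgEquivOfSurjective hπ₀).toRingEquiv
  letI algRB : Algebra (N ⧸ Ideal.span (Y '' (s : Set H))) B :=
    ((e : _ →+* B).comp (algebraMap (N ⧸ Ideal.span (Y '' (s : Set H)))
      (H ⧸ (Ideal.span (Y '' (s : Set H))).map (algebraMap N H)))).toAlgebra
  have hQB := isPairHenselization_of_ringEquiv hQ e (fun r => rfl)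
  have hI : ((I.map (algebraMap A P)).map (algebraMap P N)).map
      (Ideal.Quotient.mk (Ideal.span (Y '' (s : Set H)))) =
      I.map (algebraMap A (N ⧸ Ideal.span (Y '' (s : Set H)))) := by
    rw [Ideal.map_map, Ideal.map_map]
    rfl
  haveI : Algebra.FinitePresentation P N := inferInstance
  haveI : Algebra.FinitePresentation A N := Algebra.FinitePresentation.trans A P N
  refine ⟨N ⧸ Ideal.span (Y '' (s : Set H)), inferInstance, inferInstance, algRB,
    IsScalarTower.of_algebraMap_eq fun a => ?_, ?_, ?_⟩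
  · show algebraMap A B a = π₀ (φN (algebraMap P N (algebraMap A P a)))
    rw [φN.commutes, ← IsScalarTower.algebraMap_apply A P H, π₀.commutes]
  · exact Algebra.FinitePresentation.quotient h𝔞fg
  · rw [← hI]
    exact hQB

end Step3

end Groth.Agent.Lib.Helper26.HensCompact
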