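import Groth.Agent.Lib.Helper26.PairHensConstr

/-!
# Exactness can be tested on Henselized stalks

* `exists_smul_mem_range`: descent of membership in the image along a flat algebra `H` with
  `mH ≠ H`.
* `map_ne_top`: for a Henselization `H` of `(A_m, IA_m)` with `I ≤ m`, `mH ≠ H`.
-/

set_option autoImplicit false
universe u

namespace Groth.Agent.Lib.Helper26.HensStalkExact

open TensorProduct Groth.Agent.Lib.Helper26.PairHensConstr

theorem exists_smul_mem_range {A : Type u} [CommRing A] (H : Type u) [CommRing H] [Algebra A H]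
    [Module.Flat A H] (m : Ideal A) (hm : m.map (algebraMap A H) ≠ ⊤)
    {M' M : Type u} [AddCommGroup M'] [Module A M'] [AddCommGroup M] [Module A M]
    (f : M' →ₗ[A] M) (x : M) (hx : (1 : H) ⊗ₜ[A] x ∈ LinearMap.range (f.baseChange H)) :
    ∃ s : A, s ∉ m ∧ s • x ∈ LinearMap.range f := by
  by_contra hcon
  push_neg at hcon
  set n : M ⧸ LinearMap.range f := Submodule.Quotient.mk x with hn
  let ℓ : A →ₗ[A] M ⧸ LinearMap.range f := LinearMap.toSpanSingleton A _ n
  have hℓ : ∀ s, ℓ s = s • n := fun s => rfl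
  have hker : LinearMap.ker ℓ ≤ m := by
    intro s hs
    by_contra hsm
    apply hcon s hsm
    have h1 : s • n = 0 := by rw [← hℓ]; exact hs
    rw [hn, ← Submodule.Quotient.mk_smul, Submodule.Quotient.mk_eq_zero] at h1
    exact h1
  let inc : (A ⧸ LinearMap.ker ℓ) →ₗ[A] M ⧸ LinearMap.range f :=
    (LinearMap.ker ℓ).liftQ ℓ le_rfl
  have hinc : Function.Injective inc := by
    rw [← LinearMap.ker_eq_bot]
    exact Submodule.ker_liftQ_eq_bot _ _ _ le_rfl
  have hinj : Function.Injective (inc.lTensor H) :=
    Module.Flat.lTensor_preserves_injective_linearMap inc hinc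
  have key : ∀ y : H ⊗[A] M', ((LinearMap.range f).mkQ.lTensor H) (f.baseChange H y) = 0 := by
    intro y
    induction y using TensorProduct.induction_on with
    | zero => simp
    | tmul h y' =>
      rw [LinearMap.baseChange_tmul, LinearMap.lTensor_tmul]
      have : (LinearMap.range f).mkQ (f y') = 0 := by
        rw [Submodule.mkQ_apply, Submodule.Quotient.mk_eq_zero]; exact ⟨y', rfl⟩
      rw [this, TensorProduct.tmul_zero]
    | add a b ha hb => rw [map_add, map_add, ha, hb, add_zero]
  have h0 : (1 : H) ⊗ₜ[A] n = 0 := by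
    obtain ⟨y, hy⟩ := hx
    have e1 : (1 : H) ⊗ₜ[A] n = ((LinearMap.range f).mkQ.lTensor H) ((1 : H) ⊗ₜ[A] x) := by
      rw [LinearMap.lTensor_tmul]; rfl
    rw [e1, ← hy, key]
  have h1 : (1 : H) ⊗ₜ[A] (Submodule.Quotient.mk (1 : A) : A ⧸ LinearMap.ker ℓ) = 0 := by
    apply hinj
    rw [LinearMap.lTensor_tmul, map_zero]
    have : inc (Submodule.Quotient.mk (1 : A)) = n := by
      show ℓ 1 = n
      rw [hℓ, one_smul]
    rw [this, h0]
  let q : (A ⧸ LinearMap.ker ℓ) →ₗ[A] (A ⧸ m) :=
    Submodule.mapQ (LinearMap.ker ℓ) m LinearMap.id (fun s hs => hker hs)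
  have h2 : (1 : H) ⊗ₜ[A] (Ideal.Quotient.mk m 1) = 0 := by
    have := congrArg (q.lTensor H) h1
    rw [LinearMap.lTensor_tmul, map_zero] at this
    exact this
  have h3 := congrArg (TensorProduct.tensorQuotEquivQuotSMul H m) h2
  rw [TensorProduct.tensorQuotEquivQuotSMul_tmul_mk, map_zero, one_smul,
    Submodule.Quotient.mk_eq_zero, Ideal.smul_top_eq_map] at h3
  apply hm
  rw [Ideal.eq_top_iff_one]
  exact h3

theorem map_ne_top {A : Type u} [CommRing A] (I m : Ideal A) [m.IsPrime] (hIm : I ≤ m)
    (H : Type u) [CommRing H] [Algebra (Localization.AtPrime m) H] [Algebra A H]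
    [IsScalarTower A (Localization.AtPrime m) H]
    (hH : Hens2.IsPairHenselization (Localization.AtPrime m)
      (I.map (algebraMap A (Localization.AtPrime m))) H) :
    m.map (algebraMap A H) ≠ ⊤ := by
  have hle : (I.map (algebraMap A (Localization.AtPrime m))).map
      (IsLocalRing.residue (Localization.AtPrime m)) ≤ ⊥ := by
    rw [Ideal.map_le_iff_le_comap, Ideal.map_le_iff_le_comap]
    intro a ha
    rw [Ideal.mem_comap, Ideal.mem_comap, Ideal.mem_bot, IsLocalRing.residue_eq_zero_iff]
    exact (IsLocalization.AtPrime.to_map_mem_maximal_iff _ m a).mpr (hIm ha)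
  obtain ⟨g, hg, -⟩ := hH.2 (IsLocalRing.ResidueField (Localization.AtPrime m)) ⊥
    (IsLocalRing.residue (Localization.AtPrime m)) inferInstance hle
  intro htop
  have h1 : (1 : H) ∈ m.map (algebraMap A H) := by rw [htop]; trivial
  have hker : m.map (algebraMap A H) ≤ RingHom.ker g := by
    rw [Ideal.map_le_iff_le_comap]
    intro a ha
    rw [Ideal.mem_comap, RingHom.mem_ker, IsScalarTower.algebraMap_apply A (Localization.AtPrime m) H]
    have : g (algebraMap (Localization.AtPrime m) H (algebraMap A (Localization.AtPrime m) a)) =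
        (g.comp (algebraMap (Localization.AtPrime m) H)) (algebraMap A (Localization.AtPrime m) a) :=
      rfl
    rw [this, hg, IsLocalRing.residue_eq_zero_iff]
    exact (IsLocalization.AtPrime.to_map_mem_maximal_iff _ m a).mpr ha
  have := hker h1
  rw [RingHom.mem_ker, map_one] at this
  exact one_ne_zero this

theorem aux {A : Type u} [CommRing A] (I m : Ideal A) [m.IsPrime] (hIm : I ≤ m)
    (H : Type u) [CommRing H] [Algebra (Localization.AtPrime m) H] [Algebra A H]
    [IsScalarTower A (Localization.AtPrime m) H]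
    (hH : Hens2.IsPairHenselization (Localization.AtPrime m)
      (I.map (algebraMap A (Localization.AtPrime m))) H)
    {M' M M'' : Type u} [AddCommGroup M'] [Module A M'] [AddCommGroup M] [Module A M]
    [AddCommGroup M''] [Module A M''] (f : M' →ₗ[A] M) (g : M →ₗ[A] M'')
    (hex : Function.Exact (f.baseChange H) (g.baseChange H)) (x : M) (hgx : g x = 0) :
    ∃ s : A, s ∉ m ∧ s • x ∈ LinearMap.range f := by
  haveI : Module.Flat (Localization.AtPrime m) H := flat_of_isPairHenselization hH
  haveI : Module.Flat A H := Module.Flat.trans A (Localization.AtPrime m) H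
  refine exists_smul_mem_range H m (map_ne_top I m hIm H hH) f x ?_
  refine (hex _).mp ?_
  rw [LinearMap.baseChange_tmul, hgx, TensorProduct.tmul_zero]

end Groth.Agent.Lib.Helper26.HensStalkExact
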