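import Groth.Agent.Lib.Helper3.HenselPair
import Mathlib

/-!
# Basic permanence properties of Henselian pairs (`HenselianRing A I`).
-/

set_option autoImplicit false
universe u

namespace Groth.Agent.Lib.Helper26.HenselBasic

open Polynomial

variable {A : Type u} [CommRing A]

lemma mk_eval_eq_of_sub_mem (I : Ideal A) (p : A[X]) {b b₀ : A} (h : b - b₀ ∈ I) :
    Ideal.Quotient.mk I (p.eval b) = Ideal.Quotient.mk I (p.eval b₀) := by
  rw [← Polynomial.eval_map_apply, ← Polynomial.eval_map_apply, (Ideal.Quotient.eq).mpr h]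

lemma isUnit_mk_iff_exists (I : Ideal A) (x : A) :
    IsUnit (Ideal.Quotient.mk I x) ↔ ∃ y : A, x * y - 1 ∈ I := by
  rw [isUnit_iff_exists_inv]
  constructor
  · rintro ⟨b, hb⟩
    obtain ⟨y, rfl⟩ := Ideal.Quotient.mk_surjective b
    refine ⟨y, ?_⟩
    rw [← Ideal.Quotient.eq, map_mul, map_one]
    exact hb
  · rintro ⟨y, hy⟩
    refine ⟨Ideal.Quotient.mk I y, ?_⟩
    rw [← map_mul, ← map_one (Ideal.Quotient.mk I), Ideal.Quotient.eq]
    exact hy

lemma mem_of_mk_mem_map {I J : Ideal A} (hIJ : I ≤ J) {x : A}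
    (h : Ideal.Quotient.mk I x ∈ J.map (Ideal.Quotient.mk I)) : x ∈ J := by
  obtain ⟨j, hj, hjx⟩ := (Ideal.mem_map_iff_of_surjective _ Ideal.Quotient.mk_surjective).mp h
  have h1 : j - x ∈ I := Ideal.Quotient.eq.mp hjx
  have : x = j - (j - x) := by ring
  rw [this]
  exact J.sub_mem hj (hIJ h1)

/-- Quotient of a Henselian pair by a smaller ideal. -/
theorem henselianRing_quotient_of_le (I J : Ideal A) (hIJ : I ≤ J) (hJ : HenselianRing A J) :
    HenselianRing (A ⧸ I) (J.map (Ideal.Quotient.mk I)) := by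
  refine ⟨?_, ?_⟩
  · intro xb hxb
    obtain ⟨x, rfl⟩ := Ideal.Quotient.mk_surjective xb
    have hx : x ∈ J := mem_of_mk_mem_map hIJ hxb
    rw [Ideal.mem_jacobson_bot]
    intro yb
    obtain ⟨y, rfl⟩ := Ideal.Quotient.mk_surjective yb
    have := (Ideal.mem_jacobson_bot.mp (hJ.jac hx)) y
    rw [← map_mul, ← map_one (Ideal.Quotient.mk I), ← map_add]
    exact this.map _
  · intro fb hfb ab₀ h₁ h₂
    obtain ⟨f, hf, -, hfm⟩ := Polynomial.lifts_and_natDegree_eq_and_monic
      ((Polynomial.mem_lifts _).mpr (Polynomial.map_surjective _ Ideal.Quotient.mk_surjective fb))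
      hfb
    obtain ⟨a₀, rfl⟩ := Ideal.Quotient.mk_surjective ab₀
    subst hf
    have h1 : f.eval a₀ ∈ J := by
      apply mem_of_mk_mem_map hIJ
      rwa [← Polynomial.eval_map_apply]
    have h2 : IsUnit (Ideal.Quotient.mk J (f.derivative.eval a₀)) := by
      rw [isUnit_mk_iff_exists] at h₂ ⊢
      obtain ⟨yb, hy⟩ := h₂
      obtain ⟨y, rfl⟩ := Ideal.Quotient.mk_surjective yb
      refine ⟨y, mem_of_mk_mem_map hIJ ?_⟩
      rw [Polynomial.derivative_map, Polynomial.eval_map_apply] at hy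
      simpa using hy
    obtain ⟨a, ha, haa⟩ := hJ.is_henselian f hfm a₀ h1 h2
    refine ⟨Ideal.Quotient.mk I a, ?_, ?_⟩
    · rw [Polynomial.IsRoot, Polynomial.eval_map_apply, ha, map_zero]
    · rw [← map_sub]
      exact Ideal.mem_map_of_mem _ haa

/-- If `A` is Henselian at `I ≤ J` and `A/I` is Henselian at the image of `J` then `A` is
Henselian at `J`. -/
theorem henselianRing_of_quotient (I J : Ideal A) (hIJ : I ≤ J) (hI : HenselianRing A I)
    (hq : HenselianRing (A ⧸ I) (J.map (Ideal.Quotient.mk I))) : HenselianRing A J := by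
  have hjac : J ≤ Ideal.jacobson ⊥ := by
    intro x hx
    rw [Ideal.mem_jacobson_bot]
    intro y
    have h1 : Ideal.Quotient.mk I x ∈ J.map (Ideal.Quotient.mk I) := Ideal.mem_map_of_mem _ hx
    have h2 := (Ideal.mem_jacobson_bot.mp (hq.jac h1)) (Ideal.Quotient.mk I y)
    rw [← map_mul, ← map_one (Ideal.Quotient.mk I), ← map_add] at h2
    exact Groth.Agent.Lib.Helper3.isUnit_of_isUnit_mk hI.jac h2
  refine ⟨hjac, ?_⟩
  intro f hf a₀ h₁ h₂
  have h1 : (f.map (Ideal.Quotient.mk I)).eval (Ideal.Quotient.mk I a₀) ∈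
      J.map (Ideal.Quotient.mk I) := by
    rw [Polynomial.eval_map_apply]
    exact Ideal.mem_map_of_mem _ h₁
  have h2 : IsUnit (Ideal.Quotient.mk (J.map (Ideal.Quotient.mk I))
      ((f.map (Ideal.Quotient.mk I)).derivative.eval (Ideal.Quotient.mk I a₀))) := by
    rw [isUnit_mk_iff_exists] at h₂ ⊢
    obtain ⟨y, hy⟩ := h₂
    refine ⟨Ideal.Quotient.mk I y, ?_⟩
    rw [Polynomial.derivative_map, Polynomial.eval_map_apply, ← map_mul,
      ← map_one (Ideal.Quotient.mk I), ← map_sub]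
    exact Ideal.mem_map_of_mem _ hy
  obtain ⟨bb, hbb, hbb'⟩ := hq.is_henselian _ (hf.map _) _ h1 h2
  obtain ⟨j, hj, hjb⟩ :=
    (Ideal.mem_map_iff_of_surjective _ Ideal.Quotient.mk_surjective).mp hbb'
  set b := a₀ + j with hb
  have hmkb : Ideal.Quotient.mk I b = bb := by
    rw [hb, map_add, hjb]; ring
  have hbJ : b - a₀ ∈ J := by simpa [hb] using hj
  have h3 : f.eval b ∈ I := by
    rw [← Ideal.Quotient.eq_zero_iff_mem, ← Polynomial.eval_map_apply, hmkb]
    exact hbb
  have h4 : IsUnit (f.derivative.eval b) := by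
    apply Groth.Agent.Lib.Helper3.isUnit_of_isUnit_mk hjac
    rw [mk_eval_eq_of_sub_mem J _ hbJ]
    exact h₂
  obtain ⟨a, ha, hab⟩ := hI.is_henselian f hf b h3 (h4.map _)
  refine ⟨a, ha, ?_⟩
  have : a - a₀ = (a - b) + (b - a₀) := by ring
  rw [this]
  exact J.add_mem (hIJ hab) hbJ

end Groth.Agent.Lib.Helper26.HenselBasic
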