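import Groth.Agent.Lib.Helper26.HenselBasic
import Mathlib

/-!
# Gabber's criterion for Henselian pairs: basic implications

* `Gabber I` : every polynomial `Xⁿ(X-1) + p` (`p` with coefficients in `I`, degree `≤ n`, `n ≥ 1`)
  has a root in `1 + I`.
* `gabber_of_henselianRing` : a Henselian pair satisfies Gabber's condition.
* `root_unique` : uniqueness of roots congruent to a simple root.
* `exists_idempotent_of_gabber` : rank-one idempotent lifting in finite algebras.
-/

set_option autoImplicit false
universe u v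

namespace Groth.Agent.Lib.Helper26.HenselGabber

open Polynomial Groth.Agent.Lib.Helper26.HenselBasic Groth.Agent.Lib.Helper3

variable {A : Type u} [CommRing A]

/-- Gabber's condition (existence part). -/
def Gabber (I : Ideal A) : Prop :=
  ∀ (n : ℕ), 0 < n → ∀ p : A[X], p.natDegree ≤ n → (∀ i, p.coeff i ∈ I) →
    ∃ α : A, α - 1 ∈ I ∧ (X ^ n * (X - 1) + p).IsRoot α

lemma map_eq_zero_of_coeff_mem (I : Ideal A) (p : A[X]) (hp : ∀ i, p.coeff i ∈ I) :
    p.map (Ideal.Quotient.mk I) = 0 := by
  ext i
  rw [Polynomial.coeff_map, Polynomial.coeff_zero, Ideal.Quotient.eq_zero_iff_mem]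
  exact hp i

lemma coeff_mem_of_map_eq_zero (I : Ideal A) (p : A[X])
    (hp : p.map (Ideal.Quotient.mk I) = 0) (i : ℕ) : p.coeff i ∈ I := by
  rw [← Ideal.Quotient.eq_zero_iff_mem, ← Polynomial.coeff_map, hp, Polynomial.coeff_zero]

lemma eval_mem_of_coeff_mem (I : Ideal A) (p : A[X]) (hp : ∀ i, p.coeff i ∈ I) (a : A) :
    p.eval a ∈ I := by
  rw [← Ideal.Quotient.eq_zero_iff_mem, ← Polynomial.eval_map_apply,
    map_eq_zero_of_coeff_mem I p hp, Polynomial.eval_zero]

lemma monic_gabber (n : ℕ) (p : A[X]) (hp : p.natDegree ≤ n) :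
    (X ^ n * (X - 1) + p).Monic := by
  rcases subsingleton_or_nontrivial A with h | h
  · exact Polynomial.monic_of_subsingleton _
  have h1 : (X ^ n * (X - 1) : A[X]).Monic := by
    have : (X - 1 : A[X]) = X - C 1 := by simp
    rw [this]
    exact (Polynomial.monic_X_pow n).mul (Polynomial.monic_X_sub_C 1)
  apply h1.add_of_left
  have h2 : (X ^ n * (X - 1) : A[X]).degree = (n + 1 : ℕ) := by
    have : (X - 1 : A[X]) = X - C 1 := by simp
    rw [this, (Polynomial.monic_X_sub_C (1 : A)).degree_mul, Polynomial.degree_X_pow,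
      Polynomial.degree_X_sub_C]
    norm_cast
  rw [h2]
  calc p.degree ≤ (p.natDegree : WithBot ℕ) := Polynomial.degree_le_natDegree
    _ ≤ (n : WithBot ℕ) := by exact_mod_cast hp
    _ < ((n + 1 : ℕ) : WithBot ℕ) := by exact_mod_cast Nat.lt_succ_self n

/-- A Henselian pair satisfies Gabber's condition. -/
theorem gabber_of_henselianRing (I : Ideal A) [H : HenselianRing A I] : Gabber I := by
  intro n hn p hp hpI
  have hmonic := monic_gabber n p hp
  have hmap : (X ^ n * (X - 1) + p).map (Ideal.Quotient.mk I) = X ^ n * (X - 1) := by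
    rw [Polynomial.map_add, map_eq_zero_of_coeff_mem I p hpI, add_zero]
    simp
  obtain ⟨a, ha, ha'⟩ := H.is_henselian (X ^ n * (X - 1) + p) hmonic 1 (by
    rw [← Ideal.Quotient.eq_zero_iff_mem, ← Polynomial.eval_map_apply, hmap]
    simp) (by
    rw [← Polynomial.eval_map_apply, ← Polynomial.derivative_map, hmap]
    simp)
  exact ⟨a, ha', ha⟩

/-- Roots congruent modulo `I ≤ rad` to a simple root are equal. -/
theorem root_unique (I : Ideal A) (hI : I ≤ Ideal.jacobson ⊥) (f : A[X]) (a b : A)
    (ha : f.IsRoot a) (hb : f.IsRoot b) (hab : b - a ∈ I)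
    (hu : IsUnit (Ideal.Quotient.mk I (f.derivative.eval a))) : a = b := by
  obtain ⟨k, hk⟩ := Polynomial.binomExpansion f a (b - a)
  have hb' : f.eval (a + (b - a)) = 0 := by
    have : a + (b - a) = b := by ring
    rw [this]; exact hb
  rw [hb', ha.eq_zero, zero_add] at hk
  have h1 : (b - a) * (f.derivative.eval a + k * (b - a)) = 0 := by
    rw [hk]; ring
  have h2 : IsUnit (f.derivative.eval a + k * (b - a)) := by
    apply isUnit_of_isUnit_mk hI
    rw [map_add, map_mul, Ideal.Quotient.eq_zero_iff_mem.mpr hab, mul_zero, add_zero]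
    exact hu
  have h3 : b - a = 0 := by
    obtain ⟨u, hu⟩ := h2
    rw [← hu] at h1
    exact (Units.mul_left_eq_zero u).mp h1
  exact (sub_eq_zero.mp h3).symm

/-- Uniqueness in Gabber's condition. -/
theorem gabber_root_unique (I : Ideal A) (hI : I ≤ Ideal.jacobson ⊥) (n : ℕ) (p : A[X])
    (hpI : ∀ i, p.coeff i ∈ I) (a b : A) (ha' : a - 1 ∈ I) (hb' : b - 1 ∈ I)
    (ha : (X ^ n * (X - 1) + p).IsRoot a) (hb : (X ^ n * (X - 1) + p).IsRoot b) : a = b := by
  have hmap : (X ^ n * (X - 1) + p).map (Ideal.Quotient.mk I) = X ^ n * (X - 1) := by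
    rw [Polynomial.map_add, map_eq_zero_of_coeff_mem I p hpI, add_zero]
    simp
  apply root_unique I hI _ a b ha hb
  · have : b - a = (b - 1) - (a - 1) := by ring
    rw [this]; exact I.sub_mem hb' ha'
  · rw [← Polynomial.eval_map_apply, ← Polynomial.derivative_map, hmap]
    have h1 : Ideal.Quotient.mk I a = 1 := by
      rw [← map_one (Ideal.Quotient.mk I), Ideal.Quotient.eq]; exact ha'
    rw [h1]
    simp


section RankOne

variable (I : Ideal A) {B : Type v} [CommRing B] [Algebra A B]

lemma smul_mk_eq_zero {a : A} (ha : a ∈ I) (z : B ⧸ I.map (algebraMap A B)) : a • z = 0 := by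
  obtain ⟨w, rfl⟩ := Ideal.Quotient.mk_surjective z
  have : a • Ideal.Quotient.mk (I.map (algebraMap A B)) w =
      Ideal.Quotient.mk (I.map (algebraMap A B)) (a • w) := rfl
  rw [this, Ideal.Quotient.eq_zero_iff_mem, Algebra.smul_def]
  exact Ideal.mul_mem_right _ _ (Ideal.mem_map_of_mem _ ha)

/-- `I`-coefficient polynomials evaluate to zero in `B/IB`. -/
lemma aeval_eq_zero_of_coeff_mem (p : A[X]) (hp : ∀ i, p.coeff i ∈ I)
    (z : B ⧸ I.map (algebraMap A B)) : Polynomial.aeval z p = 0 := by
  rw [Polynomial.aeval_eq_sum_range]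
  apply Finset.sum_eq_zero
  intro k _
  exact smul_mk_eq_zero I (hp k) _

lemma mk_smul_eq_of_sub_mem {a a' : A} (h : a - a' ∈ I) (z : B ⧸ I.map (algebraMap A B)) :
    a • z = a' • z := by
  rw [← sub_eq_zero, ← sub_smul]
  exact smul_mk_eq_zero I h z

/-- If `(X - α) * G = 0` at `b`, polynomials in `b` act on `G(b)` through their value at `α`. -/
lemma aeval_mul_eq_of_root {b G : B} (α : A) (h : (b - algebraMap A B α) * G = 0) (p : A[X]) :
    Polynomial.aeval b p * G = algebraMap A B (p.eval α) * G := by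
  obtain ⟨q, hq⟩ := Polynomial.X_sub_C_dvd_sub_C_eval (a := α) (p := p)
  have hp : p = (X - C α) * q + C (p.eval α) := by rw [← hq]; ring
  conv_lhs => rw [hp]
  simp only [map_add, map_mul, map_sub, Polynomial.aeval_X, Polynomial.aeval_C]
  rw [add_mul, mul_assoc, mul_comm (Polynomial.aeval b q), ← mul_assoc, h, zero_mul, zero_add]


/-- **Rank-one idempotent lifting from Gabber's condition.**  If `B` is a finite `A`-algebra and
`ε` is an idempotent of `B/IB` with `ε (B/IB) = (A/I) ε`, then `ε` lifts to an idempotent. -/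
theorem exists_idempotent_of_gabber (hI : I ≤ Ideal.jacobson ⊥) (hG : Gabber I)
    [Module.Finite A B] (ε : B ⧸ I.map (algebraMap A B)) (hε : IsIdempotentElem ε)
    (h1 : ∀ z, ∃ a : A, ε * z = a • ε) :
    ∃ e : B, IsIdempotentElem e ∧ Ideal.Quotient.mk (I.map (algebraMap A B)) e = ε := by
  classical
  obtain ⟨b₁, hb₁⟩ := Ideal.Quotient.mk_surjective ε
  obtain ⟨n, s, hs⟩ := Module.Finite.exists_fin (R := A) (M := B)
  let s' : Fin (n + 1) → B := Fin.cons 0 s
  let x : Option (Fin (n + 1)) → B := fun o => o.elim b₁ (fun j => (1 - b₁) * s' j)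
  have hmem : ∀ w : B, Ideal.Quotient.mk (I.map (algebraMap A B)) w = 0 →
      w ∈ I • (⊤ : Submodule A B) := by
    intro w hw
    rw [Ideal.smul_top_eq_map]
    exact Ideal.Quotient.eq_zero_iff_mem.mp hw
  have hs' : Submodule.span A (Set.range s') = ⊤ := by
    rw [eq_top_iff, ← hs]
    apply Submodule.span_mono
    rintro _ ⟨j, rfl⟩
    exact ⟨j.succ, by simp [s']⟩
  -- the family spans
  have hx : Submodule.span A (Set.range x) = ⊤ := by
    rw [eq_top_iff]
    apply Submodule.le_of_le_smul_of_le_jacobson_bot Module.Finite.fg_top hI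
    intro z _
    have hz : z = b₁ * z + (1 - b₁) * z := by ring
    rw [hz]
    obtain ⟨a, ha⟩ := h1 (Ideal.Quotient.mk _ z)
    have e1 : b₁ * z - a • b₁ ∈ I • (⊤ : Submodule A B) := by
      apply hmem
      rw [map_sub, map_mul, hb₁, ha]
      have : Ideal.Quotient.mk (I.map (algebraMap A B)) (a • b₁) =
        a • Ideal.Quotient.mk (I.map (algebraMap A B)) b₁ := rfl
      rw [this, hb₁, sub_self]
    have e2 : (1 - b₁) * z ∈ Submodule.span A (Set.range x) := by
      have hz' : z ∈ Submodule.span A (Set.range s') := by rw [hs']; trivial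
      have := Submodule.apply_mem_span_image_of_mem_span (LinearMap.mulLeft A (1 - b₁)) hz'
      rw [LinearMap.mulLeft_apply] at this
      refine Submodule.span_mono ?_ this
      rintro _ ⟨_, ⟨j, rfl⟩, rfl⟩
      exact ⟨some j, rfl⟩
    have e3 : a • b₁ ∈ Submodule.span A (Set.range x) :=
      Submodule.smul_mem _ _ (Submodule.subset_span ⟨none, rfl⟩)
    have : b₁ * z + (1 - b₁) * z = (a • b₁ + (1 - b₁) * z) + (b₁ * z - a • b₁) := by ring
    rw [this]
    exact Submodule.add_mem_sup (Submodule.add_mem _ e3 e2) e1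
  -- the matrix
  let d : Option (Fin (n + 1)) → A := fun i => if i = none then 1 else 0
  have hy : ∀ j, b₁ * x j - d j • x j ∈ I • Submodule.span A (Set.range x) := by
    intro j
    rw [hx]
    apply hmem
    cases j with
    | none =>
      simp only [x, d, Option.elim_none, if_true, one_smul]
      rw [map_sub, map_mul, hb₁, hε.eq, sub_self]
    | some j =>
      simp only [x, d, Option.elim_some, reduceCtorEq, if_false, zero_smul, sub_zero]
      rw [← mul_assoc, map_mul, map_mul, map_sub, map_one, hb₁, mul_sub, mul_one, hε.eq,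
        sub_self, zero_mul]
  have hy' : ∀ j, ∃ c : Option (Fin (n + 1)) → A, (∀ i, c i ∈ I) ∧
      ∑ i, c i • x i = b₁ * x j - d j • x j := by
    intro j
    obtain ⟨c, hc, hsum⟩ := (Submodule.mem_ideal_smul_span_iff_exists_sum I x _).mp (hy j)
    refine ⟨c, hc, ?_⟩
    rw [← hsum, Finsupp.sum_fintype]
    intro i; exact zero_smul _ _
  choose c hc hsum using hy'
  let M : Matrix (Option (Fin (n + 1))) (Option (Fin (n + 1))) A :=
    Matrix.diagonal d + Matrix.of (fun i j => c j i)
  have hrep : M.Represents x (Algebra.lmul A B b₁) := by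
    rw [Matrix.represents_iff']
    intro j
    simp only [M, Matrix.add_apply, Matrix.of_apply, add_smul, Finset.sum_add_distrib]
    rw [hsum j]
    have : ∑ i, Matrix.diagonal d i j • x i = d j • x j := by
      rw [Finset.sum_eq_single j]
      · rw [Matrix.diagonal_apply_eq]
      · intro i _ hij
        rw [Matrix.diagonal_apply_ne _ hij, zero_smul]
      · intro h; exact absurd (Finset.mem_univ j) h
    rw [this]
    simp
  set χ := M.charpoly with hχdef
  have hCH : Polynomial.aeval b₁ χ = 0 := by
    have h0 : Polynomial.aeval (Algebra.lmul A B b₁) χ = 0 := by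
      let Mrep : Matrix.isRepresentation A x := ⟨M, _, hrep⟩
      have h2 : Matrix.isRepresentation.toEnd A x hx Mrep = Algebra.lmul A B b₁ :=
        Matrix.isRepresentation.eq_toEnd_of_represents A x hx Mrep hrep
      rw [← h2, Polynomial.aeval_algHom_apply,
        ← map_zero (Matrix.isRepresentation.toEnd A x hx)]
      congr 1
      ext1
      rw [Polynomial.aeval_subalgebra_coe, Subalgebra.coe_zero]
      exact Matrix.aeval_self_charpoly M
    rw [Polynomial.aeval_algHom_apply] at h0
    have := LinearMap.congr_fun h0 1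
    simpa using this
  have hχmap : χ.map (Ideal.Quotient.mk I) = (X - C 1) * X ^ (n + 1) := by
    rw [hχdef, ← Matrix.charpoly_map]
    have : M.map (Ideal.Quotient.mk I) =
        Matrix.diagonal (fun i => Ideal.Quotient.mk I (d i)) := by
      ext i j
      simp only [M, Matrix.map_apply, Matrix.add_apply, Matrix.of_apply, map_add,
        Ideal.Quotient.eq_zero_iff_mem.mpr (hc j i), add_zero]
      by_cases hij : i = j
      · subst hij; simp
      · simp [Matrix.diagonal_apply_ne _ hij]
    rw [this, Matrix.charpoly_diagonal, Fintype.prod_option]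
    simp [d]
  rcases subsingleton_or_nontrivial A with hA | hA
  · haveI : Subsingleton B := by
      refine ⟨fun a b => ?_⟩
      rw [← one_smul A a, ← one_smul A b, Subsingleton.elim (1 : A) 0, zero_smul, zero_smul]
    exact ⟨0, IsIdempotentElem.zero, Subsingleton.elim _ _⟩
  have hχdeg : χ.natDegree = n + 2 := by
    rw [hχdef, Matrix.charpoly_natDegree_eq_dim]
    simp
  have hχmonic : χ.Monic := Matrix.charpoly_monic M
  set p := χ - X ^ (n + 1) * (X - 1) with hp
  have hpI : ∀ i, p.coeff i ∈ I := by
    apply coeff_mem_of_map_eq_zero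
    rw [hp, Polynomial.map_sub, hχmap]
    simp; ring
  have hpdeg : p.natDegree ≤ n + 1 := by
    rw [Polynomial.natDegree_le_iff_coeff_eq_zero]
    intro N hN
    have hq : (X ^ (n + 1) * (X - 1) : A[X]) = X ^ (n + 2) - X ^ (n + 1) := by ring
    rw [hp, hq, Polynomial.coeff_sub, Polynomial.coeff_sub, Polynomial.coeff_X_pow,
      Polynomial.coeff_X_pow]
    rcases Nat.lt_or_ge (n + 2) N with h | h
    · rw [Polynomial.coeff_eq_zero_of_natDegree_lt (by omega)]
      have h1 : N ≠ n + 2 := by omega
      have h2 : N ≠ n + 1 := by omega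
      simp [h1, h2]
    · have hN2 : N = n + 2 := by omega
      subst hN2
      have : χ.coeff (n + 2) = 1 := by
        have := hχmonic.coeff_natDegree
        rwa [hχdeg] at this
      rw [this]
      simp
  obtain ⟨α, hα1, hαroot⟩ := hG (n + 1) (Nat.succ_pos n) p hpdeg hpI
  have hχeq : X ^ (n + 1) * (X - 1) + p = χ := by rw [hp]; ring
  rw [hχeq] at hαroot
  set g := χ /ₘ (X - C α) with hgdef
  have hg : (X - C α) * g = χ := Polynomial.mul_divByMonic_eq_iff_isRoot.mpr hαroot
  have hmkα : Ideal.Quotient.mk I α = 1 := by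
    rw [← map_one (Ideal.Quotient.mk I), Ideal.Quotient.eq]; exact hα1
  have hgmap : g.map (Ideal.Quotient.mk I) = X ^ (n + 1) := by
    have h2 := congrArg (Polynomial.map (Ideal.Quotient.mk I)) hg
    rw [Polynomial.map_mul, hχmap, Polynomial.map_sub, Polynomial.map_X, Polynomial.map_C,
      hmkα] at h2
    exact (Polynomial.monic_X_sub_C (1 : A ⧸ I)).isRegular.left h2
  set cc := g.eval α with hcc
  have hmkc : Ideal.Quotient.mk I cc = 1 := by
    rw [hcc, ← Polynomial.eval_map_apply, hgmap, hmkα]
    simp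
  have hcu : IsUnit cc := by
    apply isUnit_of_isUnit_mk hI
    rw [hmkc]; exact isUnit_one
  obtain ⟨c', hc'⟩ := hcu.exists_right_inv
  have hmkc' : Ideal.Quotient.mk I c' = 1 := by
    have := congrArg (Ideal.Quotient.mk I) hc'
    rwa [map_mul, hmkc, one_mul, map_one] at this
  set G := Polynomial.aeval b₁ g with hGdef
  have hroot : (b₁ - algebraMap A B α) * G = 0 := by
    have : Polynomial.aeval b₁ ((X - C α) * g) = (b₁ - algebraMap A B α) * G := by
      simp [hGdef]
    rw [← this, hg, hCH]
  have hGG : G * G = algebraMap A B cc * G := aeval_mul_eq_of_root α hroot g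
  refine ⟨algebraMap A B c' * G, ?_, ?_⟩
  · show algebraMap A B c' * G * (algebraMap A B c' * G) = algebraMap A B c' * G
    have : algebraMap A B c' * G * (algebraMap A B c' * G) =
        algebraMap A B c' * algebraMap A B c' * (G * G) := by ring
    rw [this, hGG, ← mul_assoc, mul_assoc (algebraMap A B c'), ← map_mul, mul_comm c' cc, hc',
      map_one, mul_one]
  · have hmkG : Ideal.Quotient.mk (I.map (algebraMap A B)) G = ε := by
      have h2 : Ideal.Quotient.mk (I.map (algebraMap A B)) G =
          Polynomial.aeval (Ideal.Quotient.mk (I.map (algebraMap A B)) b₁) g := by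
        rw [hGdef]
        exact (Polynomial.aeval_algHom_apply (Ideal.Quotient.mkₐ A (I.map (algebraMap A B)))
          b₁ g).symm
      rw [h2, hb₁]
      have h3 : g = X ^ (n + 1) + (g - X ^ (n + 1)) := by ring
      rw [h3, map_add, aeval_eq_zero_of_coeff_mem I (g - X ^ (n + 1)) (by
        apply coeff_mem_of_map_eq_zero
        rw [Polynomial.map_sub, hgmap]; simp), add_zero]
      simp only [map_pow, Polynomial.aeval_X]
      exact hε.pow_succ_eq n
    rw [map_mul, hmkG]
    have h4 : Ideal.Quotient.mk (I.map (algebraMap A B)) (algebraMap A B c') * ε = c' • ε := by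
      rw [Algebra.smul_def]; rfl
    rw [h4, mk_smul_eq_of_sub_mem I (a' := 1) (by
      rw [← Ideal.Quotient.eq_zero_iff_mem, map_sub, hmkc', map_one, sub_self]), one_smul]

end RankOne

end Groth.Agent.Lib.Helper26.HenselGabber
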