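import Groth.Agent.Lib.Helper26.HenselTFAE
import Mathlib

/-!
# Lifting maps from étale algebras into Henselian pairs (helper26)
-/

set_option autoImplicit false
universe u

namespace Groth.Agent.Lib.Helper26.HenselLiftQuot

open TensorProduct Groth.Agent.Lib.Helper26.HenselTFAE

/-- Maps from an étale `A`-algebra to `C/J'` lift to `C` when `(C, J')` is Henselian. -/
theorem exists_algHom_lift_quot {A : Type u} [CommRing A] {E : Type u} [CommRing E] [Algebra A E]
    [Algebra.Etale A E] (C : Type u) [CommRing C] [Algebra A C] (J' : Ideal C)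
    [HenselianRing C J'] (σ' : E →ₐ[A] C ⧸ J') :
    ∃ φ₀ : E →ₐ[A] C, ∀ x, Ideal.Quotient.mk J' (φ₀ x) = σ' x := by
  let σC : C ⊗[A] E →ₐ[C] C ⧸ J' :=
    Algebra.TensorProduct.lift (Algebra.ofId C (C ⧸ J')) σ' (fun _ _ => Commute.all _ _)
  obtain ⟨τ, hτ⟩ := liftsEtale_of_henselianRing J' (C ⊗[A] E) σC
  let φ₀ : E →ₐ[A] C := (τ.restrictScalars A).comp Algebra.TensorProduct.includeRight
  refine ⟨φ₀, fun x => ?_⟩
  have := DFunLike.congr_fun hτ ((1 : C) ⊗ₜ[A] x)
  simp only [AlgHom.comp_apply, Ideal.Quotient.mkₐ_eq_mk] at this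
  show Ideal.Quotient.mk J' (τ (1 ⊗ₜ[A] x)) = _
  rw [this]
  simp [σC]

end Groth.Agent.Lib.Helper26.HenselLiftQuot
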