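import Groth.Agent.Lib.Helper26.HenselFEtLift
import Mathlib

/-!
# Splitting off the finite part of a finitely presented algebra over a Henselian pair (helper26)

* `finite_fiber_of_le`, `quasiFiniteAt_of_map_le`: if `R/IR` is finite over `A` then `R` is
  quasi-finite over `A` at all primes containing `IR`.
* `exists_idempotent_split`: for a Henselian pair `(A, I)` and a finitely presented `A`-algebra `R`
  with `R/IR` finite over `A`, there is an idempotent `e ∈ R` with `1 - e ∈ IR` and `eR` contained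
  in a finitely generated `A`-submodule (so `R = Re × R(1-e)` with `Re` finite and `I·R(1-e) = R(1-e)`).
-/

set_option autoImplicit false
universe u

namespace Groth.Agent.Lib.Helper26.HenselSplit

open TensorProduct Algebra
open Groth.Agent.Lib.Helper26.HenselTFAE Groth.Agent.Lib.Helper26.HenselIdem
  Groth.Agent.Lib.Helper26.HenselEtale Groth.Agent.Lib.Helper26.HenselFEt
  Groth.Agent.Lib.Helper26.HenselFEtLift

section Fiber

variable {A R : Type*} [CommRing A] [CommRing R] [Algebra A R]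

/-- If `R/IR` is finite over `A`, the fibre of `R` over a prime `p ⊇ I` is finite. -/
theorem finite_fiber_of_le (I : Ideal A) [Module.Finite A (R ⧸ I.map (algebraMap A R))]
    (p : Ideal A) [p.IsPrime] (hIp : I ≤ p) : Module.Finite p.ResidueField (p.Fiber R) := by
  have h0 : ∀ a ∈ I, algebraMap A p.ResidueField a = 0 := fun a ha =>
    Ideal.algebraMap_residueField_eq_zero.mpr (hIp ha)
  let ι : R →ₐ[A] p.ResidueField ⊗[A] R := Algebra.TensorProduct.includeRight
  have hker : ∀ x ∈ I.map (algebraMap A R), ι x = 0 := by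
    have : I.map (algebraMap A R) ≤ RingHom.ker ι.toRingHom := by
      rw [Ideal.map_le_iff_le_comap]
      intro a ha
      rw [Ideal.mem_comap, RingHom.mem_ker]
      show ι (algebraMap A R a) = 0
      rw [ι.commutes, Algebra.TensorProduct.algebraMap_apply, h0 a ha, TensorProduct.zero_tmul]
    exact fun x hx => this hx
  let ι' : (R ⧸ I.map (algebraMap A R)) →ₐ[A] p.ResidueField ⊗[A] R :=
    Ideal.Quotient.liftₐ _ ι hker
  let g : p.ResidueField ⊗[A] (R ⧸ I.map (algebraMap A R)) →ₐ[p.ResidueField]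
      p.ResidueField ⊗[A] R :=
    Algebra.TensorProduct.lift (Algebra.ofId p.ResidueField _) ι' (fun _ _ => Commute.all _ _)
  apply Module.Finite.of_surjective g.toLinearMap
  intro t
  induction t using TensorProduct.induction_on with
  | zero => exact ⟨0, map_zero _⟩
  | tmul k r =>
    refine ⟨k ⊗ₜ Ideal.Quotient.mk _ r, ?_⟩
    show g (k ⊗ₜ Ideal.Quotient.mk _ r) = k ⊗ₜ r
    simp [g, ι', ι, Algebra.ofId_apply, Algebra.TensorProduct.algebraMap_apply]
  | add x y hx hy =>
    obtain ⟨x', rfl⟩ := hx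
    obtain ⟨y', rfl⟩ := hy
    exact ⟨x' + y', map_add _ _ _⟩

/-- If `R` is of finite type over `A` and `R/IR` is finite over `A`, then `R` is quasi-finite over
`A` at every prime containing `IR`. -/
theorem quasiFiniteAt_of_map_le [Algebra.FiniteType A R] (I : Ideal A)
    [Module.Finite A (R ⧸ I.map (algebraMap A R))] (q : PrimeSpectrum R)
    (hq : I.map (algebraMap A R) ≤ q.asIdeal) : Algebra.QuasiFiniteAt A q.asIdeal := by
  let p := q.comap (algebraMap A R)
  let e := PrimeSpectrum.preimageHomeomorphFiber A R p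
  suffices Algebra.QuasiFiniteAt p.asIdeal.ResidueField (e ⟨q, rfl⟩).asIdeal from
    .of_quasiFiniteAt_residueField _ q.asIdeal (e ⟨q, rfl⟩).asIdeal
      congr($(e.symm_apply_apply ⟨q, rfl⟩).1.asIdeal)
  have hIp : I ≤ p.asIdeal := fun a ha => hq (Ideal.mem_map_of_mem _ ha)
  haveI := finite_fiber_of_le (R := R) I p.asIdeal hIp
  infer_instance

end Fiber

section Split

variable {A : Type u} [CommRing A] {I : Ideal A} {A' : Type u} [CommRing A'] [Algebra A A']

/-- Zariski's main theorem: a good element mapping to `1` in an integral quotient, assuming only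
quasi-finiteness at the primes containing the kernel. -/
theorem exists_good_of_isIntegral' [Algebra.FiniteType A A']
    {C : Type u} [CommRing C] [Algebra A C] [Algebra.IsIntegral A C] (π : A' →ₐ[A] C)
    (hqf : ∀ q : PrimeSpectrum A', RingHom.ker π.toRingHom ≤ q.asIdeal →
      Algebra.QuasiFiniteAt A q.asIdeal) :
    ∃ r : A', Good A r ∧ π r = 1 := by
  let B₀ := integralClosure A A'
  let D' : Subalgebra A C := (π.comp B₀.val).range
  let 𝔰 : Ideal D' :=
    { carrier := {d | ∃ r : A', Good A r ∧ π r = d.1}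
      add_mem' := by
        rintro _ _ ⟨r, hr, h1⟩ ⟨r', hr', h2⟩
        exact ⟨r + r', hr.add hr', by rw [map_add, h1, h2]; rfl⟩
      zero_mem' := ⟨0, Good.zero, by simp⟩
      smul_mem' := by
        rintro ⟨c, b, rfl⟩ d ⟨r, hr, h1⟩
        refine ⟨b.1 * r, Good.mul_of_isIntegral hr b.2, ?_⟩
        rw [map_mul, h1]; rfl }
  suffices h : 𝔰 = ⊤ by
    have : (1 : D') ∈ 𝔰 := by rw [h]; trivial
    obtain ⟨r, hr, h1⟩ := this
    exact ⟨r, hr, h1⟩
  by_contra hne
  obtain ⟨n', hn', hle⟩ := Ideal.exists_le_maximal 𝔰 hne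
  haveI := hn'
  haveI : Algebra.IsIntegral D' C := Algebra.IsIntegral.tower_top (R := A)
  obtain ⟨n, hn, hcomap⟩ := Ideal.exists_ideal_over_maximal_of_isIntegral (S := C) n' (by
    intro x hx
    rw [RingHom.mem_ker] at hx
    have : x = 0 := Subtype.ext hx
    rw [this]; exact zero_mem _)
  haveI := hn
  let q : Ideal A' := n.comap π.toRingHom
  haveI : q.IsPrime := Ideal.comap_isPrime _ _
  haveI : Algebra.QuasiFiniteAt A q := hqf ⟨q, inferInstance⟩ (fun x hx => by
    show π x ∈ n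
    have h0 : π x = 0 := hx
    rw [h0]; exact zero_mem _)
  obtain ⟨r, hrq, hr1, hr2⟩ :=
    Algebra.zariskisMainProperty_iff.mp (Algebra.ZariskisMainProperty.of_finiteType (R := A) q)
  apply hrq
  show π r ∈ n
  have hmem : (⟨π r, ⟨⟨r, hr1⟩, rfl⟩⟩ : D') ∈ 𝔰 := ⟨r, ⟨hr1, hr2⟩, rfl⟩
  have := hle hmem
  rw [← hcomap] at this
  exact this

/-- Given a good element `r` with `π r = 1`, there are a finite subalgebra `B₁` and an idempotent
`e ∈ B₁` with `π e = 1` and `e B' ⊆ B₁`. -/
theorem exists_idempotent_of_good (hI : I ≤ Ideal.jacobson ⊥) (hF : LiftsFactorizations I)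
    (B' : Type u) [CommRing B'] [Algebra A B'] [Algebra.FiniteType A B']
    (C : Type u) [CommRing C] [Algebra A C] [Algebra (A ⧸ I) C] [IsScalarTower A (A ⧸ I) C]
    [Module.Finite (A ⧸ I) C] [Module.FinitePresentation (A ⧸ I) C]
    (π : B' →ₐ[A] C) (hπ : Function.Surjective π)
    (hker : RingHom.ker π = I.map (algebraMap A B'))
    (r : B') (hr : Good A r) (hπr : π r = 1) :
    ∃ B₁ : Subalgebra A B', B₁.toSubmodule.FG ∧ ∃ e : B', e ∈ B₁ ∧ IsIdempotentElem e ∧
      π e = 1 ∧ ∀ x : B', e * x ∈ B₁ := by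
  classical
  haveI : Module.Finite A C := Module.Finite.trans (A ⧸ I) C
  haveI : Algebra.IsIntegral A C := Algebra.IsIntegral.of_finite A C
  obtain ⟨B₁, hB₁, hrB, hr'⟩ := exists_finite_subalgebra hr
  haveI : Module.Finite A B₁ := ⟨(Submodule.fg_top _).mpr hB₁⟩
  let rB : B₁ := ⟨r, hrB⟩
  let ψ : (A ⧸ I) ⊗[A] B₁ →ₐ[A ⧸ I] C :=
    Algebra.TensorProduct.lift (Algebra.ofId (A ⧸ I) C) (π.comp B₁.val)
      (fun _ _ => Commute.all _ _)
  have hψ1 : ∀ b : B₁, ψ ((1 : A ⧸ I) ⊗ₜ[A] b) = π (b : B') := by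
    intro b; simp [ψ]
  set rbar : (A ⧸ I) ⊗[A] B₁ := (1 : A ⧸ I) ⊗ₜ[A] rB with hrbar
  have hrbarpow : ∀ (m : ℕ) (b : B₁),
      rbar ^ m * ((1 : A ⧸ I) ⊗ₜ[A] b) = (1 : A ⧸ I) ⊗ₜ[A] (rB ^ m * b) := by
    intro m b
    rw [hrbar, Algebra.TensorProduct.tmul_pow, one_pow, Algebra.TensorProduct.tmul_mul_tmul,
      one_mul]
  -- `ψ` is surjective
  have hψsurj : Function.Surjective ψ := by
    intro c
    obtain ⟨x, rfl⟩ := hπ c
    obtain ⟨m, hm⟩ := hr' x
    refine ⟨(1 : A ⧸ I) ⊗ₜ[A] ⟨r ^ m * x, hm⟩, ?_⟩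
    rw [hψ1]
    show π (r ^ m * x) = π x
    rw [map_mul, map_pow, hπr, one_pow, one_mul]
  -- torsion of the kernel
  have hIB' : ∀ x ∈ I.map (algebraMap A B'), ∃ m : ℕ, ∀ k, m ≤ k →
      ∃ hk : r ^ k * x ∈ B₁, (⟨r ^ k * x, hk⟩ : B₁) ∈ I.map (algebraMap A B₁) := by
    intro x hx
    have hx' : x ∈ I • (⊤ : Submodule A B') := by
      rw [Ideal.smul_top_eq_map]; exact hx
    refine Submodule.smul_induction_on hx' ?_ ?_
    · intro a ha n _
      obtain ⟨m₀, hm₀⟩ := hr' n
      refine ⟨m₀, fun k hk => ?_⟩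
      have e1 : r ^ k * (a • n) = ((algebraMap A B₁ a * (rB ^ (k - m₀) * ⟨r ^ m₀ * n, hm₀⟩) : B₁) : B') := by
        have : k = (k - m₀) + m₀ := by omega
        conv_lhs => rw [this, pow_add]
        simp only [Subalgebra.coe_mul, Subalgebra.coe_pow, Subalgebra.coe_algebraMap, rB]
        rw [Algebra.smul_def]; ring
      refine ⟨e1 ▸ Subtype.coe_prop _, ?_⟩
      have : (⟨r ^ k * (a • n), e1 ▸ Subtype.coe_prop _⟩ : B₁) =
          algebraMap A B₁ a * (rB ^ (k - m₀) * ⟨r ^ m₀ * n, hm₀⟩) := Subtype.ext e1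
      rw [this]
      exact Ideal.mul_mem_right _ _ (Ideal.mem_map_of_mem _ ha)
    · rintro x y ⟨m, hm⟩ ⟨m', hm'⟩
      refine ⟨max m m', fun k hk => ?_⟩
      obtain ⟨h1, h1'⟩ := hm k (le_trans (le_max_left _ _) hk)
      obtain ⟨h2, h2'⟩ := hm' k (le_trans (le_max_right _ _) hk)
      have e : r ^ k * (x + y) = r ^ k * x + r ^ k * y := mul_add _ _ _
      refine ⟨e ▸ B₁.add_mem h1 h2, ?_⟩
      have : (⟨r ^ k * (x + y), e ▸ B₁.add_mem h1 h2⟩ : B₁) =
          ⟨r ^ k * x, h1⟩ + ⟨r ^ k * y, h2⟩ := Subtype.ext e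
      rw [this]
      exact Ideal.add_mem _ h1' h2'
  set Jbar : Ideal ((A ⧸ I) ⊗[A] B₁) := RingHom.ker ψ.toRingHom with hJbar
  have hmemJ : ∀ y, y ∈ Jbar ↔ ψ y = 0 := fun y => Iff.rfl
  have h1r : 1 - rbar ∈ Jbar := by
    rw [hmemJ, map_sub, map_one, hrbar, hψ1]
    show 1 - π r = 0
    rw [hπr, sub_self]
  have htors : ∀ y ∈ Jbar, ∃ m : ℕ, rbar ^ m * y = 0 := by
    intro y hy
    obtain ⟨b, rfl⟩ := exists_one_tmul I y
    rw [hmemJ, hψ1] at hy
    have hb : (b : B') ∈ I.map (algebraMap A B') := by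
      rw [← hker]; exact hy
    obtain ⟨m, hm⟩ := hIB' _ hb
    obtain ⟨hk, hk'⟩ := hm m le_rfl
    refine ⟨m, ?_⟩
    rw [hrbarpow]
    have : rB ^ m * b = ⟨r ^ m * (b : B'), hk⟩ := Subtype.ext (by simp [rB])
    rw [this]
    exact tmul_eq_zero_of_mem I _ hk'
  have hidem : IsIdempotentElem Jbar := by
    apply le_antisymm Ideal.mul_le_right
    intro y hy
    obtain ⟨m, hm⟩ := htors y hy
    have h1 : 1 - rbar ^ m ∈ Jbar := by
      obtain ⟨c, hc⟩ := sub_dvd_pow_sub_pow (1 : (A ⧸ I) ⊗[A] B₁) rbar m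
      rw [one_pow] at hc
      rw [hc]
      exact Ideal.mul_mem_right _ _ h1r
    have : y = (1 - rbar ^ m) * y := by rw [sub_mul, one_mul, hm, sub_zero]
    rw [this]
    exact Ideal.mul_mem_mul h1 hy
  have hfg : Jbar.FG := by
    apply Submodule.FG.of_restrictScalars (A ⧸ I)
    have : Jbar.restrictScalars (A ⧸ I) = LinearMap.ker ψ.toLinearMap := by
      ext y; rfl
    rw [this]
    exact Module.FinitePresentation.fg_ker ψ.toLinearMap hψsurj
  obtain ⟨ε₀, hε₀, hJε₀⟩ := (Ideal.isIdempotentElem_iff_of_fg Jbar hfg).mp hidem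
  set ε := 1 - ε₀ with hεdef
  have hε : IsIdempotentElem ε := hε₀.one_sub
  have hε₀J : ε₀ ∈ Jbar := by rw [hJε₀]; exact Ideal.mem_span_singleton_self _
  have hψε : ψ ε = 1 := by
    rw [hεdef, map_sub, map_one, (hmemJ ε₀).mp hε₀J, sub_zero]
  have hεJ : ∀ j ∈ Jbar, j * ε = 0 := by
    intro j hj
    rw [hJε₀, Ideal.mem_span_singleton'] at hj
    obtain ⟨c, rfl⟩ := hj
    rw [hεdef]
    have : c * ε₀ * (1 - ε₀) = c * (ε₀ - ε₀ * ε₀) := by ring
    rw [this, hε₀.eq, sub_self, mul_zero]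
  have hrε : rbar * ε = ε := by
    have h1 : rbar * ε - ε ∈ Jbar := by
      rw [hmemJ, map_sub, map_mul, hψε, hrbar, hψ1]
      show π r * 1 - 1 = 0
      rw [hπr, one_mul, sub_self]
    have h2 := hεJ _ h1
    rw [sub_mul, mul_assoc, hε.eq, sub_eq_zero] at h2
    exact h2
  -- lift the idempotent
  obtain ⟨b₀, hb₀⟩ := exists_one_tmul I ε
  have hb₀' : b₀ * b₀ - b₀ ∈ I.map (algebraMap A B₁) := by
    apply mem_map_of_tmul_eq_zero I
    rw [TensorProduct.tmul_sub, ← one_mul (1 : A ⧸ I), ← Algebra.TensorProduct.tmul_mul_tmul,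
      one_mul, ← hb₀, hε.eq, sub_self]
  obtain ⟨e, he, heb⟩ := exists_idempotent_finite I hI hF b₀ hb₀'
  have hεe : (1 : A ⧸ I) ⊗ₜ[A] e = ε := by
    have := tmul_eq_zero_of_mem I _ heb
    rw [TensorProduct.tmul_sub, sub_eq_zero] at this
    rw [this, hb₀]
  have hπe : π (e : B') = 1 := by rw [← hψ1, hεe, hψε]
  -- the unit `u`
  set u : B₁ := rB * e + (1 - e) with hu
  have hu1 : u - 1 ∈ I.map (algebraMap A B₁) := by
    apply mem_map_of_tmul_eq_zero I
    have : (1 : A ⧸ I) ⊗ₜ[A] (u - 1) = rbar * ε + (1 - ε) - 1 := by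
      rw [hu, TensorProduct.tmul_sub, TensorProduct.tmul_add, TensorProduct.tmul_sub, ← hεe, hrbar,
        Algebra.TensorProduct.tmul_mul_tmul, one_mul]
      rfl
    rw [this, hrε]; ring
  have huu : IsUnit u := by
    have hjac := map_le_jacobson_of_isIntegral I hI (B := B₁) hu1
    have := (Ideal.mem_jacobson_bot.mp hjac) 1
    have e1 : (u - 1) * 1 + 1 = u := by ring
    rwa [e1] at this
  obtain ⟨v, hv⟩ := huu.exists_right_inv
  have hue : u * e = rB * e := by
    rw [hu, add_mul, mul_assoc, he.eq, sub_mul, one_mul, he.eq, sub_self, add_zero]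
  set sB : B₁ := v * e with hsB
  have hres : rB * e * sB = e := by
    rw [hsB, ← hue]
    have : u * e * (v * e) = (u * v) * (e * e) := by ring
    rw [this, hv, he.eq, one_mul]
  have hrs : (rB * sB) * e = e := by
    have : rB * sB * e = rB * e * sB := by ring
    rw [this, hres]
  have hpow : ∀ m : ℕ, (rB * sB) ^ m * e = e := by
    intro m
    induction m with
    | zero => rw [pow_zero, one_mul]
    | succ k ih => rw [pow_succ, mul_assoc, hrs, ih]
  refine ⟨B₁, hB₁, (e : B'), e.2, he.map B₁.val, hπe, fun x => ?_⟩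
  obtain ⟨m, hm⟩ := hr' x
  have key : (e : B') * x = ((sB ^ m * e * ⟨r ^ m * x, hm⟩ : B₁) : B') := by
    have h1 := congrArg (fun z : B₁ => (z : B')) (hpow m)
    simp only [Subalgebra.coe_mul, Subalgebra.coe_pow] at h1
    simp only [Subalgebra.coe_mul, Subalgebra.coe_pow]
    have h2 : ((rB : B₁) : B') = r := rfl
    rw [h2] at h1
    calc (e : B') * x = ((r * (sB : B')) ^ m * (e : B')) * x := by rw [h1]
      _ = (sB : B') ^ m * (e : B') * (r ^ m * x) := by ring
  rw [key]
  exact Subtype.coe_prop _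

/-- **Splitting off the finite part.** For a Henselian pair `(A, I)` and a finitely presented
`A`-algebra `R` with `R/IR` finite over `A`, there is an idempotent `e ∈ R` with `1 - e ∈ IR` such
that `eR` is contained in a finitely generated `A`-submodule of `R`. -/
theorem exists_idempotent_split (A : Type u) [CommRing A] (I : Ideal A) [HenselianRing A I]
    (R : Type u) [CommRing R] [Algebra A R] [Algebra.FinitePresentation A R]
    [Module.Finite A (R ⧸ I.map (algebraMap A R))] :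
    ∃ e : R, IsIdempotentElem e ∧ 1 - e ∈ I.map (algebraMap A R) ∧
      ∃ M : Submodule A R, M.FG ∧ ∀ x : R, e * x ∈ M := by
  have hI : I ≤ Ideal.jacobson ⊥ := HenselianRing.jac
  have hF := liftsFactorizations_of_liftsEtale I (liftsEtale_of_henselianRing I)
  haveI : Module.Finite (A ⧸ I) (R ⧸ I.map (algebraMap A R)) :=
    Module.Finite.of_restrictScalars_finite A (A ⧸ I) (R ⧸ I.map (algebraMap A R))
  haveI : Algebra.FinitePresentation (A ⧸ I) (R ⧸ I.map (algebraMap A R)) :=
    Algebra.FinitePresentation.equiv (Algebra.TensorProduct.quotIdealMapEquivQuotTensor R I).symm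
  haveI : Module.FinitePresentation (A ⧸ I) (R ⧸ I.map (algebraMap A R)) :=
    Module.FinitePresentation.of_finite_of_finitePresentation (A ⧸ I) (R ⧸ I.map (algebraMap A R))
  let π : R →ₐ[A] (R ⧸ I.map (algebraMap A R)) := Ideal.Quotient.mkₐ A _
  have hπ : Function.Surjective π := Ideal.Quotient.mkₐ_surjective A _
  have hker : RingHom.ker π = I.map (algebraMap A R) := Ideal.Quotient.mkₐ_ker A _
  haveI : Algebra.IsIntegral A (R ⧸ I.map (algebraMap A R)) := Algebra.IsIntegral.of_finite A _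
  obtain ⟨r, hr, hπr⟩ := exists_good_of_isIntegral' π (fun q hq =>
    quasiFiniteAt_of_map_le I q (by
      have : RingHom.ker π.toRingHom = I.map (algebraMap A R) := hker
      rwa [this] at hq))
  obtain ⟨B₁, hB₁, e, heB, he, hπe, hex⟩ :=
    exists_idempotent_of_good hI hF R (R ⧸ I.map (algebraMap A R)) π hπ hker r hr hπr
  refine ⟨e, he, ?_, B₁.toSubmodule, hB₁, hex⟩
  rw [← hker, RingHom.mem_ker, map_sub, map_one, hπe, sub_self]

end Split

end Groth.Agent.Lib.Helper26.HenselSplit
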