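import Mathlib

/-!
# Congruence of hermitian matrices over a commutative ring with involution

`Cong lam h g` : there is an invertible `v` with `(lam v)ᵀ h v = g`.
Block elimination and the skeleton of the diagonalisation induction.
-/

set_option autoImplicit false
universe v

namespace Groth.Agent.Lib.Helper26.HermCong

open Matrix

variable {A : Type v} [CommRing A] {lam : A ≃+* A}

section Basic

variable {ι : Type*} [Fintype ι] [DecidableEq ι]

/-- Congruence of matrices with respect to the involution `lam`. -/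
def Cong (lam : A ≃+* A) (h g : Matrix ι ι A) : Prop :=
  ∃ v : Matrix ι ι A, IsUnit v ∧ (v.map lam).transpose * h * v = g

/-- `ε`-hermitian matrices. -/
def IsHerm (lam : A ≃+* A) (ε : A) (h : Matrix ι ι A) : Prop :=
  ε • (h.map lam).transpose = h

theorem map_lam_mul {l m n : Type*} [Fintype m] (M : Matrix l m A) (N : Matrix m n A) :
    (M * N).map lam = M.map lam * N.map lam := by
  ext i j
  simp [Matrix.mul_apply, map_sum]

theorem map_map_lam (hlam : Function.Involutive lam) {l m : Type*} (M : Matrix l m A) :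
    (M.map lam).map lam = M := by
  ext i j
  simp only [Matrix.map_apply]
  exact hlam _

theorem det_map_lam (v : Matrix ι ι A) : (v.map lam).det = lam v.det := by
  have := RingHom.map_det (lam : A →+* A) v
  simpa [RingHom.mapMatrix_apply] using this.symm

theorem isUnit_map_transpose {v : Matrix ι ι A} (hv : IsUnit v) :
    IsUnit (v.map lam).transpose := by
  rw [Matrix.isUnit_iff_isUnit_det] at hv ⊢
  rw [Matrix.det_transpose, det_map_lam]
  exact hv.map lam

theorem Cong.refl (h : Matrix ι ι A) : Cong lam h h :=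
  ⟨1, isUnit_one, by
    rw [Matrix.map_one _ (map_zero lam) (map_one lam), Matrix.transpose_one, Matrix.one_mul,
      Matrix.mul_one]⟩

theorem Cong.trans {h g k : Matrix ι ι A} (h1 : Cong lam h g) (h2 : Cong lam g k) :
    Cong lam h k := by
  obtain ⟨v, hv, rfl⟩ := h1
  obtain ⟨w, hw, rfl⟩ := h2
  refine ⟨v * w, hv.mul hw, ?_⟩
  rw [map_lam_mul, Matrix.transpose_mul]
  simp only [Matrix.mul_assoc]

theorem Cong.isUnit {h g : Matrix ι ι A} (hc : Cong lam h g) (hh : IsUnit h) : IsUnit g := by
  obtain ⟨v, hv, rfl⟩ := hc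
  exact ((isUnit_map_transpose hv).mul hh).mul hv

theorem Cong.isHerm (hlam : Function.Involutive lam) {ε : A} {h g : Matrix ι ι A}
    (hc : Cong lam h g) (hh : IsHerm lam ε h) : IsHerm lam ε g := by
  obtain ⟨v, hv, rfl⟩ := hc
  unfold IsHerm at hh ⊢
  rw [map_lam_mul, map_lam_mul, Matrix.transpose_map, map_map_lam hlam, Matrix.transpose_mul,
    Matrix.transpose_mul, Matrix.transpose_transpose, ← Matrix.mul_smul, ← Matrix.smul_mul, hh]
  simp only [Matrix.mul_assoc]

theorem Cong.submatrix {κ : Type*} [Fintype κ] [DecidableEq κ] (e : ι ≃ κ) {H G : Matrix κ κ A}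
    (hc : Cong lam H G) : Cong lam (H.submatrix e e) (G.submatrix e e) := by
  obtain ⟨v, hv, rfl⟩ := hc
  refine ⟨v.submatrix e e, ?_, ?_⟩
  · rw [Matrix.isUnit_iff_isUnit_det] at hv ⊢
    rwa [Matrix.det_submatrix_equiv_self]
  · rw [← Matrix.submatrix_map, Matrix.transpose_submatrix, Matrix.submatrix_mul_equiv,
      Matrix.submatrix_mul_equiv]

theorem IsHerm.entry {ε : A} {h : Matrix ι ι A} (hh : IsHerm lam ε h) (i j : ι) :
    ε * lam (h j i) = h i j := by
  have := congrFun (congrFun hh i) j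
  simpa using this

theorem cong_apply (v h : Matrix ι ι A) (p q : ι) :
    ((v.map lam).transpose * h * v) p q = ∑ s, lam (v s p) * ∑ t, h s t * v t q := by
  rw [Matrix.mul_assoc, Matrix.mul_apply]
  simp only [Matrix.transpose_apply, Matrix.map_apply, Matrix.mul_apply]

theorem sum_left (k i : ι) (c : A) (F : ι → A) :
    ∑ s, ((if s = k then 1 else 0) + (if s = i then c else 0)) * F s = F k + c * F i := by
  simp [add_mul, Finset.sum_add_distrib]

theorem sum_right (k i : ι) (c : A) (F : ι → A) :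
    ∑ s, F s * ((if s = k then 1 else 0) + (if s = i then c else 0)) = F k + F i * c := by
  simp [mul_add, Finset.sum_add_distrib]

theorem transvection_col (i k : ι) (a : A) (s : ι) :
    (Matrix.transvection i k a) s k = (if s = k then 1 else 0) + (if s = i then a else 0) := by
  rw [Matrix.transvection, Matrix.add_apply, Matrix.one_apply]
  congr 1
  by_cases h2 : s = i
  · subst h2; simp [Matrix.single]
  · have : ¬ (i = s) := fun h => h2 h.symm
    simp [Matrix.single, this, h2]

theorem transvection_diag (i k : ι) (a : A) (h : Matrix ι ι A) :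
    (((Matrix.transvection i k a).map lam).transpose * h * Matrix.transvection i k a) k k =
      (h k k + h k i * a) + lam a * (h i k + h i i * a) := by
  rw [cong_apply]
  have hin : ∀ s, ∑ t, h s t * (Matrix.transvection i k a) t k = h s k + h s i * a := by
    intro s
    simp_rw [transvection_col]
    exact sum_right k i a (fun t => h s t)
  simp_rw [hin, transvection_col]
  have hl : ∀ s, lam ((if s = k then (1 : A) else 0) + (if s = i then a else 0)) =
      (if s = k then 1 else 0) + (if s = i then lam a else 0) := by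
    intro s
    rw [map_add]
    congr 1 <;> split_ifs <;> simp
  simp_rw [hl]
  exact sum_left k i (lam a) (fun s => h s k + h s i * a)

theorem isUnit_transvection {i k : ι} (hik : i ≠ k) (a : A) :
    IsUnit (Matrix.transvection i k a) := by
  rw [Matrix.isUnit_iff_isUnit_det, Matrix.det_transvection_of_ne _ _ hik]
  exact isUnit_one

end Basic

section Blocks

variable {ι : Type*} [Fintype ι] [DecidableEq ι] {κ : Type*} [Fintype κ] [DecidableEq κ]

theorem isHerm_fromBlocks_iff {ε : A} (a : Matrix κ κ A) (b : Matrix κ ι A) (c : Matrix ι κ A)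
    (d : Matrix ι ι A) : IsHerm lam ε (fromBlocks a b c d) ↔
      ε • (a.map lam).transpose = a ∧ ε • (c.map lam).transpose = b ∧
        ε • (b.map lam).transpose = c ∧ ε • (d.map lam).transpose = d := by
  unfold IsHerm
  rw [fromBlocks_map, fromBlocks_transpose, fromBlocks_smul, fromBlocks_inj]

theorem cong_fromBlocks (a : Matrix κ κ A) {h' g' : Matrix ι ι A} (hc : Cong lam h' g') :
    Cong lam (fromBlocks a 0 0 h') (fromBlocks a 0 0 g') := by
  obtain ⟨w, hw, rfl⟩ := hc
  refine ⟨fromBlocks 1 0 0 w, ?_, ?_⟩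
  · rw [isUnit_iff_isUnit_det, det_fromBlocks_zero₂₁, det_one, one_mul]
    exact (isUnit_iff_isUnit_det _).mp hw
  · rw [fromBlocks_map, fromBlocks_transpose, Matrix.map_one _ (map_zero lam) (map_one lam),
      Matrix.map_zero _ (map_zero lam), Matrix.map_zero _ (map_zero lam), fromBlocks_multiply,
      fromBlocks_multiply, fromBlocks_inj]
    refine ⟨?_, ?_, ?_, ?_⟩ <;> simp

theorem isUnit_of_isUnit_fromBlocks {a : Matrix κ κ A} {d : Matrix ι ι A}
    (h : IsUnit (fromBlocks a 0 0 d)) : IsUnit d := by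
  rw [isUnit_iff_isUnit_det, det_fromBlocks_zero₂₁] at h
  rw [isUnit_iff_isUnit_det]
  exact isUnit_of_mul_isUnit_right h

/-- Block elimination with a `1 × 1` invertible pivot. -/
theorem cong_elim (hlam : Function.Involutive lam) {ε : A} {u u' : A} (huu' : u * u' = 1)
    (b : Matrix Unit ι A) (c : Matrix ι Unit A) (d : Matrix ι ι A)
    (hH : IsHerm lam ε (fromBlocks (diagonal fun _ : Unit => u) b c d)) :
    Cong lam (fromBlocks (diagonal fun _ : Unit => u) b c d)
      (fromBlocks (diagonal fun _ : Unit => u) 0 0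
        (d - c * (diagonal fun _ : Unit => u') * b)) := by
  obtain ⟨a, ha⟩ : ∃ a : Matrix Unit Unit A, a = diagonal fun _ : Unit => u := ⟨_, rfl⟩
  obtain ⟨a', ha'⟩ : ∃ a' : Matrix Unit Unit A, a' = diagonal fun _ : Unit => u' := ⟨_, rfl⟩
  have haa' : a * a' = 1 := by
    rw [ha, ha', Matrix.diagonal_mul_diagonal]
    ext ⟨⟩ ⟨⟩
    simp [huu']
  rw [← ha] at hH
  rw [← ha, ← ha']
  obtain ⟨β, hβ⟩ : ∃ β : Matrix Unit ι A, β = -(a' * b) := ⟨_, rfl⟩
  have hv : IsUnit (fromBlocks (1 : Matrix Unit Unit A) β 0 (1 : Matrix ι ι A)) := by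
    rw [isUnit_iff_isUnit_det, det_fromBlocks_zero₂₁, det_one, det_one, mul_one]
    exact isUnit_one
  have e1 : fromBlocks a b c d * fromBlocks (1 : Matrix Unit Unit A) β 0 (1 : Matrix ι ι A) =
      fromBlocks a 0 c (d - c * a' * b) := by
    rw [fromBlocks_multiply, fromBlocks_inj]
    refine ⟨?_, ?_, ?_, ?_⟩
    · rw [Matrix.mul_one, Matrix.mul_zero, add_zero]
    · rw [hβ, Matrix.mul_neg, ← Matrix.mul_assoc, haa', Matrix.one_mul, Matrix.mul_one,
        neg_add_cancel]
    · rw [Matrix.mul_one, Matrix.mul_zero, add_zero]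
    · rw [hβ, Matrix.mul_neg, Matrix.mul_one, ← Matrix.mul_assoc, neg_add_eq_sub]
  have e2 : ((fromBlocks (1 : Matrix Unit Unit A) β 0 (1 : Matrix ι ι A)).map lam).transpose =
      fromBlocks 1 0 (β.map lam).transpose 1 := by
    rw [fromBlocks_map, fromBlocks_transpose, Matrix.map_one _ (map_zero lam) (map_one lam),
      Matrix.map_one _ (map_zero lam) (map_one lam), Matrix.map_zero _ (map_zero lam),
      transpose_one, transpose_one, transpose_zero]
  have e3 : fromBlocks (1 : Matrix Unit Unit A) 0 (β.map lam).transpose (1 : Matrix ι ι A) *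
      fromBlocks a 0 c (d - c * a' * b) =
      fromBlocks a 0 ((β.map lam).transpose * a + c) (d - c * a' * b) := by
    rw [fromBlocks_multiply, fromBlocks_inj]
    refine ⟨?_, ?_, ?_, ?_⟩ <;> simp
  have hcomp : ((fromBlocks (1 : Matrix Unit Unit A) β 0 (1 : Matrix ι ι A)).map lam).transpose *
      fromBlocks a b c d * fromBlocks (1 : Matrix Unit Unit A) β 0 (1 : Matrix ι ι A) =
      fromBlocks a 0 ((β.map lam).transpose * a + c) (d - c * a' * b) := by
    rw [Matrix.mul_assoc, e1, e2, e3]
  have hc : Cong lam (fromBlocks a b c d)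
      (fromBlocks a 0 ((β.map lam).transpose * a + c) (d - c * a' * b)) := ⟨_, hv, hcomp⟩
  have hgh := hc.isHerm hlam hH
  have hY : (β.map lam).transpose * a + c = 0 := by
    have := ((isHerm_fromBlocks_iff _ _ _ _).1 hgh).2.2.1
    rw [← this, Matrix.map_zero _ (map_zero lam), transpose_zero, smul_zero]
  rw [hY] at hc
  exact hc

end Blocks

section Skeleton

/-- The step used when the complement has no invertible diagonal entry. -/
def StepProp (lam : A ≃+* A) (ε : A) : Prop :=
  ∀ (ι : Type) [Fintype ι] [DecidableEq ι] (u : A) (h' : Matrix ι ι A), IsUnit u →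
    IsUnit h' → IsHerm lam ε (fromBlocks (diagonal fun _ : Unit => u) 0 0 h') → Nonempty ι →
    (∀ j, ¬ IsUnit (h' j j)) →
    ∃ (u₂ : A) (h'' : Matrix ι ι A), IsUnit u₂ ∧
      Cong lam (fromBlocks (diagonal fun _ : Unit => u) 0 0 h')
        (fromBlocks (diagonal fun _ : Unit => u₂) 0 0 h'') ∧
      ∃ j, IsUnit (h'' j j)

theorem diag_of_unit_entry (hlam : Function.Involutive lam) {ε : A} (step : StepProp lam ε) :
    ∀ (m : ℕ) (ι : Type) [Fintype ι] [DecidableEq ι], Fintype.card ι = m →
    ∀ h : Matrix ι ι A, IsUnit h → IsHerm lam ε h → (∃ i, IsUnit (h i i)) →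
    ∃ d : ι → A, Cong lam h (Matrix.diagonal d) := by
  intro m
  induction m with
  | zero =>
    intro ι _ _ hcard h _ _ hi
    obtain ⟨i, _⟩ := hi
    have := Fintype.card_pos_iff.mpr ⟨i⟩
    omega
  | succ m ih =>
    intro ι _ _ hcard h hu hherm hi
    obtain ⟨i₀, hi₀⟩ := hi
    let e : ι ≃ Unit ⊕ {j : ι // j ≠ i₀} :=
      ((Equiv.optionSubtypeNe i₀).symm.trans (Equiv.optionEquivSumPUnit _)).trans
        (Equiv.sumComm _ _)
    have hei₀ : e.symm (Sum.inl ()) = i₀ := by
      rw [Equiv.symm_apply_eq]; simp [e]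
    have hcard' : Fintype.card {j : ι // j ≠ i₀} = m := by
      have := Fintype.card_congr e
      rw [Fintype.card_sum, Fintype.card_unit, hcard] at this
      omega
    obtain ⟨H, hH⟩ : ∃ H : Matrix (Unit ⊕ {j : ι // j ≠ i₀}) (Unit ⊕ {j : ι // j ≠ i₀}) A,
        H = h.submatrix e.symm e.symm := ⟨_, rfl⟩
    have hHu : IsUnit H := by
      rw [isUnit_iff_isUnit_det, hH, det_submatrix_equiv_self]
      exact (isUnit_iff_isUnit_det _).mp hu
    have hHh : IsHerm lam ε H := by
      ext i j
      have := hherm.entry (e.symm i) (e.symm j)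
      rw [hH]
      simpa using this
    obtain ⟨b, c, d, hHeq⟩ : ∃ b c d, H = fromBlocks (diagonal fun _ : Unit => h i₀ i₀) b c d := by
      refine ⟨H.toBlocks₁₂, H.toBlocks₂₁, H.toBlocks₂₂, ?_⟩
      conv_lhs => rw [← Matrix.fromBlocks_toBlocks H]
      congr 1
      ext ⟨⟩ ⟨⟩
      simp [Matrix.toBlocks₁₁, hH, hei₀]
    obtain ⟨u', hu'⟩ := hi₀.exists_right_inv
    rw [hHeq] at hHu hHh
    have hc1 := cong_elim hlam hu' b c d hHh
    obtain ⟨h', hh'⟩ : ∃ h' : Matrix {j : ι // j ≠ i₀} {j : ι // j ≠ i₀} A,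
        h' = d - c * (diagonal fun _ : Unit => u') * b := ⟨_, rfl⟩
    rw [← hh'] at hc1
    have hH1u := hc1.isUnit hHu
    have hH1h := hc1.isHerm hlam hHh
    have hh'u : IsUnit h' := isUnit_of_isUnit_fromBlocks hH1u
    have hh'h : IsHerm lam ε h' := ((isHerm_fromBlocks_iff _ _ _ _).1 hH1h).2.2.2
    have key : ∃ D : Unit ⊕ {j : ι // j ≠ i₀} → A,
        Cong lam (fromBlocks (diagonal fun _ : Unit => h i₀ i₀) 0 0 h') (diagonal D) := by
      by_cases hemp : IsEmpty {j : ι // j ≠ i₀}
      · refine ⟨Sum.elim (fun _ => h i₀ i₀) (fun _ => 0), ?_⟩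
        rw [← Matrix.fromBlocks_diagonal]
        have : h' = diagonal (fun _ => 0) := Subsingleton.elim _ _
        rw [this]
        exact Cong.refl _
      · rw [not_isEmpty_iff] at hemp
        by_cases hd : ∃ j, IsUnit (h' j j)
        · obtain ⟨d', hd'⟩ := ih {j : ι // j ≠ i₀} hcard' h' hh'u hh'h hd
          refine ⟨Sum.elim (fun _ => h i₀ i₀) d', ?_⟩
          rw [← Matrix.fromBlocks_diagonal]
          exact cong_fromBlocks _ hd'
        · push_neg at hd
          obtain ⟨u₂, h'', hu₂, hc2, hj⟩ := step {j : ι // j ≠ i₀} (h i₀ i₀) h' hi₀ hh'u hH1h hemp hd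
          have h2u := hc2.isUnit hH1u
          have h2h := hc2.isHerm hlam hH1h
          obtain ⟨d', hd'⟩ := ih {j : ι // j ≠ i₀} hcard' h'' (isUnit_of_isUnit_fromBlocks h2u)
            ((isHerm_fromBlocks_iff _ _ _ _).1 h2h).2.2.2 hj
          refine ⟨Sum.elim (fun _ => u₂) d', ?_⟩
          rw [← Matrix.fromBlocks_diagonal]
          exact hc2.trans (cong_fromBlocks _ hd')
    obtain ⟨D, hD⟩ := key
    refine ⟨D ∘ e, ?_⟩
    have hfull : Cong lam H (diagonal D) := by rw [hHeq]; exact hc1.trans hD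
    have := hfull.submatrix e
    rwa [Matrix.submatrix_diagonal_equiv, hH, Matrix.submatrix_submatrix, Equiv.symm_comp_self,
      Matrix.submatrix_id_id] at this

/-- If every matrix is congruent to one with an invertible diagonal entry, the step holds. -/
theorem step_of_tv {ε : A}
    (tv : ∀ (ι : Type) [Fintype ι] [DecidableEq ι] [Nonempty ι] (h : Matrix ι ι A), IsUnit h →
      IsHerm lam ε h → ∃ g, Cong lam h g ∧ ∃ j, IsUnit (g j j)) : StepProp lam ε := by
  intro ι _ _ u h' hu hh'u hHh hne hd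
  haveI := hne
  obtain ⟨g, hcg, hj⟩ := tv ι h' hh'u ((isHerm_fromBlocks_iff _ _ _ _).1 hHh).2.2.2
  exact ⟨u, g, hu, cong_fromBlocks _ hcg, hj⟩

end Skeleton

end Groth.Agent.Lib.Helper26.HermCong
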