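import Mathlib
import Groth.Prelude.Def_W4c2azumayainvolQEt

/-!
# Rings with an involution whose fixed ring is local

Elementary norm/trace arguments for a commutative ring `R` with an involution `lam` whose fixed
ring `S` is local.
-/

set_option autoImplicit false
universe u v

namespace Groth.Agent.Lib.Helper26.InvLocal

open RInv

variable {S : Type u} {R : Type v} [CommRing S] [CommRing R] [Algebra S R]
  {lam : R ≃+* R}

theorem lam_algebraMap (hS : IsFixedRing S R lam) (s : S) :
    lam (algebraMap S R s) = algebraMap S R s := (hS.2 _).2 ⟨s, rfl⟩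

theorem exists_of_fixed (hS : IsFixedRing S R lam) {r : R} (hr : lam r = r) :
    ∃ s : S, algebraMap S R s = r := (hS.2 r).1 hr

theorem exists_norm (hlam : Function.Involutive lam) (hS : IsFixedRing S R lam) (r : R) :
    ∃ s : S, algebraMap S R s = r * lam r :=
  exists_of_fixed hS (by rw [map_mul, hlam r, mul_comm])

theorem exists_trace (hlam : Function.Involutive lam) (hS : IsFixedRing S R lam) (r : R) :
    ∃ s : S, algebraMap S R s = r + lam r :=
  exists_of_fixed hS (by rw [map_add, hlam r, add_comm])

theorem mem_maximalIdeal_of_mem [IsLocalRing S] {n : Ideal R} (hn : n.IsMaximal) {s : S}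
    (hs : algebraMap S R s ∈ n) : s ∈ IsLocalRing.maximalIdeal S := by
  rw [IsLocalRing.mem_maximalIdeal, mem_nonunits_iff]
  intro hu
  exact hn.ne_top (Ideal.eq_top_of_isUnit_mem _ hs (hu.map (algebraMap S R)))

theorem algebraMap_mem_of_mem_maximalIdeal [IsLocalRing S] (hlam : Function.Involutive lam)
    (hS : IsFixedRing S R lam) {n : Ideal R} (hn : n.IsMaximal) {s : S}
    (hs : s ∈ IsLocalRing.maximalIdeal S) : algebraMap S R s ∈ n := by
  by_contra hsn
  obtain ⟨r, t, ht, hrt⟩ := hn.exists_inv hsn
  obtain ⟨c, hc⟩ := exists_trace hlam hS r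
  obtain ⟨d, hd⟩ := exists_norm hlam hS r
  have ht' : t = 1 - r * algebraMap S R s := by rw [← hrt]; ring
  have key : t * lam t = algebraMap S R (1 - (s * c - s * s * d)) := by
    rw [ht', map_sub lam, map_one, map_mul lam, lam_algebraMap hS s, map_sub (algebraMap S R),
      map_one, map_sub (algebraMap S R), map_mul (algebraMap S R), map_mul (algebraMap S R),
      map_mul (algebraMap S R), hc, hd]
    ring
  have hunit : IsUnit (1 - (s * c - s * s * d)) := by
    apply IsLocalRing.isUnit_one_sub_self_of_mem_nonunits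
    exact (IsLocalRing.maximalIdeal S).sub_mem (Ideal.mul_mem_right _ _ hs)
      (Ideal.mul_mem_right _ _ (Ideal.mul_mem_right _ _ hs))
  have hu2 : IsUnit (t * lam t) := by rw [key]; exact hunit.map _
  exact hn.ne_top (Ideal.eq_top_of_isUnit_mem _ ht (isUnit_of_mul_isUnit_left hu2))

/-- Any two maximal ideals of `R` are conjugate under `lam` (or equal). -/
theorem mem_or_lam_mem [IsLocalRing S] (hlam : Function.Involutive lam)
    (hS : IsFixedRing S R lam) {n n' : Ideal R} (hn : n.IsMaximal) (hn' : n'.IsMaximal)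
    {r : R} (hr : r ∈ n') : r ∈ n ∨ lam r ∈ n := by
  obtain ⟨s, hs⟩ := exists_norm hlam hS r
  have h1 : algebraMap S R s ∈ n' := by rw [hs]; exact n'.mul_mem_right _ hr
  have h2 : algebraMap S R s ∈ n :=
    algebraMap_mem_of_mem_maximalIdeal hlam hS hn (mem_maximalIdeal_of_mem hn' h1)
  rw [hs] at h2
  exact hn.isPrime.mem_or_mem h2

/-- An element avoiding a maximal ideal together with its conjugate is a unit. -/
theorem isUnit_of_not_mem [IsLocalRing S] (hlam : Function.Involutive lam)
    (hS : IsFixedRing S R lam) {n : Ideal R} (hn : n.IsMaximal) {x : R}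
    (hx : x ∉ n) (hx' : lam x ∉ n) : IsUnit x := by
  by_contra hu
  obtain ⟨n', hn', hxn'⟩ := exists_max_ideal_of_mem_nonunits (mem_nonunits_iff.mpr hu)
  rcases mem_or_lam_mem hlam hS hn hn' hxn' with h | h
  · exact hx h
  · exact hx' h

/-- An anti-invariant element outside the Jacobson radical is a unit. -/
theorem isUnit_of_lam_eq_neg [IsLocalRing S] (hlam : Function.Involutive lam)
    (hS : IsFixedRing S R lam) {x : R} (hx : lam x = -x) (hxj : x ∉ Ring.jacobson R) :
    IsUnit x := by
  rw [← Ideal.jacobson_bot, Ideal.jacobson, Submodule.mem_sInf] at hxj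
  push_neg at hxj
  obtain ⟨n, ⟨-, hn⟩, hxn⟩ := hxj
  refine isUnit_of_not_mem hlam hS hn hxn ?_
  rw [hx]
  exact fun h => hxn (by simpa using n.neg_mem h)

theorem isUnit_lam_sub_of_not_mem_jacobson [IsLocalRing S] (hlam : Function.Involutive lam)
    (hS : IsFixedRing S R lam) {r : R} (hr : lam r - r ∉ Ring.jacobson R) :
    IsUnit (lam r - r) :=
  isUnit_of_lam_eq_neg hlam hS (by rw [map_sub, hlam r]; ring) hr

section Free

variable (hlam : Function.Involutive lam) (hS : IsFixedRing S R lam) {r w : R}
  (hw : (r - lam r) * w = 1)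

include hlam hw in
theorem lam_inv_eq_neg : lam w = -w := by
  have h1 : (r - lam r) * (-lam w) = 1 := by
    have := congrArg lam hw
    rw [map_mul, map_sub, hlam r, map_one] at this
    rw [← this]; ring
  calc lam w = ((r - lam r) * w) * lam w := by rw [hw, one_mul]
    _ = -(((r - lam r) * (-lam w)) * w) := by ring
    _ = -w := by rw [h1, one_mul]

/-- The map `(a, b) ↦ a + b r`. -/
noncomputable def phi (S : Type u) {R : Type v} [CommRing S] [CommRing R] [Algebra S R] (r : R) :
    (Fin 2 → S) →ₗ[S] R :=
  (LinearMap.proj 0).smulRight (1 : R) + (LinearMap.proj 1).smulRight r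

theorem phi_apply (r : R) (v : Fin 2 → S) : phi S r v = v 0 • (1 : R) + v 1 • r := by
  simp [phi]

include hlam hS hw in
theorem phi_bijective : Function.Bijective (phi S r) := by
  have hlw := lam_inv_eq_neg hlam hw
  constructor
  · rw [← LinearMap.ker_eq_bot, LinearMap.ker_eq_bot']
    intro v hv
    rw [phi_apply, Algebra.smul_def, Algebra.smul_def, mul_one] at hv
    have hv' := congrArg lam hv
    rw [map_add, map_mul, lam_algebraMap hS, lam_algebraMap hS, map_zero] at hv'
    have h1 : algebraMap S R (v 1) = 0 := by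
      have : algebraMap S R (v 1) * (r - lam r) = 0 := by
        have : algebraMap S R (v 1) * (r - lam r) =
          (algebraMap S R (v 0) + algebraMap S R (v 1) * r) -
            (algebraMap S R (v 0) + algebraMap S R (v 1) * lam r) := by ring
        rw [this, hv, hv', sub_zero]
      calc algebraMap S R (v 1) = algebraMap S R (v 1) * (r - lam r) * w := by
            rw [mul_assoc, hw, mul_one]
        _ = 0 := by rw [this, zero_mul]
    have h0 : algebraMap S R (v 0) = 0 := by
      rw [h1, zero_mul, add_zero] at hv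
      exact hv
    funext i
    fin_cases i
    · exact hS.1 (by simpa using h0)
    · exact hS.1 (by simpa using h1)
  · intro x
    have hb : lam ((x - lam x) * w) = (x - lam x) * w := by
      rw [map_mul, map_sub, hlam x, hlw]; ring
    have ha : lam (x - (x - lam x) * w * r) = x - (x - lam x) * w * r := by
      rw [map_sub, map_mul, hb]
      have : (x - lam x) * w * r - (x - lam x) * w * lam r = x - lam x := by
        calc (x - lam x) * w * r - (x - lam x) * w * lam r
            = (x - lam x) * ((r - lam r) * w) := by ring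
          _ = x - lam x := by rw [hw, mul_one]
      linear_combination this
    obtain ⟨b, hb'⟩ := exists_of_fixed hS hb
    obtain ⟨a, ha'⟩ := exists_of_fixed hS ha
    refine ⟨![a, b], ?_⟩
    rw [phi_apply, Algebra.smul_def, Algebra.smul_def, mul_one]
    simp only [Matrix.cons_val_zero, Matrix.cons_val_one]
    rw [ha', hb']
    ring

/-- The `S`-linear equivalence `S² ≃ R`, `(a, b) ↦ a + b r`, when `r - lam r` is a unit. -/
noncomputable def equiv : (Fin 2 → S) ≃ₗ[S] R :=
  LinearEquiv.ofBijective (phi S r) (phi_bijective hlam hS hw)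

include hlam hS hw in
open TensorProduct in
theorem formallyUnramified [Module.Finite S R] : Algebra.FormallyUnramified S R := by
  rw [Algebra.FormallyUnramified.iff_exists_tensorProduct]
  obtain ⟨c, hc⟩ := exists_trace hlam hS r
  obtain ⟨d, hd⟩ := exists_norm hlam hS r
  have hmove : ∀ (s : S) (x : R), x ⊗ₜ[S] (algebraMap S R s) =
      (algebraMap S R s * x) ⊗ₜ[S] (1 : R) := fun s x => by
    rw [Algebra.algebraMap_eq_smul_one, TensorProduct.tmul_smul, TensorProduct.smul_tmul',
      smul_mul_assoc, one_mul]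
  have key : ((1 : R) ⊗ₜ[S] r - r ⊗ₜ[S] (1 : R)) * (r ⊗ₜ[S] (1 : R) - (1 : R) ⊗ₜ[S] lam r) = 0 := by
    have hl : lam r = algebraMap S R c - r := by rw [hc]; ring
    have h0 : algebraMap S R c * r = r * r + algebraMap S R d * 1 := by rw [hc, hd]; ring
    rw [mul_sub, sub_mul, sub_mul, Algebra.TensorProduct.tmul_mul_tmul,
      Algebra.TensorProduct.tmul_mul_tmul, Algebra.TensorProduct.tmul_mul_tmul,
      Algebra.TensorProduct.tmul_mul_tmul]
    simp only [one_mul, mul_one]
    rw [← hd, hl, TensorProduct.tmul_sub, hmove, hmove, h0, TensorProduct.add_tmul]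
    abel
  refine ⟨(r ⊗ₜ[S] (1 : R) - (1 : R) ⊗ₜ[S] lam r) * (w ⊗ₜ[S] (1 : R)), ?_, ?_⟩
  · intro s
    obtain ⟨v, rfl⟩ := (phi_bijective hlam hS hw).2 s
    rw [phi_apply]
    have e1 : (1 : R) ⊗ₜ[S] (v 0 • (1 : R) + v 1 • r) - (v 0 • (1 : R) + v 1 • r) ⊗ₜ[S] (1 : R)
        = v 1 • ((1 : R) ⊗ₜ[S] r - r ⊗ₜ[S] (1 : R)) := by
      rw [TensorProduct.tmul_add, TensorProduct.add_tmul, TensorProduct.tmul_smul,
        TensorProduct.tmul_smul, ← TensorProduct.smul_tmul', ← TensorProduct.smul_tmul', smul_sub]
      abel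
    rw [e1, smul_mul_assoc, ← mul_assoc, key, zero_mul, smul_zero]
  · simp only [map_mul, map_sub, Algebra.TensorProduct.lmul'_apply_tmul, mul_one, one_mul]
    exact hw

end Free

end Groth.Agent.Lib.Helper26.InvLocal
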