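import Mathlib
import Groth.Agent.Lib.Helper26.HermCong
import Groth.Agent.Lib.Helper26.InvLocal

/-!
# Hermitian matrices over a ring with involution whose fixed ring is local
-/

set_option autoImplicit false
universe u v

namespace Groth.Agent.Lib.Helper26.HermSemilocal

open Matrix RInv
open Groth.Agent.Lib.Helper26.HermCong Groth.Agent.Lib.Helper26.InvLocal

/-- An alternating matrix of odd size has determinant zero. -/
theorem det_eq_zero_of_alternating_of_odd {K : Type*} [CommRing K] {ι : Type*} [Fintype ι]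
    [DecidableEq ι] (M : Matrix ι ι K) (hskew : ∀ i j, M j i = - M i j)
    (hdiag : ∀ i, M i i = 0) (hodd : Odd (Fintype.card ι)) : M.det = 0 := by
  rw [Matrix.det_apply]
  refine Finset.sum_involution (fun σ _ => σ⁻¹) ?_ ?_ (fun _ _ => Finset.mem_univ _)
    (fun σ _ => inv_inv σ)
  · intro σ _
    have h1 : ∏ i, M (σ⁻¹ i) i = - ∏ i, M (σ i) i := by
      calc ∏ i, M (σ⁻¹ i) i = ∏ j, M (σ⁻¹ (σ j)) (σ j) :=
            (Equiv.prod_comp σ (fun i => M (σ⁻¹ i) i)).symm
        _ = ∏ j, - M (σ j) j := by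
            refine Finset.prod_congr rfl (fun j _ => ?_)
            have e : σ⁻¹ (σ j) = j := by simp
            rw [e]
            exact hskew (σ j) j
        _ = (-1) ^ (Finset.univ : Finset ι).card * ∏ j, M (σ j) j := Finset.prod_neg _
        _ = - ∏ j, M (σ j) j := by rw [Finset.card_univ, hodd.neg_one_pow, neg_one_mul]
    rw [Equiv.Perm.sign_inv, h1, smul_neg, add_neg_cancel]
  · intro σ _ hne heq
    apply hne
    have hsq : σ ^ 2 = 1 := by
      rw [pow_two]
      nth_rewrite 1 [← heq]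
      exact inv_mul_cancel σ
    have h2 := Equiv.Perm.two_dvd_card_support hsq
    obtain ⟨i, hi⟩ : ∃ i, σ i = i := by
      by_contra hcon
      push_neg at hcon
      have : σ.support = Finset.univ := by
        ext i
        simp [Equiv.Perm.mem_support, hcon i]
      rw [this, Finset.card_univ] at h2
      exact (Nat.not_even_iff_odd.mpr hodd) (even_iff_two_dvd.mpr h2)
    have : ∏ j, M (σ j) j = 0 :=
      Finset.prod_eq_zero (Finset.mem_univ i) (by rw [hi, hdiag])
    rw [this, smul_zero]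

variable {A : Type v} [CommRing A] {lam : A ≃+* A}

/-- A row of an invertible matrix over a local ring contains a unit. -/
theorem exists_isUnit_row [IsLocalRing A] {ι : Type*} [Fintype ι] [DecidableEq ι]
    {h : Matrix ι ι A} (hu : IsUnit h) (k : ι) : ∃ j, IsUnit (h k j) := by
  by_contra hcon
  push_neg at hcon
  obtain ⟨w, hw⟩ := hu.exists_right_inv
  have h1 : (h * w) k k = 1 := by rw [hw, Matrix.one_apply_eq]
  rw [Matrix.mul_apply] at h1
  have : (1 : A) ∈ IsLocalRing.maximalIdeal A := by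
    rw [← h1]
    exact Ideal.sum_mem _ (fun j _ => Ideal.mul_mem_right _ _
      ((IsLocalRing.mem_maximalIdeal _).mpr (hcon j)))
  exact (IsLocalRing.maximalIdeal.isMaximal A).ne_top ((Ideal.eq_top_iff_one _).mpr this)

/-- In a local ring, a unit plus a non-unit is a unit. -/
theorem isUnit_add_of_not_isUnit [IsLocalRing A] {x y : A} (hx : IsUnit x) (hy : ¬ IsUnit y) :
    IsUnit (x + y) := by
  by_contra hnu
  have h1 : x + y ∈ IsLocalRing.maximalIdeal A := (IsLocalRing.mem_maximalIdeal _).mpr hnu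
  have h2 : y ∈ IsLocalRing.maximalIdeal A := (IsLocalRing.mem_maximalIdeal _).mpr hy
  have : x ∈ IsLocalRing.maximalIdeal A := by
    have := (IsLocalRing.maximalIdeal A).sub_mem h1 h2
    simpa using this
  exact (IsLocalRing.mem_maximalIdeal _).mp this hx

theorem not_isUnit_add [IsLocalRing A] {x y : A} (hx : ¬ IsUnit x) (hy : ¬ IsUnit y) :
    ¬ IsUnit (x + y) := by
  have h1 : x ∈ IsLocalRing.maximalIdeal A := (IsLocalRing.mem_maximalIdeal _).mpr hx
  have h2 : y ∈ IsLocalRing.maximalIdeal A := (IsLocalRing.mem_maximalIdeal _).mpr hy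
  exact (IsLocalRing.mem_maximalIdeal _).mp ((IsLocalRing.maximalIdeal A).add_mem h1 h2)

theorem not_isUnit_mul_left [IsLocalRing A] {x : A} (y : A) (hx : ¬ IsUnit x) :
    ¬ IsUnit (y * x) := by
  have h1 : x ∈ IsLocalRing.maximalIdeal A := (IsLocalRing.mem_maximalIdeal _).mpr hx
  exact (IsLocalRing.mem_maximalIdeal _).mp ((IsLocalRing.maximalIdeal A).mul_mem_left y h1)

/-- The step of the diagonalisation induction over a local ring. -/
theorem step_local [IsLocalRing A] (hlam : Function.Involutive lam) {ε : A} (hε : IsUnit ε) :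
    StepProp lam ε := by
  intro ι _ _ u h' hu hh'u hHh hne hd
  obtain ⟨k₀⟩ := hne
  obtain ⟨j₀, hj₀⟩ := exists_isUnit_row hh'u k₀
  have hh'h : IsHerm lam ε h' := ((isHerm_fromBlocks_iff _ _ _ _).1 hHh).2.2.2
  have hj₀' : IsUnit (h' j₀ k₀) := by
    rw [← hh'h.entry j₀ k₀]
    exact hε.mul (hj₀.map lam)
  obtain ⟨β, hβdef⟩ : ∃ β : Matrix ι Unit A, β = Matrix.of fun j _ => if j = k₀ then 1 else 0 :=
    ⟨_, rfl⟩
  have hβ : β.map lam = β := by
    ext j ⟨⟩
    rw [hβdef]
    simp only [Matrix.map_apply, Matrix.of_apply]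
    split_ifs <;> simp
  obtain ⟨a, ha⟩ : ∃ a : Matrix Unit Unit A, a = diagonal fun _ : Unit => u := ⟨_, rfl⟩
  rw [← ha] at hHh
  have hv : IsUnit (fromBlocks (1 : Matrix Unit Unit A) 0 β (1 : Matrix ι ι A)) := by
    rw [isUnit_iff_isUnit_det, det_fromBlocks_zero₁₂, det_one, det_one, mul_one]
    exact isUnit_one
  have e1 : fromBlocks a 0 0 h' * fromBlocks (1 : Matrix Unit Unit A) 0 β (1 : Matrix ι ι A) =
      fromBlocks a 0 (h' * β) h' := by
    rw [fromBlocks_multiply, fromBlocks_inj]
    refine ⟨?_, ?_, ?_, ?_⟩ <;> simp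
  have e2 : ((fromBlocks (1 : Matrix Unit Unit A) 0 β (1 : Matrix ι ι A)).map lam).transpose =
      fromBlocks 1 β.transpose 0 1 := by
    rw [fromBlocks_map, fromBlocks_transpose, hβ, Matrix.map_one _ (map_zero lam) (map_one lam),
      Matrix.map_one _ (map_zero lam) (map_one lam), Matrix.map_zero _ (map_zero lam),
      transpose_one, transpose_one, transpose_zero]
  have e3 : fromBlocks (1 : Matrix Unit Unit A) β.transpose 0 (1 : Matrix ι ι A) *
      fromBlocks a 0 (h' * β) h' =
      fromBlocks (a + β.transpose * (h' * β)) (β.transpose * h') (h' * β) h' := by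
    rw [fromBlocks_multiply, fromBlocks_inj]
    refine ⟨?_, ?_, ?_, ?_⟩ <;> simp
  have ha2 : a + β.transpose * (h' * β) = diagonal fun _ : Unit => u + h' k₀ k₀ := by
    ext ⟨⟩ ⟨⟩
    rw [ha, hβdef]
    simp [Matrix.mul_apply]
  have hu₂ : IsUnit (u + h' k₀ k₀) := isUnit_add_of_not_isUnit hu (hd k₀)
  obtain ⟨u₂', hu₂'⟩ := hu₂.exists_right_inv
  have hc1 : Cong lam (fromBlocks a 0 0 h')
      (fromBlocks (diagonal fun _ : Unit => u + h' k₀ k₀) (β.transpose * h') (h' * β) h') :=
    ⟨_, hv, by rw [Matrix.mul_assoc, e1, e2, e3, ha2]⟩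
  have hgh := hc1.isHerm hlam hHh
  have hc2 := cong_elim hlam hu₂' (β.transpose * h') (h' * β) h' hgh
  rw [ha] at hc1
  refine ⟨u + h' k₀ k₀, _, hu₂, hc1.trans hc2, j₀, ?_⟩
  have hent : (h' - h' * β * (diagonal fun _ : Unit => u₂') * (β.transpose * h')) j₀ j₀ =
      h' j₀ j₀ - h' j₀ k₀ * u₂' * h' k₀ j₀ := by
    rw [hβdef]
    simp [Matrix.sub_apply, Matrix.mul_apply]
  rw [hent]
  have hu₂'u : IsUnit u₂' := IsUnit.of_mul_eq_one_right _ hu₂'
  have hunit : IsUnit (-(h' j₀ k₀ * u₂' * h' k₀ j₀)) := ((hj₀'.mul hu₂'u).mul hj₀).neg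
  have := isUnit_add_of_not_isUnit hunit (hd j₀)
  have e : -(h' j₀ k₀ * u₂' * h' k₀ j₀) + h' j₀ j₀ = h' j₀ j₀ - h' j₀ k₀ * u₂' * h' k₀ j₀ := by
    ring
  rwa [e] at this

section TV

variable {B : Type u} [CommRing B] [Algebra B A] [IsLocalRing B]

/-- Over a local ring with a suitable `z`, every invertible hermitian matrix is congruent to one
with an invertible diagonal entry. -/
theorem tv_local [IsLocalRing A] {ε z : A} (hz : IsUnit (z + ε * lam z))
    (ι : Type) [Fintype ι] [DecidableEq ι] [Nonempty ι] (h : Matrix ι ι A) (hu : IsUnit h)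
    (hh : IsHerm lam ε h) : ∃ g, Cong lam h g ∧ ∃ j, IsUnit (g j j) := by
  by_cases hd : ∃ j, IsUnit (h j j)
  · exact ⟨h, Cong.refl _, hd⟩
  push_neg at hd
  obtain ⟨k⟩ := (inferInstance : Nonempty ι)
  obtain ⟨i, hi⟩ := exists_isUnit_row hu k
  have hik : i ≠ k := by
    rintro rfl
    exact hd _ hi
  obtain ⟨c, hc⟩ := hi.exists_right_inv
  refine ⟨_, ⟨Matrix.transvection i k (c * z), isUnit_transvection hik _, rfl⟩, k, ?_⟩
  rw [transvection_diag]
  have e1 : h k i * (c * z) = z := by rw [← mul_assoc, hc, one_mul]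
  have e2 : lam (c * z) * h i k = ε * lam z := by
    rw [← hh.entry i k]
    calc lam (c * z) * (ε * lam (h k i)) = ε * (lam z * lam (h k i * c)) := by
          rw [map_mul, map_mul]; ring
      _ = ε * lam z := by rw [hc, map_one, mul_one]
  have e3 : (h k k + h k i * (c * z)) + lam (c * z) * (h i k + h i i * (c * z)) =
      (z + ε * lam z) + (h k k + lam (c * z) * (c * z) * h i i) := by
    rw [mul_add, e2, e1]; ring
  rw [e3]
  exact isUnit_add_of_not_isUnit hz
    (not_isUnit_add (hd k) (not_isUnit_mul_left _ (hd i)))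

/-- If `A` is not local (so it has two maximal ideals swapped by `lam`), every invertible
hermitian matrix is congruent to one with an invertible diagonal entry. -/
theorem tv_nonlocal (hlam : Function.Involutive lam) (hB : IsFixedRing B A lam)
    (hnl : ¬ IsLocalRing A) {ε : A} (hε2 : ε * ε = 1)
    (ι : Type) [Fintype ι] [DecidableEq ι] [Nonempty ι] (h : Matrix ι ι A) (hu : IsUnit h)
    (hh : IsHerm lam ε h) : ∃ g, Cong lam h g ∧ ∃ j, IsUnit (g j j) := by
  by_cases hd : ∃ j, IsUnit (h j j)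
  · exact ⟨h, Cong.refl _, hd⟩
  push_neg at hd
  haveI : Nontrivial A := hB.1.nontrivial
  obtain ⟨n, hn⟩ := Ideal.exists_maximal A
  have hmemc : ∀ x : A, x ∈ n.comap (lam : A →+* A) ↔ lam x ∈ n := fun x => Iff.rfl
  have hne : n.comap (lam : A →+* A) ≠ n := by
    intro heq
    apply hnl
    refine IsLocalRing.of_unique_max_ideal ⟨n, hn, fun n'' hn'' => ?_⟩
    refine hn''.eq_of_le hn.ne_top (fun x hx => ?_)
    rcases mem_or_lam_mem hlam hB hn hn'' hx with h1 | h1
    · exact h1
    · rw [← heq]; exact (hmemc x).2 h1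
  have hn' : (n.comap (lam : A →+* A)).IsMaximal :=
    Ideal.comap_isMaximal_of_surjective (lam : A →+* A) lam.surjective
  have hcop : n ⊔ n.comap (lam : A →+* A) = ⊤ := Ideal.IsMaximal.coprime_of_ne hn hn' hne.symm
  obtain ⟨a, han, b, hbn, hab⟩ := Submodule.mem_sup.mp
    (hcop ▸ Submodule.mem_top : (1 : A) ∈ n ⊔ n.comap (lam : A →+* A))
  have hla : lam a - 1 ∈ n := by
    have h1 : lam a + lam b = 1 := by rw [← map_add, hab, map_one]
    have h2 : lam a - 1 = -lam b := by rw [← h1]; ring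
    rw [h2]
    exact n.neg_mem ((hmemc b).1 hbn)
  -- non-units which are eigenvectors of `lam` lie in `n`
  have hmem : ∀ x : A, lam x = ε * x → ¬ IsUnit x → x ∈ n := by
    intro x hx hxu
    by_contra hxn
    apply hxu
    refine isUnit_of_not_mem hlam hB hn hxn ?_
    rw [hx]
    intro h1
    apply hxn
    have : x = ε * (ε * x) := by rw [← mul_assoc, hε2, one_mul]
    rw [this]
    exact n.mul_mem_left _ h1
  have hlamd : ∀ (g : Matrix ι ι A), IsHerm lam ε g → ∀ j, lam (g j j) = ε * g j j := by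
    intro g hg j
    have := hg.entry j j
    calc lam (g j j) = ε * (ε * lam (g j j)) := by rw [← mul_assoc, hε2, one_mul]
      _ = ε * g j j := by rw [this]
  have hdn : ∀ j, h j j ∈ n := fun j => hmem _ (hlamd h hh j) (hd j)
  obtain ⟨k⟩ := (inferInstance : Nonempty ι)
  obtain ⟨i, hi⟩ : ∃ i, h i k ∉ n := by
    by_contra hcon
    push_neg at hcon
    obtain ⟨w, hw⟩ := hu.exists_left_inv
    have h1 : (w * h) k k = 1 := by rw [hw, Matrix.one_apply_eq]
    rw [Matrix.mul_apply] at h1
    have : (1 : A) ∈ n := by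
      rw [← h1]
      exact Ideal.sum_mem _ (fun j _ => Ideal.mul_mem_left _ _ (hcon j))
    exact hn.ne_top ((Ideal.eq_top_iff_one _).mpr this)
  have hik : i ≠ k := by
    rintro rfl
    exact hi (hdn _)
  have hcg : Cong lam h (((Matrix.transvection i k a).map lam).transpose * h *
      Matrix.transvection i k a) := ⟨_, isUnit_transvection hik _, rfl⟩
  refine ⟨_, hcg, k, ?_⟩
  have hgh := hcg.isHerm hlam hh
  have hgn : (((Matrix.transvection i k a).map lam).transpose * h *
      Matrix.transvection i k a) k k ∉ n := by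
    rw [transvection_diag]
    intro hmemn
    apply hi
    have h1 : lam a * h i k ∈ n := by
      have e : lam a * h i k = ((h k k + h k i * a) + lam a * (h i k + h i i * a)) -
          (h k k + h k i * a + lam a * h i i * a) := by ring
      rw [e]
      refine n.sub_mem hmemn (n.add_mem (n.add_mem (hdn k) (n.mul_mem_left _ han))
        (n.mul_mem_left _ han))
    have e : h i k = lam a * h i k - (lam a - 1) * h i k := by ring
    rw [e]
    exact n.sub_mem h1 (n.mul_mem_right _ hla)
  by_contra hnu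
  exact hgn (hmem _ (hlamd _ hgh k) hnu)

end TV

end Groth.Agent.Lib.Helper26.HermSemilocal
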