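import Mathlib
import Groth.Agent.Lib.Helper26.HermSemilocal

/-!
# Symplectic normal form of skew-hermitian matrices over a local ring with involution
-/

set_option autoImplicit false
universe v

namespace Groth.Agent.Lib.Helper26.HermSympl

open Matrix
open Groth.Agent.Lib.Helper26.HermCong Groth.Agent.Lib.Helper26.HermSemilocal

variable {A : Type v} [CommRing A] {lam : A ≃+* A}

section Blocks

variable {ι : Type*} [Fintype ι] [DecidableEq ι] {κ : Type*} [Fintype κ] [DecidableEq κ]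

/-- Block elimination with an invertible pivot block. -/
theorem cong_elim_block (hlam : Function.Involutive lam) {ε : A} (a a' : Matrix κ κ A)
    (haa' : a * a' = 1) (b : Matrix κ ι A) (c : Matrix ι κ A) (d : Matrix ι ι A)
    (hH : IsHerm lam ε (fromBlocks a b c d)) :
    Cong lam (fromBlocks a b c d) (fromBlocks a 0 0 (d - c * a' * b)) := by
  obtain ⟨β, hβ⟩ : ∃ β : Matrix κ ι A, β = -(a' * b) := ⟨_, rfl⟩
  have hv : IsUnit (fromBlocks (1 : Matrix κ κ A) β 0 (1 : Matrix ι ι A)) := by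
    rw [isUnit_iff_isUnit_det, det_fromBlocks_zero₂₁, det_one, det_one, mul_one]
    exact isUnit_one
  have e1 : fromBlocks a b c d * fromBlocks (1 : Matrix κ κ A) β 0 (1 : Matrix ι ι A) =
      fromBlocks a 0 c (d - c * a' * b) := by
    rw [fromBlocks_multiply, fromBlocks_inj]
    refine ⟨?_, ?_, ?_, ?_⟩
    · rw [Matrix.mul_one, Matrix.mul_zero, add_zero]
    · rw [hβ, Matrix.mul_neg, ← Matrix.mul_assoc, haa', Matrix.one_mul, Matrix.mul_one,
        neg_add_cancel]
    · rw [Matrix.mul_one, Matrix.mul_zero, add_zero]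
    · rw [hβ, Matrix.mul_neg, Matrix.mul_one, ← Matrix.mul_assoc, neg_add_eq_sub]
  have e2 : ((fromBlocks (1 : Matrix κ κ A) β 0 (1 : Matrix ι ι A)).map lam).transpose =
      fromBlocks 1 0 (β.map lam).transpose 1 := by
    rw [fromBlocks_map, fromBlocks_transpose, Matrix.map_one _ (map_zero lam) (map_one lam),
      Matrix.map_one _ (map_zero lam) (map_one lam), Matrix.map_zero _ (map_zero lam),
      transpose_one, transpose_one, transpose_zero]
  have e3 : fromBlocks (1 : Matrix κ κ A) 0 (β.map lam).transpose (1 : Matrix ι ι A) *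
      fromBlocks a 0 c (d - c * a' * b) =
      fromBlocks a 0 ((β.map lam).transpose * a + c) (d - c * a' * b) := by
    rw [fromBlocks_multiply, fromBlocks_inj]
    refine ⟨?_, ?_, ?_, ?_⟩ <;> simp
  have hcomp : ((fromBlocks (1 : Matrix κ κ A) β 0 (1 : Matrix ι ι A)).map lam).transpose *
      fromBlocks a b c d * fromBlocks (1 : Matrix κ κ A) β 0 (1 : Matrix ι ι A) =
      fromBlocks a 0 ((β.map lam).transpose * a + c) (d - c * a' * b) := by
    rw [Matrix.mul_assoc, e1, e2, e3]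
  have hc : Cong lam (fromBlocks a b c d)
      (fromBlocks a 0 ((β.map lam).transpose * a + c) (d - c * a' * b)) := ⟨_, hv, hcomp⟩
  have hgh := hc.isHerm hlam hH
  have hY : (β.map lam).transpose * a + c = 0 := by
    have := ((isHerm_fromBlocks_iff _ _ _ _).1 hgh).2.2.1
    rw [← this, Matrix.map_zero _ (map_zero lam), transpose_zero, smul_zero]
  rw [hY] at hc
  exact hc

theorem cong_fromBlocks₂ {a a₂ : Matrix κ κ A} {d d₂ : Matrix ι ι A} (h1 : Cong lam a a₂)
    (h2 : Cong lam d d₂) : Cong lam (fromBlocks a 0 0 d) (fromBlocks a₂ 0 0 d₂) := by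
  obtain ⟨v₁, hv₁, rfl⟩ := h1
  obtain ⟨v₂, hv₂, rfl⟩ := h2
  refine ⟨fromBlocks v₁ 0 0 v₂, ?_, ?_⟩
  · rw [isUnit_iff_isUnit_det, det_fromBlocks_zero₂₁]
    exact ((isUnit_iff_isUnit_det _).mp hv₁).mul ((isUnit_iff_isUnit_det _).mp hv₂)
  · rw [fromBlocks_map, fromBlocks_transpose, Matrix.map_zero _ (map_zero lam),
      Matrix.map_zero _ (map_zero lam), fromBlocks_multiply, fromBlocks_multiply, fromBlocks_inj]
    refine ⟨?_, ?_, ?_, ?_⟩ <;> simp

/-- Permuting the indices is a congruence. -/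
theorem cong_perm (σ : ι ≃ ι) (h : Matrix ι ι A) : Cong lam h (h.submatrix σ σ) := by
  refine ⟨(1 : Matrix ι ι A).submatrix id σ, ?_, ?_⟩
  · have hvw : (1 : Matrix ι ι A).submatrix id σ * (1 : Matrix ι ι A).submatrix σ id = 1 := by
      rw [Matrix.submatrix_mul_equiv, Matrix.one_mul, Matrix.submatrix_id_id]
    rw [isUnit_iff_isUnit_det]
    exact IsUnit.of_mul_eq_one _ (by rw [← det_mul, hvw, det_one])
  · ext p q
    rw [cong_apply]
    simp only [Matrix.submatrix_apply, id_eq, Matrix.one_apply]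
    simp [apply_ite]

theorem cong_diagonal_apply (dd : ι → A) (h : Matrix ι ι A) (p q : ι) :
    (((Matrix.diagonal dd).map lam).transpose * h * Matrix.diagonal dd) p q =
      lam (dd p) * h p q * dd q := by
  rw [Matrix.diagonal_map (map_zero lam), Matrix.diagonal_transpose, Matrix.mul_diagonal,
    Matrix.diagonal_mul]

end Blocks

section Sympl

variable [IsLocalRing A]

/-- The symplectic normal form with respect to the pairing `κ × Fin 2`. -/
def SForm {κ : Type*} (g : Matrix (κ × Fin 2) (κ × Fin 2) A) : Prop :=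
  ∀ x y : κ × Fin 2, (x.1 ≠ y.1 → g x y = 0) ∧
    (x.1 = y.1 → x.2 = y.2 → ¬ IsUnit (g x y)) ∧
    (x.1 = y.1 → x.2 = 0 → y.2 = 1 → g x y = 1) ∧
    (x.1 = y.1 → x.2 = 1 → y.2 = 0 → g x y = -1)

theorem not_isUnit_diag (hdiag : ∀ a : A, lam a = -a → ¬ IsUnit a) {ι : Type*} [Fintype ι]
    [DecidableEq ι] (g : Matrix ι ι A) (hg : IsHerm lam (-1) g) (i : ι) : ¬ IsUnit (g i i) := by
  apply hdiag
  have := hg.entry i i
  linear_combination (-1 : A) * this

theorem sympl (hlam : Function.Involutive lam) (hdiag : ∀ a : A, lam a = -a → ¬ IsUnit a) :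
    ∀ (m : ℕ) (κ : Type) [Fintype κ] [DecidableEq κ], Fintype.card κ = m →
    ∀ h : Matrix (κ × Fin 2) (κ × Fin 2) A, IsUnit h → IsHerm lam (-1) h →
    ∃ g, Cong lam h g ∧ SForm g := by
  intro m
  induction m with
  | zero =>
    intro κ _ _ hcard h hu hh
    haveI : IsEmpty κ := Fintype.card_eq_zero_iff.mp hcard
    exact ⟨h, Cong.refl h, fun x => isEmptyElim x.1⟩
  | succ m ih =>
    intro κ _ _ hcard h hu hh
    obtain ⟨k₀⟩ : Nonempty κ := Fintype.card_pos_iff.mp (by omega)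
    let E : κ × Fin 2 ≃ Fin 2 ⊕ ({k : κ // k ≠ k₀} × Fin 2) :=
      { toFun := fun x => if hk : x.1 = k₀ then Sum.inl x.2 else Sum.inr (⟨x.1, hk⟩, x.2)
        invFun := Sum.elim (fun b => (k₀, b)) (fun p => (p.1.1, p.2))
        left_inv := by
          rintro ⟨k, b⟩
          by_cases hk : k = k₀
          · subst hk; simp
          · simp [hk]
        right_inv := by
          rintro (b | ⟨⟨k, hk⟩, b⟩)
          · simp
          · simp [hk] }
    have hEx : ∀ z : κ × Fin 2, E z =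
        if hk : z.1 = k₀ then Sum.inl z.2 else Sum.inr (⟨z.1, hk⟩, z.2) := fun z => rfl
    have hcard' : Fintype.card {k : κ // k ≠ k₀} = m := by
      have := Fintype.card_congr E
      rw [Fintype.card_sum, Fintype.card_prod, Fintype.card_prod, Fintype.card_fin, hcard] at this
      omega
    obtain ⟨H, hH⟩ : ∃ H : Matrix (Fin 2 ⊕ ({k : κ // k ≠ k₀} × Fin 2))
        (Fin 2 ⊕ ({k : κ // k ≠ k₀} × Fin 2)) A, H = h.submatrix E.symm E.symm := ⟨_, rfl⟩
    have hHu : IsUnit H := by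
      rw [isUnit_iff_isUnit_det, hH, det_submatrix_equiv_self]
      exact (isUnit_iff_isUnit_det _).mp hu
    have hHh : IsHerm lam (-1) H := by
      ext i j
      have := hh.entry (E.symm i) (E.symm j)
      rw [hH]
      simpa using this
    obtain ⟨x, hx⟩ := exists_isUnit_row hHu (Sum.inl 0)
    have hx0 : x ≠ Sum.inl 0 := by
      rintro rfl
      exact not_isUnit_diag hdiag H hHh _ hx
    obtain ⟨H₁, hH₁⟩ : ∃ H₁ : Matrix (Fin 2 ⊕ ({k : κ // k ≠ k₀} × Fin 2))
        (Fin 2 ⊕ ({k : κ // k ≠ k₀} × Fin 2)) A,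
        H₁ = H.submatrix (Equiv.swap (Sum.inl 1) x) (Equiv.swap (Sum.inl 1) x) := ⟨_, rfl⟩
    have hc01 : Cong lam H H₁ := hH₁ ▸ cong_perm _ H
    have hH₁u := hc01.isUnit hHu
    have hH₁h := hc01.isHerm hlam hHh
    have h01 : IsUnit (H₁ (Sum.inl 0) (Sum.inl 1)) := by
      rw [hH₁, Matrix.submatrix_apply, Equiv.swap_apply_left,
        Equiv.swap_apply_of_ne_of_ne (by simp) hx0.symm]
      exact hx
    obtain ⟨P, b, c, d, hH₁eq⟩ : ∃ P b c d, H₁ = fromBlocks P b c d :=
      ⟨_, _, _, _, (fromBlocks_toBlocks H₁).symm⟩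
    have hP01 : IsUnit (P 0 1) := by
      rw [hH₁eq] at h01
      exact h01
    rw [hH₁eq] at hH₁u hH₁h hc01
    have hPh : IsHerm lam (-1) P := ((isHerm_fromBlocks_iff _ _ _ _).1 hH₁h).1
    have hP10 : P 1 0 = -lam (P 0 1) := by
      rw [← hPh.entry 1 0]; ring
    have hP11 : ¬ IsUnit (P 1 1) := not_isUnit_diag hdiag P hPh 1
    have hdet : IsUnit P.det := by
      rw [Matrix.det_fin_two, hP10]
      have e : P 0 0 * P 1 1 - P 0 1 * -lam (P 0 1) = P 0 1 * lam (P 0 1) + P 0 0 * P 1 1 := by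
        ring
      rw [e]
      exact isUnit_add_of_not_isUnit (hP01.mul (hP01.map lam)) (not_isUnit_mul_left _ hP11)
    have hPP' : P * P⁻¹ = 1 := Matrix.mul_nonsing_inv P hdet
    have hc12 := cong_elim_block hlam P P⁻¹ hPP' b c d hH₁h
    obtain ⟨h', hh'⟩ : ∃ h' : Matrix ({k : κ // k ≠ k₀} × Fin 2) ({k : κ // k ≠ k₀} × Fin 2) A,
        h' = d - c * P⁻¹ * b := ⟨_, rfl⟩
    rw [← hh'] at hc12
    have h2u := hc12.isUnit hH₁u
    have h2h := hc12.isHerm hlam hH₁h
    have hh'u : IsUnit h' := isUnit_of_isUnit_fromBlocks h2u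
    have hh'h : IsHerm lam (-1) h' := ((isHerm_fromBlocks_iff _ _ _ _).1 h2h).2.2.2
    obtain ⟨g', hcg', hS'⟩ := ih {k : κ // k ≠ k₀} hcard' h' hh'u hh'h
    obtain ⟨c₀, hc₀⟩ := hP01.exists_right_inv
    obtain ⟨P₂, hP₂⟩ : ∃ P₂ : Matrix (Fin 2) (Fin 2) A,
        P₂ = ((Matrix.diagonal ![1, c₀]).map lam).transpose * P * Matrix.diagonal ![1, c₀] :=
      ⟨_, rfl⟩
    have hcP : Cong lam P P₂ := by
      refine ⟨Matrix.diagonal ![1, c₀], ?_, hP₂.symm⟩
      rw [isUnit_iff_isUnit_det, det_diagonal, Fin.prod_univ_two]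
      simp only [Matrix.cons_val_zero, Matrix.cons_val_one, one_mul]
      exact IsUnit.of_mul_eq_one_right _ hc₀
    have hP₂e : ∀ p q, P₂ p q = lam (![1, c₀] p) * P p q * ![1, c₀] q := fun p q => by
      rw [hP₂, cong_diagonal_apply]
    have e01 : P₂ 0 1 = 1 := by
      rw [hP₂e]; simp [hc₀]
    have e10 : P₂ 1 0 = -1 := by
      rw [hP₂e, hP10]
      simp only [Matrix.cons_val_zero, Matrix.cons_val_one, mul_one]
      calc lam c₀ * -lam (P 0 1) = -(lam (P 0 1 * c₀)) := by rw [map_mul]; ring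
        _ = -1 := by rw [hc₀, map_one]
    have hP₂h : IsHerm lam (-1) P₂ := hcP.isHerm hlam hPh
    have hc23 : Cong lam (fromBlocks P 0 0 h') (fromBlocks P₂ 0 0 g') := cong_fromBlocks₂ hcP hcg'
    have hfull : Cong lam H (fromBlocks P₂ 0 0 g') := (hc01.trans hc12).trans hc23
    have hfin := hfull.submatrix E
    have hHE : H.submatrix E E = h := by
      rw [hH, submatrix_submatrix, Equiv.symm_comp_self, submatrix_id_id]
    rw [hHE] at hfin
    refine ⟨_, hfin, ?_⟩
    intro x y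
    simp only [Matrix.submatrix_apply]
    by_cases hxk : x.1 = k₀ <;> by_cases hyk : y.1 = k₀
    · rw [hEx x, hEx y, dif_pos hxk, dif_pos hyk, fromBlocks_apply₁₁]
      refine ⟨fun hne => absurd (hxk.trans hyk.symm) hne, ?_, ?_, ?_⟩
      · intro _ h2
        rw [h2]
        exact not_isUnit_diag hdiag P₂ hP₂h _
      · intro _ h0 h1
        rw [h0, h1, e01]
      · intro _ h1 h0
        rw [h1, h0, e10]
    · rw [hEx x, hEx y, dif_pos hxk, dif_neg hyk, fromBlocks_apply₁₂]
      have hne : x.1 ≠ y.1 := fun h => hyk (h ▸ hxk)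
      exact ⟨fun _ => rfl, fun h => absurd h hne, fun h => absurd h hne, fun h => absurd h hne⟩
    · rw [hEx x, hEx y, dif_neg hxk, dif_pos hyk, fromBlocks_apply₂₁]
      have hne : x.1 ≠ y.1 := fun h => hxk (h ▸ hyk)
      exact ⟨fun _ => rfl, fun h => absurd h hne, fun h => absurd h hne, fun h => absurd h hne⟩
    · rw [hEx x, hEx y, dif_neg hxk, dif_neg hyk, fromBlocks_apply₂₂]
      obtain ⟨t1, t2, t3, t4⟩ := hS' (⟨x.1, hxk⟩, x.2) (⟨y.1, hyk⟩, y.2)
      exact ⟨fun hne => t1 (fun h => hne (congrArg Subtype.val h)),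
        fun heq => t2 (Subtype.ext heq), fun heq => t3 (Subtype.ext heq),
        fun heq => t4 (Subtype.ext heq)⟩

end Sympl

end Groth.Agent.Lib.Helper26.HermSympl
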