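import Mathlib
import Groth.Agent.Lib.Helper9.HilbD12Defs

/-!
# Q4 for helper9's D12 (helper18, S12265): a morphism from a local `Spec A` to `Hs` through the
rational point `h₀` factors through the local ring at `p = h₀(pt)`.
-/

set_option autoImplicit false
universe u
open CategoryTheory CategoryTheory.Limits AlgebraicGeometry
open Groth.Agent.Lib.Helper9.HilbD12Defs

namespace Groth.Agent.Lib.Helper26.HilbD12Q4

/-- a morphism from the spectrum of a local ring factors through the local ring at the image of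
the closed point (with the point given up to propositional equality) -/
theorem exists_stalk_hom {X : Scheme.{u}} {A : CommRingCat.{u}} [IsLocalRing A] (g : Spec A ⟶ X)
    (p : X) (hp : g (IsLocalRing.closedPoint A) = p) :
    ∃ φ : X.presheaf.stalk p ⟶ A, Spec.map φ ≫ X.fromSpecStalk p = g := by
  subst hp
  exact ⟨Scheme.stalkClosedPointTo g, Scheme.Spec_stalkClosedPointTo_fromSpecStalk g⟩

variable {k : Type u} [Field k] {Hs : Scheme.{u}} (ϖ : Hs ⟶ Spec (CommRingCat.of k))
  (h₀ : Spec (CommRingCat.of k) ⟶ Hs)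

/-- Q4 -/
theorem exists_of_hom {A : CommRingCat.{u}} [IsLocalRing A] (ρ : A ⟶ CommRingCat.of k)
    [IsLocalHom ρ.hom] (g : Spec A ⟶ Hs) (hg : Spec.map ρ ≫ g = h₀) :
    ∃ φ : Hs.presheaf.stalk (h₀.base (IsLocalRing.closedPoint k)) ⟶ A,
      φ ≫ ρ = resRing h₀ ∧ gOf h₀ φ = g := by
  have hp : g (IsLocalRing.closedPoint A) = h₀.base (IsLocalRing.closedPoint k) := by
    have h1 : h₀.base (IsLocalRing.closedPoint k) =
        (Spec.map ρ ≫ g) (IsLocalRing.closedPoint (CommRingCat.of k)) := by rw [hg]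
    rw [h1, Scheme.Hom.comp_apply, Spec_closedPoint]
  obtain ⟨φ, hφ⟩ := exists_stalk_hom g _ hp
  refine ⟨φ, ?_, hφ⟩
  apply gOf_injective h₀
  unfold gOf
  rw [Spec.map_comp, Category.assoc, hφ, hg]
  exact (Scheme.Spec_stalkClosedPointTo_fromSpecStalk h₀).symm

end Groth.Agent.Lib.Helper26.HilbD12Q4
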