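import Mathlib
import Groth.Agent.Lib.Helper17.Hartogs
import Groth.Agent.Lib.Helper4.SerreNormal
import Groth.Agent.Lib.Helper9.StalkUnit
import Groth.Agent.Lib.Helper4.Depth
import Groth.Agent.Lib.Helper5.HartogsDepth

/-!
# Restriction of `Hom(M~, O)` to an open of an affine scheme (helper26)
-/

set_option autoImplicit false
set_option linter.style.haveILetI false
set_option linter.unusedSectionVars false
universe u
open CategoryTheory CategoryTheory.Limits AlgebraicGeometry TopologicalSpace Opposite
open Scheme.Modules

namespace Groth.Agent.Lib.Helper26.HomRestr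

open Groth.Agent.Lib.Helper3 Groth.Agent.Lib.Helper17

/-- Morphisms out of `M~` are determined by their effect on global sections. -/
theorem tilde_hom_ext (R : CommRingCat.{u}) (M : ModuleCat.{u} R) (N : (Spec R).Modules)
    (φ ψ : AlgebraicGeometry.tilde M ⟶ N)
    (h : ∀ s : Γ(AlgebraicGeometry.tilde M, ⊤), φ.app ⊤ s = ψ.app ⊤ s) : φ = ψ := by
  apply ((tilde.adjunction (R := R)).homEquiv M N).injective
  rw [Adjunction.homEquiv_unit, Adjunction.homEquiv_unit]
  congr 1
  ext s
  exact h s

/-- Depth of the stalk of the structure module from the depth of the local ring. -/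
theorem two_le_depth_structureModule {X : Scheme.{u}} (y : X)
    (h : (2 : ℕ∞) ≤ LocCoh.depth (X.presheaf.stalk y) (X.presheaf.stalk y)) :
    (2 : ℕ∞) ≤ LocCoh.depth (X.presheaf.stalk y) ((Coh.structureModule X).presheaf.stalk y) := by
  let el : ((Coh.structureModule X).presheaf.stalk y) ≃ₗ[X.presheaf.stalk y]
      (X.presheaf.stalk y) :=
    LinearEquiv.ofBijective
      { toFun := Groth.Agent.Lib.Helper9.StalkUnit.unitStalkHom y
        map_add' := map_add _
        map_smul' := fun r a => by
          rw [Groth.Agent.Lib.Helper9.StalkUnit.unitStalkHom_smul]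
          rfl }
      ⟨Groth.Agent.Lib.Helper9.StalkUnit.unitStalkHom_injective y,
        Groth.Agent.Lib.Helper9.StalkUnit.unitStalkHom_surjective y⟩
  unfold LocCoh.depth at h ⊢
  rw [Groth.Agent.Lib.Helper4.idealDepth_congr _ el]
  exact h

/-- Depth of the local rings of `Spec R` at primes of height `≥ 2`, `R` normal Noetherian. -/
theorem depth_stalk_spec (R : Type u) [CommRing R] [IsNoetherianRing R] [IsDomain R]
    [IsIntegrallyClosed R] (z : ↥(Spec (CommRingCat.of R)))
    (hz : (2 : ℕ∞) ≤ (show PrimeSpectrum R from z).asIdeal.height) :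
    (2 : ℕ∞) ≤ LocCoh.depth ((Spec (CommRingCat.of R)).presheaf.stalk z)
      ((Spec (CommRingCat.of R)).presheaf.stalk z) := by
  let z' : PrimeSpectrum R := z
  letI : Algebra R ((Spec (CommRingCat.of R)).presheaf.stalk z) :=
    StructureSheaf.stalkAlgebra (R := R) z'
  haveI : IsLocalization.AtPrime ((Spec (CommRingCat.of R)).presheaf.stalk z) z'.asIdeal :=
    StructureSheaf.IsLocalization.to_stalk (R := R) z'
  haveI : IsIntegrallyClosed (Localization.AtPrime z'.asIdeal) :=
    isIntegrallyClosed_of_isLocalization _ z'.asIdeal.primeCompl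
      (Ideal.primeCompl_le_nonZeroDivisors _)
  let e := IsLocalization.algEquiv z'.asIdeal.primeCompl (Localization.AtPrime z'.asIdeal)
    ((Spec (CommRingCat.of R)).presheaf.stalk z)
  have h1 := Groth.Agent.Lib.Helper4.SerreNormal.min_two_le_depth_of_normal
    (Localization.AtPrime z'.asIdeal)
  rw [Groth.Agent.Lib.Helper4.SerreNormal.height_maximalIdeal_atPrime z'.asIdeal] at h1
  have h2 : (2 : ℕ∞) ≤ LocCoh.depth (Localization.AtPrime z'.asIdeal)
      (Localization.AtPrime z'.asIdeal) := by
    refine le_trans ?_ h1
    exact le_min (by norm_num) hz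
  exact h2.trans (Groth.Agent.Lib.Helper5.Hartogs.depth_le_of_ringEquiv e.toRingEquiv)

section Main

variable {X : Scheme.{u}}

/-- Transport of injectivity of restriction of functions along an equality of opens, for the
structure module. -/
theorem inj_transport (U U' : X.Opens) (h : U' = U)
    (hinj : Function.Injective (X.presheaf.map (homOfLE (le_top : U ≤ ⊤)).op)) :
    Function.Injective
      ((Coh.structureModule X).presheaf.map (homOfLE (le_top : U' ≤ ⊤)).op) := by
  subst h
  intro a b hab
  exact hinj hab

/-- If the unit `G ⟶ j_* j^* G` is an isomorphism, every morphism `F|_U ⟶ G|_U` extends. -/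
theorem surjective_restrict_of_isIso_unit (F G : X.Modules) (U : X.Opens)
    [IsIso ((Scheme.Modules.restrictAdjunction U.ι).unit.app G)] :
    Function.Surjective (fun φ : F ⟶ G => (Scheme.Modules.restrictFunctor U.ι).map φ) := by
  intro ψ
  let adj := Scheme.Modules.restrictAdjunction U.ι
  refine ⟨adj.homEquiv F _ ψ ≫ inv (adj.unit.app G), ?_⟩
  apply (adj.homEquiv F _).injective
  change adj.homEquiv F _ ((Scheme.Modules.restrictFunctor U.ι).map
    (adj.homEquiv F _ ψ ≫ inv (adj.unit.app G))) = adj.homEquiv F _ ψ
  rw [Adjunction.homEquiv_unit]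
  have hnat := adj.unit.naturality (adj.homEquiv F _ ψ ≫ inv (adj.unit.app G))
  simp only [Functor.id_obj, Functor.id_map, Functor.comp_obj, Functor.comp_map] at hnat
  rw [← hnat, Category.assoc, IsIso.inv_hom_id, Category.comp_id]

end Main

end Groth.Agent.Lib.Helper26.HomRestr
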