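import Mathlib
import Groth.Prelude.Def_RefHull
import Groth.Agent.Lib.Helper22.HomShStalk
import Groth.Agent.Lib.Helper17.StalkKit
import Groth.Agent.Lib.Helper3.QCProps
import Groth.Agent.Lib.Helper3.QCSec

/-!
# The stalk of the sheaf Hom out of a finitely presented module surjects onto Hom of stalks
(helper26)
-/

set_option autoImplicit false
set_option linter.style.haveILetI false
set_option linter.unusedSectionVars false
universe u
open CategoryTheory CategoryTheory.Limits AlgebraicGeometry TopologicalSpace Opposite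

namespace Groth.Agent.Lib.Helper26.HomShSurj

open Groth.Agent.Lib.Helper3 Groth.Agent.Lib.Helper3.QCSec Groth.Agent.Lib.Helper17

variable {X : Scheme.{u}}

/-- A semilinear additive map out of the sections of a quasi-coherent module over an affine open
extends uniquely to the stalk. -/
theorem exists_stalk_lift {W : X.Opens} (hW : IsAffineOpen W) (F : X.Modules) [F.IsQuasicoherent]
    (y : X) (hy : y ∈ W) (N : Type u) [AddCommGroup N] [Module (X.presheaf.stalk y) N]
    (h : Γ(F, W) →+ N)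
    (hh : ∀ (a : Γ(X, W)) (m : Γ(F, W)), h (a • m) = X.presheaf.germ W y hy a • h m) :
    ∃ l : F.presheaf.stalk y →ₗ[X.presheaf.stalk y] N,
      ∀ m, l (F.presheaf.germ W y hy m) = h m := by
  letI algA : Algebra Γ(X, W) (X.presheaf.stalk y) :=
    TopCat.Presheaf.algebra_section_stalk X.presheaf (U := W) ⟨y, hy⟩
  letI modAF : Module Γ(X, W) (F.presheaf.stalk y) :=
    Module.compHom _ (algebraMap Γ(X, W) (X.presheaf.stalk y))
  letI modAN : Module Γ(X, W) N := Module.compHom _ (algebraMap Γ(X, W) (X.presheaf.stalk y))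
  haveI : IsScalarTower Γ(X, W) (X.presheaf.stalk y) (F.presheaf.stalk y) :=
    ⟨fun a s m => by
      change (a • s) • m = algebraMap Γ(X, W) (X.presheaf.stalk y) a • (s • m)
      rw [Algebra.smul_def, mul_smul]⟩
  haveI : IsScalarTower Γ(X, W) (X.presheaf.stalk y) N :=
    ⟨fun a s m => by
      change (a • s) • m = algebraMap Γ(X, W) (X.presheaf.stalk y) a • (s • m)
      rw [Algebra.smul_def, mul_smul]⟩
  let gF : Γ(F, W) →ₗ[Γ(X, W)] F.presheaf.stalk y :=
    { toFun := F.presheaf.germ W y hy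
      map_add' := map_add _
      map_smul' := fun r m => QS.germ_smul F y hy r m }
  haveI hgF : IsLocalizedModule (hW.primeIdealOf ⟨y, hy⟩).asIdeal.primeCompl gF :=
    QS.isLocalizedModule_germ hW F y hy (fun r z => rfl) gF (fun m => rfl)
  haveI := hW.isLocalization_stalk ⟨y, hy⟩
  let h' : Γ(F, W) →ₗ[Γ(X, W)] N :=
    { toFun := h
      map_add' := map_add h
      map_smul' := fun a m => hh a m }
  have hunit : ∀ s : (hW.primeIdealOf ⟨y, hy⟩).asIdeal.primeCompl,
      IsUnit (algebraMap Γ(X, W) (Module.End Γ(X, W) N) s) := by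
    rintro ⟨c, hc⟩
    rw [Module.End.isUnit_iff]
    have hu := StalkKit.isUnit_germ hW y hy c hc
    constructor
    · intro n n' hnn'
      have h1 : X.presheaf.germ W y hy c • n = X.presheaf.germ W y hy c • n' := hnn'
      exact hu.smul_left_cancel.mp h1
    · intro n
      refine ⟨(hu.unit⁻¹ : (X.presheaf.stalk y)ˣ).1 • n, ?_⟩
      change X.presheaf.germ W y hy c • ((hu.unit⁻¹ : (X.presheaf.stalk y)ˣ).1 • n) = n
      rw [smul_smul, IsUnit.mul_val_inv, one_smul]
  let l₀ := IsLocalizedModule.lift (hW.primeIdealOf ⟨y, hy⟩).asIdeal.primeCompl gF h' hunit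
  refine ⟨l₀.extendScalarsOfIsLocalization (hW.primeIdealOf ⟨y, hy⟩).asIdeal.primeCompl
    (X.presheaf.stalk y), fun m => ?_⟩
  exact IsLocalizedModule.lift_apply _ gF h' hunit m

theorem isUnit_rres_of_le_basicOpen {W W' : X.Opens} (s : Γ(X, W)) (hW'W : W' ≤ W)
    (h : W' ≤ X.basicOpen s) : IsUnit (rres X hW'W s) := by
  have h0 : IsUnit (rres X (X.basicOpen_le s) s) := RingedSpace.isUnit_res_basicOpen _ s
  have h1 := h0.map (X.presheaf.map (homOfLE h).op).hom
  have e : (X.presheaf.map (homOfLE h).op).hom (rres X (X.basicOpen_le s) s) = rres X hW'W s :=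
    rres_rres h (X.basicOpen_le s) s
  rw [e] at h1
  exact h1

/-- Near `x`, a linear map of stalks out of a finitely presented module is induced by a
semilinear map of sections over an affine neighbourhood. -/
theorem exists_local_map {W : X.Opens} (hW : IsAffineOpen W) (F G : X.Modules)
    [SheafOfModules.IsFinitePresentation (R := X.ringCatSheaf) F]
    (x : X) (hxW : x ∈ W) (lam : RefHull.StalkHom F G x) :
    ∃ (V : X.Opens) (hVW : V ≤ W) (hxV : x ∈ V) (μ : Γ(F, W) →+ Γ(G, V)),
      (∀ (a : Γ(X, W)) (m : Γ(F, W)), μ (a • m) = rres X hVW a • μ m) ∧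
      ∀ m, G.presheaf.germ V x hxV (μ m) = lam (F.presheaf.germ W x hxW m) := by
  classical
  haveI : Module.FinitePresentation Γ(X, W) Γ(F, W) := QCProps.finitePresentation_sections F hW
  obtain ⟨n, r, π, g, hπ, hex⟩ := Module.FinitePresentation.exists_fin' Γ(X, W) Γ(F, W)
  let e : Fin n → (Fin n → Γ(X, W)) := fun i j => if i = j then 1 else 0
  have ht : ∀ i : Fin n, ∃ (U : X.Opens) (hxU : x ∈ U) (t : Γ(G, U)),
      G.presheaf.germ U x hxU t = lam (F.presheaf.germ W x hxW (π (e i))) := fun i =>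
    TopCat.Presheaf.exists_germ_eq G.presheaf _
  choose U hxU t ht using ht
  let U0 : X.Opens := W ⊓ ⨅ i, U i
  have hxU0 : x ∈ U0 := by
    refine ⟨hxW, ?_⟩
    show x ∈ ((⨅ i, U i : X.Opens) : Set X)
    rw [Opens.coe_iInf]
    exact Set.mem_iInter.mpr hxU
  have hU0W : U0 ≤ W := inf_le_left
  have hU0U : ∀ i, U0 ≤ U i := fun i => inf_le_right.trans (iInf_le _ i)
  let comb : ∀ (V : X.Opens), V ≤ U0 → (Fin n → Γ(X, W)) → Γ(G, V) := fun V hV c =>
    ∑ i, rres X (hV.trans hU0W) (c i) • res G (hV.trans (hU0U i)) (t i)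
  have germ_comb : ∀ (V : X.Opens) (hV : V ≤ U0) (hxV : x ∈ V) (c : Fin n → Γ(X, W)),
      G.presheaf.germ V x hxV (comb V hV c) = lam (F.presheaf.germ W x hxW (π c)) := by
    intro V hV hxV c
    have h1 : ∀ i, G.presheaf.germ V x hxV
        (rres X (hV.trans hU0W) (c i) • res G (hV.trans (hU0U i)) (t i)) =
        lam (F.presheaf.germ W x hxW (c i • π (e i))) := by
      intro i
      have e1 : X.presheaf.germ V x hxV (rres X (hV.trans hU0W) (c i)) =
          X.presheaf.germ W x hxW (c i) :=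
        TopCat.Presheaf.germ_res_apply X.presheaf (homOfLE (hV.trans hU0W)) x hxV (c i)
      have e2 : G.presheaf.germ V x hxV (res G (hV.trans (hU0U i)) (t i)) =
          G.presheaf.germ (U i) x (hxU i) (t i) :=
        TopCat.Presheaf.germ_res_apply G.presheaf (homOfLE (hV.trans (hU0U i))) x hxV (t i)
      rw [QS.germ_smul G x hxV, QS.germ_smul F x hxW, map_smul, ← ht i, e1, e2]
    have h2 : π c = ∑ i, c i • π (e i) := LinearMap.pi_apply_eq_sum_univ π c
    have h3 : F.presheaf.germ W x hxW (∑ i, c i • π (e i)) =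
        ∑ i, F.presheaf.germ W x hxW (c i • π (e i)) :=
      map_sum (F.presheaf.germ W x hxW).hom _ _
    have h4 : G.presheaf.germ V x hxV (comb V hV c) =
        ∑ i, G.presheaf.germ V x hxV
          (rres X (hV.trans hU0W) (c i) • res G (hV.trans (hU0U i)) (t i)) :=
      map_sum (G.presheaf.germ V x hxV).hom _ _
    rw [h4, h2, h3, map_sum]
    exact Finset.sum_congr rfl (fun i _ => h1 i)
  have res_comb : ∀ (V V' : X.Opens) (hV : V ≤ U0) (hV' : V' ≤ V) (c : Fin n → Γ(X, W)),
      res G hV' (comb V hV c) = comb V' (hV'.trans hV) c := by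
    intro V V' hV hV' c
    have h4 : res G hV' (comb V hV c) =
        ∑ i, res G hV' (rres X (hV.trans hU0W) (c i) • res G (hV.trans (hU0U i)) (t i)) :=
      map_sum (G.presheaf.map (homOfLE hV').op).hom _ _
    rw [h4]
    refine Finset.sum_congr rfl (fun i _ => ?_)
    rw [res_smul, rres_rres, res_res]
  let ε : Fin r → (Fin r → Γ(X, W)) := fun j j' => if j = j' then 1 else 0
  have hrel : ∀ j : Fin r, ∃ (Vj : X.Opens) (hVj : Vj ≤ U0) (_ : x ∈ Vj),
      comb Vj hVj (g (ε j)) = 0 := by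
    intro j
    have h0 : G.presheaf.germ U0 x hxU0 (comb U0 le_rfl (g (ε j))) =
        G.presheaf.germ U0 x hxU0 0 := by
      have hπg : π (g (ε j)) = 0 := (hex (g (ε j))).mpr ⟨ε j, rfl⟩
      rw [germ_comb U0 le_rfl hxU0, hπg, map_zero, map_zero, map_zero]
    obtain ⟨Vj, hxVj, i1, i2, hres⟩ := TopCat.Presheaf.germ_eq G.presheaf x hxU0 hxU0 _ _ h0
    refine ⟨Vj, i1.le, hxVj, ?_⟩
    rw [← res_comb U0 Vj le_rfl i1.le]
    rw [map_zero] at hres
    exact hres
  choose Vj hVj hxVj hcombj using hrel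
  let V : X.Opens := U0 ⊓ ⨅ j, Vj j
  have hxV : x ∈ V := by
    refine ⟨hxU0, ?_⟩
    show x ∈ ((⨅ j, Vj j : X.Opens) : Set X)
    rw [Opens.coe_iInf]
    exact Set.mem_iInter.mpr hxVj
  have hVU0 : V ≤ U0 := inf_le_left
  have hVVj : ∀ j, V ≤ Vj j := fun j => inf_le_right.trans (iInf_le _ j)
  have hcombV : ∀ j, comb V hVU0 (g (ε j)) = 0 := by
    intro j
    rw [← res_comb (Vj j) V (hVj j) (hVVj j), hcombj j]
    exact res_zero G (hVVj j)
  have hVW : V ≤ W := hVU0.trans hU0W
  letI modA : Module Γ(X, W) Γ(G, V) :=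
    Module.compHom _ (X.presheaf.map (homOfLE hVW).op).hom
  let ν : (Fin n → Γ(X, W)) →ₗ[Γ(X, W)] Γ(G, V) :=
    Fintype.linearCombination Γ(X, W) (fun i => res G (hVU0.trans (hU0U i)) (t i))
  have hν : ∀ c, ν c = comb V hVU0 c := fun c => by
    rw [Fintype.linearCombination_apply]; rfl
  have hνg : ∀ d, ν (g d) = 0 := by
    intro d
    rw [LinearMap.pi_apply_eq_sum_univ g d, map_sum]
    refine Finset.sum_eq_zero (fun j _ => ?_)
    rw [map_smul, hν, hcombV j, smul_zero]
  have hker : LinearMap.ker π ≤ LinearMap.ker ν := by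
    intro c hc
    obtain ⟨d, rfl⟩ := (hex c).mp (LinearMap.mem_ker.mp hc)
    exact LinearMap.mem_ker.mpr (hνg d)
  let μl : Γ(F, W) →ₗ[Γ(X, W)] Γ(G, V) :=
    ((LinearMap.ker π).liftQ ν hker) ∘ₗ (π.quotKerEquivOfSurjective hπ).symm.toLinearMap
  have hμπ : ∀ c, μl (π c) = ν c := by
    intro c
    change (LinearMap.ker π).liftQ ν hker ((π.quotKerEquivOfSurjective hπ).symm (π c)) = _
    rw [LinearMap.quotKerEquivOfSurjective_symm_apply, Submodule.liftQ_apply]
  refine ⟨V, hVW, hxV, μl.toAddMonoidHom, fun a m => μl.map_smul a m, fun m => ?_⟩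
  obtain ⟨c, rfl⟩ := hπ m
  change G.presheaf.germ V x hxV (μl (π c)) = _
  rw [hμπ, hν, germ_comb V hVU0 hxV]

end Groth.Agent.Lib.Helper26.HomShSurj
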