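import Mathlib
import Groth.Agent.Lib.Helper26.HomogAtPrime

/-!
# Primes of the homogeneous localisation `A_(p)` (helper26)
-/

set_option autoImplicit false
universe u
open HomogeneousLocalization DirectSum

namespace Groth.Agent.Lib.Helper26.HomogAtPrime

noncomputable section

variable {A : Type u} [CommRing A] (𝒜 : ℕ → AddSubgroup A) [GradedRing 𝒜]
  (p : Ideal A) [hpp : p.IsPrime]

/-- the element `a^d / f^i` of `A_(p)` for `a ∈ 𝒜 i`, `f ∈ 𝒜 d` outside `p`. -/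
def powFrac {d : ℕ} {f : A} (hf : f ∈ 𝒜 d) (hfp : f ∉ p) {i : ℕ} {a : A} (ha : a ∈ 𝒜 i) :
    HomogeneousLocalization.AtPrime 𝒜 p :=
  mkO 𝒜 p (d • i) (a ^ d) (f ^ i) (SetLike.pow_mem_graded d ha)
    (by rw [smul_eq_mul, mul_comm]; exact SetLike.pow_mem_graded i hf)
    (fun h => hfp (hpp.mem_of_pow_mem _ h))

lemma val_powFrac_mul {d : ℕ} {f : A} (hf : f ∈ 𝒜 d) (hfp : f ∉ p) {i : ℕ} {a : A}
    (ha : a ∈ 𝒜 i) :
    (powFrac 𝒜 p hf hfp ha).val * algebraMap A (Localization.AtPrime p) (f ^ i) =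
      algebraMap A (Localization.AtPrime p) (a ^ d) :=
  val_mkO_mul 𝒜 p _ _ _ _ _ _

lemma map_maximalIdeal_le :
    (IsLocalRing.maximalIdeal (HomogeneousLocalization.AtPrime 𝒜 p)).map
      (algebraMap (HomogeneousLocalization.AtPrime 𝒜 p) (Localization.AtPrime p)) ≤
      IsLocalRing.maximalIdeal (Localization.AtPrime p) := by
  rw [Ideal.map_le_iff_le_comap]
  intro w hw
  rw [Ideal.mem_comap, IsLocalRing.mem_maximalIdeal, mem_nonunits_iff]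
  rw [IsLocalRing.mem_maximalIdeal, mem_nonunits_iff] at hw
  intro hu
  exact hw ((HomogeneousLocalization.isUnit_iff_isUnit_val 𝒜 p w).mp hu)

/-- A prime of `A_p` containing the image of the maximal ideal of `A_(p)` is the maximal ideal. -/
theorem eq_maximalIdeal_of_map_le (hp : p.IsHomogeneous 𝒜) {d : ℕ} (hd : 0 < d) {f : A}
    (hf : f ∈ 𝒜 d) (hfp : f ∉ p) (𝔔 : Ideal (Localization.AtPrime p)) (h𝔔 : 𝔔.IsPrime)
    (h : (IsLocalRing.maximalIdeal (HomogeneousLocalization.AtPrime 𝒜 p)).map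
      (algebraMap (HomogeneousLocalization.AtPrime 𝒜 p) (Localization.AtPrime p)) ≤ 𝔔) :
    𝔔 = IsLocalRing.maximalIdeal (Localization.AtPrime p) := by
  classical
  have hpQ : p ≤ 𝔔.comap (algebraMap A (Localization.AtPrime p)) := by
    intro x hx
    rw [← DirectSum.sum_support_decompose 𝒜 x]
    refine Ideal.sum_mem _ fun i _ => ?_
    have hxi : ((decompose 𝒜 x i : 𝒜 i) : A) ∈ p := hp i hx
    have hai : ((decompose 𝒜 x i : 𝒜 i) : A) ∈ 𝒜 i := SetLike.coe_mem _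
    have hw : powFrac 𝒜 p hf hfp hai ∈
        IsLocalRing.maximalIdeal (HomogeneousLocalization.AtPrime 𝒜 p) := by
      rw [IsLocalRing.mem_maximalIdeal, mem_nonunits_iff]
      intro hu
      have hu' : IsUnit (powFrac 𝒜 p hf hfp hai).val :=
        (HomogeneousLocalization.isUnit_iff_isUnit_val 𝒜 p _).mpr hu
      have h1 := val_powFrac_mul 𝒜 p hf hfp hai
      have h2 : IsUnit (algebraMap A (Localization.AtPrime p)
          (((decompose 𝒜 x i : 𝒜 i) : A) ^ d)) := by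
        rw [← h1]
        exact hu'.mul (isUnit_algebraMap p (fun h => hfp (hpp.mem_of_pow_mem _ h)))
      have h3 := (IsLocalization.AtPrime.isUnit_to_map_iff (Localization.AtPrime p) p
        (((decompose 𝒜 x i : 𝒜 i) : A) ^ d)).mp h2
      exact h3 (Ideal.pow_mem_of_mem _ hxi d hd)
    have hwQ : (powFrac 𝒜 p hf hfp hai).val ∈ 𝔔 := h (Ideal.mem_map_of_mem _ hw)
    have h1 := val_powFrac_mul 𝒜 p hf hfp hai
    have h3 : algebraMap A (Localization.AtPrime p) (((decompose 𝒜 x i : 𝒜 i) : A) ^ d) ∈ 𝔔 := by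
      rw [← h1]
      exact 𝔔.mul_mem_right _ hwQ
    rw [map_pow] at h3
    exact Ideal.mem_comap.mpr (h𝔔.mem_of_pow_mem _ h3)
  have hmax : IsLocalRing.maximalIdeal (Localization.AtPrime p) ≤ 𝔔 := by
    rw [← IsLocalization.AtPrime.map_eq_maximalIdeal p (Localization.AtPrime p)]
    exact Ideal.map_le_iff_le_comap.mpr hpQ
  exact ((IsLocalRing.maximalIdeal.isMaximal _).eq_of_le h𝔔.ne_top hmax).symm

/-- Each prime of `A_(p)` is cut out by a homogeneous prime of `A` contained in `p`. -/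
theorem exists_homogeneous_prime (𝔮 : Ideal (HomogeneousLocalization.AtPrime 𝒜 p))
    [h𝔮 : 𝔮.IsPrime] :
    ∃ Q : Ideal A, Q.IsPrime ∧ Q.IsHomogeneous 𝒜 ∧ Q ≤ p ∧
      ∀ (n : ℕ) (a t : A) (ha : a ∈ 𝒜 n) (ht : t ∈ 𝒜 n) (htp : t ∉ p),
        (a ∈ Q ↔ mkO 𝒜 p n a t ha ht htp ∈ 𝔮) := by
  obtain ⟨𝔔, h𝔔, h𝔔𝔮⟩ :=
    (Ideal.comap_map_eq_self_iff_of_isPrime 𝔮).mp (comap_map_algebraMap 𝒜 p 𝔮)
  haveI := h𝔔
  refine ⟨((𝔔.comap (algebraMap A (Localization.AtPrime p))).homogeneousCore 𝒜).toIdeal,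
    ?_, ?_, ?_, ?_⟩
  · exact Ideal.IsPrime.homogeneousCore (Ideal.comap_isPrime _ _)
  · exact HomogeneousIdeal.isHomogeneous _
  · refine le_trans (Ideal.toIdeal_homogeneousCore_le 𝒜 _) ?_
    intro x hx
    by_contra hxp
    exact h𝔔.ne_top (Ideal.eq_top_of_isUnit_mem _ (Ideal.mem_comap.mp hx)
      (isUnit_algebraMap p hxp))
  · intro n a t ha ht htp
    have h1 := val_mkO_mul 𝒜 p n a t ha ht htp
    constructor
    · intro haQ
      have h2 : algebraMap A (Localization.AtPrime p) a ∈ 𝔔 :=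
        Ideal.mem_comap.mp (Ideal.toIdeal_homogeneousCore_le 𝒜 _ haQ)
      rw [← h1] at h2
      have h3 : (mkO 𝒜 p n a t ha ht htp).val ∈ 𝔔 :=
        (h𝔔.mem_or_mem h2).resolve_right
          (fun h => h𝔔.ne_top (Ideal.eq_top_of_isUnit_mem _ h (isUnit_algebraMap p htp)))
      rw [← h𝔔𝔮]
      exact Ideal.mem_comap.mpr h3
    · intro hz
      rw [← h𝔔𝔮] at hz
      have h3 : (mkO 𝒜 p n a t ha ht htp).val ∈ 𝔔 := Ideal.mem_comap.mp hz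
      apply Ideal.mem_homogeneousCore_of_homogeneous_of_mem ⟨n, ha⟩
      rw [Ideal.mem_comap, ← h1]
      exact 𝔔.mul_mem_right _ h3

lemma homogeneous_prime_le {d : ℕ} (hd : 0 < d) {f : A} (hf : f ∈ 𝒜 d) (hfp : f ∉ p)
    {𝔮 𝔮' : Ideal (HomogeneousLocalization.AtPrime 𝒜 p)} (hle : 𝔮 ≤ 𝔮') {Q Q' : Ideal A}
    (hQh : Q.IsHomogeneous 𝒜) (hQ'p : Q'.IsPrime)
    (hQ : ∀ (n : ℕ) (a t : A) (ha : a ∈ 𝒜 n) (ht : t ∈ 𝒜 n) (htp : t ∉ p),
      (a ∈ Q ↔ mkO 𝒜 p n a t ha ht htp ∈ 𝔮))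
    (hQ' : ∀ (n : ℕ) (a t : A) (ha : a ∈ 𝒜 n) (ht : t ∈ 𝒜 n) (htp : t ∉ p),
      (a ∈ Q' ↔ mkO 𝒜 p n a t ha ht htp ∈ 𝔮')) : Q ≤ Q' := by
  classical
  intro x hx
  rw [← DirectSum.sum_support_decompose 𝒜 x]
  refine Ideal.sum_mem _ fun i _ => ?_
  have hxi : ((decompose 𝒜 x i : 𝒜 i) : A) ∈ Q := hQh i hx
  have hai : ((decompose 𝒜 x i : 𝒜 i) : A) ∈ 𝒜 i := SetLike.coe_mem _
  have h1 : ((decompose 𝒜 x i : 𝒜 i) : A) ^ d ∈ Q := Ideal.pow_mem_of_mem _ hxi d hd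
  have h2 := (hQ (d • i) _ (f ^ i) (SetLike.pow_mem_graded d hai)
    (by rw [smul_eq_mul, mul_comm]; exact SetLike.pow_mem_graded i hf)
    (fun h => hfp (hpp.mem_of_pow_mem _ h))).mp h1
  have h3 := (hQ' (d • i) _ (f ^ i) (SetLike.pow_mem_graded d hai)
    (by rw [smul_eq_mul, mul_comm]; exact SetLike.pow_mem_graded i hf)
    (fun h => hfp (hpp.mem_of_pow_mem _ h))).mpr (hle h2)
  exact hQ'p.mem_of_pow_mem _ h3

/-- chosen homogeneous prime of `A` attached to a prime of `A_(p)`. -/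
def primeOf (𝔮 : PrimeSpectrum (HomogeneousLocalization.AtPrime 𝒜 p)) : Ideal A :=
  Classical.choose (exists_homogeneous_prime 𝒜 p 𝔮.asIdeal)

lemma primeOf_spec (𝔮 : PrimeSpectrum (HomogeneousLocalization.AtPrime 𝒜 p)) :
    (primeOf 𝒜 p 𝔮).IsPrime ∧ (primeOf 𝒜 p 𝔮).IsHomogeneous 𝒜 ∧ primeOf 𝒜 p 𝔮 ≤ p ∧
      ∀ (n : ℕ) (a t : A) (ha : a ∈ 𝒜 n) (ht : t ∈ 𝒜 n) (htp : t ∉ p),
        (a ∈ primeOf 𝒜 p 𝔮 ↔ mkO 𝒜 p n a t ha ht htp ∈ 𝔮.asIdeal) :=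
  Classical.choose_spec (exists_homogeneous_prime 𝒜 p 𝔮.asIdeal)

lemma primeOf_injective {𝔮 𝔮' : PrimeSpectrum (HomogeneousLocalization.AtPrime 𝒜 p)}
    (h : primeOf 𝒜 p 𝔮 = primeOf 𝒜 p 𝔮') : 𝔮 = 𝔮' := by
  apply PrimeSpectrum.ext
  apply Ideal.ext
  intro z
  obtain ⟨n, a, t, ha, ht, htp, rfl⟩ := exists_mkO 𝒜 p z
  rw [← (primeOf_spec 𝒜 p 𝔮).2.2.2 n a t ha ht htp,
    ← (primeOf_spec 𝒜 p 𝔮').2.2.2 n a t ha ht htp, h]

/-- `dim A_(p) ≤ dim A_p` when some homogeneous element of positive degree avoids `p`. -/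
theorem ringKrullDim_atPrime_le {d : ℕ} (hd : 0 < d) {f : A} (hf : f ∈ 𝒜 d) (hfp : f ∉ p) :
    ringKrullDim (HomogeneousLocalization.AtPrime 𝒜 p) ≤
      ringKrullDim (Localization.AtPrime p) := by
  have hdisj : ∀ 𝔮 : PrimeSpectrum (HomogeneousLocalization.AtPrime 𝒜 p),
      Disjoint (p.primeCompl : Set A) (primeOf 𝒜 p 𝔮 : Set A) := fun 𝔮 =>
    Set.disjoint_left.mpr fun x hx hxQ => hx ((primeOf_spec 𝒜 p 𝔮).2.2.1 hxQ)
  let F : PrimeSpectrum (HomogeneousLocalization.AtPrime 𝒜 p) →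
      PrimeSpectrum (Localization.AtPrime p) := fun 𝔮 =>
    ⟨(primeOf 𝒜 p 𝔮).map (algebraMap A (Localization.AtPrime p)),
      IsLocalization.isPrime_of_isPrime_disjoint p.primeCompl _ _ (primeOf_spec 𝒜 p 𝔮).1
        (hdisj 𝔮)⟩
  refine Order.krullDim_le_of_strictMono F ?_
  intro 𝔮 𝔮' hlt
  have hle : primeOf 𝒜 p 𝔮 ≤ primeOf 𝒜 p 𝔮' :=
    homogeneous_prime_le 𝒜 p hd hf hfp (show 𝔮.asIdeal ≤ 𝔮'.asIdeal from hlt.le)
      (primeOf_spec 𝒜 p 𝔮).2.1 (primeOf_spec 𝒜 p 𝔮').1 (primeOf_spec 𝒜 p 𝔮).2.2.2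
      (primeOf_spec 𝒜 p 𝔮').2.2.2
  rw [← PrimeSpectrum.asIdeal_lt_asIdeal]
  refine lt_of_le_of_ne (Ideal.map_mono hle) fun heq => hlt.ne ?_
  apply primeOf_injective 𝒜 p
  have h1 := IsLocalization.under_map_of_isPrime_disjoint p.primeCompl (Localization.AtPrime p)
    (primeOf_spec 𝒜 p 𝔮).1 (hdisj 𝔮)
  have h2 := IsLocalization.under_map_of_isPrime_disjoint p.primeCompl (Localization.AtPrime p)
    (primeOf_spec 𝒜 p 𝔮').1 (hdisj 𝔮')
  rw [← h1, ← h2]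
  exact congrArg (fun J => Ideal.under A J) heq

end

end Groth.Agent.Lib.Helper26.HomogAtPrime
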