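import Mathlib
import Groth.Agent.Lib.Helper26.HomogAtPrime2
import Groth.Agent.Lib.Helper4.CM
import Groth.Agent.Lib.Helper4.FiniteExt
import Groth.Agent.Lib.Helper4.Sk

/-!
# Depth, Cohen–Macaulayness and `(S_1)` for the homogeneous localisation `A_(p)` (helper26)
-/

set_option autoImplicit false
universe u
open HomogeneousLocalization DirectSum RingTheory.Sequence Groth.Agent.Lib.Helper4

namespace Groth.Agent.Lib.Helper26.HomogAtPrime

/-- Regular sequences on a module over a Noetherian local ring `C` can be chosen inside the image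
of an ideal `𝔫` of another ring, provided the only prime of `C` containing the image of `𝔫` is the
maximal ideal. -/
theorem exists_regular_list {O C : Type u} [CommRing O] [CommRing C] [IsLocalRing C]
    [IsNoetherianRing C] (φ : O →+* C) (𝔫 : Ideal O)
    (hloc : 𝔫.map φ ≤ IsLocalRing.maximalIdeal C)
    (hrad : ∀ 𝔔 : Ideal C, 𝔔.IsPrime → 𝔫.map φ ≤ 𝔔 → 𝔔 = IsLocalRing.maximalIdeal C)
    (k : ℕ) : ∀ (M : Type u) [AddCommGroup M] [Module C M] [Module.Finite C M],
      (k : ℕ∞) ≤ LocCoh.depth C M →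
      ∃ xs : List O, xs.length = k ∧ (∀ x ∈ xs, x ∈ 𝔫) ∧ IsWeaklyRegular M (xs.map φ) := by
  induction k with
  | zero =>
    intro M _ _ _ _
    exact ⟨[], rfl, by simp, IsWeaklyRegular.nil C M⟩
  | succ k ih =>
    intro M _ _ _ h
    push_cast at h
    have h1 : LocCoh.depth C M ≠ 0 := by
      intro h0
      rw [h0] at h
      simp at h
    have hm : IsLocalRing.maximalIdeal C ∉ associatedPrimes C M := fun hmem =>
      h1 (depth_eq_zero_iff_maximalIdeal_mem_associatedPrimes.mpr hmem)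
    have hfin : (associatedPrimes C M).Finite := associatedPrimes.finite C M
    have hnot : ¬ ((𝔫 : Set O) ⊆
        ⋃ 𝔞 ∈ associatedPrimes C M, ((𝔞.comap φ : Ideal O) : Set O)) := by
      intro hsub
      obtain ⟨𝔞, h𝔞, hle⟩ := (Ideal.subset_union_prime_finite hfin ⊥ ⊥
        (fun 𝔞 h𝔞 _ _ => by haveI := h𝔞.isPrime; exact Ideal.comap_isPrime φ 𝔞)).mp hsub
      have h𝔞m : 𝔞 = IsLocalRing.maximalIdeal C :=
        hrad 𝔞 h𝔞.isPrime (Ideal.map_le_iff_le_comap.mpr hle)
      exact hm (h𝔞m ▸ h𝔞)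
    obtain ⟨x, hx𝔫, hxnot⟩ := Set.not_subset.mp hnot
    have hreg : IsSMulRegular M (φ x) := by
      by_contra hnreg
      have hmem : φ x ∈ ⋃ 𝔞 ∈ associatedPrimes C M, (𝔞 : Set C) := by
        rw [biUnion_associatedPrimes_eq_compl_regular]
        exact hnreg
      obtain ⟨𝔞, h𝔞, hx𝔞⟩ := Set.mem_iUnion₂.mp hmem
      exact hxnot (Set.mem_iUnion₂.mpr ⟨𝔞, h𝔞, hx𝔞⟩)
    have hxm : φ x ∈ IsLocalRing.maximalIdeal C := hloc (Ideal.mem_map_of_mem φ hx𝔫)
    have h' : (k : ℕ∞) ≤ LocCoh.depth C (QuotSMulTop (φ x) M) :=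
      le_idealDepth_quotSMulTop_of_succ_le _ k hxm hreg h
    obtain ⟨xs, hlen, hmem, hxs⟩ := ih (QuotSMulTop (φ x) M) h'
    refine ⟨x :: xs, by simp [hlen], ?_, ?_⟩
    · intro y hy
      rcases List.mem_cons.mp hy with rfl | hy
      · exact hx𝔫
      · exact hmem y hy
    · rw [List.map_cons]
      exact IsWeaklyRegular.cons hreg hxs

noncomputable section

variable {A : Type u} [CommRing A] (𝒜 : ℕ → AddSubgroup A) [GradedRing 𝒜]
  (p : Ideal A) [hpp : p.IsPrime]

/-- A sequence in `A_(p)` which is weakly regular on `A_p` is weakly regular on `A_(p)`. -/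
theorem isWeaklyRegular_of_localization {xs : List (HomogeneousLocalization.AtPrime 𝒜 p)}
    (h : IsWeaklyRegular (Localization.AtPrime p) xs) :
    IsWeaklyRegular (HomogeneousLocalization.AtPrime 𝒜 p) xs := by
  refine ⟨fun i hi => ?_⟩
  have hreg := h.regular_mod_prev i hi
  rw [isSMulRegular_quotient_iff_mem_of_smul_mem] at hreg ⊢
  intro z hz
  have hItop : (Ideal.ofList (xs.take i) •
      (⊤ : Submodule (HomogeneousLocalization.AtPrime 𝒜 p)
        (HomogeneousLocalization.AtPrime 𝒜 p))) = Ideal.ofList (xs.take i) := by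
    rw [Ideal.smul_eq_mul, Ideal.mul_top]
  rw [hItop] at hz ⊢
  have hz' : xs[i] • (algebraMap (HomogeneousLocalization.AtPrime 𝒜 p)
      (Localization.AtPrime p) z) ∈
      (Ideal.ofList (xs.take i) • ⊤ :
        Submodule (HomogeneousLocalization.AtPrime 𝒜 p) (Localization.AtPrime p)) := by
    rw [Ideal.smul_top_eq_map, Submodule.restrictScalars_mem, Algebra.smul_def, ← map_mul]
    exact Ideal.mem_map_of_mem _ hz
  have h2 := hreg _ hz'
  rw [Ideal.smul_top_eq_map, Submodule.restrictScalars_mem] at h2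
  have h3 : z ∈ ((Ideal.ofList (xs.take i)).map
      (algebraMap (HomogeneousLocalization.AtPrime 𝒜 p) (Localization.AtPrime p))).comap
      (algebraMap (HomogeneousLocalization.AtPrime 𝒜 p) (Localization.AtPrime p)) := h2
  rwa [comap_map_algebraMap] at h3

/-- `depth A_p ≤ depth A_(p)`. -/
theorem depth_le_depth_atPrime [IsNoetherianRing A] (hp : p.IsHomogeneous 𝒜) {d : ℕ} (hd : 0 < d)
    {f : A} (hf : f ∈ 𝒜 d) (hfp : f ∉ p) :
    LocCoh.depth (Localization.AtPrime p) (Localization.AtPrime p) ≤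
      LocCoh.depth (HomogeneousLocalization.AtPrime 𝒜 p)
        (HomogeneousLocalization.AtPrime 𝒜 p) := by
  haveI : IsNoetherianRing (Localization.AtPrime p) :=
    IsLocalization.isNoetherianRing p.primeCompl _ inferInstance
  rw [← ENat.forall_natCast_le_iff_le]
  intro k hk
  obtain ⟨xs, hlen, hmem, hxs⟩ := exists_regular_list
    (algebraMap (HomogeneousLocalization.AtPrime 𝒜 p) (Localization.AtPrime p))
    (IsLocalRing.maximalIdeal (HomogeneousLocalization.AtPrime 𝒜 p))
    (map_maximalIdeal_le 𝒜 p)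
    (fun 𝔔 h𝔔 hle => eq_maximalIdeal_of_map_le 𝒜 p hp hd hf hfp 𝔔 h𝔔 hle) k
    (Localization.AtPrime p) hk
  have h1 : IsWeaklyRegular (Localization.AtPrime p) xs :=
    (isWeaklyRegular_map_algebraMap_iff (S := Localization.AtPrime p)
      (M := Localization.AtPrime p) xs).mp hxs
  have h2 := isWeaklyRegular_of_localization 𝒜 p h1
  have h3 := length_le_idealDepth
    (IsLocalRing.maximalIdeal (HomogeneousLocalization.AtPrime 𝒜 p)) xs h2 hmem
  rw [hlen] at h3
  exact h3

/-- If `A_p` is Cohen–Macaulay then so is `A_(p)`. -/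
theorem isCohenMacaulayLocalRing_atPrime [IsNoetherianRing A] (hp : p.IsHomogeneous 𝒜) {d : ℕ}
    (hd : 0 < d) {f : A} (hf : f ∈ 𝒜 d) (hfp : f ∉ p)
    [hCM : LocCoh.IsCohenMacaulayLocalRing (Localization.AtPrime p)] :
    LocCoh.IsCohenMacaulayLocalRing (HomogeneousLocalization.AtPrime 𝒜 p) := by
  haveI := isNoetherianRing_atPrime 𝒜 p
  refine { supportDim_eq_depth := ?_ }
  have h1 := ringKrullDim_atPrime_le 𝒜 p hd hf hfp
  have h2 := hCM.supportDim_eq_depth
  rw [Module.supportDim_self_eq_ringKrullDim] at h2 ⊢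
  have h4 := depth_le_depth_atPrime 𝒜 p hp hd hf hfp
  have h5 := depth_le_supportDim (R := HomogeneousLocalization.AtPrime 𝒜 p)
    (M := HomogeneousLocalization.AtPrime 𝒜 p)
  rw [Module.supportDim_self_eq_ringKrullDim] at h5
  refine le_antisymm ?_ h5
  calc ringKrullDim (HomogeneousLocalization.AtPrime 𝒜 p)
      ≤ ringKrullDim (Localization.AtPrime p) := h1
    _ = ((LocCoh.depth (Localization.AtPrime p) (Localization.AtPrime p) : ℕ∞) :
          WithBot ℕ∞) := h2
    _ ≤ _ := WithBot.coe_le_coe.mpr h4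

end

end Groth.Agent.Lib.Helper26.HomogAtPrime
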