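import Mathlib
import Groth.Agent.Lib.Helper26.HomogAtPrime

/-!
# Flatness of `A_(p) → A_p` in the presence of homogeneous units of consecutive degrees (helper26)
-/

set_option autoImplicit false
universe u
open HomogeneousLocalization DirectSum

namespace Groth.Agent.Lib.Helper26.HomogAtPrime

noncomputable section

variable {A : Type u} [CommRing A] (𝒜 : ℕ → AddSubgroup A) [GradedRing 𝒜]
  (p : Ideal A) [hpp : p.IsPrime]

lemma swap_decompose {n D : ℕ} {b t : A} (a : A) (hb : b ∈ 𝒜 n) (ht : t ∈ 𝒜 n) :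
    b * ((decompose 𝒜 (t * a) D : 𝒜 D) : A) = t * ((decompose 𝒜 (b * a) D : 𝒜 D) : A) := by
  by_cases h : n ≤ D
  · rw [DirectSum.coe_decompose_mul_of_left_mem_of_le 𝒜 ht h,
      DirectSum.coe_decompose_mul_of_left_mem_of_le 𝒜 hb h]
    ring
  · rw [DirectSum.coe_decompose_mul_of_left_mem_of_not_le 𝒜 ht h,
      DirectSum.coe_decompose_mul_of_left_mem_of_not_le 𝒜 hb h, mul_zero, mul_zero]

instance isLocalHom_algebraMap :
    IsLocalHom (algebraMap (HomogeneousLocalization.AtPrime 𝒜 p) (Localization.AtPrime p)) :=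
  ⟨fun a ha => (HomogeneousLocalization.isUnit_iff_isUnit_val 𝒜 p a).mp ha⟩

/-- If homogeneous elements of degrees `d` and `d + 1` avoid `p`, then `A_p` is flat over
`A_(p)`. -/
theorem flat_atPrime {d : ℕ} {f f' : A} (hf : f ∈ 𝒜 d) (hfp : f ∉ p) (hf' : f' ∈ 𝒜 (d + 1))
    (hf'p : f' ∉ p) :
    Module.Flat (HomogeneousLocalization.AtPrime 𝒜 p) (Localization.AtPrime p) := by
  classical
  rw [Module.Flat.iff_forall_isTrivialRelation]
  intro l y ℓ hrel
  choose n b t hb ht htp hy using fun k => exists_mkO 𝒜 p (y k)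
  obtain ⟨⟨s, hs⟩, hint⟩ := IsLocalization.exist_integer_multiples_of_finite p.primeCompl
    (fun k => ℓ k * (((isUnit_algebraMap p (htp k)).unit⁻¹ : (Localization.AtPrime p)ˣ) :
      Localization.AtPrime p))
  choose ã hã using hint
  have hs' : s ∉ p := hs
  have hR1 : ∀ k, ℓ k * algebraMap A (Localization.AtPrime p) s =
      algebraMap A (Localization.AtPrime p) (ã k * t k) := by
    intro k
    have h1 : algebraMap A (Localization.AtPrime p) (ã k) =
        algebraMap A (Localization.AtPrime p) s *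
          (ℓ k * (((isUnit_algebraMap p (htp k)).unit⁻¹ : (Localization.AtPrime p)ˣ) :
            Localization.AtPrime p)) := by
      rw [← Algebra.smul_def]; exact hã k
    have hu : (((isUnit_algebraMap p (htp k)).unit⁻¹ : (Localization.AtPrime p)ˣ) :
        Localization.AtPrime p) * algebraMap A (Localization.AtPrime p) (t k) = 1 :=
      IsUnit.val_inv_mul (isUnit_algebraMap p (htp k))
    rw [map_mul, h1]
    linear_combination (-(ℓ k * algebraMap A (Localization.AtPrime p) s)) * hu
  have h2 : algebraMap A (Localization.AtPrime p) (∑ k, b k * ã k) = 0 := by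
    rw [map_sum]
    have hterm : ∀ k, algebraMap A (Localization.AtPrime p) (b k * ã k) =
        (y k • ℓ k) * algebraMap A (Localization.AtPrime p) s := by
      intro k
      rw [Algebra.smul_def, HomogeneousLocalization.algebraMap_apply, mul_assoc, hR1 k, hy k]
      have h3 := val_mkO_mul 𝒜 p (n k) (b k) (t k) (hb k) (ht k) (htp k)
      rw [map_mul, map_mul, ← h3]
      ring
    rw [Finset.sum_congr rfl (fun k _ => hterm k), ← Finset.sum_mul, hrel, zero_mul]
  obtain ⟨⟨w, hw⟩, hw0⟩ :=
    (IsLocalization.map_eq_zero_iff p.primeCompl (Localization.AtPrime p) _).mp h2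
  have hw' : w ∉ p := hw
  have hw0' : w * ∑ k, b k * ã k = 0 := hw0
  have hR2 : ∑ k, b k * (w * ã k) = 0 := by
    rw [← hw0', Finset.mul_sum]
    exact Finset.sum_congr rfl fun k _ => by ring
  have hws : w * s ∉ p := mul_notMem p hw' hs'
  have hR3 : ∀ k, ℓ k * algebraMap A (Localization.AtPrime p) (w * s) =
      algebraMap A (Localization.AtPrime p) (t k * (w * ã k)) := by
    intro k
    have h1 := hR1 k
    rw [map_mul] at h1
    rw [map_mul, map_mul, map_mul]
    linear_combination (algebraMap A (Localization.AtPrime p) w) * h1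
  -- bound on degrees
  let B : ℕ := Finset.univ.sup fun k => (decompose 𝒜 (t k * (w * ã k))).support.sup id
  have hsum : ∀ k, ∑ D : Fin (B + 1), ((decompose 𝒜 (t k * (w * ã k)) D : 𝒜 D) : A) =
      t k * (w * ã k) := by
    intro k
    rw [Fin.sum_univ_eq_sum_range
      (fun D => ((decompose 𝒜 (t k * (w * ã k)) D : 𝒜 D) : A)) (B + 1)]
    conv_rhs => rw [← DirectSum.sum_support_decompose 𝒜 (t k * (w * ã k))]
    symm
    apply Finset.sum_subset
    · intro D hD
      rw [Finset.mem_range, Nat.lt_succ_iff]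
      calc D ≤ (decompose 𝒜 (t k * (w * ã k))).support.sup id := Finset.le_sup (f := id) hD
        _ ≤ B := Finset.le_sup
          (f := fun k => (decompose 𝒜 (t k * (w * ã k))).support.sup id) (Finset.mem_univ k)
    · intro D _ hD
      rw [DFinsupp.notMem_support_iff] at hD
      rw [hD]
      rfl
  have hnum : ∀ k D, ((decompose 𝒜 (t k * (w * ã k)) D : 𝒜 D) : A) * f ^ D ∈ 𝒜 (D • (d + 1)) := by
    intro k D
    have h1 := SetLike.mul_mem_graded (SetLike.coe_mem (decompose 𝒜 (t k * (w * ã k)) D))
      (SetLike.pow_mem_graded D hf)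
    have h2 : D • (d + 1) = D + D • d := by simp only [smul_eq_mul]; ring
    rw [h2]
    exact h1
  have hden : ∀ D, f' ^ D ∈ 𝒜 (D • (d + 1)) := fun D => SetLike.pow_mem_graded D hf'
  have hdenp : ∀ D, f' ^ D ∉ p := fun D h => hf'p (hpp.mem_of_pow_mem _ h)
  have hfD : ∀ D, f ^ D ∉ p := fun D h => hfp (hpp.mem_of_pow_mem _ h)
  have hfws : ∀ D, f ^ D * (w * s) ∉ p := fun D => mul_notMem p (hfD D) hws
  let lam : ℕ → Localization.AtPrime p := fun D =>
    algebraMap A (Localization.AtPrime p) (f' ^ D) *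
      (((isUnit_algebraMap p (hfws D)).unit⁻¹ : (Localization.AtPrime p)ˣ) :
        Localization.AtPrime p)
  have hlam : ∀ D, lam D * algebraMap A (Localization.AtPrime p) (f ^ D * (w * s)) =
      algebraMap A (Localization.AtPrime p) (f' ^ D) := by
    intro D
    change algebraMap A (Localization.AtPrime p) (f' ^ D) *
      (((isUnit_algebraMap p (hfws D)).unit⁻¹ : (Localization.AtPrime p)ˣ) :
        Localization.AtPrime p) * _ = _
    rw [mul_assoc, IsUnit.val_inv_mul, mul_one]
  refine ⟨B + 1, fun k D => mkO 𝒜 p ((D : ℕ) • (d + 1))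
    (((decompose 𝒜 (t k * (w * ã k)) (D : ℕ) : 𝒜 (D : ℕ)) : A) * f ^ (D : ℕ)) (f' ^ (D : ℕ))
    (hnum k D) (hden D) (hdenp D), fun D => lam D, ?_, ?_⟩
  · intro k
    apply eq_of_mul_algebraMap p hws
    rw [hR3 k, Finset.sum_mul]
    have hterm : ∀ D : ℕ, (mkO 𝒜 p (D • (d + 1))
        (((decompose 𝒜 (t k * (w * ã k)) D : 𝒜 D) : A) * f ^ D) (f' ^ D)
        (hnum k D) (hden D) (hdenp D) • lam D) *
        algebraMap A (Localization.AtPrime p) (w * s) =
        algebraMap A (Localization.AtPrime p)
          ((decompose 𝒜 (t k * (w * ã k)) D : 𝒜 D) : A) := by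
      intro D
      apply eq_of_mul_algebraMap p (hfD D)
      rw [Algebra.smul_def, HomogeneousLocalization.algebraMap_apply]
      have h4 : (mkO 𝒜 p (D • (d + 1)) (((decompose 𝒜 (t k * (w * ã k)) D : 𝒜 D) : A) * f ^ D)
          (f' ^ D) (hnum k D) (hden D) (hdenp D)).val *
          algebraMap A (Localization.AtPrime p) (f' ^ D) =
          algebraMap A (Localization.AtPrime p) ((decompose 𝒜 (t k * (w * ã k)) D : 𝒜 D) : A) *
            algebraMap A (Localization.AtPrime p) (f ^ D) :=
        (val_mkO_mul 𝒜 p _ _ _ (hnum k D) (hden D) (hdenp D)).trans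
          (map_mul (algebraMap A (Localization.AtPrime p)) _ _)
      have h5 : lam D * (algebraMap A (Localization.AtPrime p) (f ^ D) *
          algebraMap A (Localization.AtPrime p) (w * s)) =
          algebraMap A (Localization.AtPrime p) (f' ^ D) := by
        have h5' := hlam D
        rwa [map_mul (algebraMap A (Localization.AtPrime p)) (f ^ D) (w * s)] at h5'
      linear_combination h4 +
        (mkO 𝒜 p (D • (d + 1)) (((decompose 𝒜 (t k * (w * ã k)) D : 𝒜 D) : A) * f ^ D) (f' ^ D)
          (hnum k D) (hden D) (hdenp D)).val * h5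
    refine ((congrArg (algebraMap A (Localization.AtPrime p)) (hsum k)).symm.trans
      ((map_sum (algebraMap A (Localization.AtPrime p)) _ _).trans ?_))
    exact Finset.sum_congr rfl fun D _ => (hterm (D : ℕ)).symm
  · intro D
    apply HomogeneousLocalization.val_injective
    rw [HomogeneousLocalization.val_zero]
    apply eq_of_mul_algebraMap p (hdenp (D : ℕ))
    rw [zero_mul]
    change algebraMap (HomogeneousLocalization.AtPrime 𝒜 p) (Localization.AtPrime p) _ * _ = 0
    rw [map_sum, Finset.sum_mul]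
    have hterm : ∀ k, algebraMap (HomogeneousLocalization.AtPrime 𝒜 p) (Localization.AtPrime p)
        (y k * mkO 𝒜 p ((D : ℕ) • (d + 1))
          (((decompose 𝒜 (t k * (w * ã k)) (D : ℕ) : 𝒜 (D : ℕ)) : A) * f ^ (D : ℕ))
          (f' ^ (D : ℕ)) (hnum k D) (hden D) (hdenp D)) *
        algebraMap A (Localization.AtPrime p) (f' ^ (D : ℕ)) =
        algebraMap A (Localization.AtPrime p)
          (((decompose 𝒜 (b k * (w * ã k)) (D : ℕ) : 𝒜 (D : ℕ)) : A) * f ^ (D : ℕ)) := by
      intro k
      apply eq_of_mul_algebraMap p (htp k)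
      have h4 : (mkO 𝒜 p ((D : ℕ) • (d + 1))
          (((decompose 𝒜 (t k * (w * ã k)) (D : ℕ) : 𝒜 (D : ℕ)) : A) * f ^ (D : ℕ))
          (f' ^ (D : ℕ)) (hnum k D) (hden D) (hdenp D)).val *
          algebraMap A (Localization.AtPrime p) (f' ^ (D : ℕ)) =
          algebraMap A (Localization.AtPrime p)
            ((decompose 𝒜 (t k * (w * ã k)) (D : ℕ) : 𝒜 (D : ℕ)) : A) *
            algebraMap A (Localization.AtPrime p) (f ^ (D : ℕ)) :=
        (val_mkO_mul 𝒜 p _ _ _ (hnum k D) (hden D) (hdenp D)).trans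
          (map_mul (algebraMap A (Localization.AtPrime p)) _ _)
      have h6 : (y k).val * algebraMap A (Localization.AtPrime p) (t k) =
          algebraMap A (Localization.AtPrime p) (b k) := by
        rw [hy k]
        exact val_mkO_mul 𝒜 p (n k) (b k) (t k) (hb k) (ht k) (htp k)
      have h7 := swap_decompose 𝒜 (D := (D : ℕ)) (w * ã k) (hb k) (ht k)
      have h8 : algebraMap A (Localization.AtPrime p) (b k) *
          algebraMap A (Localization.AtPrime p)
            ((decompose 𝒜 (t k * (w * ã k)) (D : ℕ) : 𝒜 (D : ℕ)) : A) =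
          algebraMap A (Localization.AtPrime p) (t k) *
          algebraMap A (Localization.AtPrime p)
            ((decompose 𝒜 (b k * (w * ã k)) (D : ℕ) : 𝒜 (D : ℕ)) : A) :=
        (map_mul (algebraMap A (Localization.AtPrime p)) _ _).symm.trans
          ((congrArg (algebraMap A (Localization.AtPrime p)) h7).trans
            (map_mul (algebraMap A (Localization.AtPrime p)) _ _))
      have h10 : algebraMap (HomogeneousLocalization.AtPrime 𝒜 p) (Localization.AtPrime p)
          (y k * mkO 𝒜 p ((D : ℕ) • (d + 1))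
            (((decompose 𝒜 (t k * (w * ã k)) (D : ℕ) : 𝒜 (D : ℕ)) : A) * f ^ (D : ℕ))
            (f' ^ (D : ℕ)) (hnum k D) (hden D) (hdenp D)) =
          (y k).val * (mkO 𝒜 p ((D : ℕ) • (d + 1))
            (((decompose 𝒜 (t k * (w * ã k)) (D : ℕ) : 𝒜 (D : ℕ)) : A) * f ^ (D : ℕ))
            (f' ^ (D : ℕ)) (hnum k D) (hden D) (hdenp D)).val := by
        rw [HomogeneousLocalization.algebraMap_apply, HomogeneousLocalization.val_mul]
      have h11 : algebraMap A (Localization.AtPrime p)
          (((decompose 𝒜 (b k * (w * ã k)) (D : ℕ) : 𝒜 (D : ℕ)) : A) * f ^ (D : ℕ)) =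
          algebraMap A (Localization.AtPrime p)
            ((decompose 𝒜 (b k * (w * ã k)) (D : ℕ) : 𝒜 (D : ℕ)) : A) *
          algebraMap A (Localization.AtPrime p) (f ^ (D : ℕ)) :=
        map_mul (algebraMap A (Localization.AtPrime p)) _ _
      linear_combination
        (algebraMap A (Localization.AtPrime p) (f' ^ (D : ℕ)) *
          algebraMap A (Localization.AtPrime p) (t k)) * h10 -
        algebraMap A (Localization.AtPrime p) (t k) * h11 +
        (y k).val * algebraMap A (Localization.AtPrime p) (t k) * h4 +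
        algebraMap A (Localization.AtPrime p)
          (((decompose 𝒜 (t k * (w * ã k)) (D : ℕ) : 𝒜 (D : ℕ)) : A)) *
          algebraMap A (Localization.AtPrime p) (f ^ (D : ℕ)) * h6 +
        algebraMap A (Localization.AtPrime p) (f ^ (D : ℕ)) * h8
    refine (Finset.sum_congr rfl fun k _ => hterm k).trans ?_
    have h0 : ∑ k, ((decompose 𝒜 (b k * (w * ã k)) (D : ℕ) : 𝒜 (D : ℕ)) : A) = 0 := by
      have h9 := congrArg (GradedRing.proj 𝒜 (D : ℕ)) hR2
      simp only [map_sum, map_zero, GradedRing.proj_apply] at h9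
      exact h9
    rw [← map_sum, ← Finset.sum_mul, h0, zero_mul, map_zero]

end

end Groth.Agent.Lib.Helper26.HomogAtPrime
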