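import Mathlib
import Groth.Agent.Lib.Helper26.HomogAtPrime

/-!
# Normality of the homogeneous localisation `A_(p)` (helper26)
-/

set_option autoImplicit false
universe u
open HomogeneousLocalization DirectSum

namespace Groth.Agent.Lib.Helper26.HomogAtPrime

noncomputable section

variable {A : Type u} [CommRing A] (𝒜 : ℕ → AddSubgroup A) [GradedRing 𝒜]
  (p : Ideal A) [hpp : p.IsPrime]

theorem isDomain_atPrime [IsDomain (Localization.AtPrime p)] :
    IsDomain (HomogeneousLocalization.AtPrime 𝒜 p) :=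
  Function.Injective.isDomain
    (algebraMap (HomogeneousLocalization.AtPrime 𝒜 p) (Localization.AtPrime p))
    (HomogeneousLocalization.val_injective _)

theorem isIntegrallyClosed_atPrime [IsDomain (Localization.AtPrime p)]
    [IsIntegrallyClosed (Localization.AtPrime p)] :
    IsIntegrallyClosed (HomogeneousLocalization.AtPrime 𝒜 p) := by
  haveI := isDomain_atPrime 𝒜 p
  let g : HomogeneousLocalization.AtPrime 𝒜 p →+* FractionRing (Localization.AtPrime p) :=
    (algebraMap (Localization.AtPrime p) (FractionRing (Localization.AtPrime p))).comp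
      (algebraMap (HomogeneousLocalization.AtPrime 𝒜 p) (Localization.AtPrime p))
  have hg : Function.Injective g :=
    (IsFractionRing.injective (Localization.AtPrime p)
      (FractionRing (Localization.AtPrime p))).comp (HomogeneousLocalization.val_injective _)
  let ι : FractionRing (HomogeneousLocalization.AtPrime 𝒜 p) →+*
      FractionRing (Localization.AtPrime p) := IsFractionRing.lift hg
  have hι : ∀ y : HomogeneousLocalization.AtPrime 𝒜 p,
      ι (algebraMap _ (FractionRing (HomogeneousLocalization.AtPrime 𝒜 p)) y) = g y :=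
    IsFractionRing.lift_algebraMap hg
  rw [isIntegrallyClosed_iff (FractionRing (HomogeneousLocalization.AtPrime 𝒜 p))]
  intro x hx
  have hint : IsIntegral (Localization.AtPrime p) (ι x) := by
    obtain ⟨P, hPmonic, hPx⟩ := hx
    refine ⟨P.map (algebraMap (HomogeneousLocalization.AtPrime 𝒜 p) (Localization.AtPrime p)),
      hPmonic.map _, ?_⟩
    rw [Polynomial.eval₂_map]
    have h1 := congrArg ι hPx
    rw [Polynomial.hom_eval₂, map_zero] at h1
    have h2 : ι.comp (algebraMap (HomogeneousLocalization.AtPrime 𝒜 p)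
        (FractionRing (HomogeneousLocalization.AtPrime 𝒜 p))) = g := RingHom.ext hι
    rw [h2] at h1
    exact h1
  obtain ⟨ℓ, hℓ⟩ := (isIntegrallyClosed_iff (FractionRing (Localization.AtPrime p))).mp
    inferInstance hint
  obtain ⟨u, v, hv, hxuv⟩ :=
    IsFractionRing.div_surjective (A := HomogeneousLocalization.AtPrime 𝒜 p) x
  have hv0 : v ≠ 0 := nonZeroDivisors.ne_zero hv
  have hv0' : algebraMap (HomogeneousLocalization.AtPrime 𝒜 p)
      (FractionRing (HomogeneousLocalization.AtPrime 𝒜 p)) v ≠ 0 := by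
    intro h
    exact hv0 ((IsFractionRing.injective (HomogeneousLocalization.AtPrime 𝒜 p)
      (FractionRing (HomogeneousLocalization.AtPrime 𝒜 p))) (by rw [h, map_zero]))
  have hxv : x * algebraMap (HomogeneousLocalization.AtPrime 𝒜 p)
      (FractionRing (HomogeneousLocalization.AtPrime 𝒜 p)) v =
      algebraMap (HomogeneousLocalization.AtPrime 𝒜 p)
      (FractionRing (HomogeneousLocalization.AtPrime 𝒜 p)) u := by
    rw [← hxuv, div_mul_cancel₀ _ hv0']
  have h3 := congrArg ι hxv
  rw [map_mul, hι, hι, ← hℓ] at h3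
  have h4 : ℓ * v.val = u.val := by
    apply IsFractionRing.injective (Localization.AtPrime p)
      (FractionRing (Localization.AtPrime p))
    rw [map_mul]
    exact h3
  have hvval : v.val ≠ 0 := by
    intro h
    exact hv0 (HomogeneousLocalization.val_injective _ (by rw [h, HomogeneousLocalization.val_zero]))
  obtain ⟨n, a, t, ha, ht, htp, rfl⟩ := exists_mkO 𝒜 p u
  obtain ⟨m, b, s, hb, hs, hsp, rfl⟩ := exists_mkO 𝒜 p v
  obtain ⟨c, ⟨g₀, hg₀⟩, hcg⟩ := IsLocalization.exists_mk'_eq p.primeCompl ℓ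
  have hℓg : ℓ * algebraMap A (Localization.AtPrime p) g₀ =
      algebraMap A (Localization.AtPrime p) c := by
    rw [← hcg]; exact IsLocalization.mk'_spec _ c (⟨g₀, hg₀⟩ : p.primeCompl)
  have hu := val_mkO_mul 𝒜 p n a t ha ht htp
  have hv' := val_mkO_mul 𝒜 p m b s hb hs hsp
  have h5 : algebraMap A (Localization.AtPrime p) (c * (b * t)) =
      algebraMap A (Localization.AtPrime p) (g₀ * (s * a)) := by
    rw [map_mul, map_mul, map_mul, map_mul, ← hℓg, ← hv', ← hu, ← h4]
    ring
  obtain ⟨⟨w, hw⟩, hweq⟩ := (IsLocalization.eq_iff_exists p.primeCompl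
    (Localization.AtPrime p)).mp h5
  have hweq' : w * c * (b * t) = w * g₀ * (s * a) := by
    have : w * (c * (b * t)) = w * (g₀ * (s * a)) := hweq
    linear_combination this
  have hg' : w * g₀ ∉ p := mul_notMem p hw hg₀
  obtain ⟨j, hj⟩ := exists_decompose_notMem 𝒜 p hg'
  have hbt : b * t ∈ 𝒜 (m + n) := SetLike.mul_mem_graded hb ht
  have hsa : s * a ∈ 𝒜 (m + n) := SetLike.mul_mem_graded hs ha
  have hc1 : ((decompose 𝒜 (w * c * (b * t)) (j + (m + n)) : 𝒜 (j + (m + n))) : A) =
      (decompose 𝒜 (w * c) j : A) * (b * t) :=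
    DirectSum.coe_decompose_mul_add_of_right_mem 𝒜 hbt
  have hc2 : ((decompose 𝒜 (w * g₀ * (s * a)) (j + (m + n)) : 𝒜 (j + (m + n))) : A) =
      (decompose 𝒜 (w * g₀) j : A) * (s * a) :=
    DirectSum.coe_decompose_mul_add_of_right_mem 𝒜 hsa
  have hcomp : (decompose 𝒜 (w * c) j : A) * (b * t) = (decompose 𝒜 (w * g₀) j : A) * (s * a) := by
    rw [← hc1, ← hc2, hweq']
  have hzv : mkO 𝒜 p j (decompose 𝒜 (w * c) j : A) (decompose 𝒜 (w * g₀) j : A)
      (SetLike.coe_mem _) (SetLike.coe_mem _) hj * mkO 𝒜 p m b s hb hs hsp =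
      mkO 𝒜 p n a t ha ht htp := by
    rw [mkO_mul_mkO 𝒜 p]
    exact mkO_eq_of_mul_eq 𝒜 p _ _ _ _ _ _ (by linear_combination hcomp)
  have hzval : (mkO 𝒜 p j (decompose 𝒜 (w * c) j : A) (decompose 𝒜 (w * g₀) j : A)
      (SetLike.coe_mem _) (SetLike.coe_mem _) hj).val = ℓ := by
    have h6 := congrArg HomogeneousLocalization.val hzv
    rw [HomogeneousLocalization.val_mul, ← h4] at h6
    exact mul_right_cancel₀ hvval h6
  refine ⟨mkO 𝒜 p j (decompose 𝒜 (w * c) j : A) (decompose 𝒜 (w * g₀) j : A)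
      (SetLike.coe_mem _) (SetLike.coe_mem _) hj, ?_⟩
  apply ι.injective
  rw [hι]
  change algebraMap (Localization.AtPrime p) (FractionRing (Localization.AtPrime p))
    (mkO 𝒜 p j (decompose 𝒜 (w * c) j : A) (decompose 𝒜 (w * g₀) j : A)
      (SetLike.coe_mem _) (SetLike.coe_mem _) hj).val = ι x
  rw [hzval, hℓ]

end

end Groth.Agent.Lib.Helper26.HomogAtPrime
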