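import Mathlib
import Groth.Agent.Lib.Helper26.HomogAtPrime2

/-!
# No embedded primes for the homogeneous localisation `A_(p)` (helper26)
-/

set_option autoImplicit false
universe u
open HomogeneousLocalization DirectSum

namespace Groth.Agent.Lib.Helper26.HomogAtPrime

noncomputable section

variable {A : Type u} [CommRing A] (𝒜 : ℕ → AddSubgroup A) [GradedRing 𝒜]
  (p : Ideal A) [hpp : p.IsPrime]

lemma mkO_eq_zero_of_mul_eq_zero {n : ℕ} {a t : A} (ha : a ∈ 𝒜 n) (ht : t ∈ 𝒜 n) (htp : t ∉ p)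
    {w : A} (hw : w ∉ p) (h : a * w = 0) : mkO 𝒜 p n a t ha ht htp = 0 := by
  apply HomogeneousLocalization.val_injective
  apply eq_of_mul_algebraMap p htp
  rw [val_mkO_mul, HomogeneousLocalization.val_zero, zero_mul]
  apply eq_of_mul_algebraMap p hw
  rw [← map_mul, h, map_zero, zero_mul]

lemma exists_homogeneous_mul_eq_zero {n : ℕ} {a t : A} (ha : a ∈ 𝒜 n) (ht : t ∈ 𝒜 n)
    (htp : t ∉ p) (h : mkO 𝒜 p n a t ha ht htp = 0) :
    ∃ (j : ℕ) (w : A), w ∈ 𝒜 j ∧ w ∉ p ∧ w * a = 0 := by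
  have h1 := val_mkO_mul 𝒜 p n a t ha ht htp
  rw [h, HomogeneousLocalization.val_zero, zero_mul] at h1
  obtain ⟨⟨w', hw'⟩, hw'a⟩ :=
    (IsLocalization.map_eq_zero_iff p.primeCompl (Localization.AtPrime p) a).mp h1.symm
  obtain ⟨j, hj⟩ := exists_decompose_notMem 𝒜 p hw'
  refine ⟨j, (decompose 𝒜 w' j : A), SetLike.coe_mem _, hj, ?_⟩
  have hcomp : ((decompose 𝒜 (w' * a) (j + n) : 𝒜 (j + n)) : A) = (decompose 𝒜 w' j : A) * a :=
    DirectSum.coe_decompose_mul_add_of_right_mem 𝒜 ha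
  rw [← hcomp]
  have hw'a' : w' * a = 0 := hw'a
  rw [hw'a', decompose_zero, DirectSum.zero_apply, ZeroMemClass.coe_zero]

/-- If `A` has no embedded primes then neither has `A_(p)`. -/
theorem noEmbedded_atPrime [IsNoetherianRing A] {d : ℕ} (hd : 0 < d) {f : A} (hf : f ∈ 𝒜 d)
    (hfp : f ∉ p) (hA : ∀ P ∈ associatedPrimes A A, P ∈ minimalPrimes A) :
    ∀ 𝔮 ∈ associatedPrimes (HomogeneousLocalization.AtPrime 𝒜 p)
      (HomogeneousLocalization.AtPrime 𝒜 p),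
      𝔮 ∈ minimalPrimes (HomogeneousLocalization.AtPrime 𝒜 p) := by
  classical
  haveI := isNoetherianRing_atPrime 𝒜 p
  intro 𝔮 h𝔮
  obtain ⟨h𝔮p, z, h𝔮z⟩ := isAssociatedPrime_iff.mp h𝔮
  haveI := h𝔮p
  obtain ⟨e, a, t, ha, ht, htp, rfl⟩ := exists_mkO 𝒜 p z
  obtain ⟨Q, hQp, hQh, hQle, hQ⟩ := exists_homogeneous_prime 𝒜 p 𝔮
  have hmem𝔮 : ∀ w : HomogeneousLocalization.AtPrime 𝒜 p,
      w ∈ 𝔮 ↔ w * mkO 𝒜 p e a t ha ht htp = 0 := by
    intro w
    rw [h𝔮z, Submodule.mem_colon_singleton, Submodule.mem_bot, smul_eq_mul]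
  -- characterisation of the homogeneous elements of `Q`
  have hK : ∀ (i : ℕ) (b : A), b ∈ 𝒜 i →
      (b ∈ Q ↔ ∃ (j : ℕ) (w : A), w ∈ 𝒜 j ∧ w ∉ p ∧ w * (b ^ d * a) = 0) := by
    intro i b hb
    have hbd : b ∈ Q ↔ b ^ d ∈ Q :=
      ⟨fun h => Ideal.pow_mem_of_mem _ h d hd, fun h => hQp.mem_of_pow_mem _ h⟩
    have hnum : b ^ d ∈ 𝒜 (d • i) := SetLike.pow_mem_graded d hb
    have hden : f ^ i ∈ 𝒜 (d • i) := by
      rw [smul_eq_mul, mul_comm]; exact SetLike.pow_mem_graded i hf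
    have hdenp : f ^ i ∉ p := fun h => hfp (hpp.mem_of_pow_mem _ h)
    rw [hbd, hQ (d • i) (b ^ d) (f ^ i) hnum hden hdenp, hmem𝔮, mkO_mul_mkO 𝒜 p]
    constructor
    · intro h0
      exact exists_homogeneous_mul_eq_zero 𝒜 p _ _ _ h0
    · rintro ⟨j, w, -, hwp, hw0⟩
      exact mkO_eq_zero_of_mul_eq_zero 𝒜 p _ _ _ hwp (by rw [mul_comm]; exact hw0)
  -- annihilators
  have mem_ann : ∀ x y : A, x ∈ LinearMap.ker (LinearMap.toSpanSingleton A A y) ↔ x * y = 0 := by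
    intro x y
    rw [LinearMap.mem_ker, LinearMap.toSpanSingleton_apply, smul_eq_mul]
  let S : Set (Ideal A) := {J | ∃ (j : ℕ) (w : A), w ∈ 𝒜 j ∧ w ∉ p ∧
    J = LinearMap.ker (LinearMap.toSpanSingleton A A (a * w))}
  have hSne : S.Nonempty :=
    ⟨_, 0, 1, SetLike.GradedOne.one_mem, fun h => hpp.ne_top ((Ideal.eq_top_iff_one p).mpr h), rfl⟩
  obtain ⟨J, ⟨j₀, w₀, hw₀, hw₀p, rfl⟩, hJmax⟩ :=
    set_has_maximal_iff_noetherian.mpr (inferInstance : IsNoetherian A A) S hSne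
  have hy : a * w₀ ∈ 𝒜 (e + j₀) := SetLike.mul_mem_graded ha hw₀
  -- (1)
  have h1 : ∀ (i : ℕ) (b : A), b ∈ 𝒜 i → b ∈ Q →
      b ^ d ∈ LinearMap.ker (LinearMap.toSpanSingleton A A (a * w₀)) := by
    intro i b hb hbQ
    obtain ⟨j, w, hw, hwp, hwb⟩ := (hK i b hb).mp hbQ
    have hIS : LinearMap.ker (LinearMap.toSpanSingleton A A (a * (w₀ * w))) ∈ S :=
      ⟨j₀ + j, w₀ * w, SetLike.mul_mem_graded hw₀ hw, mul_notMem p hw₀p hwp, rfl⟩
    have hle : LinearMap.ker (LinearMap.toSpanSingleton A A (a * w₀)) ≤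
        LinearMap.ker (LinearMap.toSpanSingleton A A (a * (w₀ * w))) := by
      intro x hx
      rw [mem_ann] at hx ⊢
      linear_combination w * hx
    have heq := eq_of_le_of_not_lt hle (hJmax _ hIS)
    rw [heq, mem_ann]
    linear_combination w₀ * hwb
  -- (2)
  have h2 : ∀ (i : ℕ) (b : A), b ∈ 𝒜 i →
      b ∈ LinearMap.ker (LinearMap.toSpanSingleton A A (a * w₀)) → b ∈ Q := by
    intro i b hb hb0
    rw [mem_ann] at hb0
    refine (hK i b hb).mpr ⟨j₀, w₀, hw₀, hw₀p, ?_⟩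
    rw [← pow_sub_one_mul hd.ne' b]
    linear_combination (b ^ (d - 1)) * hb0
  -- (3)
  have h3 : ∀ x : A, x ∈ LinearMap.ker (LinearMap.toSpanSingleton A A (a * w₀)) →
      ∀ i, ((decompose 𝒜 x i : 𝒜 i) : A) ∈
        LinearMap.ker (LinearMap.toSpanSingleton A A (a * w₀)) := by
    intro x hx i
    rw [mem_ann] at hx ⊢
    have hcomp : ((decompose 𝒜 (x * (a * w₀)) (i + (e + j₀)) : 𝒜 (i + (e + j₀))) : A) =
        (decompose 𝒜 x i : A) * (a * w₀) :=
      DirectSum.coe_decompose_mul_add_of_right_mem 𝒜 hy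
    rw [← hcomp, hx, decompose_zero, DirectSum.zero_apply, ZeroMemClass.coe_zero]
  -- (4)
  have hJQ : LinearMap.ker (LinearMap.toSpanSingleton A A (a * w₀)) ≤ Q := by
    intro x hx
    rw [← DirectSum.sum_support_decompose 𝒜 x]
    exact Ideal.sum_mem _ fun i _ => h2 i _ (SetLike.coe_mem _) (h3 x hx i)
  -- (5)
  have hQmin : Q ∈ Ideal.minimalPrimes (LinearMap.ker (LinearMap.toSpanSingleton A A (a * w₀))) := by
    refine ⟨⟨hQp, hJQ⟩, ?_⟩
    rintro P ⟨hPp, hJP⟩ -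
    intro x hx
    rw [← DirectSum.sum_support_decompose 𝒜 x]
    refine Ideal.sum_mem _ fun i _ => ?_
    exact hPp.mem_of_pow_mem _ (hJP (h1 i _ (SetLike.coe_mem _) (hQh i hx)))
  -- (6)
  have h6 : Q ∈ associatedPrimes A
      (A ⧸ (LinearMap.ker (LinearMap.toSpanSingleton A A (a * w₀)) : Ideal A)) :=
    Module.associatedPrimes.minimalPrimes_annihilator_subset_associatedPrimes A _
      (by rw [Ideal.annihilator_quotient]; exact hQmin)
  have hginj : Function.Injective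
      (Submodule.liftQ (LinearMap.ker (LinearMap.toSpanSingleton A A (a * w₀)))
        (LinearMap.toSpanSingleton A A (a * w₀)) le_rfl) :=
    LinearMap.ker_eq_bot.mp (Submodule.ker_liftQ_eq_bot _ _ _ le_rfl)
  have hQass : Q ∈ associatedPrimes A A := associatedPrimes.subset_of_injective hginj h6
  have hQminA : Q ∈ minimalPrimes A := hA Q hQass
  -- (8)
  refine ⟨⟨h𝔮p, bot_le⟩, ?_⟩
  rintro 𝔮' ⟨h𝔮'p, -⟩ hle
  haveI := h𝔮'p
  obtain ⟨Q', hQ'p, hQ'h, hQ'le, hQ'⟩ := exists_homogeneous_prime 𝒜 p 𝔮'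
  have hQ'Q : Q' ≤ Q := homogeneous_prime_le 𝒜 p hd hf hfp hle hQ'h hQp hQ' hQ
  have hQQ' : Q ≤ Q' := hQminA.2 ⟨hQ'p, bot_le⟩ hQ'Q
  intro z' hz'
  obtain ⟨n, a', t', ha', ht', htp', rfl⟩ := exists_mkO 𝒜 p z'
  exact (hQ' n a' t' ha' ht' htp').mp (hQQ' ((hQ n a' t' ha' ht' htp').mpr hz'))

end

/-- Absence of embedded primes transports along a ring isomorphism. -/
theorem noEmbedded_of_ringEquiv {S O : Type u} [CommRing S] [CommRing O] [IsNoetherianRing S]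
    [IsNoetherianRing O] (e : S ≃+* O)
    (hO : ∀ 𝔮 ∈ associatedPrimes O O, 𝔮 ∈ minimalPrimes O) :
    ∀ P ∈ associatedPrimes S S, P ∈ minimalPrimes S := by
  intro P hP
  obtain ⟨hPp, s, hPs⟩ := isAssociatedPrime_iff.mp hP
  haveI := hPp
  have hcomap : P.comap e.symm ∈ associatedPrimes O O := by
    refine isAssociatedPrime_iff.mpr ⟨Ideal.comap_isPrime _ _, e s, ?_⟩
    ext y
    rw [Ideal.mem_comap, hPs, Submodule.mem_colon_singleton, Submodule.mem_bot,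
      Submodule.mem_colon_singleton, Submodule.mem_bot, smul_eq_mul, smul_eq_mul]
    constructor
    · intro h
      have := congrArg e h
      rwa [map_mul, RingEquiv.apply_symm_apply, map_zero] at this
    · intro h
      have := congrArg e.symm h
      rwa [map_mul, RingEquiv.symm_apply_apply, map_zero] at this
  have hmin := hO _ hcomap
  refine ⟨⟨hPp, bot_le⟩, ?_⟩
  rintro P' ⟨hP'p, -⟩ hle
  haveI := hP'p
  have h1 : P'.comap e.symm ≤ P.comap e.symm := Ideal.comap_mono hle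
  have h2 := hmin.2 ⟨Ideal.comap_isPrime _ _, bot_le⟩ h1
  intro y hy
  have h3 : e y ∈ P.comap e.symm := by
    rw [Ideal.mem_comap, RingEquiv.symm_apply_apply]; exact hy
  have h4 := h2 h3
  rwa [Ideal.mem_comap, RingEquiv.symm_apply_apply] at h4

end Groth.Agent.Lib.Helper26.HomogAtPrime
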