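import Groth.Agent.Lib.Helper26.HenselIdem
import Groth.Agent.Lib.Helper3.HenselPair
import Groth.Agent.Lib.Helper8.Hzl.IntegralHens
import Groth.Agent.Lib.Helper8.Hzl.PairUniversal
import Mathlib

/-!
# The unit component of a finite Hopf algebra over a (Henselian) local ring (helper26)

* idempotents of local rings, local-ness of tensor products of augmented integral local algebras;
* universe-polymorphic "integral local over Henselian local is Henselian local";
* the ideal `(1 - e)` of the unit component is a Hopf ideal.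
-/

set_option autoImplicit false
universe u v w

namespace Groth.Agent.Lib.Helper26.HopfUnitComp

open TensorProduct IsLocalRing

/-- Idempotents of a local ring are `0` or `1`. -/
theorem eq_zero_or_eq_one_of_isIdempotentElem {B : Type*} [CommRing B] [IsLocalRing B] {e : B}
    (he : IsIdempotentElem e) : e = 0 ∨ e = 1 := by
  rcases IsLocalRing.isUnit_or_isUnit_one_sub_self e with h | h
  · right
    have : e * e = e * 1 := by rw [he.eq, mul_one]
    exact h.mul_left_cancel this
  · left
    have : (1 - e) * e = (1 - e) * 0 := by rw [mul_zero, sub_mul, one_mul, he.eq, sub_self]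
    exact h.mul_left_cancel this

/-- A local ring integral over a Henselian local ring is Henselian (universe polymorphic). -/
theorem henselianLocalRing_of_isIntegral' (S : Type u) (T : Type v) [CommRing S]
    [HenselianLocalRing S] [CommRing T] [IsLocalRing T] [Algebra S T] [Algebra.IsIntegral S T] :
    HenselianLocalRing T := by
  let eS : S ≃+* ULift.{v} S := ULift.ringEquiv.symm
  let eT : T ≃+* ULift.{u} T := ULift.ringEquiv.symm
  haveI : HenselianLocalRing (ULift.{v} S) :=
    Groth.Agent.Lib.Helper8.Hzl.henselianLocalRing_of_ringEquiv eS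
  haveI : IsLocalRing (ULift.{u} T) := eT.isLocalRing
  letI : Algebra (ULift.{v} S) (ULift.{u} T) :=
    ((eT : T →+* ULift.{u} T).comp ((algebraMap S T).comp (eS.symm : ULift.{v} S →+* S))).toAlgebra
  have hcomp : (algebraMap (ULift.{v} S) (ULift.{u} T)).comp (eS : S →+* ULift.{v} S) =
      (eT : T →+* ULift.{u} T).comp (algebraMap S T) := by
    ext s; rfl
  haveI : Algebra.IsIntegral (ULift.{v} S) (ULift.{u} T) := by
    constructor
    intro x
    obtain ⟨p, hp, hpx⟩ := Algebra.IsIntegral.isIntegral (R := S) (eT.symm x)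
    refine ⟨p.map (eS : S →+* ULift.{v} S), hp.map _, ?_⟩
    rw [Polynomial.eval₂_map, hcomp]
    have h := Polynomial.hom_eval₂ p (algebraMap S T) (eT : T →+* ULift.{u} T) (eT.symm x)
    rw [hpx, map_zero] at h
    rw [h]
    congr 1
  haveI : HenselianLocalRing (ULift.{u} T) :=
    Groth.Agent.Lib.Helper8.Hzl.henselianLocalRing_of_isIntegral (ULift.{v} S) (ULift.{u} T)
  exact Groth.Agent.Lib.Helper8.Hzl.henselianLocalRing_of_ringEquiv eT.symm

section LocalTensor

variable {R : Type u} {A₁ : Type v} {A₂ : Type w} [CommRing R] [CommRing A₁]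
  [CommRing A₂] [Algebra R A₁] [Algebra R A₂]

theorem sub_mem_maximalIdeal_of_retraction [IsLocalRing A₁] [Nontrivial R] (ρ : A₁ →ₐ[R] R)
    (a : A₁) : a - algebraMap R A₁ (ρ a) ∈ maximalIdeal A₁ := by
  have hk : a - algebraMap R A₁ (ρ a) ∈ RingHom.ker ρ := by
    rw [RingHom.mem_ker, map_sub, AlgHom.commutes, Algebra.algebraMap_self, RingHom.id_apply,
      sub_self]
  have hne : RingHom.ker ρ ≠ ⊤ := (Ideal.ne_top_iff_one _).mpr (by
    rw [RingHom.mem_ker, map_one]; exact one_ne_zero)
  exact IsLocalRing.le_maximalIdeal hne hk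

theorem tmul_one_mem_jacobson [IsLocalRing A₁] [Algebra.IsIntegral R A₂] {x : A₁}
    (hx : x ∈ maximalIdeal A₁) :
    x ⊗ₜ[R] (1 : A₂) ∈ Ideal.jacobson (⊥ : Ideal (A₁ ⊗[R] A₂)) := by
  have h := Groth.Agent.Lib.Helper26.HenselIdem.map_le_jacobson_of_isIntegral (maximalIdeal A₁)
    (le_of_eq (IsLocalRing.jacobson_eq_maximalIdeal ⊥ bot_ne_top).symm) (B := A₁ ⊗[R] A₂)
  have h2 := h (Ideal.mem_map_of_mem _ hx)
  rwa [Algebra.TensorProduct.algebraMap_apply, Algebra.algebraMap_self, RingHom.id_apply] at h2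

theorem one_tmul_mem_jacobson [IsLocalRing A₂] [Algebra.IsIntegral R A₁] {y : A₂}
    (hy : y ∈ maximalIdeal A₂) :
    (1 : A₁) ⊗ₜ[R] y ∈ Ideal.jacobson (⊥ : Ideal (A₁ ⊗[R] A₂)) := by
  rw [Ideal.mem_jacobson_bot]
  intro z
  have h := tmul_one_mem_jacobson (R := R) (A₁ := A₂) (A₂ := A₁) hy
  rw [Ideal.mem_jacobson_bot] at h
  have h3 := (h (Algebra.TensorProduct.comm R A₁ A₂ z)).map (Algebra.TensorProduct.comm R A₁ A₂).symm
  have e1 : (Algebra.TensorProduct.comm R A₁ A₂).symm
      (y ⊗ₜ[R] (1 : A₁) * (Algebra.TensorProduct.comm R A₁ A₂) z + 1) =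
      (1 : A₁) ⊗ₜ[R] y * z + 1 := by
    rw [map_add, map_mul, map_one, AlgEquiv.symm_apply_apply]
    rfl
  rwa [e1] at h3

/-- The tensor product of two augmented integral local algebras over a local ring is local. -/
theorem isLocalRing_tensorProduct_of_retraction [IsLocalRing R] [IsLocalRing A₁] [IsLocalRing A₂]
    [Algebra.IsIntegral R A₁] [Algebra.IsIntegral R A₂] (ρ₁ : A₁ →ₐ[R] R) (ρ₂ : A₂ →ₐ[R] R) :
    IsLocalRing (A₁ ⊗[R] A₂) := by
  haveI : Nontrivial (A₁ ⊗[R] A₂) :=
    (Algebra.TensorProduct.lift ρ₁ ρ₂ (fun _ _ => Commute.all _ _)).toRingHom.domain_nontrivial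
  have hdecomp : ∀ t : A₁ ⊗[R] A₂, ∃ r : R,
      t - algebraMap R (A₁ ⊗[R] A₂) r ∈ Ideal.jacobson (⊥ : Ideal (A₁ ⊗[R] A₂)) := by
    intro t
    induction t using TensorProduct.induction_on with
    | zero => exact ⟨0, by simp⟩
    | tmul a b =>
      refine ⟨ρ₁ a * ρ₂ b, ?_⟩
      have ha := sub_mem_maximalIdeal_of_retraction ρ₁ a
      have hb := sub_mem_maximalIdeal_of_retraction ρ₂ b
      have e1 : a ⊗ₜ[R] b - algebraMap R (A₁ ⊗[R] A₂) (ρ₁ a * ρ₂ b) =
          ((a - algebraMap R A₁ (ρ₁ a)) ⊗ₜ[R] (1 : A₂)) * ((1 : A₁) ⊗ₜ[R] b) +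
          algebraMap R (A₁ ⊗[R] A₂) (ρ₁ a) *
            ((1 : A₁) ⊗ₜ[R] (b - algebraMap R A₂ (ρ₂ b))) := by
        have h1 : (algebraMap R A₁ (ρ₁ a)) ⊗ₜ[R] (1 : A₂) =
            algebraMap R (A₁ ⊗[R] A₂) (ρ₁ a) :=
          (Algebra.TensorProduct.algebraMap_apply _).symm
        have h2 : (1 : A₁) ⊗ₜ[R] (algebraMap R A₂ (ρ₂ b)) =
            algebraMap R (A₁ ⊗[R] A₂) (ρ₂ b) :=
          (Algebra.TensorProduct.includeRight (R := R) (A := A₁) (B := A₂)).commutes _
        rw [TensorProduct.sub_tmul, TensorProduct.tmul_sub, h1, h2, sub_mul, mul_sub,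
          Algebra.TensorProduct.tmul_mul_tmul, mul_one, one_mul, map_mul]
        ring
      rw [e1]
      exact Ideal.add_mem _ (Ideal.mul_mem_right _ _ (tmul_one_mem_jacobson ha))
        (Ideal.mul_mem_left _ _ (one_tmul_mem_jacobson hb))
    | add x y hx hy =>
      obtain ⟨r, hr⟩ := hx
      obtain ⟨s, hs⟩ := hy
      refine ⟨r + s, ?_⟩
      have := Ideal.add_mem _ hr hs
      rw [map_add]
      convert this using 1
      ring
  refine IsLocalRing.of_isUnit_or_isUnit_one_sub_self fun t => ?_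
  obtain ⟨r, hr⟩ := hdecomp t
  by_cases hru : IsUnit r
  · left
    apply Groth.Agent.Lib.Helper3.isUnit_of_isUnit_mk (N := Ideal.jacobson ⊥) le_rfl
    rw [Ideal.Quotient.eq.mpr hr]
    exact (hru.map (algebraMap R (A₁ ⊗[R] A₂))).map _
  · right
    have h1 : IsUnit (1 - r) := (IsLocalRing.isUnit_or_isUnit_one_sub_self r).resolve_left hru
    apply Groth.Agent.Lib.Helper3.isUnit_of_isUnit_mk (N := Ideal.jacobson ⊥) le_rfl
    have h2 : (1 - t) - algebraMap R (A₁ ⊗[R] A₂) (1 - r) ∈
        Ideal.jacobson (⊥ : Ideal (A₁ ⊗[R] A₂)) := by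
      have := Ideal.neg_mem_iff _ |>.mpr hr
      convert this using 1
      rw [map_sub, map_one]
      ring
    rw [Ideal.Quotient.eq.mpr h2]
    exact (h1.map (algebraMap R (A₁ ⊗[R] A₂))).map _

end LocalTensor

section Hopf

variable (R : Type u) [CommRing R] [IsLocalRing R] (A : Type v) [CommRing A] [HopfAlgebra R A]
  [Module.Finite R A] (e : A)

instance finite_quot : Module.Finite R (A ⧸ Ideal.span ({1 - e} : Set A)) :=
  Module.Finite.of_surjective (Ideal.Quotient.mkₐ R (Ideal.span ({1 - e} : Set A))).toLinearMap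
    (Ideal.Quotient.mkₐ_surjective R _)

/-- The counit induces an augmentation of the unit component. -/
noncomputable def counitBar (hε : Bialgebra.counitAlgHom R A e = 1) :
    (A ⧸ Ideal.span ({1 - e} : Set A)) →ₐ[R] R :=
  Ideal.Quotient.liftₐ (Ideal.span ({1 - e} : Set A)) (Bialgebra.counitAlgHom R A) (by
    intro a ha
    obtain ⟨b, rfl⟩ := Ideal.mem_span_singleton'.mp ha
    rw [map_mul, map_sub, map_one, hε, sub_self, mul_zero])

theorem counitBar_mk (hε : Bialgebra.counitAlgHom R A e = 1) (a : A) :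
    counitBar R A e hε (Ideal.Quotient.mk _ a) = Bialgebra.counitAlgHom R A a := rfl

variable [IsLocalRing (A ⧸ Ideal.span ({1 - e} : Set A))]

theorem isLocalRing_tensor (hε : Bialgebra.counitAlgHom R A e = 1) :
    IsLocalRing ((A ⧸ Ideal.span ({1 - e} : Set A)) ⊗[R] (A ⧸ Ideal.span ({1 - e} : Set A))) :=
  isLocalRing_tensorProduct_of_retraction (counitBar R A e hε) (counitBar R A e hε)

/-- An idempotent of `A` on which the counit is `1` maps to `1` in the unit component. -/
theorem mk_eq_one_of_counit_eq_one (hε : Bialgebra.counitAlgHom R A e = 1) {x : A}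
    (hx : IsIdempotentElem x) (hxε : Bialgebra.counitAlgHom R A x = 1) :
    Ideal.Quotient.mk (Ideal.span ({1 - e} : Set A)) x = 1 := by
  rcases eq_zero_or_eq_one_of_isIdempotentElem
    (hx.map (Ideal.Quotient.mk (Ideal.span ({1 - e} : Set A)))) with h | h
  · exfalso
    have h1 := counitBar_mk R A e hε x
    rw [h, map_zero, hxε] at h1
    exact zero_ne_one h1
  · exact h

theorem map_comul_eq_one (he : IsIdempotentElem e) (hε : Bialgebra.counitAlgHom R A e = 1) :
    Algebra.TensorProduct.map (Ideal.Quotient.mkₐ R (Ideal.span ({1 - e} : Set A)))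
      (Ideal.Quotient.mkₐ R (Ideal.span ({1 - e} : Set A))) (Bialgebra.comulAlgHom R A e) = 1 := by
  haveI := isLocalRing_tensor R A e hε
  rcases eq_zero_or_eq_one_of_isIdempotentElem
    ((he.map (Bialgebra.comulAlgHom R A)).map (Algebra.TensorProduct.map
      (Ideal.Quotient.mkₐ R (Ideal.span ({1 - e} : Set A)))
      (Ideal.Quotient.mkₐ R (Ideal.span ({1 - e} : Set A))))) with h | h
  · exfalso
    have h1 := congrArg (Algebra.TensorProduct.lift (counitBar R A e hε) (counitBar R A e hε)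
      (fun _ _ => Commute.all _ _)) h
    rw [map_zero] at h1
    let 𝓡 := Coalgebra.Repr.arbitrary R e
    have h2 : Bialgebra.comulAlgHom R A e = ∑ i ∈ 𝓡.index, 𝓡.left i ⊗ₜ[R] 𝓡.right i := 𝓡.eq.symm
    rw [h2, map_sum, map_sum] at h1
    have h3 : ∀ i ∈ 𝓡.index, (Algebra.TensorProduct.lift (counitBar R A e hε) (counitBar R A e hε)
        (fun _ _ => Commute.all _ _)) ((Algebra.TensorProduct.map
          (Ideal.Quotient.mkₐ R (Ideal.span ({1 - e} : Set A)))
          (Ideal.Quotient.mkₐ R (Ideal.span ({1 - e} : Set A)))) (𝓡.left i ⊗ₜ[R] 𝓡.right i)) =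
        Bialgebra.counitAlgHom R A (Coalgebra.counit (R := R) (𝓡.left i) • 𝓡.right i) := by
      intro i _
      rw [Algebra.TensorProduct.map_tmul, Algebra.TensorProduct.lift_tmul, map_smul, smul_eq_mul]
      rfl
    rw [Finset.sum_congr rfl h3, ← map_sum, Coalgebra.sum_counit_smul 𝓡, hε] at h1
    exact one_ne_zero h1
  · exact h

/-- The ideal of the unit component is a Hopf ideal. -/
theorem isHopfIdeal (he : IsIdempotentElem e) (hε : Bialgebra.counitAlgHom R A e = 1) :
    (Ideal.span ({1 - e} : Set A)).IsHopfIdeal R := by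
  have hcomul : ∀ x ∈ Ideal.span ({1 - e} : Set A),
      Algebra.TensorProduct.map (Ideal.Quotient.mkₐ R (Ideal.span ({1 - e} : Set A)))
        (Ideal.Quotient.mkₐ R (Ideal.span ({1 - e} : Set A))) (Bialgebra.comulAlgHom R A x) = 0 := by
    intro x hx
    obtain ⟨b, rfl⟩ := Ideal.mem_span_singleton'.mp hx
    rw [map_mul, map_mul, map_sub, map_sub, map_one, map_one, map_comul_eq_one R A e he hε,
      sub_self, mul_zero]
  have hS : Bialgebra.counitAlgHom R A (HopfAlgebra.antipodeAlgHom R A e) = 1 := by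
    have : Bialgebra.counitAlgHom R A (HopfAlgebra.antipodeAlgHom R A e) =
        Coalgebra.counit (R := R) (HopfAlgebraStruct.antipode R e) := rfl
    rw [this, HopfAlgebra.counit_antipode]
    exact hε
  refine { counit_eq_zero := ?_, map_mkQ_comul_eq_zero := ?_, antipode_mem := ?_ }
  · intro x hx
    have hx' : x ∈ Ideal.span ({1 - e} : Set A) := hx
    obtain ⟨b, rfl⟩ := Ideal.mem_span_singleton'.mp hx'
    show Bialgebra.counitAlgHom R A (b * (1 - e)) = 0
    rw [map_mul, map_sub, map_one, hε, sub_self, mul_zero]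
  · intro x hx
    exact hcomul x hx
  · intro x hx
    obtain ⟨b, rfl⟩ := Ideal.mem_span_singleton'.mp hx
    have h1 := mk_eq_one_of_counit_eq_one R A e hε (he.map (HopfAlgebra.antipodeAlgHom R A)) hS
    have h2 : HopfAlgebra.antipodeAlgHom R A (1 - e) ∈ Ideal.span ({1 - e} : Set A) := by
      rw [← Ideal.Quotient.eq_zero_iff_mem, map_sub, map_one, map_sub, map_one, h1, sub_self]
    show HopfAlgebra.antipodeAlgHom R A (b * (1 - e)) ∈ _
    rw [map_mul]
    exact Ideal.mul_mem_left _ _ h2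

/-- The unit component is flat. -/
theorem flat_quot [Module.Flat R A] (he : IsIdempotentElem e) :
    Module.Flat R (A ⧸ Ideal.span ({1 - e} : Set A)) := by
  let i : (A ⧸ Ideal.span ({1 - e} : Set A)) →ₗ[R] A :=
    ((Ideal.span ({1 - e} : Set A)).restrictScalars R).liftQ
      (LinearMap.mulLeft R e) (by
        intro x hx
        have hx' : x ∈ Ideal.span ({1 - e} : Set A) := hx
        obtain ⟨b, rfl⟩ := Ideal.mem_span_singleton'.mp hx'
        rw [LinearMap.mem_ker, LinearMap.mulLeft_apply]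
        have : e * (b * (1 - e)) = b * (e - e * e) := by ring
        rw [this, he.eq, sub_self, mul_zero])
  refine Module.Flat.of_retract i (Ideal.Quotient.mkₐ R (Ideal.span ({1 - e} : Set A))).toLinearMap ?_
  ext x
  obtain ⟨a, rfl⟩ := Ideal.Quotient.mk_surjective x
  show Ideal.Quotient.mk (Ideal.span ({1 - e} : Set A)) (e * a) = Ideal.Quotient.mk _ a
  rw [Ideal.Quotient.eq, Ideal.mem_span_singleton']
  exact ⟨-a, by ring⟩

end Hopf

end Groth.Agent.Lib.Helper26.HopfUnitComp
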