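import Mathlib
import Groth.Prelude.Def_FlatMod2
import Groth.Agent.Lib.Helper17.StalkExact
import Groth.Agent.Lib.Helper9.StalkUnit
import Groth.Agent.Lib.Helper2.StalkFlat.Germs

/-!
# Sub-`O_X`-modules of the structure sheaf on a Noetherian scheme (helper26)

For an arbitrary (not necessarily quasi-coherent) submodule `G ⊆ O_X` of the structure sheaf of a
Noetherian scheme there are finitely many local sections of `G` whose germs generate every stalk.
-/

set_option autoImplicit false
universe u
open CategoryTheory AlgebraicGeometry Opposite TopologicalSpace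

namespace Groth.Agent.Lib.Helper26.IdealSubsheaf

open Groth.Agent.Lib.Helper3 Groth.Agent.Lib.Helper17.StalkExact Groth.Agent.Lib.Helper9.StalkUnit

section Alg

/-- For a Noetherian ring `A`, a prime `p` and an ideal `J`, a single `f ∉ p` multiplies the
contraction of `J A_p` into `J`. -/
theorem exists_mul_mem_of_localization {A S : Type*} [CommRing A] [IsNoetherianRing A]
    (p : Ideal A) [p.IsPrime] [CommRing S] [Algebra A S] [IsLocalization.AtPrime S p]
    (J : Ideal A) :
    ∃ f : A, f ∉ p ∧ ∀ b : A, algebraMap A S b ∈ J.map (algebraMap A S) → f * b ∈ J := by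
  classical
  set J' : Ideal A := (J.map (algebraMap A S)).comap (algebraMap A S) with hJ'
  obtain ⟨T, hT⟩ : J'.FG := IsNoetherian.noetherian J'
  have key : ∀ b ∈ J', ∃ f : A, f ∉ p ∧ f * b ∈ J := by
    intro b hb
    have hb' : algebraMap A S b ∈ J.map (algebraMap A S) := hb
    rw [IsLocalization.mem_map_algebraMap_iff p.primeCompl S] at hb'
    obtain ⟨⟨c, m⟩, hcm⟩ := hb'
    have h2 : algebraMap A S (b * m) = algebraMap A S c := by rw [map_mul]; exact hcm
    obtain ⟨m', hm'⟩ := (IsLocalization.eq_iff_exists p.primeCompl S).mp h2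
    refine ⟨m' * m, ?_, ?_⟩
    · exact (p.primeCompl.mul_mem m'.2 m.2)
    · have h3 : ((m' : A) * m) * b = m' * c := by rw [← hm']; ring
      rw [h3]; exact J.mul_mem_left _ c.2
  choose! g hg1 hg2 using key
  have hTJ' : ∀ t ∈ T, t ∈ J' := fun t ht => by rw [← hT]; exact Ideal.subset_span ht
  refine ⟨∏ t ∈ T, g t, ?_, ?_⟩
  · intro hmem
    obtain ⟨t, ht, htp⟩ := (Ideal.IsPrime.prod_mem_iff).mp hmem
    exact hg1 t (hTJ' t ht) htp
  · have hall : ∀ b ∈ Ideal.span (T : Set A), (∏ t ∈ T, g t) * b ∈ J := by
      intro b hbJ'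
      induction hbJ' using Submodule.span_induction with
      | mem t ht =>
        have e : (∏ t' ∈ T, g t') * t = (∏ t' ∈ T.erase t, g t') * (g t * t) := by
          rw [← Finset.mul_prod_erase T g ht]; ring
        rw [e]; exact J.mul_mem_left _ (hg2 t (hTJ' t ht))
      | zero => simp
      | add x y _ _ hx hy => rw [mul_add]; exact J.add_mem hx hy
      | smul a x _ hx => rw [smul_eq_mul, mul_left_comm]; exact J.mul_mem_left _ hx
    intro b hb
    exact hall b (by rw [hT]; exact hb)

end Alg

section Sheaf

variable {X : Scheme.{u}} {G : X.Modules} (ι : G ⟶ Coh.structureModule X)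

/-- the function attached to a section of `G` -/
noncomputable def aOf {U : X.Opens} (s : Γ(G, U)) : Γ(X, U) :=
  (show Γ(Coh.structureModule X, U) from ι.app U s)

/-- the stalk of `G` mapped into the local ring -/
noncomputable def theta (x : X) :
    G.presheaf.stalk x →ₗ[X.presheaf.stalk x] X.presheaf.stalk x where
  toFun m := unitStalkHom x (stalkLin ι x m)
  map_add' a b := by rw [map_add, map_add]
  map_smul' r m := by
    rw [map_smul, unitStalkHom_smul]; rfl

theorem theta_germ (x : X) (U : X.Opens) (hx : x ∈ U) (s : Γ(G, U)) :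
    theta ι x (G.presheaf.germ U x hx s) = X.presheaf.germ U x hx (aOf ι s) := by
  show unitStalkHom x (stalkLin ι x (G.presheaf.germ U x hx s)) = _
  rw [stalkLin_apply, QS.stalkMap_germ, unitStalkHom_germ]
  rfl

theorem theta_injective [Mono ι] (x : X) : Function.Injective (theta ι x) := fun _ _ h =>
  stalkLin_injective ι x (unitStalkHom_injective x h)

variable (G) in
/-- the germs at `y` of the members of `l` defined at `y` -/
def germSet (l : List (Σ U : X.Opens, Γ(G, U))) (y : X) : Set (G.presheaf.stalk y) :=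
  {g | ∃ e ∈ l, ∃ h : y ∈ e.1, g = G.presheaf.germ e.1 y h e.2}

variable (G) in
/-- the germs of the members of `l` generate the stalk at `y` -/
def Good (l : List (Σ U : X.Opens, Γ(G, U))) (y : X) : Prop :=
  Submodule.span (X.presheaf.stalk y) (germSet G l y) = ⊤

theorem Good.mono {l l' : List (Σ U : X.Opens, Γ(G, U))} (h : ∀ e ∈ l, e ∈ l') {y : X}
    (hg : Good G l y) : Good G l' y := by
  unfold Good at *
  rw [eq_top_iff, ← hg]
  apply Submodule.span_mono
  rintro g ⟨e, he, hy, rfl⟩
  exact ⟨e, h e he, hy, rfl⟩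

end Sheaf

end Groth.Agent.Lib.Helper26.IdealSubsheaf
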