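import Groth.Agent.Lib.Helper26.IdealSubsheaf

/-!
# Sub-`O_X`-modules of the structure sheaf on a Noetherian scheme, II (helper26)

The local lemma and the Noetherian induction.
-/

set_option autoImplicit false
universe u
open CategoryTheory AlgebraicGeometry Opposite TopologicalSpace

namespace Groth.Agent.Lib.Helper26.IdealSubsheaf

open Groth.Agent.Lib.Helper3 Groth.Agent.Lib.Helper17.StalkExact Groth.Agent.Lib.Helper9.StalkUnit

variable {X : Scheme.{u}} {G : X.Modules} (ι : G ⟶ Coh.structureModule X)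

theorem local_good [IsNoetherian X] [Mono ι] (η : X) :
    ∃ (l : List (Σ U : X.Opens, Γ(G, U))) (W : X.Opens), η ∈ W ∧
      ∀ y ∈ W, η ⤳ y → Good G l y := by
  classical
  have hinj := theta_injective ι η
  haveI : IsNoetherian (X.presheaf.stalk η) (G.presheaf.stalk η) :=
    isNoetherian_of_injective (theta ι η) hinj
  obtain ⟨T, hT⟩ := (IsNoetherian.noetherian
    (⊤ : Submodule (X.presheaf.stalk η) (G.presheaf.stalk η)))
  obtain ⟨W₀, -, hηW₀, σ₀, hσ₀⟩ :=
    Groth.Agent.Lib.Helper2.StalkFlat.exists_germ_finite G.presheaf η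
      (fun i : T => (i : G.presheaf.stalk η)) ⊤ trivial
  obtain ⟨V, hV, hηV, hVW₀⟩ := exists_isAffineOpen_mem_and_subset hηW₀
  have hVW₀' : V ≤ W₀ := hVW₀
  let t : T → Γ(G, V) := fun i => G.presheaf.map (homOfLE hVW₀').op (σ₀ i)
  have ht : ∀ i : T, G.presheaf.germ V η hηV (t i) = (i : G.presheaf.stalk η) := by
    intro i
    have := TopCat.Presheaf.germ_res_apply G.presheaf (homOfLE hVW₀') η hηV (σ₀ i)
    exact this.trans (hσ₀ i)
  haveI : IsNoetherianRing Γ(X, V) := IsLocallyNoetherian.component_noetherian ⟨V, hV⟩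
  letI _alg : Algebra Γ(X, V) (X.presheaf.stalk η) := X.presheaf.algebra_section_stalk ⟨η, hηV⟩
  haveI hloc : IsLocalization.AtPrime (X.presheaf.stalk η) (hV.primeIdealOf ⟨η, hηV⟩).asIdeal :=
    hV.isLocalization_stalk ⟨η, hηV⟩
  let a : T → Γ(X, V) := fun i => aOf ι (t i)
  let J : Ideal Γ(X, V) := Ideal.span (Set.range a)
  obtain ⟨f, hfp, hf⟩ := exists_mul_mem_of_localization (S := X.presheaf.stalk η)
    (hV.primeIdealOf ⟨η, hηV⟩).asIdeal J
  have hηf : η ∈ X.basicOpen f := by
    rw [X.mem_basicOpen f η hηV]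
    exact (IsLocalization.AtPrime.isUnit_to_map_iff (X.presheaf.stalk η)
      (hV.primeIdealOf ⟨η, hηV⟩).asIdeal f).mpr hfp
  -- every element of the stalk at `η` maps into `J O_η`
  have hspan : ∀ m : G.presheaf.stalk η,
      theta ι η m ∈ J.map (algebraMap Γ(X, V) (X.presheaf.stalk η)) := by
    intro m
    have hm : m ∈ Submodule.span (X.presheaf.stalk η) (T : Set (G.presheaf.stalk η)) :=
      hT ▸ Submodule.mem_top
    induction hm using Submodule.span_induction with
    | mem x hx =>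
      have h1 := ht ⟨x, hx⟩
      have h2 : theta ι η x = X.presheaf.germ V η hηV (a ⟨x, hx⟩) := by
        rw [← theta_germ]; exact congrArg _ h1.symm
      rw [h2]
      exact Ideal.mem_map_of_mem _ (Ideal.subset_span ⟨⟨x, hx⟩, rfl⟩)
    | zero => rw [map_zero]; exact Ideal.zero_mem _
    | add x y _ _ hx hy => rw [map_add]; exact Ideal.add_mem _ hx hy
    | smul r x _ hx => rw [map_smul, smul_eq_mul]; exact Ideal.mul_mem_left _ r hx
  refine ⟨((Finset.univ : Finset T).toList).map (fun i => ⟨V, t i⟩), X.basicOpen f, hηf, ?_⟩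
  intro y hyf hηy
  have hyV : y ∈ V := X.basicOpen_le f hyf
  unfold Good
  rw [eq_top_iff]
  intro g _
  obtain ⟨W', hyW', s', rfl⟩ := TopCat.Presheaf.exists_germ_eq G.presheaf g
  obtain ⟨h, hhle, hyh⟩ := hV.exists_basicOpen_le (V := W' ⊓ X.basicOpen f)
    ⟨y, ⟨hyW', hyf⟩⟩ hyV
  have hBW' : X.basicOpen h ≤ W' := hhle.trans inf_le_left
  have hBV : X.basicOpen h ≤ V := X.basicOpen_le h
  let t' : Γ(G, X.basicOpen h) := G.presheaf.map (homOfLE hBW').op s'
  have hgt' : G.presheaf.germ (X.basicOpen h) y hyh t' = G.presheaf.germ W' y hyW' s' :=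
    TopCat.Presheaf.germ_res_apply G.presheaf (homOfLE hBW') y hyh s'
  have hηB : η ∈ X.basicOpen h := hηy.mem_open (X.basicOpen h).isOpen hyh
  haveI := hV.isLocalization_basicOpen h
  obtain ⟨⟨a', ⟨_, N, rfl⟩⟩, ha'⟩ := IsLocalization.surj (Submonoid.powers h) (aOf ι t')
  have ha'' : aOf ι t' * X.presheaf.map (homOfLE hBV).op (h ^ N) =
      X.presheaf.map (homOfLE hBV).op a' := ha'
  -- `a'` lies in the contraction of `J O_η`
  have h2 : algebraMap Γ(X, V) (X.presheaf.stalk η) a' ∈
      J.map (algebraMap Γ(X, V) (X.presheaf.stalk η)) := by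
    have e1 : X.presheaf.germ V η hηV a' =
        X.presheaf.germ (X.basicOpen h) η hηB (X.presheaf.map (homOfLE hBV).op a') :=
      (TopCat.Presheaf.germ_res_apply X.presheaf (homOfLE hBV) η hηB a').symm
    show X.presheaf.germ V η hηV a' ∈ _
    rw [e1, ← ha'', map_mul]
    refine Ideal.mul_mem_right _ _ ?_
    rw [← theta_germ]
    exact hspan _
  have h3 : f * a' ∈ J := hf a' h2
  obtain ⟨c, hc⟩ : ∃ c : T → Γ(X, V), ∑ i, c i * a i = f * a' :=
    Ideal.mem_span_range_iff_exists_fun.mp h3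
  -- the computation at `y`
  have huf : IsUnit (X.presheaf.germ V y hyV f) := (X.mem_basicOpen f y hyV).mp hyf
  have huh : IsUnit (X.presheaf.germ V y hyV h) := (X.mem_basicOpen h y hyV).mp hyh
  have hu : IsUnit (X.presheaf.germ V y hyV f * (X.presheaf.germ V y hyV h) ^ N) :=
    huf.mul (huh.pow N)
  have e3 : X.presheaf.germ V y hyV a' =
      X.presheaf.germ (X.basicOpen h) y hyh (aOf ι t') * (X.presheaf.germ V y hyV h) ^ N := by
    rw [← TopCat.Presheaf.germ_res_apply X.presheaf (homOfLE hBV) y hyh a', ← ha'', map_mul,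
      TopCat.Presheaf.germ_res_apply, map_pow]
  have key : (X.presheaf.germ V y hyV f * (X.presheaf.germ V y hyV h) ^ N) •
      G.presheaf.germ (X.basicOpen h) y hyh t' =
      ∑ i, X.presheaf.germ V y hyV (c i) • G.presheaf.germ V y hyV (t i) := by
    apply theta_injective ι y
    rw [map_smul, map_sum, theta_germ, smul_eq_mul]
    have e2 : ∑ i, theta ι y (X.presheaf.germ V y hyV (c i) • G.presheaf.germ V y hyV (t i)) =
        X.presheaf.germ V y hyV (f * a') := by
      rw [← hc, map_sum]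
      refine Finset.sum_congr rfl (fun i _ => ?_)
      rw [map_smul, theta_germ, smul_eq_mul, map_mul]
    rw [e2, map_mul, e3]
    ring
  have hmem : (X.presheaf.germ V y hyV f * (X.presheaf.germ V y hyV h) ^ N) •
      G.presheaf.germ (X.basicOpen h) y hyh t' ∈
      Submodule.span (X.presheaf.stalk y)
        (germSet G (((Finset.univ : Finset T).toList).map (fun i => ⟨V, t i⟩)) y) := by
    rw [key]
    refine Submodule.sum_mem _ (fun i _ => Submodule.smul_mem _ _ (Submodule.subset_span ?_))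
    exact ⟨⟨V, t i⟩, List.mem_map.mpr ⟨i, Finset.mem_toList.mpr (Finset.mem_univ i), rfl⟩, hyV, rfl⟩
  rw [← hgt']
  have hfin := Submodule.smul_mem _ ((hu.unit⁻¹ : (X.presheaf.stalk y)ˣ) : X.presheaf.stalk y) hmem
  rwa [smul_smul, IsUnit.val_inv_mul, one_smul] at hfin

end Groth.Agent.Lib.Helper26.IdealSubsheaf
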