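import Groth.Agent.Lib.Helper26.IdealSubsheaf2

/-!
# Sub-`O_X`-modules of the structure sheaf on a Noetherian scheme, III (helper26)

Noetherian induction: finitely many local sections generate all stalks.
-/

set_option autoImplicit false
universe u
open CategoryTheory AlgebraicGeometry Opposite TopologicalSpace

namespace Groth.Agent.Lib.Helper26.IdealSubsheaf

variable {X : Scheme.{u}} {G : X.Modules} (ι : G ⟶ Coh.structureModule X)

theorem exists_good_list [IsNoetherian X] [Mono ι] :
    ∃ l : List (Σ U : X.Opens, Γ(G, U)), ∀ y : X, Good G l y := by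
  haveI : NoetherianSpace X := inferInstance
  have main : ∀ Z : Closeds X,
      ∃ l : List (Σ U : X.Opens, Γ(G, U)), ∀ y ∈ Z, Good G l y := by
    intro Z
    induction Z using WellFoundedLT.induction with
    | _ Z IH =>
    by_cases hne : (Z : Set X).Nonempty
    swap
    · exact ⟨[], fun y hy => (hne ⟨y, hy⟩).elim⟩
    by_cases hirr : IsPreirreducible (Z : Set X)
    · have hZirr : IsIrreducible (Z : Set X) := ⟨hne, hirr⟩
      obtain ⟨η, hη⟩ := QuasiSober.sober hZirr Z.isClosed
      obtain ⟨l₁, W, hηW, hW⟩ := local_good ι η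
      let Z' : Closeds X := ⟨(Z : Set X) \ W, Z.isClosed.sdiff W.isOpen⟩
      have hηZ : η ∈ (Z : Set X) := by
        rw [← hη.def]; exact subset_closure (Set.mem_singleton η)
      have hlt : Z' < Z := by
        refine lt_of_le_of_ne (fun y hy => hy.1) ?_
        intro heq
        have h1 : η ∈ (Z' : Set X) := by rw [heq]; exact hηZ
        exact h1.2 hηW
      obtain ⟨l₂, hl₂⟩ := IH Z' hlt
      refine ⟨l₁ ++ l₂, fun y hy => ?_⟩
      by_cases hyW : y ∈ W
      · have hspec : η ⤳ y := specializes_iff_mem_closure.mpr (by rw [hη.def]; exact hy)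
        exact (hW y hyW hspec).mono (fun e he => List.mem_append_left _ he)
      · exact (hl₂ y ⟨hy, hyW⟩).mono (fun e he => List.mem_append_right _ he)
    · rw [isPreirreducible_iff_isClosed_union_isClosed] at hirr
      push_neg at hirr
      obtain ⟨z₁, z₂, hz₁, hz₂, hsub, hn₁, hn₂⟩ := hirr
      let Z₁ : Closeds X := ⟨(Z : Set X) ∩ z₁, Z.isClosed.inter hz₁⟩
      let Z₂ : Closeds X := ⟨(Z : Set X) ∩ z₂, Z.isClosed.inter hz₂⟩
      have hlt₁ : Z₁ < Z := by
        refine lt_of_le_of_ne (fun y hy => hy.1) ?_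
        intro heq
        refine hn₁ (fun y hy => ?_)
        have h1 : y ∈ (Z₁ : Set X) := by rw [heq]; exact hy
        exact h1.2
      have hlt₂ : Z₂ < Z := by
        refine lt_of_le_of_ne (fun y hy => hy.1) ?_
        intro heq
        refine hn₂ (fun y hy => ?_)
        have h1 : y ∈ (Z₂ : Set X) := by rw [heq]; exact hy
        exact h1.2
      obtain ⟨l₁, hl₁⟩ := IH Z₁ hlt₁
      obtain ⟨l₂, hl₂⟩ := IH Z₂ hlt₂
      refine ⟨l₁ ++ l₂, fun y hy => ?_⟩
      rcases hsub hy with h | h
      · exact (hl₁ y ⟨hy, h⟩).mono (fun e he => List.mem_append_left _ he)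
      · exact (hl₂ y ⟨hy, h⟩).mono (fun e he => List.mem_append_right _ he)
  obtain ⟨l, hl⟩ := main ⊤
  exact ⟨l, fun y => hl y trivial⟩

end Groth.Agent.Lib.Helper26.IdealSubsheaf
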