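import Mathlib
import Groth.Agent.Lib.Helper26.NbhdDescent

/-!
# Étale-local lifting of idempotents of integral algebras (helper26)
-/

set_option autoImplicit false
universe u v

namespace Groth.Agent.Lib.Helper26.IdemNbhd

open Polynomial TensorProduct Groth.Agent.Lib.Helper26.PairHensConstr
  Groth.Agent.Lib.Helper26.PairHensNbhd Groth.Agent.Lib.Helper26.PairHensOps
  Groth.Agent.Lib.Helper26.HenselTFAE Groth.Agent.Lib.Helper26.HenselIdem
  Groth.Agent.Lib.Helper26.NbhdDescent

variable {A : Type u} [CommRing A]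

/-- An element `b` of an integral algebra with `b² - b ∈ IB`: `b² - b` is killed by a monic
polynomial whose lower coefficients are in `I`. -/
theorem exists_monic_kill (I : Ideal A) {B : Type v} [CommRing B] [Algebra A B]
    [Algebra.IsIntegral A B] (b : B) (hb : b * b - b ∈ I.map (algebraMap A B)) :
    ∃ g₀ : A[X], g₀.Monic ∧ (∀ k < g₀.natDegree, g₀.coeff k ∈ I) ∧
      aeval (b * b - b) g₀ = 0 := by
  classical
  have step1 : ∀ x ∈ I • (⊤ : Submodule A B), ∃ T : Finset B,
      x ∈ I • Submodule.span A (T : Set B) := by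
    intro x hx
    refine Submodule.smul_induction_on hx ?_ ?_
    · intro i hi c _
      exact ⟨{c}, Submodule.smul_mem_smul hi (Submodule.subset_span (by simp))⟩
    · intro x y hx hy
      obtain ⟨T₁, h₁⟩ := hx
      obtain ⟨T₂, h₂⟩ := hy
      refine ⟨T₁ ∪ T₂, Submodule.add_mem _ ?_ ?_⟩
      · exact Submodule.smul_mono le_rfl (Submodule.span_mono (by simp)) h₁
      · exact Submodule.smul_mono le_rfl (Submodule.span_mono (by simp)) h₂
  have hb' : b * b - b ∈ I • (⊤ : Submodule A B) := by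
    rw [Ideal.smul_top_eq_map]; exact hb
  obtain ⟨T, hT⟩ := step1 _ hb'
  let B' : Subalgebra A B := Algebra.adjoin A (insert b (T : Set B))
  have hB'fg : B'.toSubmodule.FG := by
    apply fg_adjoin_of_finite
    · exact (Finset.finite_toSet T).insert b
    · intro x _; exact Algebra.IsIntegral.isIntegral x
  haveI : Module.Finite A B' := ⟨(Submodule.fg_top _).mpr hB'fg⟩
  have hbB' : b ∈ B' := Algebra.subset_adjoin (Set.mem_insert _ _)
  let b' : B' := ⟨b, hbB'⟩
  have hx1 : b * b - b ∈ I • B'.toSubmodule := by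
    refine Submodule.smul_mono le_rfl ?_ hT
    rw [Submodule.span_le]
    intro t ht
    exact Algebra.subset_adjoin (Set.mem_insert_of_mem _ ht)
  have hx2 : b' * b' - b' ∈ I.map (algebraMap A B') := by
    have h1 : Submodule.map B'.val.toLinearMap (I • (⊤ : Submodule A B')) =
        I • B'.toSubmodule := by
      rw [Submodule.map_smul'', Submodule.map_top]
      congr 1
      ext y
      simp
    rw [← h1] at hx1
    obtain ⟨z, hz, hzx⟩ := hx1
    have hzeq : z = b' * b' - b' := by
      apply Subtype.ext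
      rw [← Subalgebra.coe_val, ← AlgHom.toLinearMap_apply, hzx]
      rfl
    rw [← hzeq]
    rw [Ideal.smul_top_eq_map] at hz
    exact hz
  have hrange : LinearMap.range (Algebra.lmul A B' (b' * b' - b')) ≤ I • (⊤ : Submodule A B') := by
    rintro _ ⟨y, rfl⟩
    rw [Ideal.smul_top_eq_map]
    exact Ideal.mul_mem_right _ _ hx2
  obtain ⟨g₀, hmonic, -, hcoef, hzero⟩ :=
    LinearMap.exists_monic_and_natDegree_eq_and_coeff_mem_pow_and_aeval_eq_zero A
      (Algebra.lmul A B' (b' * b' - b')) I hrange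
  have hcoef' : ∀ k < g₀.natDegree, g₀.coeff k ∈ I := by
    intro k hk
    exact Ideal.pow_le_self (by omega) (hcoef k)
  have hzero' : aeval (b' * b' - b') g₀ = 0 := by
    rw [Polynomial.aeval_algHom_apply] at hzero
    have := LinearMap.congr_fun hzero 1
    simpa using this
  refine ⟨g₀, hmonic, hcoef', ?_⟩
  have := congrArg B'.val hzero'
  rw [← Polynomial.aeval_algHom_apply, map_zero] at this
  exact this

/-- The monic polynomial `F ≡ Xʳ (X - 1)ʳ` killing `b`. -/
theorem exists_F [Nontrivial A] (I : Ideal A) {E : Type*} [Ring E] [Algebra A E] (b : E)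
    (g₀ : A[X]) (hg₀ : g₀.Monic) (hcoef : ∀ k < g₀.natDegree, g₀.coeff k ∈ I)
    (hzero : aeval (b * b - b) g₀ = 0) :
    ∃ (F : A[X]) (r : ℕ), 0 < r ∧ F.Monic ∧
      F.map (Ideal.Quotient.mk I) = X ^ r * (X - 1) ^ r ∧ aeval b F = 0 := by
  set r := g₀.natDegree + 1 with hr
  have hg₀map : g₀.map (Ideal.Quotient.mk I) = X ^ g₀.natDegree := by
    ext k
    rw [Polynomial.coeff_map, Polynomial.coeff_X_pow]
    rcases lt_trichotomy k g₀.natDegree with hk | hk | hk
    · rw [if_neg hk.ne, Ideal.Quotient.eq_zero_iff_mem]; exact hcoef k hk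
    · rw [if_pos hk, hk, hg₀.coeff_natDegree, map_one]
    · rw [if_neg hk.ne', Polynomial.coeff_eq_zero_of_natDegree_lt hk, map_zero]
  have hq : (X ^ 2 - X : A[X]).Monic := by
    apply Polynomial.monic_X_pow_sub
    exact lt_of_le_of_lt Polynomial.degree_X_le (by norm_num)
  have hqdeg : (X ^ 2 - X : A[X]).natDegree ≠ 0 := by
    rw [Polynomial.natDegree_sub_eq_left_of_natDegree_lt]
    · simp
    · simp
  set F := (X * g₀).comp (X ^ 2 - X) with hFdef
  have hFm : F.Monic := ((Polynomial.monic_X).mul hg₀).comp hq hqdeg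
  have hFmap : F.map (Ideal.Quotient.mk I) = X ^ r * (X - 1) ^ r := by
    rw [hFdef, Polynomial.map_comp, Polynomial.map_mul, hg₀map, Polynomial.map_X,
      ← pow_succ', Polynomial.X_pow_comp, ← mul_pow]
    congr 1
    simp; ring
  have hFb : aeval b F = 0 := by
    rw [hFdef, Polynomial.aeval_comp]
    have : aeval b (X ^ 2 - X : A[X]) = b * b - b := by simp [sq]
    rw [this, map_mul, hzero, mul_zero]
  exact ⟨F, r, Nat.succ_pos _, hFm, hFmap, hFb⟩

/-- Étale-local lifting of idempotents for integral algebras. -/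
theorem exists_nbhd_idempotent {B : Type u} [CommRing B] [Algebra A B] [Algebra.IsIntegral A B]
    (I : Ideal A) (b : B) (hb : b * b - b ∈ I.map (algebraMap A B)) :
    ∃ (A' : Type u) (_ : CommRing A') (_ : Algebra A A') (_ : Algebra.Etale A A'), QuotBij I A' ∧
      ∃ e' : A' ⊗[A] B, IsIdempotentElem e' ∧
        e' - 1 ⊗ₜ b ∈ I.map (algebraMap A (A' ⊗[A] B)) := by
  classical
  rcases subsingleton_or_nontrivial A with hs | hnt
  · obtain ⟨N, _, _, _, hN, -⟩ := exists_nbhd_finset I ∅
    have h0 : ∀ x : N ⊗[A] B, x = 0 := fun x => by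
      have h1 : (1 : A) = 0 := Subsingleton.elim _ _
      rw [← one_smul A x, h1, zero_smul]
    refine ⟨N, inferInstance, inferInstance, inferInstance, hN, 0, ?_, ?_⟩
    · exact IsIdempotentElem.zero
    · rw [h0 (0 - 1 ⊗ₜ b)]; exact zero_mem _
  obtain ⟨g₀, hg₀, hcoef, hzero⟩ := exists_monic_kill I b hb
  obtain ⟨F, r, hr, hFm, hFmap, hFb⟩ := exists_F I b g₀ hg₀ hcoef hzero
  have hI : I.map (algebraMap A (PH A I)) ≤ Ideal.jacobson ⊥ := map_le_jacobson_PH
  have hFHmap : (F.map (algebraMap A (PH A I))).map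
      (Ideal.Quotient.mk (I.map (algebraMap A (PH A I)))) = X ^ r * (X - 1) ^ r := by
    have h1 : (Ideal.Quotient.mk (I.map (algebraMap A (PH A I)))).comp (algebraMap A (PH A I))
        = (θ I).comp (Ideal.Quotient.mk I) := by
      ext a
      simp [θ_mk]
    rw [Polynomial.map_map, h1, ← Polynomial.map_map, hFmap]
    simp
  obtain ⟨w, ⟨q, hq⟩, h0, h1⟩ := exists_splitting _ hI (liftsFactorizations_PH I) r hr _
    (hFm.map _) hFHmap
  obtain ⟨N, _, _, _, hN, φ, hφ⟩ := exists_nbhd_finset I (w.coeffs ∪ q.coeffs)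
  obtain ⟨wN, hwN⟩ := exists_map_eq_of_coeffs I φ w
    (fun x hx => hφ x (Finset.mem_union_left _ hx))
  obtain ⟨qN, hqN⟩ := exists_map_eq_of_coeffs I φ q
    (fun x hx => hφ x (Finset.mem_union_right _ hx))
  have hφA : (φ : N →+* PH A I).comp (algebraMap A N) = algebraMap A (PH A I) :=
    φ.comp_algebraMap
  have hzmap : (wN * wN - wN - F.map (algebraMap A N) * qN).map (φ : N →+* PH A I) = 0 := by
    rw [Polynomial.map_sub, Polynomial.map_sub, Polynomial.map_mul, Polynomial.map_mul, hwN,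
      hqN, Polynomial.map_map, hφA, hq, sub_self]
  obtain ⟨N', _, _, _, hN', ψ, φ', hφ'ψ, hψ⟩ := exists_nbhd_kill I hN φ
    (wN * wN - wN - F.map (algebraMap A N) * qN).coeffs (coeffs_map_eq_zero _ _ hzmap)
  have hzψ := map_eq_zero_of_coeffs (ψ : N →+* N') _ hψ
  have hψA : (ψ : N →+* N').comp (algebraMap A N) = algebraMap A N' := ψ.comp_algebraMap
  have hrel : wN.map (ψ : N →+* N') * wN.map (ψ : N →+* N') - wN.map (ψ : N →+* N')
      = F.map (algebraMap A N') * qN.map (ψ : N →+* N') := by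
    rw [Polynomial.map_sub, Polynomial.map_sub, Polynomial.map_mul, Polynomial.map_mul,
      Polynomial.map_map, hψA] at hzψ
    exact sub_eq_zero.mp hzψ
  have hw'φ : (wN.map (ψ : N →+* N')).map (φ' : N' →+* PH A I) = w := by
    rw [Polynomial.map_map]
    have : (φ' : N' →+* PH A I).comp (ψ : N →+* N') = (φ : N →+* PH A I) := by
      rw [← hφ'ψ]; rfl
    rw [this, hwN]
  have h0' : (wN.map (ψ : N →+* N')).eval 0 ∈ I.map (algebraMap A N') := by
    apply mem_map_of_map_mem I hN' φ'
    have : (φ' : N' →+* PH A I) ((wN.map (ψ : N →+* N')).eval 0) = w.eval 0 := by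
      rw [← Polynomial.eval_map_apply, hw'φ, map_zero]
    show (φ' : N' →+* PH A I) ((wN.map (ψ : N →+* N')).eval 0) ∈ _
    rw [this]; exact h0
  have h1' : (wN.map (ψ : N →+* N')).eval 1 - 1 ∈ I.map (algebraMap A N') := by
    apply mem_map_of_map_mem I hN' φ'
    have : (φ' : N' →+* PH A I) ((wN.map (ψ : N →+* N')).eval 1 - 1) = w.eval 1 - 1 := by
      rw [map_sub, map_one, ← Polynomial.eval_map_apply, hw'φ, map_one]
    show (φ' : N' →+* PH A I) ((wN.map (ψ : N →+* N')).eval 1 - 1) ∈ _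
    rw [this]; exact h1
  have hβeq : ((1 : N') ⊗ₜ[A] b) = (Algebra.TensorProduct.includeRight : B →ₐ[A] N' ⊗[A] B) b :=
    rfl
  refine ⟨N', inferInstance, inferInstance, inferInstance, hN',
    aeval ((1 : N') ⊗ₜ[A] b) (wN.map (ψ : N →+* N')), ?_, ?_⟩
  · have hFβ : aeval ((1 : N') ⊗ₜ[A] b) (F.map (algebraMap A N')) = 0 := by
      rw [Polynomial.aeval_map_algebraMap, hβeq, Polynomial.aeval_algHom_apply, hFb, map_zero]
    have := congrArg (aeval ((1 : N') ⊗ₜ[A] b)) hrel
    rw [map_sub, map_mul, map_mul, hFβ, zero_mul, sub_eq_zero] at this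
    exact this
  · have hmapJ : (I.map (algebraMap A N')).map (algebraMap N' (N' ⊗[A] B))
        = I.map (algebraMap A (N' ⊗[A] B)) := by
      rw [Ideal.map_map, ← IsScalarTower.algebraMap_eq]
    have hβ : ((1 : N') ⊗ₜ[A] b) * ((1 : N') ⊗ₜ[A] b) - (1 : N') ⊗ₜ[A] b
        ∈ I.map (algebraMap A (N' ⊗[A] B)) := by
      have h := algHom_map_mem I (Algebra.TensorProduct.includeRight : B →ₐ[A] N' ⊗[A] B) hb
      rw [map_sub, map_mul] at h
      exact h
    have := map_aeval_eq (I.map (algebraMap A N'))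
      (Ideal.Quotient.mkₐ N' (I.map (algebraMap A (N' ⊗[A] B)))) (by
        intro i hi
        rw [IsScalarTower.algebraMap_apply N' (N' ⊗[A] B)
          ((N' ⊗[A] B) ⧸ I.map (algebraMap A (N' ⊗[A] B))), Ideal.Quotient.algebraMap_eq,
          Ideal.Quotient.eq_zero_iff_mem, ← hmapJ]
        exact Ideal.mem_map_of_mem _ hi) ((1 : N') ⊗ₜ[A] b) (by
        show Ideal.Quotient.mk _ _ * Ideal.Quotient.mk _ _ = Ideal.Quotient.mk _ _
        rw [← map_mul, Ideal.Quotient.eq]; exact hβ) (wN.map (ψ : N →+* N')) h0' h1'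
    exact Ideal.Quotient.eq.mp this

end Groth.Agent.Lib.Helper26.IdemNbhd
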