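import Mathlib
import Groth.Prelude.Def_Smoothing

/-!
# Ind-smooth base change commutes with integral closure

`Smoothing.IndSmooth R S` (factorisation form) implies `S` is `R`-flat, and
`TensorProduct.toIntegralClosure R S B` is bijective for all `B`.
-/

set_option autoImplicit false

namespace Groth.Agent.Lib.Helper26.IndSmoothIC

universe u

open TensorProduct

section basic

variable {R : Type*} [CommRing R] {P Q T : Type*} [CommRing P] [Algebra R P] [CommRing Q]
  [Algebra R Q] [CommRing T] [Algebra R T] (B : Type*) [CommRing B] [Algebra R B]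

lemma map_id_eq_rTensor (φ : P →ₐ[R] Q) (t : P ⊗[R] B) :
    Algebra.TensorProduct.map φ (AlgHom.id R B) t = LinearMap.rTensor B φ.toLinearMap t := by
  induction t with
  | zero => simp
  | tmul a b => simp
  | add a b ha hb => simp only [map_add, ha, hb]

lemma rT_comp (ψ : Q →ₐ[R] T) (φ : P →ₐ[R] Q) (t : P ⊗[R] B) :
    LinearMap.rTensor B (ψ.comp φ).toLinearMap t =
      LinearMap.rTensor B ψ.toLinearMap (LinearMap.rTensor B φ.toLinearMap t) := by
  rw [AlgHom.comp_toLinearMap, LinearMap.rTensor_comp_apply]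

lemma map_map_id (ψ : Q →ₐ[R] T) (φ : P →ₐ[R] Q) (t : P ⊗[R] B) :
    Algebra.TensorProduct.map ψ (AlgHom.id R B) (Algebra.TensorProduct.map φ (AlgHom.id R B) t) =
      Algebra.TensorProduct.map (ψ.comp φ) (AlgHom.id R B) t := by
  rw [map_id_eq_rTensor, map_id_eq_rTensor, map_id_eq_rTensor, rT_comp]

lemma algebraMap_comp_map (φ : P →ₐ[R] Q) :
    (algebraMap Q (Q ⊗[R] B)).comp (φ : P →+* Q) =
      ((Algebra.TensorProduct.map φ (AlgHom.id R B) : P ⊗[R] B →ₐ[R] Q ⊗[R] B) :
        P ⊗[R] B →+* Q ⊗[R] B).comp (algebraMap P (P ⊗[R] B)) := by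
  ext x
  simp [Algebra.TensorProduct.algebraMap_apply]

lemma map_aeval (φ : P →ₐ[R] Q) (q : Polynomial P) (a : P ⊗[R] B) :
    Algebra.TensorProduct.map φ (AlgHom.id R B) (Polynomial.aeval a q) =
      Polynomial.aeval (Algebra.TensorProduct.map φ (AlgHom.id R B) a)
        (q.map (φ : P →+* Q)) :=
  Polynomial.map_aeval_eq_aeval_map (algebraMap_comp_map B φ) q a

lemma isIntegral_map (φ : P →ₐ[R] Q) {a : P ⊗[R] B} (ha : IsIntegral P a) :
    IsIntegral Q (Algebra.TensorProduct.map φ (AlgHom.id R B) a) :=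
  IsIntegral.map_of_comp_eq (φ : P →+* Q) _ (algebraMap_comp_map B φ) ha

lemma rT_mono {J J' : Ideal P} (h : J ≤ J') (z : P ⊗[R] B)
    (hz : LinearMap.rTensor B (Ideal.Quotient.mkₐ R J).toLinearMap z = 0) :
    LinearMap.rTensor B (Ideal.Quotient.mkₐ R J').toLinearMap z = 0 := by
  rw [← Ideal.Quotient.factorₐ_comp_mk R h, rT_comp, hz, map_zero]

theorem exists_fg_ideal_of_ker (φ : P →ₐ[R] Q)
    (t : (LinearMap.ker φ.toLinearMap) ⊗[R] B) :
    ∃ J : Ideal P, J.FG ∧ J ≤ RingHom.ker φ ∧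
      LinearMap.rTensor B (Ideal.Quotient.mkₐ R J).toLinearMap
        (LinearMap.rTensor B (LinearMap.ker φ.toLinearMap).subtype t) = 0 := by
  induction t with
  | zero => exact ⟨⊥, Submodule.fg_bot, bot_le, by simp⟩
  | tmul x b =>
    refine ⟨Ideal.span {x.1}, Submodule.fg_span_singleton x.1, ?_, ?_⟩
    · rw [Ideal.span_singleton_le_iff_mem, RingHom.mem_ker]
      exact LinearMap.mem_ker.mp x.2
    · rw [LinearMap.rTensor_tmul, LinearMap.rTensor_tmul]
      have h0 : (Ideal.Quotient.mkₐ R (Ideal.span {x.1})).toLinearMap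
          ((LinearMap.ker φ.toLinearMap).subtype x) = 0 := by
        simp only [Submodule.subtype_apply, AlgHom.toLinearMap_apply, Ideal.Quotient.mkₐ_eq_mk]
        exact Ideal.Quotient.eq_zero_iff_mem.mpr (Ideal.subset_span rfl)
      rw [h0, zero_tmul]
  | add t₁ t₂ h₁ h₂ =>
    obtain ⟨J₁, hJ₁fg, hJ₁le, hJ₁⟩ := h₁
    obtain ⟨J₂, hJ₂fg, hJ₂le, hJ₂⟩ := h₂
    refine ⟨J₁ ⊔ J₂, Submodule.FG.sup hJ₁fg hJ₂fg, sup_le hJ₁le hJ₂le, ?_⟩
    rw [map_add, map_add, rT_mono B le_sup_left _ hJ₁, rT_mono B le_sup_right _ hJ₂, add_zero]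

lemma toIC_coe {S : Type*} [CommRing S] [Algebra R S] (t : S ⊗[R] integralClosure R B) :
    ((TensorProduct.toIntegralClosure R S B t : integralClosure S (S ⊗[R] B)) : S ⊗[R] B) =
      Algebra.TensorProduct.map (AlgHom.id S S) (integralClosure R B).val t := rfl

lemma comm_sq {C S : Type*} [CommRing C] [Algebra R C] [CommRing S] [Algebra R S]
    (h : C →ₐ[R] S) (t : C ⊗[R] integralClosure R B) :
    ((TensorProduct.toIntegralClosure R S B
        (Algebra.TensorProduct.map h (AlgHom.id R (integralClosure R B)) t) :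
          integralClosure S (S ⊗[R] B)) : S ⊗[R] B) =
      Algebra.TensorProduct.map h (AlgHom.id R B)
        ((TensorProduct.toIntegralClosure R C B t : integralClosure C (C ⊗[R] B)) : C ⊗[R] B) := by
  rw [toIC_coe, toIC_coe]
  induction t with
  | zero => simp
  | tmul c x => simp
  | add a b ha hb => simp only [map_add, ha, hb]

end basic

/-- Ind-smooth algebras are flat (equational criterion). -/
theorem flat_of_indSmooth (R : Type u) [CommRing R] (S : Type u) [CommRing S] [Algebra R S]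
    (hS : Smoothing.IndSmooth R S) : Module.Flat R S := by
  classical
  refine Module.Flat.of_forall_isTrivialRelation ?_
  intro l r x hx
  let q : MvPolynomial (Fin l) R := ∑ i, r i • MvPolynomial.X i
  let J : Ideal (MvPolynomial (Fin l) R) := Ideal.span {q}
  have hJ : J.FG := Submodule.fg_span_singleton q
  haveI : Algebra.FinitePresentation R (MvPolynomial (Fin l) R ⧸ J) :=
    Algebra.FinitePresentation.quotient hJ
  let f₀ : MvPolynomial (Fin l) R →ₐ[R] S := MvPolynomial.aeval x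
  have hf₀q : f₀ q = 0 := by
    simpa [f₀, q, map_sum, map_smul] using hx
  have hf₀ : ∀ a ∈ J, f₀ a = 0 := by
    intro a ha
    have hle : J ≤ RingHom.ker f₀ := by
      rw [Ideal.span_singleton_le_iff_mem, RingHom.mem_ker]
      exact hf₀q
    exact RingHom.mem_ker.mp (hle ha)
  let f : (MvPolynomial (Fin l) R ⧸ J) →ₐ[R] S := Ideal.Quotient.liftₐ J f₀ hf₀
  obtain ⟨C, _, _, hC, g, h, hgh⟩ := hS _ inferInstance f
  haveI := hC
  let φ : MvPolynomial (Fin l) R →ₐ[R] C := g.comp (Ideal.Quotient.mkₐ R J)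
  have hφq : φ q = 0 := by
    have h0 : Ideal.Quotient.mkₐ R J q = 0 := by
      rw [Ideal.Quotient.mkₐ_eq_mk]
      exact Ideal.Quotient.eq_zero_iff_mem.mpr (Ideal.subset_span rfl)
    show g (Ideal.Quotient.mkₐ R J q) = 0
    rw [h0, map_zero]
  have hz : ∑ i, r i • φ (MvPolynomial.X i) = 0 := by
    rw [← hφq]
    simp [q, map_sum, map_smul]
  obtain ⟨k, a, y, hxy, ha⟩ := Module.Flat.isTrivialRelation_of_sum_smul_eq_zero (R := R) (M := C) hz
  refine ⟨k, a, fun j => h (y j), ?_, ha⟩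
  intro i
  have hxi : x i = h (φ (MvPolynomial.X i)) := by
    have h1 : h (g (Ideal.Quotient.mkₐ R J (MvPolynomial.X i))) =
        f (Ideal.Quotient.mkₐ R J (MvPolynomial.X i)) := AlgHom.congr_fun hgh _
    show x i = h (g (Ideal.Quotient.mkₐ R J (MvPolynomial.X i)))
    rw [h1]
    simp [f, f₀]
  have hxy' : φ (MvPolynomial.X i) = ∑ j, a i j • y j := hxy i
  rw [hxi, hxy', map_sum]
  simp [map_smul]

/-- Finite presentation approximation of a vanishing tensor. -/
theorem exists_fp_of_rTensor_eq_zero {R : Type u} [CommRing R] {S : Type u} [CommRing S]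
    [Algebra R S] {B : Type u} [CommRing B] [Algebra R B] {σ : Type} [Finite σ]
    (f₀ : MvPolynomial σ R →ₐ[R] S) (w : MvPolynomial σ R ⊗[R] B)
    (hw : LinearMap.rTensor B f₀.toLinearMap w = 0) :
    ∃ (P' : Type u) (_ : CommRing P') (_ : Algebra R P'), Algebra.FinitePresentation R P' ∧
      ∃ (g : MvPolynomial σ R →ₐ[R] P') (f' : P' →ₐ[R] S), f'.comp g = f₀ ∧
        LinearMap.rTensor B g.toLinearMap w = 0 := by
  classical
  have hA : (f₀.range).FG := by
    rw [← Algebra.map_top]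
    exact Subalgebra.FG.map f₀ Algebra.FiniteType.out
  have hwA : LinearMap.rTensor B f₀.range.val.toLinearMap
      (LinearMap.rTensor B f₀.rangeRestrict.toLinearMap w) =
      LinearMap.rTensor B f₀.range.val.toLinearMap 0 := by
    rw [← rT_comp, AlgHom.val_comp_rangeRestrict, hw, map_zero]
  obtain ⟨A', hAA', hA'fg, hA'⟩ := TensorProduct.Algebra.eq_of_fg_of_subtype_eq hA hwA
  rw [map_zero] at hA'
  haveI hft : Algebra.FiniteType R A' := (Subalgebra.fg_iff_finiteType A').mp hA'fg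
  obtain ⟨n, π, hπ⟩ := Algebra.FiniteType.iff_quotient_mvPolynomial''.mp hft
  let ι : MvPolynomial σ R →ₐ[R] A' := (Subalgebra.inclusion hAA').comp f₀.rangeRestrict
  let f₁ : MvPolynomial (σ ⊕ Fin n) R →ₐ[R] A' :=
    MvPolynomial.aeval (Sum.elim (fun i => ι (MvPolynomial.X i)) (fun j => π (MvPolynomial.X j)))
  let g₁ : MvPolynomial σ R →ₐ[R] MvPolynomial (σ ⊕ Fin n) R := MvPolynomial.rename Sum.inl
  have hf₁g₁ : f₁.comp g₁ = ι := by
    apply MvPolynomial.algHom_ext
    intro i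
    simp [f₁, g₁]
  have hf₁π : f₁.comp (MvPolynomial.rename Sum.inr) = π := by
    apply MvPolynomial.algHom_ext
    intro j
    simp [f₁]
  have hf₁surj : Function.Surjective f₁.toLinearMap := by
    intro a
    obtain ⟨q, rfl⟩ := hπ a
    exact ⟨MvPolynomial.rename Sum.inr q, by rw [← hf₁π]; rfl⟩
  have hw₁ : LinearMap.rTensor B f₁.toLinearMap (LinearMap.rTensor B g₁.toLinearMap w) = 0 := by
    rw [← rT_comp, hf₁g₁]
    show LinearMap.rTensor B
      ((Subalgebra.inclusion hAA').comp f₀.rangeRestrict).toLinearMap w = 0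
    rw [rT_comp, hA']
  have hex := rTensor_exact B (LinearMap.exact_subtype_ker_map f₁.toLinearMap) hf₁surj
  obtain ⟨t, ht⟩ := (hex _).mp hw₁
  obtain ⟨J, hJfg, hJle, hJ⟩ := exists_fg_ideal_of_ker B f₁ t
  have hJker : ∀ a ∈ J, f₁ a = 0 := fun a ha => RingHom.mem_ker.mp (hJle ha)
  refine ⟨MvPolynomial (σ ⊕ Fin n) R ⧸ J, inferInstance, inferInstance,
    Algebra.FinitePresentation.quotient hJfg, (Ideal.Quotient.mkₐ R J).comp g₁,
    A'.val.comp (Ideal.Quotient.liftₐ J f₁ hJker), ?_, ?_⟩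
  · have e1 : (A'.val.comp (Ideal.Quotient.liftₐ J f₁ hJker)).comp
        ((Ideal.Quotient.mkₐ R J).comp g₁) =
        A'.val.comp (((Ideal.Quotient.liftₐ J f₁ hJker).comp (Ideal.Quotient.mkₐ R J)).comp g₁) :=
      rfl
    rw [e1, Ideal.Quotient.liftₐ_comp, hf₁g₁]
    exact AlgHom.ext fun x => rfl
  · rw [rT_comp, ← ht]
    exact hJ

theorem toIntegralClosure_surjective_of_indSmooth (R : Type u) [CommRing R] (S : Type u)
    [CommRing S] [Algebra R S] (hS : Smoothing.IndSmooth R S) (B : Type u) [CommRing B]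
    [Algebra R B] : Function.Surjective (TensorProduct.toIntegralClosure R S B) := by
  classical
  rintro ⟨y, hy⟩
  obtain ⟨p, hpm, hpy⟩ := (hy : IsIntegral S y)
  obtain ⟨k, s, b, rfl⟩ := TensorProduct.exists_sum_tmul_eq y
  let f₀ : MvPolynomial (Fin k ⊕ Fin p.natDegree) R →ₐ[R] S :=
    MvPolynomial.aeval (Sum.elim s (fun i : Fin p.natDegree => p.coeff i))
  let y₀ : MvPolynomial (Fin k ⊕ Fin p.natDegree) R ⊗[R] B :=
    ∑ j, (MvPolynomial.X (Sum.inl j)) ⊗ₜ[R] b j
  let p₀ : Polynomial (MvPolynomial (Fin k ⊕ Fin p.natDegree) R) :=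
    Polynomial.X ^ p.natDegree +
      ∑ i : Fin p.natDegree, Polynomial.C (MvPolynomial.X (Sum.inr i)) * Polynomial.X ^ (i : ℕ)
  have hp₀m : p₀.Monic := Polynomial.monic_X_pow_add (Polynomial.degree_sum_fin_lt _)
  have h1 : Algebra.TensorProduct.map f₀ (AlgHom.id R B) y₀ = ∑ j, s j ⊗ₜ[R] b j := by
    simp [y₀, f₀, map_sum]
  have h2 : p₀.map (f₀ : MvPolynomial (Fin k ⊕ Fin p.natDegree) R →+* S) = p := by
    have hps := hpm.as_sum
    rw [Finset.sum_range] at hps
    conv_rhs => rw [hps]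
    simp [p₀, f₀, Polynomial.map_sum]
  have hw : Algebra.TensorProduct.map f₀ (AlgHom.id R B) (Polynomial.aeval y₀ p₀) = 0 := by
    rw [map_aeval, h2, h1]
    exact hpy
  rw [map_id_eq_rTensor] at hw
  obtain ⟨P', _, _, hP', g, f', hf'g, hgw⟩ := exists_fp_of_rTensor_eq_zero f₀ _ hw
  rw [← map_id_eq_rTensor] at hgw
  have hy' : IsIntegral P' (Algebra.TensorProduct.map g (AlgHom.id R B) y₀) := by
    refine ⟨p₀.map (g : MvPolynomial (Fin k ⊕ Fin p.natDegree) R →+* P'), hp₀m.map _, ?_⟩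
    rw [← Polynomial.aeval_def, ← map_aeval, hgw]
  obtain ⟨C, _, _, hC, g', h, hhg'⟩ := hS P' hP' f'
  haveI := hC
  have hyC : IsIntegral C (Algebra.TensorProduct.map g' (AlgHom.id R B)
      (Algebra.TensorProduct.map g (AlgHom.id R B) y₀)) := isIntegral_map B g' hy'
  obtain ⟨t, ht⟩ :=
    (TensorProduct.toIntegralClosure_bijective_of_smooth (R := R) (S := C) (B := B)).2 ⟨_, hyC⟩
  have ht' : ((TensorProduct.toIntegralClosure R C B t : integralClosure C (C ⊗[R] B)) :
      C ⊗[R] B) = Algebra.TensorProduct.map g' (AlgHom.id R B)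
        (Algebra.TensorProduct.map g (AlgHom.id R B) y₀) := congrArg Subtype.val ht
  refine ⟨Algebra.TensorProduct.map h (AlgHom.id R _) t, Subtype.ext ?_⟩
  rw [comm_sq, ht', map_map_id, map_map_id, hhg', hf'g, h1]

theorem toIntegralClosure_bijective_of_indSmooth (R : Type u) [CommRing R] (S : Type u)
    [CommRing S] [Algebra R S] (hS : Smoothing.IndSmooth R S) (B : Type u) [CommRing B]
    [Algebra R B] : Function.Bijective (TensorProduct.toIntegralClosure R S B) := by
  haveI := flat_of_indSmooth R S hS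
  exact ⟨TensorProduct.toIntegralClosure_injective_of_flat,
    toIntegralClosure_surjective_of_indSmooth R S hS B⟩

end Groth.Agent.Lib.Helper26.IndSmoothIC
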