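import Groth.Agent.Lib.Helper1.Deligne3
import Groth.Agent.Lib.Helper17.CohCentre
import Groth.Agent.Lib.Helper17.DevStep
import Groth.Agent.Lib.Helper3.InvGen

/-!
# Injective quasi-coherent modules on a Noetherian scheme are flasque
-/

set_option autoImplicit false
set_option linter.style.haveILetI false
universe u
open CategoryTheory CategoryTheory.Limits AlgebraicGeometry TopologicalSpace Opposite
open Scheme.Modules

namespace Groth.Agent.Lib.Helper26.InjFlasque

open Groth.Agent.Lib.Helper3 Groth.Agent.Lib.Helper3.QCSec Groth.Agent.Lib.Helper3.InvGen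
  Groth.Agent.Lib.Helper17

variable {X : Scheme.{u}}

/-- transport along an equality of opens -/
theorem sec_eq_of_eq {L : X.Modules} (ψ : Coh.structureModule X ⟶ L) {W U : X.Opens} (h : W = U)
    (s : Γ(L, U)) (hs : sec ψ W = res L (le_of_eq h) s) : sec ψ U = s := by
  subst h
  rw [hs, res_self]

/-- a section over `U` of an injective quasi-coherent module on a Noetherian scheme extends to a
global section -/
theorem exists_global_extension [IsNoetherian X]
    (J : ObjectProperty.FullSubcategory (fun M : X.Modules => Coh.IsQCoh M)) (hJ : Injective J)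
    (U : X.Opens) (s : Γ(J.obj, U)) : ∃ s' : Γ(J.obj, ⊤), res J.obj le_top s' = s := by
  haveI := hJ
  haveI : J.obj.IsQuasicoherent := J.property
  -- the ideal of the complement
  obtain ⟨I, hU⟩ : ∃ I : X.IdealSheafData, (U : Set X) = (I.support : Set X)ᶜ := by
    refine ⟨Scheme.IdealSheafData.vanishingIdeal ⟨(U : Set X)ᶜ, U.isOpen.isClosed_compl⟩, ?_⟩
    rw [Scheme.IdealSheafData.coe_support_vanishingIdeal]
    exact (compl_compl _).symm
  -- the morphism over `U` defined by `s`
  haveI := isIso_homOfSec (isGen_one (X := X) U)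
  obtain ⟨φ, hφ⟩ : ∃ φ : (restrictFunctor U.ι).obj (Coh.structureModule X) ⟶
      (restrictFunctor U.ι).obj J.obj,
      homOfSec (Coh.structureModule X) U (ofFun U 1) ≫ φ = homOfSec J.obj U s :=
    ⟨inv (homOfSec (Coh.structureModule X) U (ofFun U 1)) ≫ homOfSec J.obj U s,
      IsIso.hom_inv_id_assoc _ _⟩
  obtain ⟨n, ψ, hψ⟩ := Groth.Agent.Lib.Helper1.Deligne.key9515 X J.obj (Coh.structureModule X)
    J.property CohCentre.isCoh_structureModule I U hU φ
  -- `I^n O_X` is quasi-coherent
  have hA : Coh.IsQCoh ((Dual3.idealMul (I ^ n)).obj (Coh.structureModule X)) := by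
    change (kernel (DevStep.proj (I ^ n) (Coh.structureModule X))).IsQuasicoherent
    exact QCProps.isQuasicoherent_kernel _
  have hO : Coh.IsQCoh (Coh.structureModule X) :=
    (inferInstance : (Coh.structureModule X).IsQuasicoherent)
  obtain ⟨h, hh⟩ : ∃ h : Coh.structureModule X ⟶ J.obj,
      Dual3.idealMulι (I ^ n) (Coh.structureModule X) ≫ h = ψ := by
    let A' : ObjectProperty.FullSubcategory (fun M : X.Modules => Coh.IsQCoh M) := ⟨_, hA⟩
    let O' : ObjectProperty.FullSubcategory (fun M : X.Modules => Coh.IsQCoh M) := ⟨_, hO⟩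
    let ι' : A' ⟶ O' := ObjectProperty.homMk (Dual3.idealMulι (I ^ n) (Coh.structureModule X))
    haveI : Mono ι' := by
      apply Functor.mono_of_mono_map
        (ObjectProperty.ι (fun M : X.Modules => Coh.IsQCoh M))
      exact (inferInstance : Mono (Dual3.idealMulι (I ^ n) (Coh.structureModule X)))
    let ψ' : A' ⟶ J := ObjectProperty.homMk ψ
    refine ⟨(Injective.factorThru ψ' ι').hom, ?_⟩
    have := Injective.comp_factorThru ψ' ι'
    exact congrArg (fun f => f.hom) this
  have hdisj : Disjoint (U : Set X) ((I ^ n).support : Set X) := by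
    rw [Set.disjoint_left]
    intro x hxU hxs
    have h1 : x ∈ (I.support : Set X) := Groth.Agent.Lib.Helper1.Dev9522.support_pow_le I n hxs
    have hxU' : x ∈ (U : Set X) := hxU
    rw [hU] at hxU'
    exact hxU' h1
  haveI hiso : IsIso ((restrictFunctor U.ι).map
      (Dual3.idealMulι (I ^ n) (Coh.structureModule X))) :=
    Groth.Agent.Lib.Helper1.Deligne.isIso_restrict_idealMulι (I ^ n) _ U hdisj
  have h6 : (restrictFunctor U.ι).map h = φ := by
    rw [← cancel_epi ((restrictFunctor U.ι).map
      (Dual3.idealMulι (I ^ n) (Coh.structureModule X))), ← Functor.map_comp, hh, hψ]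
  have h7 : homOfSec (Coh.structureModule X) U (ofFun U 1) ≫ (restrictFunctor U.ι).map h =
      homOfSec J.obj U s := by
    rw [h6, hφ]
  -- evaluate on the unit section over the whole of `U`
  have h8 : sec h (U.ι ''ᵁ ⊤) = res J.obj (U.ι_image_le ⊤) s := by
    have e1 := sec_homOfSec J.obj U s ⊤
    have e2 := sec_homOfSec (Coh.structureModule X) U (ofFun U 1) ⊤
    rw [← e1, ← h7]
    change sec h (U.ι ''ᵁ ⊤) = h.app (U.ι ''ᵁ ⊤)
      (show Γ(Coh.structureModule X, U.ι ''ᵁ ⊤) from
        sec (homOfSec (Coh.structureModule X) U (ofFun U 1)) ⊤)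
    rw [e2, res_ofFun, rres_one]
    rfl
  have h9 : sec h U = s := sec_eq_of_eq h U.ι_image_top s h8
  exact ⟨sec h ⊤, (res_sec h le_top).trans h9⟩

/-- **Injective quasi-coherent modules on a Noetherian scheme are flasque.** -/
theorem surjective_res [IsNoetherian X]
    (J : ObjectProperty.FullSubcategory (fun M : X.Modules => Coh.IsQCoh M)) (hJ : Injective J)
    (U V : X.Opens) (hUV : U ≤ V) : Function.Surjective (res J.obj hUV) := by
  intro s
  obtain ⟨s', hs'⟩ := exists_global_extension J hJ U s
  refine ⟨res J.obj le_top s', ?_⟩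
  rw [res_res]
  exact hs'

end Groth.Agent.Lib.Helper26.InjFlasque
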