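import Mathlib
import Groth.Agent.Lib.Helper26.InvLocal

/-!
# Base change of a ring with involution along a flat algebra of the fixed ring
-/

set_option autoImplicit false
universe u v w

namespace Groth.Agent.Lib.Helper26.InvBaseChange

open RInv TensorProduct
open Groth.Agent.Lib.Helper26.InvLocal

variable {S : Type u} {R : Type v} [CommRing S] [CommRing R] [Algebra S R]
  {lam : R ≃+* R}

/-- `lam` as an `S`-algebra automorphism. -/
noncomputable def lamAlg (hS : IsFixedRing S R lam) : R ≃ₐ[S] R :=
  AlgEquiv.ofRingEquiv (f := lam) (fun s => lam_algebraMap hS s)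

@[simp] theorem lamAlg_apply (hS : IsFixedRing S R lam) (x : R) : lamAlg hS x = lam x := rfl

variable (S' : Type w) [CommRing S'] [Algebra S S']

/-- The base-changed involution `id ⊗ lam` of `S' ⊗[S] R`. -/
noncomputable def lamBC (hS : IsFixedRing S R lam) : (S' ⊗[S] R) ≃+* (S' ⊗[S] R) :=
  (Algebra.TensorProduct.congr (AlgEquiv.refl : S' ≃ₐ[S'] S') (lamAlg hS)).toRingEquiv

@[simp] theorem lamBC_tmul (hS : IsFixedRing S R lam) (a : S') (x : R) :
    lamBC S' hS (a ⊗ₜ[S] x) = a ⊗ₜ[S] lam x := by
  simp [lamBC]

theorem lamBC_smul (hS : IsFixedRing S R lam) (s : S) (x : S' ⊗[S] R) :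
    lamBC S' hS (s • x) = s • lamBC S' hS x := by
  induction x using TensorProduct.induction_on with
  | zero => simp
  | tmul a y => rw [TensorProduct.smul_tmul', lamBC_tmul, lamBC_tmul, TensorProduct.smul_tmul']
  | add x y hx hy => rw [smul_add, map_add, map_add, smul_add, hx, hy]

theorem lamBC_involutive (hlam : Function.Involutive lam) (hS : IsFixedRing S R lam) :
    Function.Involutive (lamBC S' hS) := by
  intro x
  induction x using TensorProduct.induction_on with
  | zero => simp
  | tmul a y => rw [lamBC_tmul, lamBC_tmul, hlam y]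
  | add x y hx hy => rw [map_add, map_add, hx, hy]

theorem lamBC_eq_lTensor (hS : IsFixedRing S R lam) (x : S' ⊗[S] R) :
    lamBC S' hS x = (lamAlg hS).toLinearMap.lTensor S' x := by
  induction x using TensorProduct.induction_on with
  | zero => simp
  | tmul a y => rw [lamBC_tmul, LinearMap.lTensor_tmul]; rfl
  | add x y hx hy => rw [map_add, map_add, hx, hy]

theorem algebraMap_eq (a : S') : algebraMap S' (S' ⊗[S] R) a = a ⊗ₜ[S] (1 : R) := by
  rw [Algebra.TensorProduct.algebraMap_apply]; rfl

theorem algebraMap_base (s : S) :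
    algebraMap S (S' ⊗[S] R) s = (1 : S') ⊗ₜ[S] algebraMap S R s := by
  rw [Algebra.TensorProduct.algebraMap_apply, Algebra.algebraMap_eq_smul_one,
    Algebra.algebraMap_eq_smul_one, TensorProduct.smul_tmul]

theorem lamBC_algebraMap (hS : IsFixedRing S R lam) (s : S) :
    lamBC S' hS (algebraMap S (S' ⊗[S] R) s) = algebraMap S (S' ⊗[S] R) s := by
  rw [Algebra.TensorProduct.algebraMap_apply, lamBC_tmul, map_one]

theorem isFixedRing_baseChange [Module.Flat S S'] (hS : IsFixedRing S R lam) :
    IsFixedRing S' (S' ⊗[S] R) (lamBC S' hS) := by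
  have hinj : Function.Injective ((Algebra.linearMap S R).lTensor S') :=
    Module.Flat.lTensor_preserves_injective_linearMap _ hS.1
  have hrange : ∀ y : S' ⊗[S] S, (Algebra.linearMap S R).lTensor S' y =
      (TensorProduct.rid S S' y) ⊗ₜ[S] (1 : R) := by
    intro y
    induction y using TensorProduct.induction_on with
    | zero => simp
    | tmul a s =>
      rw [LinearMap.lTensor_tmul, TensorProduct.rid_tmul, Algebra.linearMap_apply,
        Algebra.algebraMap_eq_smul_one, TensorProduct.tmul_smul, TensorProduct.smul_tmul']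
    | add x y hx hy => rw [map_add, map_add, hx, hy, TensorProduct.add_tmul]
  constructor
  · intro a b hab
    rw [algebraMap_eq, algebraMap_eq] at hab
    have ha : a ⊗ₜ[S] (1 : R) = (Algebra.linearMap S R).lTensor S' (a ⊗ₜ[S] (1 : S)) := by
      rw [LinearMap.lTensor_tmul, Algebra.linearMap_apply, map_one]
    have hb : b ⊗ₜ[S] (1 : R) = (Algebra.linearMap S R).lTensor S' (b ⊗ₜ[S] (1 : S)) := by
      rw [LinearMap.lTensor_tmul, Algebra.linearMap_apply, map_one]
    rw [ha, hb] at hab
    have := congrArg (TensorProduct.rid S S') (hinj hab)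
    simpa using this
  · intro x
    let d : R →ₗ[S] R := (lamAlg hS).toLinearMap - LinearMap.id
    have hex : Function.Exact (Algebra.linearMap S R) d := by
      intro y
      constructor
      · intro hy
        have hy' : lam y = y := by
          have : lam y - y = 0 := hy
          exact sub_eq_zero.mp this
        obtain ⟨s, hs⟩ := exists_of_fixed hS hy'
        exact ⟨s, hs⟩
      · rintro ⟨s, rfl⟩
        show lam (algebraMap S R s) - algebraMap S R s = 0
        rw [lam_algebraMap hS, sub_self]
    have hex' := Module.Flat.lTensor_exact S' hex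
    have hd : d.lTensor S' x = lamBC S' hS x - x := by
      rw [lamBC_eq_lTensor]
      simp only [d, LinearMap.lTensor_sub, LinearMap.lTensor_id, LinearMap.sub_apply,
        LinearMap.id_apply]
    constructor
    · intro hx
      have h0 : d.lTensor S' x = 0 := by rw [hd, hx, sub_self]
      obtain ⟨y, hy⟩ := (hex' x).1 h0
      refine ⟨TensorProduct.rid S S' y, ?_⟩
      rw [algebraMap_eq, ← hrange, hy]
    · rintro ⟨a, rfl⟩
      rw [algebraMap_eq, lamBC_tmul, map_one]

end Groth.Agent.Lib.Helper26.InvBaseChange
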