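import Mathlib
import Groth.Agent.Lib.Helper26.InvBaseChange
import Groth.Agent.S15573
import Groth.Agent.S15574

/-!
# Branch points of a ring with involution over its fixed ring
-/

set_option autoImplicit false
universe u v

namespace Groth.Agent.Lib.Helper26.InvBranch

open RInv TensorProduct
open Groth.Agent.Lib.Helper26.InvLocal Groth.Agent.Lib.Helper26.InvBaseChange

variable {S : Type u} {R : Type v} [CommRing S] [CommRing R] [Algebra S R] {lam : R ≃+* R}

theorem isUnit_algebraMap_of_not_mem (p : PrimeSpectrum S) {s : S} (hs : s ∉ p.asIdeal) :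
    IsUnit (algebraMap S (Localization.AtPrime p.asIdeal ⊗[S] R) s) := by
  rw [IsScalarTower.algebraMap_apply S (Localization.AtPrime p.asIdeal)
    (Localization.AtPrime p.asIdeal ⊗[S] R)]
  exact (IsLocalization.map_units (Localization.AtPrime p.asIdeal)
    (⟨s, hs⟩ : p.asIdeal.primeCompl)).map _

theorem isLocalizedModule_mk (p : PrimeSpectrum S) :
    IsLocalizedModule p.asIdeal.primeCompl
      (TensorProduct.mk S (Localization.AtPrime p.asIdeal) R 1) :=
  (isLocalizedModule_iff_isBaseChange p.asIdeal.primeCompl (Localization.AtPrime p.asIdeal) _).2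
    (TensorProduct.isBaseChange S R (Localization.AtPrime p.asIdeal))

/-- If `1 ⊗ x` is a unit of `S_p ⊗ R`, then a multiple of `x` lies in `S \ p`. -/
theorem exists_mul_eq_of_isUnit_tmul (p : PrimeSpectrum S) {x : R}
    (h : IsUnit ((1 : Localization.AtPrime p.asIdeal) ⊗ₜ[S] x)) :
    ∃ y : R, ∃ s : S, s ∉ p.asIdeal ∧ x * y = algebraMap S R s := by
  haveI := isLocalizedModule_mk (R := R) p
  obtain ⟨w, hw⟩ := h.exists_right_inv
  obtain ⟨⟨y, s₂⟩, h2⟩ := IsLocalizedModule.surj p.asIdeal.primeCompl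
    (TensorProduct.mk S (Localization.AtPrime p.asIdeal) R 1) w
  have h2' : (1 : Localization.AtPrime p.asIdeal) ⊗ₜ[S] y =
      algebraMap S (Localization.AtPrime p.asIdeal ⊗[S] R) (s₂ : S) * w := by
    rw [← Algebra.smul_def]; exact h2.symm
  have h3 : (1 : Localization.AtPrime p.asIdeal) ⊗ₜ[S] (x * y) =
      (1 : Localization.AtPrime p.asIdeal) ⊗ₜ[S] (algebraMap S R (s₂ : S)) := by
    calc (1 : Localization.AtPrime p.asIdeal) ⊗ₜ[S] (x * y)
        = ((1 : Localization.AtPrime p.asIdeal) ⊗ₜ[S] x) *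
            ((1 : Localization.AtPrime p.asIdeal) ⊗ₜ[S] y) := by
          rw [Algebra.TensorProduct.tmul_mul_tmul, one_mul]
      _ = algebraMap S (Localization.AtPrime p.asIdeal ⊗[S] R) (s₂ : S) *
            (((1 : Localization.AtPrime p.asIdeal) ⊗ₜ[S] x) * w) := by
          rw [h2']; ring
      _ = algebraMap S (Localization.AtPrime p.asIdeal ⊗[S] R) (s₂ : S) := by rw [hw, mul_one]
      _ = _ := algebraMap_base _ _
  obtain ⟨s₃, h4⟩ := IsLocalizedModule.exists_of_eq (S := p.asIdeal.primeCompl)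
    (f := TensorProduct.mk S (Localization.AtPrime p.asIdeal) R 1) h3
  have h4' : (s₃ : S) • (x * y) = (s₃ : S) • algebraMap S R (s₂ : S) := h4
  refine ⟨(s₃ : S) • y, (s₃ : S) * s₂, (s₃ * s₂).2, ?_⟩
  rw [mul_smul_comm, h4', Algebra.smul_def, ← map_mul]

theorem isUnit_tmul_of_mul_eq (p : PrimeSpectrum S) {x y : R} {s : S} (hs : s ∉ p.asIdeal)
    (h : x * y = algebraMap S R s) :
    IsUnit ((1 : Localization.AtPrime p.asIdeal) ⊗ₜ[S] x) := by
  have : ((1 : Localization.AtPrime p.asIdeal) ⊗ₜ[S] x) *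
      ((1 : Localization.AtPrime p.asIdeal) ⊗ₜ[S] y) =
      algebraMap S (Localization.AtPrime p.asIdeal ⊗[S] R) s := by
    rw [Algebra.TensorProduct.tmul_mul_tmul, one_mul, h, algebraMap_base]
  exact isUnit_of_mul_isUnit_left (this ▸ isUnit_algebraMap_of_not_mem p hs)

/-- `S_p ⊗ R` is quadratic etale over `S_p` iff some multiple of some `r - lam r` lies in
`S \ p`. -/
theorem isQuadEtale_iff (hlam : Function.Involutive lam) (hS : IsFixedRing S R lam)
    (p : PrimeSpectrum S) :
    IsQuadEtale (Localization.AtPrime p.asIdeal) (Localization.AtPrime p.asIdeal ⊗[S] R) ↔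
      ∃ r y : R, ∃ s : S, s ∉ p.asIdeal ∧ (r - lam r) * y = algebraMap S R s := by
  have hfix := isFixedRing_baseChange (Localization.AtPrime p.asIdeal) hS
  have hinv := lamBC_involutive (Localization.AtPrime p.asIdeal) hlam hS
  constructor
  · intro hp
    haveI := isLocalizedModule_mk (R := R) p
    obtain ⟨ρ, hρ⟩ := Groth.Agent.S15574.result _ _
      (lamBC (Localization.AtPrime p.asIdeal) hS) hinv hfix hp
    obtain ⟨⟨r, s₁⟩, h1⟩ := IsLocalizedModule.surj p.asIdeal.primeCompl
      (TensorProduct.mk S (Localization.AtPrime p.asIdeal) R 1) ρ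
    have h1' : (1 : Localization.AtPrime p.asIdeal) ⊗ₜ[S] r =
        algebraMap S (Localization.AtPrime p.asIdeal ⊗[S] R) (s₁ : S) * ρ := by
      rw [← Algebra.smul_def]; exact h1.symm
    have h1'' : (1 : Localization.AtPrime p.asIdeal) ⊗ₜ[S] lam r =
        algebraMap S (Localization.AtPrime p.asIdeal ⊗[S] R) (s₁ : S) *
          lamBC (Localization.AtPrime p.asIdeal) hS ρ := by
      rw [← lamBC_tmul _ hS, h1', map_mul, lamBC_algebraMap]
    have hu : IsUnit ((1 : Localization.AtPrime p.asIdeal) ⊗ₜ[S] (r - lam r)) := by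
      rw [TensorProduct.tmul_sub, h1', h1'', ← mul_sub]
      exact (isUnit_algebraMap_of_not_mem p s₁.2).mul hρ
    obtain ⟨y, s, hs, h⟩ := exists_mul_eq_of_isUnit_tmul p hu
    exact ⟨r, y, s, hs, h⟩
  · rintro ⟨r, y, s, hs, h⟩
    apply Groth.Agent.S15573.result _ _ (lamBC (Localization.AtPrime p.asIdeal) hS) hinv hfix
    refine ⟨(1 : Localization.AtPrime p.asIdeal) ⊗ₜ[S] r, ?_⟩
    rw [lamBC_tmul, ← TensorProduct.tmul_sub]
    exact isUnit_tmul_of_mul_eq p hs h

end Groth.Agent.Lib.Helper26.InvBranch
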