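import Mathlib
import Groth.Prelude.Def_Koszul
import Groth.Prelude.Def_DRing2
import Groth.Agent.Lib.Helper1.KoszulSwap
import Groth.Agent.Lib.Helper4.KE2

/-!
# Koszul cohomology of a sequence extended by elements of its ideal

`H^m(K(x, y) ⊗ M) ≅ ⊕_j H^{m+j}(K(x) ⊗ M)^{(r choose j)}` for `y_1, …, y_r ∈ (x)`.
-/

set_option autoImplicit false
set_option linter.style.haveILetI false
universe u v
open CategoryTheory CategoryTheory.Limits CochainComplex HomComplex Pretriangulated

namespace Groth.Agent.Lib.Helper26.KoszulAppend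

section ConeSplit

variable {C : Type u} [Category.{v} C] [Abelian C]

/-- The cohomology of the cone of a null-homotopic map splits. -/
theorem nonempty_homology_cone_iso {K L : CochainComplex C ℤ} (f : K ⟶ L) (h : Homotopy f 0)
    (m : ℤ) :
    Nonempty ((mappingCone f).homology m ≅ L.homology m ⊞ K.homology (m + 1)) := by
  have hT := HomotopyCategory.mappingCone_triangleh_distinguished f
  have hT' := rot_of_distTriang _ hT
  have h1 : (mappingCone.triangleh f).mor₁ = 0 := by
    have h2 := HomotopyCategory.eq_of_homotopy _ _ h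
    rw [Functor.map_zero] at h2
    exact h2
  have hz : (mappingCone.triangleh f).rotate.mor₃ = 0 := by
    show -((mappingCone.triangleh f).mor₁⟦(1 : ℤ)⟧') = 0
    rw [h1, Functor.map_zero, neg_zero]
  obtain ⟨e, -, -⟩ := exists_iso_binaryBiproduct_of_distTriang _ hT' hz
  haveI : PreservesBinaryBiproducts (HomotopyCategory.homologyFunctor C (ComplexShape.up ℤ) m) :=
    preservesBinaryBiproducts_of_preservesBiproducts _
  have e1 : (HomotopyCategory.homologyFunctor C (ComplexShape.up ℤ) m).obj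
        ((HomotopyCategory.quotient C (ComplexShape.up ℤ)).obj (mappingCone f)) ≅
      (HomotopyCategory.homologyFunctor C (ComplexShape.up ℤ) m).obj
        ((HomotopyCategory.quotient C (ComplexShape.up ℤ)).obj L) ⊞
      (HomotopyCategory.homologyFunctor C (ComplexShape.up ℤ) m).obj
        (((HomotopyCategory.quotient C (ComplexShape.up ℤ)).obj K)⟦(1 : ℤ)⟧) :=
    (HomotopyCategory.homologyFunctor C (ComplexShape.up ℤ) m).mapIso e ≪≫
      (HomotopyCategory.homologyFunctor C (ComplexShape.up ℤ) m).mapBiprod _ _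
  have e2 : (HomotopyCategory.homologyFunctor C (ComplexShape.up ℤ) m).obj
        ((HomotopyCategory.quotient C (ComplexShape.up ℤ)).obj (mappingCone f)) ≅
      (mappingCone f).homology m :=
    (HomotopyCategory.homologyFunctorFactors C (ComplexShape.up ℤ) m).app _
  have e3 : (HomotopyCategory.homologyFunctor C (ComplexShape.up ℤ) m).obj
        ((HomotopyCategory.quotient C (ComplexShape.up ℤ)).obj L) ≅ L.homology m :=
    (HomotopyCategory.homologyFunctorFactors C (ComplexShape.up ℤ) m).app _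
  have e4 : (HomotopyCategory.homologyFunctor C (ComplexShape.up ℤ) m).obj
        (((HomotopyCategory.quotient C (ComplexShape.up ℤ)).obj K)⟦(1 : ℤ)⟧) ≅
      K.homology (m + 1) :=
    (HomotopyCategory.homologyFunctor C (ComplexShape.up ℤ) m).mapIso
        (((HomotopyCategory.quotient C (ComplexShape.up ℤ)).commShiftIso (1 : ℤ)).app K).symm ≪≫
      (HomotopyCategory.homologyFunctorFactors C (ComplexShape.up ℤ) m).app _ ≪≫
      (CochainComplex.ShiftSequence.shiftIso C 1 m (m + 1) (add_comm 1 m)).app K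
  exact ⟨e2.symm ≪≫ e1 ≪≫ biprod.mapIso e3 e4⟩

end ConeSplit

section Index

/-- an equivalence of finite index types respecting degrees, from equal fibre cardinalities -/
theorem exists_equiv_of_card_fibre_eq {I I' : Type} [Fintype I] [Fintype I']
    (δ : I → ℕ) (δ' : I' → ℕ)
    (h : ∀ n, Fintype.card {p // δ p = n} = Fintype.card {p' // δ' p' = n}) :
    ∃ e : I ≃ I', ∀ p, δ' (e p) = δ p := by
  classical
  refine ⟨(Equiv.sigmaFiberEquiv δ).symm.trans
    ((Equiv.sigmaCongrRight fun n => Fintype.equivOfCardEq (h n)).trans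
      (Equiv.sigmaFiberEquiv δ')), fun p => ?_⟩
  exact (Fintype.equivOfCardEq (h (δ p)) ⟨p, rfl⟩).2

theorem card_fibre_sigma (s : ℕ) (c : ℕ → ℕ) (hc : ∀ n, s < n → c n = 0) (n : ℕ) :
    Fintype.card {p : Σ j : Fin (s + 1), Fin (c j) // (p.1 : ℕ) = n} = c n := by
  by_cases hn : n < s + 1
  · have e : {p : Σ j : Fin (s + 1), Fin (c j) // (p.1 : ℕ) = n} ≃ Fin (c n) :=
      (Equiv.subtypeEquivRight (fun p => by
        constructor
        · intro h
          exact Fin.ext h
        · intro h
          rw [h])).trans (Equiv.sigmaSubtype (⟨n, hn⟩ : Fin (s + 1)))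
    rw [Fintype.card_congr e, Fintype.card_fin]
  · rw [hc n (by omega)]
    haveI : IsEmpty {p : Σ j : Fin (s + 1), Fin (c j) // (p.1 : ℕ) = n} :=
      ⟨fun p => by
        have h2 := p.1.1.2
        rw [p.2] at h2
        exact hn h2⟩
    exact Fintype.card_eq_zero

theorem card_fibre_sum {I : Type} [Fintype I] (δ : I → ℕ) (r : ℕ)
    (h : ∀ n, Fintype.card {p // δ p = n} = r.choose n) (n : ℕ) :
    Fintype.card {p : I ⊕ I // Sum.elim δ (fun p => δ p + 1) p = n} = (r + 1).choose n := by
  have e := Fintype.card_congr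
    (Equiv.subtypeSum (p := fun c : I ⊕ I => Sum.elim δ (fun p => δ p + 1) c = n))
  rw [e, Fintype.card_sum]
  have h1 : Fintype.card {a : I // Sum.elim δ (fun p => δ p + 1) (Sum.inl a) = n} =
      r.choose n := h n
  cases n with
  | zero =>
    haveI : IsEmpty {b : I // Sum.elim δ (fun p => δ p + 1) (Sum.inr b) = 0} :=
      ⟨fun b => Nat.succ_ne_zero _ b.2⟩
    rw [h1, Fintype.card_eq_zero]
    simp
  | succ k =>
    have h2 : Fintype.card {b : I // Sum.elim δ (fun p => δ p + 1) (Sum.inr b) = k + 1} =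
        r.choose k := by
      rw [← h k]
      exact Fintype.card_congr (Equiv.subtypeEquivRight (fun b => by simp))
    rw [h1, h2, Nat.choose_succ_succ, add_comm]

variable {A : Type u} [CommRing A] (G : ℤ → Type u) [∀ n, AddCommGroup (G n)]
  [∀ n, Module A (G n)]

/-- transport along an equality of degrees -/
def castLE {a b : ℤ} (h : a = b) : G a ≃ₗ[A] G b := by
  subst h
  exact LinearEquiv.refl A (G a)

theorem nonempty_pi_equiv {I I' : Type} (d : I → ℤ) (d' : I' → ℤ) (e : I ≃ I')
    (h : ∀ p, d' (e p) = d p) :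
    Nonempty ((Π p : I, G (d p)) ≃ₗ[A] (Π p' : I', G (d' p'))) :=
  ⟨(LinearEquiv.piCongrRight (fun p => castLE (A := A) G (h p).symm)).trans
    (LinearEquiv.piCongrLeft A (fun p' => G (d' p')) e)⟩

end Index

section Main

variable {A : Type u} [CommRing A]

open Groth.Agent.Lib.Helper1.KoszulConcat

theorem iterCone_append (s t : List A) (Y : CochainComplex (ModuleCat.{u} A) ℤ) :
    iterCone (s ++ t) Y = iterCone s (iterCone t Y) := by
  induction s with
  | nil => rfl
  | cons g s ih =>
    change mappingCone (g • 𝟙 (iterCone (s ++ t) Y)) =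
      mappingCone (g • 𝟙 (iterCone s (iterCone t Y)))
    rw [ih]

theorem nonempty_homotopy_iterCone (l : List A) (Z : CochainComplex (ModuleCat.{u} A) ℤ) (a : A)
    (h : Homotopy (a • 𝟙 Z) 0) : Nonempty (Homotopy (a • 𝟙 (iterCone l Z)) 0) := by
  induction l with
  | nil => exact ⟨h⟩
  | cons g s ih =>
    obtain ⟨s'⟩ := ih
    exact ⟨Groth.Agent.Lib.Helper4.mappingConeHomotopyOfHomotopy (iterCone s Z) g a s'⟩

theorem claim (Z : CochainComplex (ModuleCat.{u} A) ℤ) (ys : List A)
    (hy : ∀ y ∈ ys, Nonempty (Homotopy (y • 𝟙 Z) 0)) :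
    ∃ (I : Type) (_ : Fintype I) (δ : I → ℕ),
      (∀ n, Fintype.card {p // δ p = n} = ys.length.choose n) ∧
      ∀ m : ℤ, Nonempty ((iterCone ys Z).homology m ≃ₗ[A]
        (Π p : I, Z.homology (m + (δ p : ℤ)))) := by
  induction ys with
  | nil =>
    refine ⟨Unit, inferInstance, fun _ => 0, ?_, ?_⟩
    · intro n
      cases n with
      | zero => simp
      | succ k =>
        haveI : IsEmpty {p : Unit // (0 : ℕ) = k + 1} := ⟨fun p => Nat.succ_ne_zero k p.2.symm⟩
        simp
    · intro m
      exact ⟨(castLE (A := A) (fun n => Z.homology n) (add_zero m).symm).trans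
        (LinearEquiv.piUnique A (fun _ : Unit => Z.homology (m + ((0 : ℕ) : ℤ)))).symm⟩
  | cons y ys ih =>
    obtain ⟨I, hI, δ, hcard, hequiv⟩ := ih (fun y' hy' => hy y' (List.mem_cons_of_mem _ hy'))
    obtain ⟨h0⟩ := hy y List.mem_cons_self
    obtain ⟨hW⟩ := nonempty_homotopy_iterCone ys Z y h0
    refine ⟨I ⊕ I, inferInstance, Sum.elim δ (fun p => δ p + 1), ?_, ?_⟩
    · intro n
      rw [List.length_cons]
      exact card_fibre_sum δ ys.length hcard n
    · intro m
      obtain ⟨e0⟩ := nonempty_homology_cone_iso (y • 𝟙 (iterCone ys Z)) hW m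
      obtain ⟨e1⟩ := hequiv m
      obtain ⟨e2⟩ := hequiv (m + 1)
      have E0 : (mappingCone (y • 𝟙 (iterCone ys Z))).homology m ≃ₗ[A]
          ((iterCone ys Z).homology m × (iterCone ys Z).homology (m + 1)) :=
        (e0 ≪≫ ModuleCat.biprodIsoProd _ _).toLinearEquiv
      have E2 : (Π p : I, Z.homology (m + 1 + (δ p : ℤ))) ≃ₗ[A]
          (Π p : I, Z.homology (m + ((δ p + 1 : ℕ) : ℤ))) :=
        LinearEquiv.piCongrRight (fun p => castLE (A := A) (fun n => Z.homology n)
          (by push_cast; ring))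
      have E3 := (LinearEquiv.sumPiEquivProdPi A I I
        (fun st => Z.homology (m + ((Sum.elim δ (fun p => δ p + 1) st : ℕ) : ℤ)))).symm
      exact ⟨E0.trans ((LinearEquiv.prodCongr e1 (e2.trans E2)).trans E3)⟩

theorem main (A : Type u) [CommRing A] (M : ModuleCat.{u} A) (xs ys : List A)
    (hy : ∀ y ∈ ys, y ∈ Ideal.span {a | a ∈ xs}) (m : ℤ) :
    Nonempty ((DRing.tensorCx (Koszul.koszul A (xs ++ ys)) M).homology m ≅
      ModuleCat.of A ((j : Fin (ys.length + 1)) → Fin (ys.length.choose j) →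
        (DRing.tensorCx (Koszul.koszul A xs) M).homology (m + j))) := by
  obtain ⟨b1⟩ := Groth.Agent.Lib.Helper4.KE.bridge M (xs ++ ys)
  obtain ⟨b2⟩ := Groth.Agent.Lib.Helper4.KE.bridge M xs
  have hK : CohIII.koszulCx M (xs ++ ys) = iterCone xs (iterCone ys
      ((HomologicalComplex.single (ModuleCat.{u} A) (ComplexShape.up ℤ) 0).obj M)) := by
    rw [koszulCx_eq_iterCone, iterCone_append]
  have hZ : iterCone ys (iterCone xs
      ((HomologicalComplex.single (ModuleCat.{u} A) (ComplexShape.up ℤ) 0).obj M)) =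
      iterCone ys (CohIII.koszulCx M xs) := by
    rw [koszulCx_eq_iterCone]
  obtain ⟨φ, hφ⟩ := Groth.Agent.Lib.Helper1.KoszulSwap.exists_quasiIso_iterCone_comm xs ys
    ((HomologicalComplex.single (ModuleCat.{u} A) (ComplexShape.up ℤ) 0).obj M)
  have hiso : IsIso (HomologicalComplex.homologyMap φ m) :=
    (_root_.quasiIsoAt_iff_isIso_homologyMap φ m).1 inferInstance
  obtain ⟨I, hI, δ, hcard, hequiv⟩ := claim (CohIII.koszulCx M xs) ys (fun y hy' =>
    Groth.Agent.Lib.Helper4.koszulCx_smul_homotopic_zero M xs y (hy y hy'))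
  obtain ⟨E⟩ := hequiv m
  obtain ⟨e, he⟩ := exists_equiv_of_card_fibre_eq δ
    (fun p : Σ j : Fin (ys.length + 1), Fin (ys.length.choose j) => (p.1 : ℕ))
    (fun n => by
      rw [hcard n, card_fibre_sigma ys.length (fun n => ys.length.choose n)
        (fun n hn => Nat.choose_eq_zero_of_lt hn) n])
  have L0 : (DRing.tensorCx (Koszul.koszul A (xs ++ ys)) M).homology m ≃ₗ[A]
      (iterCone ys (CohIII.koszulCx M xs)).homology m :=
    ((HomologicalComplex.homologyFunctor _ _ m).mapIso b1 ≪≫
      (HomologicalComplex.homologyFunctor _ _ m).mapIso (eqToIso hK) ≪≫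
      @asIso _ _ _ _ (HomologicalComplex.homologyMap φ m) hiso ≪≫
      (HomologicalComplex.homologyFunctor _ _ m).mapIso (eqToIso hZ)).toLinearEquiv
  have L3 : (Π p : I, (CohIII.koszulCx M xs).homology (m + (δ p : ℤ))) ≃ₗ[A]
      (Π p : I, (DRing.tensorCx (Koszul.koszul A xs) M).homology (m + (δ p : ℤ))) :=
    LinearEquiv.piCongrRight (fun p =>
      ((HomologicalComplex.homologyFunctor _ _ (m + (δ p : ℤ))).mapIso b2.symm).toLinearEquiv)
  obtain ⟨L4⟩ := nonempty_pi_equiv (A := A)
    (fun n => (DRing.tensorCx (Koszul.koszul A xs) M).homology n)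
    (fun p : I => m + (δ p : ℤ))
    (fun p : Σ j : Fin (ys.length + 1), Fin (ys.length.choose j) => m + ((p.1 : ℕ) : ℤ)) e
    (fun p => congrArg (fun k : ℕ => m + (k : ℤ)) (he p))
  have L5 := LinearEquiv.piCurry A (fun (j : Fin (ys.length + 1)) (_ : Fin (ys.length.choose j)) =>
    ((DRing.tensorCx (Koszul.koszul A xs) M).homology (m + ((j : ℕ) : ℤ)) : Type u))
  exact ⟨(LinearEquiv.toModuleIso (L0.trans (E.trans (L3.trans (L4.trans L5)))) : _ ≅ _)⟩

end Main

end Groth.Agent.Lib.Helper26.KoszulAppend
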