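import Mathlib
import Groth.Prelude.Def_CohB1
import Groth.Agent.Lib.Helper3.ProjProper
import Groth.Agent.Lib.Helper3.GrTransport
import Groth.Agent.Lib.Helper3.CoprodClosed
import Groth.Agent.Lib.Lead.ProjTop

/-!
# Coordinate linear embeddings of projective spaces (helper26)
-/

set_option autoImplicit false
set_option linter.unusedSectionVars false
universe u
open CategoryTheory CategoryTheory.Limits AlgebraicGeometry TopologicalSpace Opposite
open scoped HomogeneousIdeal

namespace Groth.Agent.Lib.Helper26.LinEmb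

open Groth.Agent.Lib.Helper3

variable (k : Type u) [Field k] {N a : ℕ}

/-- the variable substitution attached to a partial coordinate projection -/
noncomputable def sub (g : Fin (N + 1) → Option (Fin (a + 1))) (j : Fin (N + 1)) :
    MvPolynomial (Fin (a + 1)) k :=
  (g j).elim 0 MvPolynomial.X

theorem sub_homog (g : Fin (N + 1) → Option (Fin (a + 1))) (j : Fin (N + 1)) :
    (sub k g j).IsHomogeneous 1 := by
  unfold sub
  cases g j with
  | none => exact MvPolynomial.isHomogeneous_zero _ _ _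
  | some i => exact MvPolynomial.isHomogeneous_X _ _

theorem sub_none (g : Fin (N + 1) → Option (Fin (a + 1))) (j : Fin (N + 1)) (h : g j = none) :
    sub k g j = 0 := by
  unfold sub
  rw [h]
  rfl

theorem sub_some (g : Fin (N + 1) → Option (Fin (a + 1))) (j : Fin (N + 1)) (i : Fin (a + 1))
    (h : g j = some i) : sub k g j = MvPolynomial.X i := by
  unfold sub
  rw [h]
  rfl

/-- the graded homomorphism `k[x_0..x_N] → k[x_0..x_a]` -/
noncomputable def linHom (g : Fin (N + 1) → Option (Fin (a + 1))) :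
    CohB1.polyGrading N k →+*ᵍ CohB1.polyGrading a k where
  toRingHom := (MvPolynomial.aeval (sub k g) :
    MvPolynomial (Fin (N + 1)) k →ₐ[k] MvPolynomial (Fin (a + 1)) k).toRingHom
  map_mem := by
    intro d P hP
    have hP' : P.IsHomogeneous d := hP
    have h1 := hP'.aeval (sub k g) (sub_homog k g)
    rw [one_mul] at h1
    exact h1

theorem linHom_apply (g : Fin (N + 1) → Option (Fin (a + 1))) (P : MvPolynomial (Fin (N + 1)) k) :
    linHom k g P = MvPolynomial.aeval (sub k g) P := rfl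

theorem linHom_rename (g : Fin (N + 1) → Option (Fin (a + 1))) (ι : Fin (a + 1) → Fin (N + 1))
    (hι : ∀ i, g (ι i) = some i) (q : MvPolynomial (Fin (a + 1)) k) :
    linHom k g (MvPolynomial.rename ι q) = q := by
  rw [linHom_apply, MvPolynomial.aeval_rename]
  have h1 : sub k g ∘ ι = MvPolynomial.X := by
    funext i
    exact sub_some k g (ι i) i (hι i)
  rw [h1, MvPolynomial.aeval_X_left]
  rfl

theorem linHom_surj (g : Fin (N + 1) → Option (Fin (a + 1))) (ι : Fin (a + 1) → Fin (N + 1))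
    (hι : ∀ i, g (ι i) = some i) (d : ℕ) (_ : 0 < d) (b : MvPolynomial (Fin (a + 1)) k)
    (hb : b ∈ CohB1.polyGrading a k d) :
    ∃ p ∈ CohB1.polyGrading N k d, linHom k g p = b := by
  have hb' : b.IsHomogeneous d := hb
  exact ⟨MvPolynomial.rename ι b, hb'.rename_isHomogeneous, linHom_rename k g ι hι b⟩

theorem linHom_irr (g : Fin (N + 1) → Option (Fin (a + 1))) (ι : Fin (a + 1) → Fin (N + 1))
    (hι : ∀ i, g (ι i) = some i) :
    (CohB1.polyGrading a k)₊ ≤ ((CohB1.polyGrading N k)₊).map (linHom k g) :=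
  ProjProper.irrelevant_le_of_surj_pos (linHom k g) (linHom_surj k g ι hι)

/-- the coordinate linear embedding -/
noncomputable def emb (g : Fin (N + 1) → Option (Fin (a + 1))) (ι : Fin (a + 1) → Fin (N + 1))
    (hι : ∀ i, g (ι i) = some i) : CohB1.ProjSpace a k ⟶ CohB1.ProjSpace N k :=
  Proj.map (linHom k g) (linHom_irr k g ι hι)

theorem isClosedImmersion_emb (g : Fin (N + 1) → Option (Fin (a + 1)))
    (ι : Fin (a + 1) → Fin (N + 1)) (hι : ∀ i, g (ι i) = some i) :
    IsClosedImmersion (emb k g ι hι) :=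
  ProjProper.isClosedImmersion_map_of_pos (linHom k g) (linHom_irr k g ι hι)
    (linHom_surj k g ι hι)

theorem emb_toSpec (g : Fin (N + 1) → Option (Fin (a + 1)))
    (ι : Fin (a + 1) → Fin (N + 1)) (hι : ∀ i, g (ι i) = some i) :
    emb k g ι hι ≫ CohB1.ProjSpace.toSpec N k = CohB1.ProjSpace.toSpec a k := by
  change Proj.map (linHom k g) (linHom_irr k g ι hι) ≫ Proj.toSpecZero (CohB1.polyGrading N k) ≫
      Spec.map (CommRingCat.ofHom (algebraMap k (CohB1.polyGrading N k 0))) =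
    Proj.toSpecZero (CohB1.polyGrading a k) ≫
      Spec.map (CommRingCat.ofHom (algebraMap k (CohB1.polyGrading a k 0)))
  rw [GrTransport.map_toSpecZero_assoc, ← Spec.map_comp]
  congr 2
  refine CommRingCat.hom_ext (RingHom.ext fun r => Subtype.ext ?_)
  change MvPolynomial.aeval (sub k g) (MvPolynomial.C r) = MvPolynomial.C r
  rw [MvPolynomial.aeval_C]
  rfl

theorem emb_disjoint {a₁ a₂ : ℕ} (g₁ : Fin (N + 1) → Option (Fin (a₁ + 1)))
    (ι₁ : Fin (a₁ + 1) → Fin (N + 1)) (hι₁ : ∀ i, g₁ (ι₁ i) = some i)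
    (g₂ : Fin (N + 1) → Option (Fin (a₂ + 1)))
    (ι₂ : Fin (a₂ + 1) → Fin (N + 1)) (hι₂ : ∀ i, g₂ (ι₂ i) = some i)
    (h : ∀ j, g₁ j = none ∨ g₂ j = none)
    (x : CohB1.ProjSpace a₁ k) (y : CohB1.ProjSpace a₂ k) :
    emb k g₁ ι₁ hι₁ x ≠ emb k g₂ ι₂ hι₂ y := by
  intro hxy
  set z : ProjectiveSpectrum (CohB1.polyGrading N k) :=
    (Proj.map (linHom k g₁) (linHom_irr k g₁ ι₁ hι₁)) x with hz
  have hz2 : z = (Proj.map (linHom k g₂) (linHom_irr k g₂ ι₂ hι₂)) y := hxy
  obtain ⟨j, hj⟩ := Groth.Agent.Lib.Lead.ProjTop.exists_X_notMem k N z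
  rcases h j with h1 | h2
  · apply hj
    change linHom k g₁ (MvPolynomial.X j) ∈
      (show ProjectiveSpectrum (CohB1.polyGrading a₁ k) from x).asHomogeneousIdeal
    rw [linHom_apply, MvPolynomial.aeval_X, sub_none k g₁ j h1]
    exact zero_mem _
  · apply hj
    rw [hz2]
    change linHom k g₂ (MvPolynomial.X j) ∈
      (show ProjectiveSpectrum (CohB1.polyGrading a₂ k) from y).asHomogeneousIdeal
    rw [linHom_apply, MvPolynomial.aeval_X, sub_none k g₂ j h2]
    exact zero_mem _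

/-! ### the two complementary coordinate subspaces of `P^{n+m+1}` -/

/-- projection to the first `n + 1` coordinates -/
def g₁ (n m : ℕ) : Fin (n + m + 1 + 1) → Option (Fin (n + 1)) :=
  fun j => if h : j.val < n + 1 then some ⟨j.val, h⟩ else none

/-- projection to the last `m + 1` coordinates -/
def g₂ (n m : ℕ) : Fin (n + m + 1 + 1) → Option (Fin (m + 1)) :=
  fun j => if h : j.val < n + 1 then none else some ⟨j.val - (n + 1), by have := j.2; omega⟩

def ι₁ (n m : ℕ) : Fin (n + 1) → Fin (n + m + 1 + 1) := fun i => ⟨i.val, by have := i.2; omega⟩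

def ι₂ (n m : ℕ) : Fin (m + 1) → Fin (n + m + 1 + 1) :=
  fun i => ⟨i.val + (n + 1), by have := i.2; omega⟩

theorem g₁_ι₁ (n m : ℕ) (i : Fin (n + 1)) : g₁ n m (ι₁ n m i) = some i := by
  unfold g₁ ι₁
  exact dif_pos i.2

theorem g₂_ι₂ (n m : ℕ) (i : Fin (m + 1)) : g₂ n m (ι₂ n m i) = some i := by
  have h : ¬ (i.val + (n + 1) < n + 1) := by omega
  unfold g₂ ι₂
  exact (dif_neg h).trans (congrArg some (Fin.ext (Nat.add_sub_cancel (n := i.val) (m := n + 1))))

theorem g₁_or_g₂ (n m : ℕ) (j : Fin (n + m + 1 + 1)) : g₁ n m j = none ∨ g₂ n m j = none := by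
  by_cases h : j.val < n + 1
  · right
    unfold g₂
    exact dif_pos h
  · left
    unfold g₁
    exact dif_neg h

theorem exists_embeddings (n m : ℕ) :
    ∃ (c₁ : CohB1.ProjSpace n k ⟶ CohB1.ProjSpace (n + m + 1) k)
      (c₂ : CohB1.ProjSpace m k ⟶ CohB1.ProjSpace (n + m + 1) k),
      IsClosedImmersion c₁ ∧ IsClosedImmersion c₂ ∧
      c₁ ≫ CohB1.ProjSpace.toSpec (n + m + 1) k = CohB1.ProjSpace.toSpec n k ∧
      c₂ ≫ CohB1.ProjSpace.toSpec (n + m + 1) k = CohB1.ProjSpace.toSpec m k ∧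
      ∀ (x : CohB1.ProjSpace n k) (y : CohB1.ProjSpace m k), c₁ x ≠ c₂ y :=
  ⟨emb k (g₁ n m) (ι₁ n m) (g₁_ι₁ n m), emb k (g₂ n m) (ι₂ n m) (g₂_ι₂ n m),
    isClosedImmersion_emb k _ _ _, isClosedImmersion_emb k _ _ _,
    emb_toSpec k _ _ _, emb_toSpec k _ _ _,
    emb_disjoint k _ _ _ _ _ _ (g₁_or_g₂ n m)⟩

end Groth.Agent.Lib.Helper26.LinEmb
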