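import Mathlib

/-!
# Continuous duals of linearly topologized vector spaces over a discrete field (helper26)

* `continuous_of_open_le_ker` : a linear functional to a discrete field vanishing on an open
  submodule is continuous.
* `exists_open_submodule_add_notMem` : for closed `M₁` and `x ∉ M₁` there is an open submodule `U` with
  `(x + U) ∩ M₁ = ∅`.
* `exists_open_submodule_le_ker` : a continuous linear functional on a submodule (subspace topology)
  kills `U ∩ M₂` for some open submodule `U`.
-/

set_option autoImplicit false
universe u v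
open Topology

namespace Groth.Agent.Lib.Helper26.LinTopDual

variable {k : Type u} {M : Type v} [Field k] [TopologicalSpace k] [DiscreteTopology k]
  [AddCommGroup M] [Module k M] [TopologicalSpace M] [IsTopologicalAddGroup M]

omit [DiscreteTopology k] in
lemma continuous_of_open_le_ker [DiscreteTopology k] (φ : M →ₗ[k] k) (U : Submodule k M)
    (hU : IsOpen (U : Set M)) (h : U ≤ LinearMap.ker φ) : Continuous φ := by
  rw [continuous_discrete_rng]
  intro b
  rw [isOpen_iff_mem_nhds]
  intro m hm
  have hcont : Continuous fun y : M => y - m := continuous_id.sub continuous_const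
  have hopen : IsOpen ((fun y : M => y - m) ⁻¹' (U : Set M)) := hU.preimage hcont
  refine Filter.mem_of_superset (hopen.mem_nhds (by simp)) ?_
  intro y hy
  have hy' : y - m ∈ LinearMap.ker φ := h hy
  rw [LinearMap.mem_ker, map_sub, sub_eq_zero] at hy'
  simpa [hy'] using hm

variable [IsLinearTopology k M]

omit [TopologicalSpace k] [DiscreteTopology k] in
lemma exists_open_submodule_add_notMem (S : Set M) (hS : IsClosed S) (x : M) (hx : x ∉ S) :
    ∃ U : Submodule k M, IsOpen (U : Set M) ∧ ∀ u ∈ U, x + u ∉ S := by
  have hnhds : (fun y : M => x + y) ⁻¹' Sᶜ ∈ 𝓝 (0 : M) := by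
    have hcont : Continuous fun y : M => x + y := continuous_const.add continuous_id
    exact (hS.isOpen_compl.preimage hcont).mem_nhds (by simpa using hx)
  obtain ⟨U, hU, hUS⟩ := (IsLinearTopology.hasBasis_open_submodule (R := k) (M := M)).mem_iff.mp hnhds
  exact ⟨U, hU, fun u hu => hUS hu⟩

omit [TopologicalSpace k] [DiscreteTopology k] in
lemma exists_open_submodule_subset (S : Set M) (hS : S ∈ 𝓝 (0 : M)) :
    ∃ U : Submodule k M, IsOpen (U : Set M) ∧ (U : Set M) ⊆ S := by
  obtain ⟨U, hU, hUS⟩ := (IsLinearTopology.hasBasis_open_submodule (R := k) (M := M)).mem_iff.mp hS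
  exact ⟨U, hU, hUS⟩

end Groth.Agent.Lib.Helper26.LinTopDual
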