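import Mathlib

/-!
# Integrally closed domains and localisations away from an element (helper26)

* `mem_range_of_pow_mem` : for `A` an integrally closed domain, `B = A[1/π]` (`π ≠ 0`), an element `y : B` with
  `y ^ k` in the image of `A` (`k > 0`) is in the image of `A`.
* `algebraMap_injective_away` : `A → A[1/π]` is injective for `π ≠ 0` in a domain.
-/

set_option autoImplicit false
universe u

namespace Groth.Agent.Lib.Helper26.LocInt

theorem algebraMap_injective_away {A B : Type*} [CommRing A] [IsDomain A] [CommRing B] [Algebra A B]
    (π : A) (hπ : π ≠ 0) [IsLocalization.Away π B] : Function.Injective (algebraMap A B) :=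
  IsLocalization.injective B (M := Submonoid.powers π)
    (Submonoid.powers_le.mpr (mem_nonZeroDivisors_of_ne_zero hπ))

theorem mem_range_of_pow_mem {A B : Type*} [CommRing A] [IsDomain A] [IsIntegrallyClosed A]
    [CommRing B] [Algebra A B] (π : A) (hπ : π ≠ 0) [IsLocalization.Away π B] (y : B) (k : ℕ)
    (hk : 0 < k) (h : y ^ k ∈ (algebraMap A B).range) : y ∈ (algebraMap A B).range := by
  obtain ⟨a, ha⟩ := h
  let K := FractionRing A
  have hle : Submonoid.powers π ≤ nonZeroDivisors A :=
    Submonoid.powers_le.mpr (mem_nonZeroDivisors_of_ne_zero hπ)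
  have hg : ∀ z : Submonoid.powers π, IsUnit (algebraMap A K z) := by
    intro z
    exact IsLocalization.map_units K (⟨z.1, hle z.2⟩ : nonZeroDivisors A)
  let g : B →+* K := IsLocalization.lift (M := Submonoid.powers π) hg
  have hgA : ∀ b : A, g (algebraMap A B b) = algebraMap A K b := fun b => IsLocalization.lift_eq hg b
  have hginj : Function.Injective g := by
    rw [IsLocalization.lift_injective_iff]
    intro b c
    rw [(algebraMap_injective_away (B := B) π hπ).eq_iff, (IsFractionRing.injective A K).eq_iff]
  have hint : IsIntegral A (g y ^ k) := by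
    rw [← map_pow, ← ha, hgA]
    exact isIntegral_algebraMap
  obtain ⟨a', ha'⟩ := IsIntegrallyClosed.exists_algebraMap_eq_of_isIntegral_pow (K := K) hk hint
  refine ⟨a', hginj ?_⟩
  rw [hgA, ha']

end Groth.Agent.Lib.Helper26.LocInt
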