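import Mathlib

/-!
# Approximation in `A[1/t] → Â[1/t]` (helper26)

Abstract setting for statements about `A[1/t] → Â[1/t]`: idempotent matrices, base change of their
ranges, approximation, unit detection.
-/

set_option autoImplicit false
universe u

open TensorProduct

namespace Groth.Agent.Lib.Helper26.LoopApprox

/-! ## base change of the range of an idempotent matrix -/
section BC
variable {R S : Type u} [CommRing R] [CommRing S] [Algebra R S] {ι : Type} [Fintype ι]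
  [DecidableEq ι]

/-- range of a square matrix acting on column vectors -/
abbrev rg (e : Matrix ι ι R) : Submodule R (ι → R) := LinearMap.range e.mulVecLin

theorem mem_rg_iff (e : Matrix ι ι R) (he : e * e = e) (x : ι → R) :
    x ∈ rg e ↔ e.mulVec x = x := by
  constructor
  · rintro ⟨v, rfl⟩
    rw [Matrix.mulVecLin_apply, Matrix.mulVec_mulVec, he]
  · intro h; exact ⟨x, h⟩

theorem mulVec_mem_rg (e : Matrix ι ι R) (x : ι → R) : e.mulVec x ∈ rg e := ⟨x, rfl⟩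

theorem sum_smul_col (e : Matrix ι ι R) (x : ι → R) :
    ∑ i, x i • e.mulVec (Pi.single i 1) = e.mulVec x := by
  funext k
  simp only [Finset.sum_apply, Pi.smul_apply, Matrix.mulVec_single_one, Matrix.col_apply,
    smul_eq_mul, Matrix.mulVec, dotProduct]
  exact Finset.sum_congr rfl fun i _ => mul_comm _ _

theorem baseChange_rg (e : Matrix ι ι R) (he : e * e = e) :
    Nonempty (S ⊗[R] (rg e) ≃ₗ[S] rg (e.map (algebraMap R S))) := by
  classical
  obtain ⟨φ, hφ⟩ : ∃ φ : R →+* S, φ = algebraMap R S := ⟨_, rfl⟩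
  rw [← hφ]
  have heS : (e.map φ) * (e.map φ) = e.map φ := by rw [← Matrix.map_mul, he]
  have hmap : ∀ x : ι → R, (e.map φ).mulVec (fun i => φ (x i)) = fun i => φ (e.mulVec x i) := by
    intro x
    funext i
    exact (RingHom.map_mulVec φ e x i).symm
  let j : rg e →ₗ[R] rg (e.map φ) :=
    { toFun := fun x => ⟨fun i => φ (x.1 i), by
        rw [mem_rg_iff _ heS, hmap, (mem_rg_iff e he x.1).1 x.2]⟩
      map_add' := fun x y => Subtype.ext (funext fun i => map_add φ _ _)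
      map_smul' := fun r x => Subtype.ext (funext fun i => by
        show φ (r * x.1 i) = r • φ (x.1 i)
        rw [map_mul, Algebra.smul_def, hφ]) }
  have hj : ∀ (x : rg e) (i : ι), (j x).1 i = φ (x.1 i) := fun _ _ => rfl
  let α : S ⊗[R] (rg e) →ₗ[S] rg (e.map φ) := LinearMap.liftBaseChange S j
  have hα : ∀ (s : S) (x : rg e), α (s ⊗ₜ[R] x) = s • j x := fun s x =>
    LinearMap.liftBaseChange_tmul _ _ _ _
  let col : ι → rg e := fun i => ⟨e.mulVec (Pi.single i 1), mulVec_mem_rg e _⟩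
  let βt : (ι → S) →ₗ[S] S ⊗[R] (rg e) :=
    ∑ i, (LinearMap.proj i : (ι → S) →ₗ[S] S).smulRight ((1 : S) ⊗ₜ[R] col i)
  have hβt : ∀ w, βt w = ∑ i, w i • ((1 : S) ⊗ₜ[R] col i) := by
    intro w
    simp only [βt, LinearMap.sum_apply, LinearMap.smulRight_apply, LinearMap.proj_apply]
  let β : rg (e.map φ) →ₗ[S] S ⊗[R] (rg e) := βt ∘ₗ (rg (e.map φ)).subtype
  have hαβ : ∀ w : rg (e.map φ), α (β w) = w := by
    intro w
    apply Subtype.ext
    show ((α (βt w.1) : rg (e.map φ)) : ι → S) = w.1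
    rw [hβt, map_sum]
    simp only [map_smul, hα, one_smul]
    rw [Submodule.coe_sum]
    simp only [Submodule.coe_smul]
    have hw := (mem_rg_iff _ heS w.1).1 w.2
    conv_rhs => rw [← hw, ← sum_smul_col]
    refine Finset.sum_congr rfl fun i _ => ?_
    congr 1
    funext k
    rw [hj]
    show φ (e.mulVec (Pi.single i 1) k) = _
    simp only [Matrix.mulVec_single_one, Matrix.col_apply, Matrix.map_apply]
  have hβα : ∀ z : S ⊗[R] (rg e), β (α z) = z := by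
    intro z
    induction z using TensorProduct.induction_on with
    | zero => simp
    | add a b ha hb => rw [map_add, map_add, ha, hb]
    | tmul s x =>
      show βt ((α (s ⊗ₜ[R] x) : rg (e.map φ)) : ι → S) = _
      rw [hα, Submodule.coe_smul, map_smul, hβt]
      have h1 : ∀ i, ((j x).1 i) • ((1 : S) ⊗ₜ[R] col i) = (1 : S) ⊗ₜ[R] (x.1 i • col i) := by
        intro i
        rw [hj, TensorProduct.smul_tmul', smul_eq_mul, mul_one, hφ,
          Algebra.algebraMap_eq_smul_one, TensorProduct.smul_tmul]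
      have h2 : ∑ i, ((j x).1 i) • ((1 : S) ⊗ₜ[R] col i) = (1 : S) ⊗ₜ[R] x := by
        simp_rw [h1]
        rw [← TensorProduct.tmul_sum]
        congr 1
        apply Subtype.ext
        rw [Submodule.coe_sum]
        simp only [Submodule.coe_smul]
        show ∑ i, x.1 i • e.mulVec (Pi.single i 1) = x.1
        rw [sum_smul_col]
        exact (mem_rg_iff e he x.1).1 x.2
      rw [h2, TensorProduct.smul_tmul', smul_eq_mul, mul_one]
  exact ⟨LinearEquiv.ofLinear α β (LinearMap.ext hαβ) (LinearMap.ext hβα)⟩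

end BC

/-! ## the abstract setting -/

/-- The abstract setting: `Lt = A[1/t]`, `Lh = Ah[1/t]`, `A → Ah` dense and closed for the `t`-adic
topologies, `t` in both Jacobson radicals. -/
structure Setup (A Ah Lt Lh : Type u) [CommRing A] [CommRing Ah] [Algebra A Ah]
    [CommRing Lt] [CommRing Lh] [Algebra A Lt] [Algebra Ah Lh] [Algebra Lt Lh] (t : A) : Prop where
  locT : IsLocalization.Away t Lt
  locH : IsLocalization.Away (algebraMap A Ah t) Lh
  hφ : ∀ a, algebraMap Lt Lh (algebraMap A Lt a) = algebraMap Ah Lh (algebraMap A Ah a)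
  HJ : t ∈ Ideal.jacobson (⊥ : Ideal A)
  H2 : ∀ (x : Ah) (N : ℕ), ∃ a r, x = algebraMap A Ah a + (algebraMap A Ah t) ^ N * r
  H3 : ∀ (a : A) (N : ℕ), (∃ r, algebraMap A Ah a = (algebraMap A Ah t) ^ N * r) →
    ∃ c, a = t ^ N * c
  H4 : algebraMap A Ah t ∈ Ideal.jacobson (⊥ : Ideal Ah)

/-- `x ∈ t^k · im(Ah → Lh)` -/
def Sm (Ah : Type u) {A Lh : Type u} [CommRing A] [CommRing Ah] [Algebra A Ah] [CommRing Lh]
    [Algebra Ah Lh] (t : A) (k : ℕ) (x : Lh) : Prop :=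
  ∃ r : Ah, x = algebraMap Ah Lh ((algebraMap A Ah t) ^ k * r)

section Sm
variable {A Ah Lh : Type u} [CommRing A] [CommRing Ah] [Algebra A Ah] [CommRing Lh]
  [Algebra Ah Lh] {t : A}

theorem sm_zero (k : ℕ) : Sm Ah t k (0 : Lh) := ⟨0, by simp⟩

theorem sm_add {k : ℕ} {x y : Lh} (hx : Sm Ah t k x) (hy : Sm Ah t k y) : Sm Ah t k (x + y) := by
  obtain ⟨r₁, rfl⟩ := hx
  obtain ⟨r₂, rfl⟩ := hy
  exact ⟨r₁ + r₂, by rw [← map_add, mul_add]⟩

theorem sm_neg {k : ℕ} {x : Lh} (hx : Sm Ah t k x) : Sm Ah t k (-x) := by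
  obtain ⟨r₁, rfl⟩ := hx
  exact ⟨-r₁, by rw [← map_neg, mul_neg]⟩

theorem sm_sub {k : ℕ} {x y : Lh} (hx : Sm Ah t k x) (hy : Sm Ah t k y) : Sm Ah t k (x - y) := by
  rw [sub_eq_add_neg]; exact sm_add hx (sm_neg hy)

theorem sm_mul {k l : ℕ} {x y : Lh} (hx : Sm Ah t k x) (hy : Sm Ah t l y) :
    Sm Ah t (k + l) (x * y) := by
  obtain ⟨r₁, rfl⟩ := hx
  obtain ⟨r₂, rfl⟩ := hy
  exact ⟨r₁ * r₂, by rw [← map_mul]; congr 1; ring⟩

theorem sm_mono {k l : ℕ} (hkl : k ≤ l) {x : Lh} (hx : Sm Ah t l x) : Sm Ah t k x := by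
  obtain ⟨r, rfl⟩ := hx
  refine ⟨(algebraMap A Ah t) ^ (l - k) * r, ?_⟩
  congr 1
  rw [← mul_assoc, ← pow_add]
  congr 2; omega

theorem sm_sum {κ : Type} (s : Finset κ) {k : ℕ} (f : κ → Lh) (h : ∀ i ∈ s, Sm Ah t k (f i)) :
    Sm Ah t k (∑ i ∈ s, f i) :=
  Finset.sum_induction f (Sm Ah t k) (fun _ _ => sm_add) (sm_zero k) h

theorem sm_algebraMap (r : Ah) : Sm Ah t 0 (algebraMap Ah Lh r) := ⟨r, by simp⟩

theorem sm_one : Sm Ah t 0 (1 : Lh) := ⟨1, by simp⟩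

theorem sm_mul' {k : ℕ} {x y : Lh} (hx : Sm Ah t k x) (hy : Sm Ah t 0 y) :
    Sm Ah t k (x * y) := by
  have := sm_mul hx hy
  rwa [add_zero] at this

/-- `y` has denominator exponent at most `c`. -/
def Den (Ah : Type u) {A Lh : Type u} [CommRing A] [CommRing Ah] [Algebra A Ah] [CommRing Lh]
    [Algebra Ah Lh] (t : A) (c : ℕ) (y : Lh) : Prop :=
  Sm Ah t 0 (y * (algebraMap Ah Lh (algebraMap A Ah t)) ^ c)

theorem den_mono {c c' : ℕ} (h : c ≤ c') {y : Lh} (hy : Den Ah t c y) : Den Ah t c' y := by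
  unfold Den at hy ⊢
  have h1 : y * (algebraMap Ah Lh (algebraMap A Ah t)) ^ c' =
      (y * (algebraMap Ah Lh (algebraMap A Ah t)) ^ c) *
        algebraMap Ah Lh ((algebraMap A Ah t) ^ (c' - c)) := by
    rw [map_pow, mul_assoc, ← pow_add]
    congr 2; omega
  rw [h1]
  exact sm_mul' hy (sm_algebraMap _)

theorem sm_mul_den {k c : ℕ} {x y : Lh} (hy : Den Ah t c y) (hx : Sm Ah t (k + c) x) :
    Sm Ah t k (x * y) := by
  obtain ⟨r', hr'⟩ := hy
  obtain ⟨r, rfl⟩ := hx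
  refine ⟨r * r', ?_⟩
  have h1 : algebraMap Ah Lh ((algebraMap A Ah t) ^ (k + c) * r) * y =
      algebraMap Ah Lh ((algebraMap A Ah t) ^ k * r) *
        (y * (algebraMap Ah Lh (algebraMap A Ah t)) ^ c) := by
    simp only [pow_add, map_mul, map_pow]
    ring
  rw [h1, hr', ← map_mul]
  congr 1
  ring

theorem den_of_sm {x : Lh} (hx : Sm Ah t 0 x) : Den Ah t 0 x := by
  unfold Den
  rwa [pow_zero, mul_one]

variable {κ₁ κ₂ κ₃ : Type} [Fintype κ₁] [Fintype κ₂] [Fintype κ₃]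

theorem smM_mul_left {k c : ℕ} (B : Matrix κ₁ κ₂ Lh) (D : Matrix κ₂ κ₃ Lh)
    (hB : ∀ i j, Den Ah t c (B i j)) (hD : ∀ i j, Sm Ah t (k + c) (D i j)) :
    ∀ i j, Sm Ah t k ((B * D) i j) := by
  intro i j
  rw [Matrix.mul_apply]
  refine sm_sum _ _ fun l _ => ?_
  rw [mul_comm]
  exact sm_mul_den (hB i l) (hD l j)

theorem smM_mul_right {k c : ℕ} (D : Matrix κ₁ κ₂ Lh) (B : Matrix κ₂ κ₃ Lh)
    (hB : ∀ i j, Den Ah t c (B i j)) (hD : ∀ i j, Sm Ah t (k + c) (D i j)) :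
    ∀ i j, Sm Ah t k ((D * B) i j) := by
  intro i j
  rw [Matrix.mul_apply]
  refine sm_sum _ _ fun l _ => ?_
  exact sm_mul_den (hB l j) (hD i l)

theorem smM_mul {k l : ℕ} (D : Matrix κ₁ κ₂ Lh) (D' : Matrix κ₂ κ₃ Lh)
    (hD : ∀ i j, Sm Ah t k (D i j)) (hD' : ∀ i j, Sm Ah t l (D' i j)) :
    ∀ i j, Sm Ah t (k + l) ((D * D') i j) := by
  intro i j
  rw [Matrix.mul_apply]
  exact sm_sum _ _ fun m _ => sm_mul (hD i m) (hD' m j)

theorem smM_add {k : ℕ} (D D' : Matrix κ₁ κ₂ Lh)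
    (hD : ∀ i j, Sm Ah t k (D i j)) (hD' : ∀ i j, Sm Ah t k (D' i j)) :
    ∀ i j, Sm Ah t k ((D + D') i j) := fun i j => sm_add (hD i j) (hD' i j)

end Sm

section SetupLemmas
variable {A Ah Lt Lh : Type u} [CommRing A] [CommRing Ah] [Algebra A Ah]
  [CommRing Lt] [CommRing Lh] [Algebra A Lt] [Algebra Ah Lh] [Algebra Lt Lh] {t : A}

theorem Setup.isUnit_Th (S : Setup A Ah Lt Lh t) :
    IsUnit (algebraMap Ah Lh (algebraMap A Ah t)) := by
  haveI := S.locH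
  exact IsLocalization.Away.algebraMap_isUnit _

theorem Setup.exists_den (S : Setup A Ah Lt Lh t) (x : Lh) : ∃ c, Den Ah t c x := by
  haveI := S.locH
  obtain ⟨n, a, h⟩ := IsLocalization.Away.surj (algebraMap A Ah t) x
  exact ⟨n, a, by rw [h, pow_zero, one_mul]⟩

theorem Setup.exists_den_matrix (S : Setup A Ah Lt Lh t) {κ₁ κ₂ : Type} [Fintype κ₁] [Fintype κ₂]
    (B : Matrix κ₁ κ₂ Lh) : ∃ c, ∀ i j, Den Ah t c (B i j) := by
  classical
  choose c hc using fun ij : κ₁ × κ₂ => S.exists_den (B ij.1 ij.2)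
  refine ⟨Finset.univ.sup c, fun i j => ?_⟩
  exact den_mono (Finset.le_sup (f := c) (Finset.mem_univ (i, j))) (hc (i, j))

/-- approximation -/
theorem Setup.approx (S : Setup A Ah Lt Lh t) (x : Lh) (k : ℕ) :
    ∃ x₀ : Lt, Sm Ah t k (x - algebraMap Lt Lh x₀) := by
  haveI := S.locT
  haveI := S.locH
  obtain ⟨n, a', h⟩ := IsLocalization.Away.surj (algebraMap A Ah t) x
  obtain ⟨a, r, har⟩ := S.H2 a' (k + n)
  obtain ⟨u, hu⟩ := (IsLocalization.Away.algebraMap_isUnit (S := Lt) t).pow n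
  refine ⟨algebraMap A Lt a * (↑u⁻¹ : Lt), r, ?_⟩
  have hTh := S.isUnit_Th.pow n
  apply hTh.mul_right_cancel
  have h1 : algebraMap Lt Lh (algebraMap A Lt a * (↑u⁻¹ : Lt)) *
      (algebraMap Ah Lh (algebraMap A Ah t)) ^ n = algebraMap Ah Lh (algebraMap A Ah a) := by
    rw [← S.hφ t, ← map_pow, ← map_mul, ← hu, mul_assoc, Units.inv_mul, mul_one, S.hφ]
  rw [sub_mul, h, h1, har, ← map_sub, add_sub_cancel_left]
  simp only [pow_add, map_mul, map_pow]
  ring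

theorem Setup.approx_matrix (S : Setup A Ah Lt Lh t) {κ₁ κ₂ : Type}
    (B : Matrix κ₁ κ₂ Lh) (k : ℕ) :
    ∃ B₀ : Matrix κ₁ κ₂ Lt, ∀ i j, Sm Ah t k ((B - B₀.map (algebraMap Lt Lh)) i j) := by
  choose b hb using fun i j => S.approx (B i j) k
  exact ⟨Matrix.of b, fun i j => hb i j⟩

/-- unit detection -/
theorem Setup.isUnit_of_map (S : Setup A Ah Lt Lh t) (u : Lt)
    (h : IsUnit (algebraMap Lt Lh u)) : IsUnit u := by
  haveI := S.locT
  haveI := S.locH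
  have htu : IsUnit (algebraMap A Lt t) := IsLocalization.Away.algebraMap_isUnit t
  obtain ⟨n, a, hna⟩ := IsLocalization.Away.surj t u
  -- suffices: algebraMap a is a unit
  suffices ha : IsUnit (algebraMap A Lt a) by
    rw [← hna] at ha
    exact isUnit_of_mul_isUnit_left ha
  have hαu : IsUnit (algebraMap Ah Lh (algebraMap A Ah a)) := by
    rw [← S.hφ, ← hna, map_mul, map_pow]
    exact h.mul ((htu.map _).pow n)
  obtain ⟨v, hv⟩ := hαu.exists_right_inv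
  obtain ⟨m, b', hmb⟩ := IsLocalization.Away.surj (algebraMap A Ah t) v
  have h1 : algebraMap Ah Lh (algebraMap A Ah a * b') =
      algebraMap Ah Lh ((algebraMap A Ah t) ^ m) := by
    rw [map_mul, ← hmb, ← mul_assoc, hv, one_mul, map_pow]
  obtain ⟨⟨_, s, rfl⟩, hs⟩ :=
    (IsLocalization.eq_iff_exists (Submonoid.powers (algebraMap A Ah t)) Lh).1 h1
  simp only at hs
  -- th^s * (α b') = th^s * th^m
  obtain ⟨b, r, hbr⟩ := S.H2 ((algebraMap A Ah t) ^ s * b') (m + s + 1)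
  have h2 : algebraMap A Ah (a * b - t ^ (m + s)) =
      (algebraMap A Ah t) ^ (m + s + 1) * (-(algebraMap A Ah a) * r) := by
    have h3 : algebraMap A Ah a * ((algebraMap A Ah t) ^ s * b') = (algebraMap A Ah t) ^ (m + s) := by
      rw [pow_add, mul_comm ((algebraMap A Ah t) ^ m)]
      rw [← hs]; ring
    rw [map_sub, map_mul, map_pow, ← h3, hbr]
    ring
  obtain ⟨c, hc⟩ := S.H3 _ _ ⟨_, h2⟩
  have h4 : a * b = t ^ (m + s) * (1 + t * c) := by
    have : a * b = t ^ (m + s) + t ^ (m + s + 1) * c := by rw [← hc]; ring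
    rw [this]; ring
  have hu1 : IsUnit (1 + t * c) := by
    have := (Ideal.mem_jacobson_bot.mp S.HJ) c
    rwa [add_comm] at this
  have h5 : IsUnit (algebraMap A Lt a * algebraMap A Lt b) := by
    rw [← map_mul, h4, map_mul, map_pow]
    exact (htu.pow _).mul (hu1.map _)
  exact isUnit_of_mul_isUnit_left h5

theorem Setup.isUnit_matrix_of_map (S : Setup A Ah Lt Lh t) {ι : Type} [Fintype ι] [DecidableEq ι]
    (W : Matrix ι ι Lt) (h : IsUnit (W.map (algebraMap Lt Lh))) : IsUnit W := by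
  rw [Matrix.isUnit_iff_isUnit_det] at h ⊢
  apply S.isUnit_of_map
  have := RingHom.map_det (algebraMap Lt Lh) W
  rw [RingHom.mapMatrix_apply] at this
  rwa [this]

/-- small perturbations of the identity are invertible -/
theorem Setup.isUnit_one_add (S : Setup A Ah Lt Lh t) {ι : Type} [Fintype ι] [DecidableEq ι]
    (D : Matrix ι ι Lh) (hD : ∀ i j, Sm Ah t 1 (D i j)) : IsUnit (1 + D) := by
  choose D' hD' using hD
  have h1 : 1 + D = (algebraMap Ah Lh).mapMatrix (1 + (algebraMap A Ah t) • Matrix.of D') := by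
    ext i j
    rw [RingHom.mapMatrix_apply, Matrix.map_apply, Matrix.add_apply, Matrix.add_apply,
      Matrix.smul_apply, Matrix.of_apply, map_add, hD' i j, pow_one, smul_eq_mul]
    congr 1
    by_cases hij : i = j
    · subst hij; simp
    · simp [hij]
  rw [h1]
  apply IsUnit.map
  rw [Matrix.isUnit_iff_isUnit_det]
  set th := algebraMap A Ah t with hth
  have h2 : Ideal.Quotient.mk (Ideal.span {th}) (1 + th • Matrix.of D').det = 1 := by
    rw [RingHom.map_det]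
    have : (Ideal.Quotient.mk (Ideal.span {th})).mapMatrix (1 + th • Matrix.of D') = 1 := by
      ext i j
      rw [RingHom.mapMatrix_apply, Matrix.map_apply, Matrix.add_apply, Matrix.smul_apply,
        map_add, smul_eq_mul, map_mul]
      have : Ideal.Quotient.mk (Ideal.span {th}) th = 0 :=
        Ideal.Quotient.eq_zero_iff_mem.2 (Ideal.subset_span rfl)
      rw [this, zero_mul, add_zero]
      by_cases hij : i = j
      · subst hij; simp
      · simp [hij]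
    rw [this, Matrix.det_one]
  have h3 : (1 + th • Matrix.of D').det - 1 ∈ Ideal.span {th} := by
    rw [← Ideal.Quotient.eq_zero_iff_mem, map_sub, h2, map_one, sub_self]
  obtain ⟨c, hc⟩ := Ideal.mem_span_singleton'.1 h3
  have h4 : (1 + th • Matrix.of D').det = th * c + 1 := by
    rw [mul_comm, hc]; ring
  rw [h4]
  exact (Ideal.mem_jacobson_bot.mp S.H4) c

end SetupLemmas

/-! ## pure linear algebra of idempotent matrices -/
section Pure
variable {R : Type u} [CommRing R]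

theorem exists_idem_of_projective (R : Type u) [CommRing R] (P : Type u) [AddCommGroup P]
    [Module R P] [Module.Finite R P] [Module.Projective R P] :
    ∃ (n : ℕ) (e : Matrix (Fin n) (Fin n) R), e * e = e ∧ Nonempty (P ≃ₗ[R] rg e) := by
  obtain ⟨n, f, g, -, -, hfg⟩ := Module.Finite.exists_comp_eq_id_of_projective R P
  have hfg' : ∀ x, f (g x) = x := fun x => LinearMap.congr_fun hfg x
  refine ⟨n, LinearMap.toMatrix' (g ∘ₗ f), ?_, ?_⟩
  · rw [← LinearMap.toMatrix'_comp]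
    congr 1
    apply LinearMap.ext
    intro x
    simp only [LinearMap.comp_apply, hfg']
  · have hmv : ∀ x, (LinearMap.toMatrix' (g ∘ₗ f)).mulVec x = g (f x) := fun x => by
      rw [LinearMap.toMatrix'_mulVec]; rfl
    let α : P →ₗ[R] rg (LinearMap.toMatrix' (g ∘ₗ f)) :=
      g.codRestrict _ (fun x => ⟨g x, by rw [Matrix.mulVecLin_apply, hmv, hfg']⟩)
    let β : rg (LinearMap.toMatrix' (g ∘ₗ f)) →ₗ[R] P := f ∘ₗ (Submodule.subtype _)
    refine ⟨LinearEquiv.ofLinear α β ?_ ?_⟩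
    · apply LinearMap.ext
      rintro ⟨x, v, rfl⟩
      apply Subtype.ext
      show g (f ((LinearMap.toMatrix' (g ∘ₗ f)).mulVecLin v)) =
        (LinearMap.toMatrix' (g ∘ₗ f)).mulVecLin v
      rw [Matrix.mulVecLin_apply, hmv, hfg']
    · apply LinearMap.ext
      intro x
      show f (g x) = x
      exact hfg' x

variable {ι κ : Type} [Fintype ι] [DecidableEq ι] [Fintype κ] [DecidableEq κ]

theorem exists_matrix_of_equiv (e : Matrix ι ι R) (he : e * e = e) (f : Matrix κ κ R)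
    (hf : f * f = f) (ξ : rg e ≃ₗ[R] rg f) :
    ∃ (X : Matrix κ ι R) (Y : Matrix ι κ R), f * X = X ∧ X * e = X ∧ e * Y = Y ∧ Y * f = Y ∧
      Y * X = e ∧ X * Y = f := by
  let pe : (ι → R) →ₗ[R] rg e := e.mulVecLin.rangeRestrict
  let pf : (κ → R) →ₗ[R] rg f := f.mulVecLin.rangeRestrict
  let xl : (ι → R) →ₗ[R] (κ → R) := (rg f).subtype ∘ₗ ξ.toLinearMap ∘ₗ pe
  let yl : (κ → R) →ₗ[R] (ι → R) := (rg e).subtype ∘ₗ ξ.symm.toLinearMap ∘ₗ pf
  have hxl : ∀ v, (LinearMap.toMatrix' xl).mulVec v = (ξ (pe v)).1 := fun v => by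
    rw [LinearMap.toMatrix'_mulVec]; rfl
  have hyl : ∀ w, (LinearMap.toMatrix' yl).mulVec w = (ξ.symm (pf w)).1 := fun w => by
    rw [LinearMap.toMatrix'_mulVec]; rfl
  have hpe : ∀ x : rg e, pe x.1 = x := fun x => Subtype.ext ((mem_rg_iff e he x.1).1 x.2)
  have hpf : ∀ y : rg f, pf y.1 = y := fun y => Subtype.ext ((mem_rg_iff f hf y.1).1 y.2)
  have hpe1 : ∀ v, e.mulVec v = (pe v).1 := fun v => rfl
  have hpf1 : ∀ w, f.mulVec w = (pf w).1 := fun w => rfl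
  refine ⟨LinearMap.toMatrix' xl, LinearMap.toMatrix' yl, ?_, ?_, ?_, ?_, ?_, ?_⟩
  · apply Matrix.mulVec_injective
    funext v
    rw [← Matrix.mulVec_mulVec, hxl, hpf1, hpf]
  · apply Matrix.mulVec_injective
    funext v
    rw [← Matrix.mulVec_mulVec, hxl, hxl, hpe1, hpe]
  · apply Matrix.mulVec_injective
    funext w
    rw [← Matrix.mulVec_mulVec, hyl, hpe1, hpe]
  · apply Matrix.mulVec_injective
    funext w
    rw [← Matrix.mulVec_mulVec, hyl, hyl, hpf1, hpf]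
  · apply Matrix.mulVec_injective
    funext v
    rw [← Matrix.mulVec_mulVec, hxl, hyl, hpf, ξ.symm_apply_apply, hpe1]
  · apply Matrix.mulVec_injective
    funext w
    rw [← Matrix.mulVec_mulVec, hyl, hxl, hpe, ξ.apply_symm_apply, hpf1]

theorem equiv_of_matrix (e : Matrix ι ι R) (he : e * e = e) (f : Matrix κ κ R) (hf : f * f = f)
    (X : Matrix κ ι R) (Y : Matrix ι κ R) (hfX : f * X = X) (heY : e * Y = Y)
    (hWM : IsUnit (Y * X + (1 - e))) (hWN : IsUnit (X * Y + (1 - f))) :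
    Nonempty (rg e ≃ₗ[R] rg f) := by
  obtain ⟨V, hV⟩ := hWM.exists_left_inv
  obtain ⟨V', hV'⟩ := hWN.exists_right_inv
  let α : rg e →ₗ[R] rg f := (X.mulVecLin ∘ₗ (rg e).subtype).codRestrict (rg f) (fun x => by
      rw [mem_rg_iff f hf]
      show f.mulVec (X.mulVec x.1) = X.mulVec x.1
      rw [Matrix.mulVec_mulVec, hfX])
  have hα : ∀ x : rg e, (α x).1 = X.mulVec x.1 := fun x => rfl
  refine ⟨LinearEquiv.ofBijective α ⟨?_, ?_⟩⟩
  · rw [injective_iff_map_eq_zero]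
    intro x hx
    have h0 : X.mulVec x.1 = 0 := by rw [← hα, hx]; rfl
    have h1 : (Y * X + (1 - e)).mulVec x.1 = 0 := by
      rw [Matrix.add_mulVec, ← Matrix.mulVec_mulVec, h0, Matrix.mulVec_zero, Matrix.sub_mulVec,
        Matrix.one_mulVec, (mem_rg_iff e he x.1).1 x.2, sub_self, add_zero]
    apply Subtype.ext
    have h2 : x.1 = (V * (Y * X + (1 - e))).mulVec x.1 := by rw [hV, Matrix.one_mulVec]
    rw [h2, ← Matrix.mulVec_mulVec, h1, Matrix.mulVec_zero]; rfl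
  · intro y
    have h1 : (X * Y + (1 - f)).mulVec (V'.mulVec y.1) = y.1 := by
      rw [Matrix.mulVec_mulVec, hV', Matrix.one_mulVec]
    have h4 : f * (X * Y + (1 - f)) = X * Y := by
      rw [Matrix.mul_add, ← Matrix.mul_assoc, hfX, Matrix.mul_sub, Matrix.mul_one, hf, sub_self,
        add_zero]
    have h2 : (X * Y).mulVec (V'.mulVec y.1) = y.1 := by
      rw [← h4, ← Matrix.mulVec_mulVec, h1]; exact (mem_rg_iff f hf y.1).1 y.2
    refine ⟨⟨Y.mulVec (V'.mulVec y.1), ?_⟩, ?_⟩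
    · rw [mem_rg_iff e he, Matrix.mulVec_mulVec, heY]
    · apply Subtype.ext
      rw [hα]
      show X.mulVec (Y.mulVec (V'.mulVec y.1)) = y.1
      rw [Matrix.mulVec_mulVec, h2]

theorem split_of_right_inv (P : Matrix κ ι R) (s : Matrix ι κ R) (hPs : P * s = 1) :
    (1 - s * P) * (1 - s * P) = 1 - s * P ∧
    (∀ x : ι → R, x ∈ rg (1 - s * P) ↔ P.mulVec x = 0) ∧
    Nonempty ((rg (1 - s * P) × (κ → R)) ≃ₗ[R] (ι → R)) := by
  have hsq : s * P * (s * P) = s * P := by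
    rw [Matrix.mul_assoc, ← Matrix.mul_assoc P, hPs, Matrix.one_mul]
  have hidem : (1 - s * P) * (1 - s * P) = 1 - s * P := by
    rw [mul_sub, mul_one, sub_mul, one_mul, hsq, sub_self, sub_zero]
  have hPe : P * (1 - s * P) = 0 := by
    rw [Matrix.mul_sub, Matrix.mul_one, ← Matrix.mul_assoc, hPs, Matrix.one_mul, sub_self]
  have hes : (1 - s * P) * s = 0 := by
    rw [Matrix.sub_mul, Matrix.one_mul, Matrix.mul_assoc, hPs, Matrix.mul_one, sub_self]
  have hmem : ∀ x : ι → R, x ∈ rg (1 - s * P) ↔ P.mulVec x = 0 := by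
    intro x
    rw [mem_rg_iff _ hidem]
    constructor
    · intro h
      rw [← h, Matrix.mulVec_mulVec, hPe, Matrix.zero_mulVec]
    · intro h
      rw [Matrix.sub_mulVec, Matrix.one_mulVec, ← Matrix.mulVec_mulVec, h, Matrix.mulVec_zero,
        sub_zero]
  refine ⟨hidem, hmem, ?_⟩
  let α : (rg (1 - s * P) × (κ → R)) →ₗ[R] (ι → R) :=
    LinearMap.coprod (rg (1 - s * P)).subtype s.mulVecLin
  let β : (ι → R) →ₗ[R] (rg (1 - s * P) × (κ → R)) :=
    LinearMap.prod (1 - s * P).mulVecLin.rangeRestrict P.mulVecLin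
  have hα : ∀ z, α z = z.1.1 + s.mulVec z.2 := fun z => rfl
  have hβ1 : ∀ w, ((β w).1).1 = (1 - s * P).mulVec w := fun w => rfl
  have hβ2 : ∀ w, (β w).2 = P.mulVec w := fun w => rfl
  refine ⟨LinearEquiv.ofLinear α β ?_ ?_⟩
  · apply LinearMap.ext
    intro w
    show α (β w) = w
    rw [hα, hβ1, hβ2, Matrix.sub_mulVec, Matrix.one_mulVec, ← Matrix.mulVec_mulVec]
    abel
  · apply LinearMap.ext
    rintro ⟨x, v⟩
    show β (α (x, v)) = (x, v)
    have hx := (mem_rg_iff _ hidem x.1).1 x.2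
    have hx0 := (hmem x.1).1 x.2
    refine Prod.ext (Subtype.ext ?_) ?_
    · rw [hβ1, hα]
      show (1 - s * P).mulVec (x.1 + s.mulVec v) = x.1
      rw [Matrix.mulVec_add, hx, Matrix.mulVec_mulVec, hes, Matrix.zero_mulVec, add_zero]
    · rw [hβ2, hα]
      show P.mulVec (x.1 + s.mulVec v) = v
      rw [Matrix.mulVec_add, hx0, Matrix.mulVec_mulVec, hPs, Matrix.one_mulVec, zero_add]

theorem equiv_of_stably_free (M' : Type u) [AddCommGroup M'] [Module R M']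
    (ε : (M' × (κ → R)) ≃ₗ[R] (ι → R)) :
    ∃ (Ph : Matrix κ ι R) (Qh : Matrix ι κ R), Ph * Qh = 1 ∧
      ∀ (U : Matrix ι ι R) (E : Matrix ι ι R), IsUnit U → E * E = E →
        (∀ x, x ∈ rg E ↔ (Ph * U).mulVec x = 0) → Nonempty (rg E ≃ₗ[R] M') := by
  let pl : (ι → R) →ₗ[R] (κ → R) := LinearMap.snd R M' (κ → R) ∘ₗ ε.symm.toLinearMap
  let ql : (κ → R) →ₗ[R] (ι → R) := ε.toLinearMap ∘ₗ LinearMap.inr R M' (κ → R)
  have hpl : ∀ w, (LinearMap.toMatrix' pl).mulVec w = (ε.symm w).2 := fun w => by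
    rw [LinearMap.toMatrix'_mulVec]; rfl
  refine ⟨LinearMap.toMatrix' pl, LinearMap.toMatrix' ql, ?_, ?_⟩
  · rw [← LinearMap.toMatrix'_comp, ← LinearMap.toMatrix'_id]
    congr 1
    apply LinearMap.ext
    intro v
    show (ε.symm (ε (0, v))).2 = v
    rw [ε.symm_apply_apply]
  · rintro U E ⟨u, rfl⟩ hE hmem
    have hUV : (u : Matrix ι ι R) * ((u⁻¹ : (Matrix ι ι R)ˣ) : Matrix ι ι R) = 1 := u.mul_inv
    have hVU : ((u⁻¹ : (Matrix ι ι R)ˣ) : Matrix ι ι R) * (u : Matrix ι ι R) = 1 := u.inv_mul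
    let α : rg E →ₗ[R] M' :=
      LinearMap.fst R M' (κ → R) ∘ₗ ε.symm.toLinearMap ∘ₗ (u : Matrix ι ι R).mulVecLin ∘ₗ
        (rg E).subtype
    have hα : ∀ x : rg E, α x = (ε.symm ((u : Matrix ι ι R).mulVec x.1)).1 := fun x => rfl
    have hmemβ : ∀ y : M',
        ((u⁻¹ : (Matrix ι ι R)ˣ) : Matrix ι ι R).mulVec (ε (y, 0)) ∈ rg E := by
      intro y
      rw [hmem, Matrix.mulVec_mulVec, Matrix.mul_assoc, hUV, Matrix.mul_one, hpl,
        ε.symm_apply_apply]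
    let β : M' →ₗ[R] rg E :=
      (((u⁻¹ : (Matrix ι ι R)ˣ) : Matrix ι ι R).mulVecLin ∘ₗ ε.toLinearMap ∘ₗ
        LinearMap.inl R M' (κ → R)).codRestrict (rg E) hmemβ
    have hβ : ∀ y, (β y).1 = ((u⁻¹ : (Matrix ι ι R)ˣ) : Matrix ι ι R).mulVec (ε (y, 0)) :=
      fun y => rfl
    refine ⟨LinearEquiv.ofLinear α β ?_ ?_⟩
    · apply LinearMap.ext
      intro y
      show α (β y) = y
      rw [hα, hβ, Matrix.mulVec_mulVec, hUV, Matrix.one_mulVec, ε.symm_apply_apply]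
    · apply LinearMap.ext
      intro x
      show β (α x) = x
      apply Subtype.ext
      rw [hβ, hα]
      have h0 : (ε.symm ((u : Matrix ι ι R).mulVec x.1)).2 = 0 := by
        have := (hmem x.1).1 x.2
        rwa [← Matrix.mulVec_mulVec, hpl] at this
      have h1 : ((ε.symm ((u : Matrix ι ι R).mulVec x.1)).1, (0 : κ → R)) =
          ε.symm ((u : Matrix ι ι R).mulVec x.1) := Prod.ext rfl h0.symm
      rw [h1, ε.apply_symm_apply, Matrix.mulVec_mulVec, hVU, Matrix.one_mulVec]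

end Pure

section Descent
variable {A Ah Lt Lh : Type u} [CommRing A] [CommRing Ah] [Algebra A Ah]
  [CommRing Lt] [CommRing Lh] [Algebra A Lt] [Algebra Ah Lh] [Algebra Lt Lh] {t : A}
  {ι κ : Type} [Fintype ι] [DecidableEq ι] [Fintype κ] [DecidableEq κ]

theorem Setup.unit_aux (S : Setup A Ah Lt Lh t) (e : Matrix ι ι Lt) (f : Matrix κ κ Lt)
    (Xh : Matrix κ ι Lh) (Yh : Matrix ι κ Lh) (c : ℕ)
    (hce : ∀ i j, Den Ah t c (e.map (algebraMap Lt Lh) i j))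
    (hcf : ∀ i j, Den Ah t c (f.map (algebraMap Lt Lh) i j))
    (hcX : ∀ i j, Den Ah t c (Xh i j)) (hcY : ∀ i j, Den Ah t c (Yh i j))
    (hYX : Yh * Xh = e.map (algebraMap Lt Lh))
    (hfX : f.map (algebraMap Lt Lh) * Xh = Xh) (hXe : Xh * e.map (algebraMap Lt Lh) = Xh)
    (heY : e.map (algebraMap Lt Lh) * Yh = Yh) (hYf : Yh * f.map (algebraMap Lt Lh) = Yh)
    (X₀ : Matrix κ ι Lt) (Y₀ : Matrix ι κ Lt)
    (hX₀ : ∀ i j, Sm Ah t (1 + c + c + c) ((Xh - X₀.map (algebraMap Lt Lh)) i j))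
    (hY₀ : ∀ i j, Sm Ah t (1 + c + c + c) ((Yh - Y₀.map (algebraMap Lt Lh)) i j)) :
    IsUnit ((e * Y₀ * f) * (f * X₀ * e) + (1 - e)) := by
  apply S.isUnit_matrix_of_map
  obtain ⟨φ, hφ⟩ : ∃ φ : Lt →+* Lh, φ = algebraMap Lt Lh := ⟨_, rfl⟩
  rw [← hφ] at hce hcf hYX hfX hXe heY hYf hX₀ hY₀ ⊢
  obtain ⟨eh, heh⟩ : ∃ eh, eh = e.map φ := ⟨_, rfl⟩
  obtain ⟨fh, hfh⟩ : ∃ fh, fh = f.map φ := ⟨_, rfl⟩
  obtain ⟨ΔX, hΔX⟩ : ∃ ΔX, ΔX = Xh - X₀.map φ := ⟨_, rfl⟩
  obtain ⟨ΔY, hΔY⟩ : ∃ ΔY, ΔY = Yh - Y₀.map φ := ⟨_, rfl⟩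
  rw [← heh] at hce hYX hXe heY
  rw [← hfh] at hcf hfX hYf
  rw [← hΔX] at hX₀
  rw [← hΔY] at hY₀
  have hX₀' : X₀.map φ = Xh - ΔX := by rw [hΔX, sub_sub_cancel]
  have hY₀' : Y₀.map φ = Yh - ΔY := by rw [hΔY, sub_sub_cancel]
  have ha : ∀ i j, Sm Ah t (1 + c) ((fh * ΔX * eh) i j) :=
    smM_mul_right (fh * ΔX) eh hce (smM_mul_left fh ΔX hcf hX₀)
  have hb : ∀ i j, Sm Ah t (1 + c) ((eh * ΔY * fh) i j) :=
    smM_mul_right (eh * ΔY) fh hcf (smM_mul_left eh ΔY hce hY₀)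
  have h1 : ((e * Y₀ * f) * (f * X₀ * e) + (1 - e)).map φ =
      1 + (-(Yh * (fh * ΔX * eh)) - (eh * ΔY * fh) * Xh + (eh * ΔY * fh) * (fh * ΔX * eh)) := by
    rw [Matrix.map_add (⇑φ) (map_add φ), Matrix.map_sub (⇑φ) (map_sub φ),
      Matrix.map_one (⇑φ) (map_zero φ) (map_one φ), Matrix.map_mul, Matrix.map_mul,
      Matrix.map_mul, Matrix.map_mul, Matrix.map_mul, ← heh, ← hfh, hX₀', hY₀']
    have h2 : eh * (Yh - ΔY) * fh = Yh - eh * ΔY * fh := by
      rw [Matrix.mul_sub, Matrix.sub_mul, heY, hYf]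
    have h3 : fh * (Xh - ΔX) * eh = Xh - fh * ΔX * eh := by
      rw [Matrix.mul_sub, Matrix.sub_mul, hfX, hXe]
    rw [h2, h3, Matrix.sub_mul, Matrix.mul_sub, Matrix.mul_sub, hYX]
    abel
  rw [h1]
  apply S.isUnit_one_add
  intro i j
  rw [Matrix.add_apply, Matrix.sub_apply, Matrix.neg_apply]
  refine sm_add (sm_sub (sm_neg ?_) ?_) ?_
  · exact smM_mul_left Yh _ hcY ha i j
  · exact smM_mul_right _ Xh hcX hb i j
  · exact sm_mono (by omega) (smM_mul _ _ hb ha i j)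

theorem Setup.iso_descent (S : Setup A Ah Lt Lh t)
    (e : Matrix ι ι Lt) (he : e * e = e) (f : Matrix κ κ Lt) (hf : f * f = f)
    (ξ : rg (e.map (algebraMap Lt Lh)) ≃ₗ[Lh] rg (f.map (algebraMap Lt Lh))) :
    Nonempty (rg e ≃ₗ[Lt] rg f) := by
  have heh : e.map (algebraMap Lt Lh) * e.map (algebraMap Lt Lh) = e.map (algebraMap Lt Lh) := by
    rw [← Matrix.map_mul, he]
  have hfh : f.map (algebraMap Lt Lh) * f.map (algebraMap Lt Lh) = f.map (algebraMap Lt Lh) := by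
    rw [← Matrix.map_mul, hf]
  obtain ⟨Xh, Yh, hfX, hXe, heY, hYf, hYX, hXY⟩ := exists_matrix_of_equiv _ heh _ hfh ξ
  obtain ⟨c₁, hc₁⟩ := S.exists_den_matrix (e.map (algebraMap Lt Lh))
  obtain ⟨c₂, hc₂⟩ := S.exists_den_matrix (f.map (algebraMap Lt Lh))
  obtain ⟨c₃, hc₃⟩ := S.exists_den_matrix Xh
  obtain ⟨c₄, hc₄⟩ := S.exists_den_matrix Yh
  obtain ⟨c, hc⟩ : ∃ c, c = c₁ + c₂ + c₃ + c₄ := ⟨_, rfl⟩
  have hce : ∀ i j, Den Ah t c (e.map (algebraMap Lt Lh) i j) :=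
    fun i j => den_mono (by omega) (hc₁ i j)
  have hcf : ∀ i j, Den Ah t c (f.map (algebraMap Lt Lh) i j) :=
    fun i j => den_mono (by omega) (hc₂ i j)
  have hcX : ∀ i j, Den Ah t c (Xh i j) := fun i j => den_mono (by omega) (hc₃ i j)
  have hcY : ∀ i j, Den Ah t c (Yh i j) := fun i j => den_mono (by omega) (hc₄ i j)
  obtain ⟨X₀, hX₀⟩ := S.approx_matrix Xh (1 + c + c + c)
  obtain ⟨Y₀, hY₀⟩ := S.approx_matrix Yh (1 + c + c + c)
  have hWM := S.unit_aux e f Xh Yh c hce hcf hcX hcY hYX hfX hXe heY hYf X₀ Y₀ hX₀ hY₀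
  have hWN := S.unit_aux f e Yh Xh c hcf hce hcY hcX hXY heY hYf hfX hXe Y₀ X₀ hY₀ hX₀
  exact equiv_of_matrix e he f hf (f * X₀ * e) (e * Y₀ * f)
    (by rw [← Matrix.mul_assoc, ← Matrix.mul_assoc, hf])
    (by rw [← Matrix.mul_assoc, ← Matrix.mul_assoc, he]) hWM hWN

theorem Setup.part1 (S : Setup A Ah Lt Lh t) (M N : Type u) [AddCommGroup M] [Module Lt M]
    [Module.Finite Lt M] [Module.Projective Lt M] [AddCommGroup N] [Module Lt N]
    [Module.Finite Lt N] [Module.Projective Lt N]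
    (h : Nonempty (Lh ⊗[Lt] M ≃ₗ[Lh] Lh ⊗[Lt] N)) : Nonempty (M ≃ₗ[Lt] N) := by
  obtain ⟨ξ⟩ := h
  obtain ⟨a, e, he, ⟨iM⟩⟩ := exists_idem_of_projective Lt M
  obtain ⟨b, f, hf, ⟨iN⟩⟩ := exists_idem_of_projective Lt N
  obtain ⟨jM⟩ := baseChange_rg (S := Lh) e he
  obtain ⟨jN⟩ := baseChange_rg (S := Lh) f hf
  obtain ⟨k⟩ := S.iso_descent e he f hf
    (jM.symm ≪≫ₗ (LinearEquiv.baseChange Lt Lh _ _ iM.symm) ≪≫ₗ ξ ≪≫ₗ
      (LinearEquiv.baseChange Lt Lh _ _ iN) ≪≫ₗ jN)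
  exact ⟨iM ≪≫ₗ k ≪≫ₗ iN.symm⟩

theorem Setup.exists_right_inv_approx (S : Setup A Ah Lt Lh t)
    (Ph : Matrix κ ι Lh) (Qh : Matrix ι κ Lh) (hPQ : Ph * Qh = 1) :
    ∃ (P : Matrix κ ι Lt) (s : Matrix ι κ Lt) (U : Matrix ι ι Lh), IsUnit U ∧ P * s = 1 ∧
      Ph * U = P.map (algebraMap Lt Lh) := by
  obtain ⟨φ, hφ⟩ : ∃ φ : Lt →+* Lh, φ = algebraMap Lt Lh := ⟨_, rfl⟩
  obtain ⟨c, hc⟩ := S.exists_den_matrix Qh
  obtain ⟨P, hP⟩ := S.approx_matrix Ph (1 + c)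
  rw [← hφ] at hP ⊢
  obtain ⟨Δ, hΔ⟩ : ∃ Δ, Δ = Ph - P.map φ := ⟨_, rfl⟩
  rw [← hΔ] at hP
  have hU : IsUnit (1 + -(Qh * Δ)) := S.isUnit_one_add _ (fun i j => by
    rw [Matrix.neg_apply]; exact sm_neg (smM_mul_left Qh Δ hc hP i j))
  have hPU : Ph * (1 + -(Qh * Δ)) = P.map φ := by
    rw [Matrix.mul_add, Matrix.mul_one, Matrix.mul_neg, ← Matrix.mul_assoc, hPQ, Matrix.one_mul,
      hΔ]
    abel
  obtain ⟨V, hV⟩ := hU.exists_right_inv
  obtain ⟨c', hc'⟩ := S.exists_den_matrix (P.map φ)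
  obtain ⟨Q₀, hQ₀⟩ := S.approx_matrix (V * Qh) (1 + c')
  rw [← hφ] at hQ₀
  obtain ⟨Δ', hΔ'⟩ : ∃ Δ', Δ' = V * Qh - Q₀.map φ := ⟨_, rfl⟩
  rw [← hΔ'] at hQ₀
  have h1 : P.map φ * (V * Qh) = 1 := by
    rw [← hPU, Matrix.mul_assoc, ← Matrix.mul_assoc _ V, hV, Matrix.one_mul, hPQ]
  have hQ₀' : Q₀.map φ = V * Qh - Δ' := by rw [hΔ', sub_sub_cancel]
  have h2 : (P * Q₀).map φ = 1 + -(P.map φ * Δ') := by
    rw [Matrix.map_mul, hQ₀', Matrix.mul_sub, h1]
    abel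
  have hW : IsUnit (P * Q₀) := by
    apply S.isUnit_matrix_of_map
    rw [← hφ, h2]
    exact S.isUnit_one_add _ (fun i j => by
      rw [Matrix.neg_apply]; exact sm_neg (smM_mul_left _ Δ' hc' hQ₀ i j))
  obtain ⟨W', hW'⟩ := hW.exists_right_inv
  exact ⟨P, Q₀ * W', _, hU, by rw [← Matrix.mul_assoc, hW'], hPU⟩

theorem Setup.part2 (S : Setup A Ah Lt Lh t) (M' : Type u) [AddCommGroup M'] [Module Lh M']
    (n m : ℕ) (ε : (M' × (Fin n → Lh)) ≃ₗ[Lh] (Fin m → Lh)) :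
    ∃ (M : Type u) (_ : AddCommGroup M) (_ : Module Lt M), Module.Finite Lt M ∧
      (∃ n m : ℕ, Nonempty ((M × (Fin n → Lt)) ≃ₗ[Lt] (Fin m → Lt))) ∧
      Nonempty (Lh ⊗[Lt] M ≃ₗ[Lh] M') := by
  obtain ⟨Ph, Qh, hPQ, hiso⟩ := equiv_of_stably_free M' ε
  obtain ⟨P, s, U, hU, hPs, hPU⟩ := S.exists_right_inv_approx Ph Qh hPQ
  obtain ⟨hidem, hmem, ⟨k⟩⟩ := split_of_right_inv P s hPs
  refine ⟨rg (1 - s * P), inferInstance, inferInstance, inferInstance, ⟨n, m, ⟨k⟩⟩, ?_⟩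
  obtain ⟨j⟩ := baseChange_rg (S := Lh) (1 - s * P) hidem
  obtain ⟨φ, hφ⟩ : ∃ φ : Lt →+* Lh, φ = algebraMap Lt Lh := ⟨_, rfl⟩
  rw [← hφ] at j hPU
  have hE : (1 - s * P).map φ = 1 - s.map φ * P.map φ := by
    rw [Matrix.map_sub (⇑φ) (map_sub φ), Matrix.map_one (⇑φ) (map_zero φ) (map_one φ),
      Matrix.map_mul]
  have hPs' : P.map φ * s.map φ = 1 := by
    rw [← Matrix.map_mul, hPs, Matrix.map_one (⇑φ) (map_zero φ) (map_one φ)]
  obtain ⟨hidem', hmem', -⟩ := split_of_right_inv (P.map φ) (s.map φ) hPs'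
  obtain ⟨l⟩ := hiso U ((1 - s * P).map φ) hU (by rw [hE]; exact hidem')
    (fun x => by rw [hE, hPU]; exact hmem' x)
  exact ⟨j ≪≫ₗ l⟩

end Descent

end Groth.Agent.Lib.Helper26.LoopApprox
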