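import Mathlib
import Groth.Agent.Lib.Helper26.LoopApprox
import Groth.Agent.S0526

/-!
# Approximating idempotent matrices over `Â[1/t]` by idempotent matrices over `A[1/t]` (helper26)

For a Henselian pair `(A, tA)` with bounded `t`-power torsion.
-/

set_option autoImplicit false
universe u

open TensorProduct

namespace Groth.Agent.Lib.Helper26.LoopApprox

open Polynomial in
/-- Hensel step in a commutative ring, Henselian along `τ`. -/
theorem comm_hensel {Cc : Type u} [CommRing Cc] (τ : Cc) [HenselianRing Cc (Ideal.span {τ})]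
    (g d : Cc) (c : ℕ) (h : g * g - τ ^ c * g = τ ^ (4 * c + 1) * d) :
    ∃ y : Cc, (g + (2 * g - τ ^ c) * (τ ^ (2 * c + 1) * y)) *
        (g + (2 * g - τ ^ c) * (τ ^ (2 * c + 1) * y)) =
      τ ^ c * (g + (2 * g - τ ^ c) * (τ ^ (2 * c + 1) * y)) := by
  have hJ : τ ∈ Ideal.jacobson (⊥ : Ideal Cc) :=
    HenselianRing.jac (Ideal.subset_span (Set.mem_singleton τ))
  obtain ⟨u, hu⟩ : IsUnit (1 + 4 * (τ ^ (2 * c + 1) * d)) := by
    have := (Ideal.mem_jacobson_bot.mp hJ) (4 * (τ ^ (2 * c) * d))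
    convert this using 1; ring
  have huv : (u : Cc) * ((u⁻¹ : Ccˣ) : Cc) = 1 := Units.mul_inv u
  have hfm : (X ^ 2 + (X + C (((u⁻¹ : Ccˣ) : Cc) * (τ ^ (2 * c + 1) * d))) : Cc[X]).Monic := by
    apply monic_X_pow_add
    refine lt_of_le_of_lt (degree_add_le _ _) ?_
    refine max_lt (lt_of_le_of_lt degree_X_le (by norm_num))
      (lt_of_le_of_lt degree_C_le (by norm_num))
  obtain ⟨η, hroot, hη⟩ := HenselianRing.is_henselian
    (X ^ 2 + (X + C (((u⁻¹ : Ccˣ) : Cc) * (τ ^ (2 * c + 1) * d))) : Cc[X]) hfm 0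
    (by
      simp only [eval_add, eval_pow, eval_X, eval_C]
      have h0 : (0 : Cc) ^ 2 + (0 + ((u⁻¹ : Ccˣ) : Cc) * (τ ^ (2 * c + 1) * d)) =
          (((u⁻¹ : Ccˣ) : Cc) * τ ^ (2 * c) * d) * τ := by ring
      rw [h0]
      exact Ideal.mul_mem_left _ _ (Ideal.subset_span (Set.mem_singleton τ)))
    (by
      have h0 : eval 0 (derivative
          (X ^ 2 + (X + C (((u⁻¹ : Ccˣ) : Cc) * (τ ^ (2 * c + 1) * d))) : Cc[X])) = 1 := by
        rw [derivative_add, derivative_add, derivative_X_pow, derivative_X, derivative_C,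
          eval_add, eval_add, eval_mul, eval_pow, eval_X, eval_one, eval_zero]
        norm_num
      rw [h0, map_one]
      exact isUnit_one)
  rw [sub_zero] at hη
  rw [IsRoot.def] at hroot
  simp only [eval_add, eval_pow, eval_X, eval_C] at hroot
  have hroot' : (u : Cc) * (η * η + η) + τ ^ (2 * c + 1) * d = 0 := by
    linear_combination (u : Cc) * hroot - (τ ^ (2 * c + 1) * d) * huv
  obtain ⟨w, hw⟩ : IsUnit (η * 1 + 1) :=
    (Ideal.mem_jacobson_bot.mp (HenselianRing.jac hη)) 1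
  have hwinv : (η + 1) * ((w⁻¹ : Ccˣ) : Cc) = 1 := by
    have := Units.mul_inv w
    rw [hw, mul_one] at this
    exact this
  have hη'' : η = τ ^ (2 * c + 1) * (-(((u⁻¹ : Ccˣ) : Cc) * d * ((w⁻¹ : Ccˣ) : Cc))) := by
    linear_combination (-η) * hwinv + ((w⁻¹ : Ccˣ) : Cc) * hroot
  refine ⟨-(((u⁻¹ : Ccˣ) : Cc) * d * ((w⁻¹ : Ccˣ) : Cc)), ?_⟩
  rw [← hη'']
  rw [hu] at hroot'
  linear_combination (1 + 4 * (η * η + η)) * h + τ ^ (2 * c) * hroot'

theorem hensel_idem_aux {A : Type u} [CommRing A] (t : A) [HenselianRing A (Ideal.span {t})]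
    (Cc : Type u) [CommRing Cc] [Algebra A Cc] [Algebra.IsIntegral A Cc] (g d : Cc) (c : ℕ)
    (h : g * g - algebraMap A Cc t ^ c * g = algebraMap A Cc t ^ (4 * c + 1) * d) :
    ∃ y : Cc, (g + (2 * g - algebraMap A Cc t ^ c) * (algebraMap A Cc t ^ (2 * c + 1) * y)) *
        (g + (2 * g - algebraMap A Cc t ^ c) * (algebraMap A Cc t ^ (2 * c + 1) * y)) =
      algebraMap A Cc t ^ c *
        (g + (2 * g - algebraMap A Cc t ^ c) * (algebraMap A Cc t ^ (2 * c + 1) * y)) := by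
  haveI : HenselianRing Cc (Ideal.span {algebraMap A Cc t}) := by
    have := Groth.Agent.S0526.result A (Ideal.span {t}) Cc
    rwa [Ideal.map_span, Set.image_singleton] at this
  exact comm_hensel (algebraMap A Cc t) g d c h

open scoped IsMulCommutative in
/-- Hensel step for commuting elements of a (noncommutative) integral algebra. -/
theorem hensel_idem {A : Type u} [CommRing A] (t : A) [HenselianRing A (Ideal.span {t})]
    {B : Type u} [Ring B] [Algebra A B] [Algebra.IsIntegral A B] (g d : B) (hgd : g * d = d * g)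
    (c : ℕ) (h : g * g - t ^ c • g = t ^ (4 * c + 1) • d) :
    ∃ Y : B, (g + (2 * g - t ^ c • 1) * (t ^ (2 * c + 1) • Y)) *
        (g + (2 * g - t ^ c • 1) * (t ^ (2 * c + 1) • Y)) =
      t ^ c • (g + (2 * g - t ^ c • 1) * (t ^ (2 * c + 1) • Y)) := by
  have hcomm : ∀ a ∈ ({g, d} : Set B), ∀ b ∈ ({g, d} : Set B), a * b = b * a := by
    intro a ha b hb
    rcases ha with rfl | rfl <;> rcases hb with rfl | rfl
    · rfl
    · exact hgd
    · exact hgd.symm
    · rfl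
  haveI := Algebra.isMulCommutative_adjoin A hcomm
  haveI : Algebra.IsIntegral A (Algebra.adjoin A ({g, d} : Set B)) :=
    ⟨fun x => (isIntegral_algHom_iff (Algebra.adjoin A ({g, d} : Set B)).val
      Subtype.val_injective).1 (Algebra.IsIntegral.isIntegral (x : B))⟩
  have hg : g ∈ Algebra.adjoin A ({g, d} : Set B) := Algebra.subset_adjoin (Set.mem_insert _ _)
  have hd : d ∈ Algebra.adjoin A ({g, d} : Set B) :=
    Algebra.subset_adjoin (Set.mem_insert_of_mem _ rfl)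
  obtain ⟨y, hy⟩ := hensel_idem_aux t (Algebra.adjoin A ({g, d} : Set B)) ⟨g, hg⟩ ⟨d, hd⟩ c (by
    apply Subtype.ext
    simp only [Subalgebra.coe_sub, Subalgebra.coe_mul, Subalgebra.coe_pow,
      Subalgebra.coe_algebraMap]
    rw [← map_pow, ← map_pow, ← Algebra.smul_def, ← Algebra.smul_def]
    exact h)
  refine ⟨y.1, ?_⟩
  have := congrArg (Algebra.adjoin A ({g, d} : Set B)).val hy
  simp only [map_mul, map_add, map_sub, map_pow, AlgHom.commutes, map_ofNat,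
    Subalgebra.val_apply] at this
  simp only [Algebra.smul_def, map_pow, mul_one]
  exact this

/-- The core approximation lemma, in abstract (noncommutative) algebras. -/
theorem core {A Ah : Type u} [CommRing A] [CommRing Ah] [Algebra A Ah] (t : A)
    [HenselianRing A (Ideal.span {t})]
    {B Bh : Type u} [Ring B] [Algebra A B] [Algebra.IsIntegral A B] [Ring Bh] [Algebra Ah Bh]
    (αB : B →+* Bh) (hα : ∀ (a : A) (x : B), αB (a • x) = algebraMap A Ah a • αB x)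
    (N₀ : ℕ) (hbdB : ∀ x : B, (∃ m : ℕ, t ^ m • x = 0) → t ^ N₀ • x = 0)
    (H2B : ∀ (X : Bh) (N : ℕ), ∃ (a : B) (r : Bh), X = αB a + (algebraMap A Ah t) ^ N • r)
    (H3B : ∀ (a : B) (N : ℕ), (∃ r : Bh, αB a = (algebraMap A Ah t) ^ N • r) →
      ∃ c : B, a = t ^ N • c)
    (gh : Bh) (c J : ℕ)
    (hZ : (algebraMap A Ah t) ^ J • (gh * gh - (algebraMap A Ah t) ^ c • gh) = 0) :
    ∃ (G : B) (R' : Bh), G * G = t ^ (c + N₀) • G ∧
      αB G = (algebraMap A Ah t) ^ N₀ • gh + (algebraMap A Ah t) ^ (2 * (c + N₀) + 1) • R' := by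
  obtain ⟨th, hth⟩ : ∃ th, th = algebraMap A Ah t := ⟨_, rfl⟩
  rw [← hth] at H2B H3B hZ ⊢
  have hαp : ∀ (k : ℕ) (x : B), αB (t ^ k • x) = th ^ k • αB x := fun k x => by
    rw [hα, map_pow, hth]
  obtain ⟨c₁, hc₁⟩ : ∃ c₁, c₁ = c + N₀ := ⟨_, rfl⟩
  rw [← hc₁]
  obtain ⟨G₀, R, hG₀⟩ := H2B gh (4 * c₁ + 1)
  have ha : αB G₀ = gh - th ^ (4 * c₁ + 1) • R := by rw [hG₀]; abel
  have h1 : αB (t ^ J • (G₀ * G₀ - t ^ c • G₀)) = th ^ (J + (4 * c₁ + 1)) •
      (-(gh * R) - R * gh + th ^ (4 * c₁ + 1) • (R * R) + th ^ c • R) := by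
    rw [hαp, map_sub, map_mul, hαp, ha]
    have h2 : (gh - th ^ (4 * c₁ + 1) • R) * (gh - th ^ (4 * c₁ + 1) • R) -
        th ^ c • (gh - th ^ (4 * c₁ + 1) • R) =
        (gh * gh - th ^ c • gh) + th ^ (4 * c₁ + 1) •
          (-(gh * R) - R * gh + th ^ (4 * c₁ + 1) • (R * R) + th ^ c • R) := by
      simp only [sub_mul, mul_sub, smul_mul_assoc, mul_smul_comm]
      module
    rw [h2, smul_add, hZ, zero_add, smul_smul, ← pow_add]
  obtain ⟨D₁, hD₁⟩ := H3B _ _ ⟨_, h1⟩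
  have h3 : t ^ N₀ • ((G₀ * G₀ - t ^ c • G₀) - t ^ (4 * c₁ + 1) • D₁) = 0 := by
    apply hbdB
    refine ⟨J, ?_⟩
    rw [smul_sub, hD₁, smul_smul, ← pow_add, sub_self]
  have hE1 : t ^ N₀ • (G₀ * G₀ - t ^ c • G₀) = t ^ N₀ • t ^ (4 * c₁ + 1) • D₁ := by
    rw [smul_sub] at h3; exact sub_eq_zero.mp h3
  obtain ⟨G₁, hG₁⟩ : ∃ G₁, G₁ = t ^ N₀ • G₀ := ⟨_, rfl⟩
  obtain ⟨D', hD'⟩ : ∃ D', D' = t ^ (2 * N₀) • D₁ := ⟨_, rfl⟩
  have hE2 : G₁ * G₁ - t ^ c₁ • G₁ = t ^ (4 * c₁ + 1) • D' := by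
    have h4 : G₁ * G₁ - t ^ c₁ • G₁ = t ^ N₀ • (t ^ N₀ • (G₀ * G₀ - t ^ c • G₀)) := by
      rw [hG₁, hc₁]
      simp only [smul_mul_assoc, mul_smul_comm, smul_sub]
      module
    rw [h4, hE1, hD']
    module
  have hcomm : G₁ * D' = D' * G₁ := by
    have h4 : t ^ (4 * c₁ + 1 + 2 * N₀) • (G₁ * D₁ - D₁ * G₁) = 0 := by
      have h5 : t ^ (4 * c₁ + 1 + 2 * N₀) • (G₁ * D₁ - D₁ * G₁) =
          G₁ * (t ^ (4 * c₁ + 1) • D') - (t ^ (4 * c₁ + 1) • D') * G₁ := by
        rw [hD']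
        simp only [smul_mul_assoc, mul_smul_comm, smul_sub]
        module
      rw [h5, ← hE2]
      simp only [mul_sub, sub_mul, smul_mul_assoc, mul_smul_comm, mul_assoc]
      abel
    have h6 := hbdB _ ⟨_, h4⟩
    have h7 : G₁ * D' - D' * G₁ = t ^ N₀ • (t ^ N₀ • (G₁ * D₁ - D₁ * G₁)) := by
      rw [hD']
      simp only [smul_mul_assoc, mul_smul_comm, smul_sub]
      module
    rw [h6, smul_zero] at h7
    exact sub_eq_zero.mp h7
  obtain ⟨Y, hY⟩ := hensel_idem t G₁ D' hcomm c₁ hE2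
  refine ⟨G₁ + (2 * G₁ - t ^ c₁ • 1) * (t ^ (2 * c₁ + 1) • Y),
    αB ((2 * G₁ - t ^ c₁ • 1) * Y) - th ^ (N₀ + 2 * c₁) • R, hY, ?_⟩
  rw [mul_smul_comm, map_add, hαp, hG₁, hαp, ha]
  module

section Pure2
variable {R : Type u} [CommRing R] {ι : Type} [Fintype ι] [DecidableEq ι]

theorem equiv_of_conj (p q v : Matrix ι ι R) (hp : p * p = p) (hq : q * q = q) (hv : IsUnit v)
    (h : q * v = v * p) : Nonempty (rg p ≃ₗ[R] rg q) := by
  obtain ⟨u, rfl⟩ := hv
  have hUV : (u : Matrix ι ι R) * ((u⁻¹ : (Matrix ι ι R)ˣ) : Matrix ι ι R) = 1 := u.mul_inv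
  have hVU : ((u⁻¹ : (Matrix ι ι R)ˣ) : Matrix ι ι R) * (u : Matrix ι ι R) = 1 := u.inv_mul
  refine equiv_of_matrix p hp q hq (q * u) (p * ((u⁻¹ : (Matrix ι ι R)ˣ) : Matrix ι ι R))
    (by rw [← mul_assoc, hq]) (by rw [← mul_assoc, hp]) ?_ ?_
  · have h1 : p * ((u⁻¹ : (Matrix ι ι R)ˣ) : Matrix ι ι R) * (q * u) + (1 - p) = 1 := by
      rw [h, mul_assoc, ← mul_assoc ((u⁻¹ : (Matrix ι ι R)ˣ) : Matrix ι ι R), hVU, one_mul, hp]
      abel
    rw [h1]; exact isUnit_one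
  · have h1 : q * u * (p * ((u⁻¹ : (Matrix ι ι R)ˣ) : Matrix ι ι R)) + (1 - q) = 1 := by
      rw [h, mul_assoc, ← mul_assoc p, hp, ← mul_assoc, ← h, mul_assoc, hUV, mul_one]
      abel
    rw [h1]; exact isUnit_one

theorem map_smul_matrix {R' S' : Type*} [CommRing R'] [CommRing S'] (f : R' →+* S')
    {m n : Type*} (a : R') (M : Matrix m n R') : (a • M).map f = f a • M.map f := by
  ext i j
  rw [Matrix.map_apply, Matrix.smul_apply, Matrix.smul_apply, Matrix.map_apply, smul_eq_mul,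
    smul_eq_mul, map_mul]

end Pure2

section Descent2
variable {A Ah Lt Lh : Type u} [CommRing A] [CommRing Ah] [Algebra A Ah]
  [CommRing Lt] [CommRing Lh] [Algebra A Lt] [Algebra Ah Lh] [Algebra Lt Lh] {t : A}

local notation "th" => (algebraMap A Ah t)
local notation "Th" => (algebraMap Ah Lh (algebraMap A Ah t))

theorem Setup.exists_idem_approx (S : Setup A Ah Lt Lh t) [HenselianRing A (Ideal.span {t})]
    (hbd : ∃ N : ℕ, ∀ a : A, (∃ m : ℕ, t ^ m * a = 0) → t ^ N * a = 0)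
    {ι : Type} [Fintype ι] [DecidableEq ι] (eh : Matrix ι ι Lh) (heh : eh * eh = eh) :
    ∃ e : Matrix ι ι Lt, e * e = e ∧
      Nonempty (rg (e.map (algebraMap Lt Lh)) ≃ₗ[Lh] rg eh) := by
  classical
  obtain ⟨N₀, hN₀⟩ := hbd
  haveI := S.locT
  haveI := S.locH
  obtain ⟨c, hc⟩ := S.exists_den_matrix eh
  -- (a)
  have hc' : ∀ i j, ∃ r : Ah, eh i j * Th ^ c = algebraMap Ah Lh r := by
    intro i j
    obtain ⟨r, hr⟩ := hc i j
    exact ⟨r, by rw [hr, pow_zero, one_mul]⟩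
  choose gh' hgh' using hc'
  obtain ⟨gh, hgh⟩ : ∃ gh : Matrix ι ι Ah, ∀ i j, eh i j * Th ^ c = algebraMap Ah Lh (gh i j) :=
    ⟨Matrix.of gh', hgh'⟩
  -- (b)
  have hψZ : ∀ i j, algebraMap Ah Lh ((gh * gh - th ^ c • gh) i j) = 0 := by
    intro i j
    rw [Matrix.sub_apply, Matrix.smul_apply, Matrix.mul_apply, smul_eq_mul, map_sub, map_sum,
      map_mul, map_pow, ← hgh]
    simp only [map_mul, ← hgh]
    have h1 : ∑ k, eh i k * Th ^ c * (eh k j * Th ^ c) =
        (∑ k, eh i k * eh k j) * (Th ^ c * Th ^ c) := by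
      rw [Finset.sum_mul]; exact Finset.sum_congr rfl fun k _ => by ring
    rw [h1, ← Matrix.mul_apply, heh]; ring
  have hJ' : ∀ i j, ∃ m : ℕ, th ^ m * (gh * gh - th ^ c • gh) i j = 0 := by
    intro i j
    obtain ⟨⟨_, m, rfl⟩, hm⟩ :=
      (IsLocalization.map_eq_zero_iff (Submonoid.powers th) Lh _).mp (hψZ i j)
    exact ⟨m, hm⟩
  choose Jf hJf using hJ'
  obtain ⟨J, hJ⟩ : ∃ J, ∀ i j, Jf i j ≤ J :=
    ⟨Finset.univ.sup (fun ij : ι × ι => Jf ij.1 ij.2), fun i j =>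
      Finset.le_sup (f := fun ij : ι × ι => Jf ij.1 ij.2) (Finset.mem_univ (i, j))⟩
  have hZ : th ^ J • (gh * gh - th ^ c • gh) = 0 := by
    ext i j
    rw [Matrix.smul_apply, smul_eq_mul, Matrix.zero_apply, ← Nat.sub_add_cancel (hJ i j), pow_add,
      mul_assoc, hJf, mul_zero]
  -- (c)
  haveI : Algebra.IsIntegral A (Matrix ι ι A) := Algebra.IsIntegral.of_finite A (Matrix ι ι A)
  obtain ⟨G, R', hGG, hαG⟩ := core t (B := Matrix ι ι A) (Bh := Matrix ι ι Ah)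
    (algebraMap A Ah).mapMatrix
    (fun a x => by
      ext i j
      rw [RingHom.mapMatrix_apply, Matrix.map_apply, Matrix.smul_apply, Matrix.smul_apply,
        RingHom.mapMatrix_apply, Matrix.map_apply, smul_eq_mul, smul_eq_mul, map_mul])
    N₀ (fun x ⟨m, hm⟩ => by
      ext i j
      rw [Matrix.smul_apply, smul_eq_mul, Matrix.zero_apply]
      apply hN₀
      refine ⟨m, ?_⟩
      have := congrFun (congrFun hm i) j
      rwa [Matrix.smul_apply, smul_eq_mul, Matrix.zero_apply] at this)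
    (fun X N => by
      choose a r har using fun i j => S.H2 (X i j) N
      refine ⟨Matrix.of a, Matrix.of r, ?_⟩
      ext i j
      rw [Matrix.add_apply, RingHom.mapMatrix_apply, Matrix.map_apply, Matrix.smul_apply,
        Matrix.of_apply, Matrix.of_apply, smul_eq_mul]
      exact har i j)
    (fun a N ⟨r, hr⟩ => by
      have h : ∀ i j, ∃ c', a i j = t ^ N * c' := fun i j => S.H3 (a i j) N ⟨r i j, by
        have := congrFun (congrFun hr i) j
        rwa [RingHom.mapMatrix_apply, Matrix.map_apply, Matrix.smul_apply, smul_eq_mul] at this⟩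
      choose c' hc' using h
      refine ⟨Matrix.of c', ?_⟩
      ext i j
      rw [Matrix.smul_apply, Matrix.of_apply, smul_eq_mul]
      exact hc' i j)
    gh c J hZ
  -- (d)
  obtain ⟨u, hu⟩ := (IsLocalization.Away.algebraMap_isUnit (S := Lt) t).pow (c + N₀)
  obtain ⟨iu, hiu⟩ : ∃ iu : Lt, iu * (algebraMap A Lt t) ^ (c + N₀) = 1 :=
    ⟨↑u⁻¹, by rw [← hu, Units.inv_mul]⟩
  obtain ⟨e, he_def⟩ : ∃ e : Matrix ι ι Lt, e = iu • G.map (algebraMap A Lt) := ⟨_, rfl⟩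
  have he : e * e = e := by
    rw [he_def, smul_mul_assoc, mul_smul_comm, ← Matrix.map_mul, hGG, map_smul_matrix, smul_smul,
      smul_smul, map_pow]
    congr 1
    rw [mul_assoc, hiu, mul_one]
  -- (e)
  have hclose : ∀ i j, Sm Ah t (1 + c) ((e.map (algebraMap Lt Lh) - eh) i j) := by
    intro i j
    refine ⟨th ^ N₀ * R' i j, ?_⟩
    have h1 : algebraMap A Ah (G i j) =
        th ^ N₀ * gh i j + th ^ (2 * (c + N₀) + 1) * R' i j := by
      have := congrFun (congrFun hαG i) j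
      rwa [RingHom.mapMatrix_apply, Matrix.map_apply, Matrix.add_apply, Matrix.smul_apply,
        Matrix.smul_apply, smul_eq_mul, smul_eq_mul] at this
    have h2 : algebraMap Lt Lh iu * Th ^ (c + N₀) = 1 := by
      have := congrArg (algebraMap Lt Lh) hiu
      rwa [map_mul, map_pow, S.hφ, map_one] at this
    rw [Matrix.sub_apply, Matrix.map_apply, he_def, Matrix.smul_apply, Matrix.map_apply,
      smul_eq_mul, map_mul, S.hφ, h1]
    simp only [map_add, map_mul, map_pow, ← hgh]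
    linear_combination (eh i j + Th ^ (c + N₀ + 1) * algebraMap Ah Lh (R' i j)) * h2
  -- (f)
  obtain ⟨q, hq_def⟩ : ∃ q, q = e.map (algebraMap Lt Lh) := ⟨_, rfl⟩
  rw [← hq_def] at hclose
  have hq : q * q = q := by rw [hq_def, ← Matrix.map_mul, he]
  obtain ⟨δ, hδ⟩ : ∃ δ, δ = q - eh := ⟨_, rfl⟩
  rw [← hδ] at hclose
  have hδp : δ * eh = q * eh - eh := by rw [hδ, sub_mul, heh]
  have hD : ∀ i j, Sm Ah t 1 ((δ * eh + δ * eh - δ) i j) := by
    intro i j
    rw [Matrix.sub_apply, Matrix.add_apply]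
    have h1 := smM_mul_right δ eh hc hclose i j
    exact sm_sub (sm_add h1 h1) (sm_mono (by omega) (hclose i j))
  have hv := S.isUnit_one_add _ hD
  have hv' : 1 + (δ * eh + δ * eh - δ) = 1 + (q * eh + q * eh - eh - q) := by
    rw [hδp, hδ]; abel
  rw [hv'] at hv
  have hqv : q * (1 + (q * eh + q * eh - eh - q)) = q * eh := by
    rw [mul_add, mul_sub, mul_sub, mul_add, mul_one, ← mul_assoc, hq]; abel
  have hvp : (1 + (q * eh + q * eh - eh - q)) * eh = q * eh := by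
    rw [add_mul, sub_mul, sub_mul, add_mul, one_mul, mul_assoc, heh]; abel
  obtain ⟨k⟩ := equiv_of_conj eh q _ heh hq hv (hqv.trans hvp.symm)
  subst hq_def
  exact ⟨e, he, ⟨k.symm⟩⟩

theorem Setup.part3 (S : Setup A Ah Lt Lh t) [HenselianRing A (Ideal.span {t})]
    (hbd : ∃ N : ℕ, ∀ a : A, (∃ m : ℕ, t ^ m * a = 0) → t ^ N * a = 0)
    (M' : Type u) [AddCommGroup M'] [Module Lh M'] [Module.Finite Lh M']
    [Module.Projective Lh M'] :
    ∃ (M : Type u) (_ : AddCommGroup M) (_ : Module Lt M), Module.Finite Lt M ∧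
      Module.Projective Lt M ∧ Nonempty (Lh ⊗[Lt] M ≃ₗ[Lh] M') := by
  obtain ⟨n, eh, heh, ⟨i⟩⟩ := exists_idem_of_projective Lh M'
  obtain ⟨e, he, ⟨k⟩⟩ := S.exists_idem_approx hbd eh heh
  obtain ⟨j⟩ := baseChange_rg (S := Lh) e he
  refine ⟨rg e, inferInstance, inferInstance, inferInstance, ?_, ⟨j ≪≫ₗ k ≪≫ₗ i.symm⟩⟩
  exact Module.Projective.of_split (rg e).subtype e.mulVecLin.rangeRestrict (by
    apply LinearMap.ext
    intro x
    apply Subtype.ext
    exact (mem_rg_iff e he x.1).1 x.2)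

end Descent2

end Groth.Agent.Lib.Helper26.LoopApprox
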