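import Groth.Prelude.Def_Formal2
import Groth.Prelude.Def_KLin
import Groth.Agent.Lib.Helper26.AdicLim
import Groth.Agent.Lib.Helper3.ModBasis
import Groth.Agent.Lib.Helper3.QCLim
import Groth.Agent.Lib.Helper14.ProIsoAdic

/-!
# The limit of a quasi-coherent formal system modulo `I^(n+1)`
-/

set_option autoImplicit false
universe u
open CategoryTheory CategoryTheory.Limits AlgebraicGeometry TopologicalSpace Opposite
open Scheme.Modules

namespace Groth.Agent.Lib.Helper26.QCFormalLim

open Groth.Agent.Lib.Helper3 Groth.Agent.Lib.Helper14.ProIsoAdic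

variable {A : Type u} [CommRing A] {X : Scheme.{u}} [X.Over (Spec (CommRingCat.of A))]

/-- the structure map `A → Γ(X, V)`. -/
noncomputable def rho (V : X.Opens) : A →+* Γ(X, V) :=
  RingHom.comp (X.presheaf.map (homOfLE (le_top : V ≤ ⊤)).op).hom
    (show A →+* Γ(X, (⊤ : X.Opens)) from Coh.toGlobal (X ↘ Spec (CommRingCat.of A)))

theorem smulMod_app (M : X.Modules) (a : A) (V : X.Opens) (s : Γ(M, V)) :
    (Formal.smulMod A M a).app V s = rho (A := A) V a • s := rfl

theorem smulMod_add (M : X.Modules) (a b : A) :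
    Formal.smulMod A M (a + b) = Formal.smulMod A M a + Formal.smulMod A M b := by
  unfold Formal.smulMod
  rw [map_add, KLin.smulModΓ_add]

theorem smulMod_mul (M : X.Modules) (a b : A) :
    Formal.smulMod A M (a * b) = Formal.smulMod A M a ≫ Formal.smulMod A M b := by
  unfold Formal.smulMod
  rw [map_mul, KLin.smulModΓ_mul]

theorem smulMod_zero (M : X.Modules) : Formal.smulMod A M (0 : A) = 0 := by
  unfold Formal.smulMod
  rw [map_zero, KLin.smulModΓ_zero]

theorem sum_app {M N : X.Modules} {ι : Type*} (s : Finset ι) (φ : ι → (M ⟶ N)) (V : X.Opens)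
    (t : Γ(M, V)) : (∑ i ∈ s, φ i).app V t = ∑ i ∈ s, (φ i).app V t := by
  classical
  induction s using Finset.induction_on with
  | empty =>
    simp only [Finset.sum_empty]
    rfl
  | insert a s ha ih =>
    rw [Finset.sum_insert ha, Finset.sum_insert ha, ← ih]
    rfl

/-- induction principle for `(J Γ(X,V)) • Γ(M,V)`. -/
theorem map_smul_mem {V : X.Opens} (M : X.Modules) (J : Ideal A) (P : AddSubgroup Γ(M, V))
    (h : ∀ a ∈ J, ∀ s : Γ(M, V), rho (A := A) V a • s ∈ P) :
    ∀ s ∈ (J.map (rho (A := A) V)) • (⊤ : Submodule Γ(X, V) Γ(M, V)), s ∈ P := by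
  have h1 : ∀ r ∈ J.map (rho (A := A) V), ∀ s : Γ(M, V), r • s ∈ P := by
    intro r hr
    unfold Ideal.map at hr
    induction hr using Submodule.span_induction with
    | mem x hx =>
      obtain ⟨a, ha, rfl⟩ := hx
      exact h a ha
    | zero =>
      intro s
      rw [zero_smul]
      exact P.zero_mem
    | add x y _ _ hx hy =>
      intro s
      rw [add_smul]
      exact P.add_mem (hx s) (hy s)
    | smul c x _ hx =>
      intro s
      rw [smul_eq_mul, mul_comm, mul_smul]
      exact hx (c • s)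
  intro s hs
  exact Submodule.smul_induction_on hs (fun r hr n _ => h1 r hr n)
    (fun x y hx hy => P.add_mem hx hy)

theorem smul_top_eq_bot_of_killedBy {J : Ideal A} (M : X.Modules) (hM : Formal.KilledBy J M)
    (V : X.Opens) :
    (J.map (rho (A := A) V)) • (⊤ : Submodule Γ(X, V) Γ(M, V)) = ⊥ := by
  rw [eq_bot_iff]
  intro s hs
  have h0 : ∀ a ∈ J, ∀ s : Γ(M, V), rho (A := A) V a • s ∈ (⊥ : AddSubgroup Γ(M, V)) := by
    intro a ha s
    rw [AddSubgroup.mem_bot, ← smulMod_app, hM a ha]
    rfl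
  have := map_smul_mem M J ⊥ h0 s hs
  exact (Submodule.mem_bot _).mpr ((AddSubgroup.mem_bot).mp this)

section LimitSections

instance secFunctor_preservesSmallest (V : X.Opens) :
    PreservesLimitsOfSize.{0, 0} (QCExact.secFunctor (X := X) V) :=
  @preservesSmallestLimits_of_preservesLimits _ _ _ _ (QCExact.secFunctor (X := X) V)
    (inferInstanceAs (PreservesLimitsOfSize.{u, u} (QCExact.secFunctor (X := X) V)))

variable (G : ℕᵒᵖ ⥤ X.Modules) (V : X.Opens)

theorem exists_section_of_compat (s : ∀ m, Γ(G.obj (op m), V))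
    (hs : ∀ {m k : ℕ} (h : m ≤ k), (G.map (homOfLE h).op).app V (s k) = s m) :
    ∃ x : Γ(limit G, V), ∀ m, (limit.π G (op m)).app V x = s m := by
  have hc : IsLimit ((QCExact.secFunctor V).mapCone (limit.cone G)) :=
    isLimitOfPreserves (QCExact.secFunctor V) (limit.isLimit G)
  have hc' := isLimitOfPreserves (forget Ab.{u}) hc
  obtain ⟨x, hx, -⟩ := (Types.isLimit_iff _).mp ⟨hc'⟩ (fun j => s j.unop) (by
    intro j j' f
    have hle : j'.unop ≤ j.unop := leOfHom f.unop
    have hf : f = (homOfLE hle).op := Subsingleton.elim _ _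
    rw [hf]
    exact hs hle)
  exact ⟨x, fun m => hx (op m)⟩

theorem section_ext (x : Γ(limit G, V)) (h : ∀ m, (limit.π G (op m)).app V x = 0) : x = 0 := by
  have hc : IsLimit ((QCExact.secFunctor V).mapCone (limit.cone G)) :=
    isLimitOfPreserves (QCExact.secFunctor V) (limit.isLimit G)
  refine Concrete.isLimit_ext (G ⋙ QCExact.secFunctor V) hc x 0 (fun j => ?_)
  exact (h j.unop).trans (map_zero _).symm

end LimitSections

section Step

variable (J : Ideal A) {M N : X.Modules}
  (tr : M ⟶ N) (h : Formal.smulFamily J M ≫ tr = 0) (hiso : IsIso (cokernel.desc _ tr h))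

include hiso in
theorem epi_tr : Epi tr := by
  have e : tr = cokernel.π _ ≫ cokernel.desc _ tr h := (cokernel.π_desc _ _ _).symm
  rw [e]
  infer_instance

include hiso in
theorem ker_app_le [M.IsQuasicoherent] [N.IsQuasicoherent] (hJ : J.FG) {V : X.Opens} (hV : IsAffineOpen V) (s : Γ(M, V))
    (hs : tr.app V s = 0) :
    s ∈ (J.map (rho (A := A) V)) • (⊤ : Submodule Γ(X, V) Γ(M, V)) := by
  classical
  obtain ⟨S, hS⟩ := hJ
  have hkills : Kills J tr := (smulFamily_comp_eq_zero_iff J tr).mp h
  have hSJ : ∀ b : S, (b : A) ∈ J := fun b => hS ▸ Ideal.subset_span b.2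
  let f : S → X.Modules := fun _ => M
  haveI : HasBiproduct f := HasBiproduct.of_hasCoproduct f
  let ψ : (⨁ f) ⟶ M := biproduct.desc (fun b : S => Formal.smulMod A M (b : A))
  have hψ : ψ ≫ tr = 0 := by
    apply biproduct.hom_ext'
    intro b
    rw [biproduct.ι_desc_assoc, comp_zero]
    exact hkills b (hSJ b)
  let ψ' : (⨁ f) ⟶ kernel tr := kernel.lift tr ψ hψ
  have hψ'ι : ψ' ≫ kernel.ι tr = ψ := kernel.lift_ι _ _ _
  -- exactness of the given complex
  let S0 : ShortComplex X.Modules := ShortComplex.mk _ _ h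
  have hS0 : S0.Exact := by
    rw [ShortComplex.exact_iff_mono_cokernel_desc]
    exact (inferInstance : Mono (cokernel.desc _ tr h))
  have hθ : Epi (kernel.lift tr (Formal.smulFamily J M) h) :=
    (ShortComplex.exact_iff_epi_kernel_lift S0).mp hS0
  -- ψ' is an epimorphism
  have hP : ∀ a ∈ Ideal.span (S : Set A), ∀ φ : M ⟶ kernel tr,
      φ ≫ kernel.ι tr = Formal.smulMod A M a → φ ≫ cokernel.π ψ' = 0 := by
    intro a ha
    induction ha using Submodule.span_induction with
    | mem x hx =>
      intro φ hφ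
      have e1 : φ = biproduct.ι f ⟨x, hx⟩ ≫ ψ' := by
        rw [← cancel_mono (kernel.ι tr), hφ, Category.assoc, hψ'ι]
        exact (biproduct.ι_desc (f := f) (fun b : S => Formal.smulMod A M (b : A)) ⟨x, hx⟩).symm
      rw [e1, Category.assoc, cokernel.condition, comp_zero]
    | zero =>
      intro φ hφ
      have e1 : φ = 0 := by
        rw [← cancel_mono (kernel.ι tr), hφ, zero_comp, smulMod_zero]
      rw [e1, zero_comp]
    | add x y hx hy ihx ihy =>
      intro φ hφ
      have hxJ : x ∈ J := hS ▸ hx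
      have hyJ : y ∈ J := hS ▸ hy
      let φx : M ⟶ kernel tr := kernel.lift tr (Formal.smulMod A M x) (hkills x hxJ)
      let φy : M ⟶ kernel tr := kernel.lift tr (Formal.smulMod A M y) (hkills y hyJ)
      have e1 : φ = φx + φy := by
        rw [← cancel_mono (kernel.ι tr), hφ, Preadditive.add_comp, kernel.lift_ι, kernel.lift_ι,
          smulMod_add]
      rw [e1, Preadditive.add_comp, ihx φx (kernel.lift_ι _ _ _), ihy φy (kernel.lift_ι _ _ _),
        add_zero]
    | smul r x hx ihx =>
      intro φ hφ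
      have hxJ : x ∈ J := hS ▸ hx
      let φx : M ⟶ kernel tr := kernel.lift tr (Formal.smulMod A M x) (hkills x hxJ)
      have e1 : φ = Formal.smulMod A M r ≫ φx := by
        rw [← cancel_mono (kernel.ι tr), hφ, Category.assoc, kernel.lift_ι, smul_eq_mul,
          smulMod_mul]
      rw [e1, Category.assoc, ihx φx (kernel.lift_ι _ _ _), comp_zero]
  have hepi : Epi ψ' := by
    apply Abelian.epi_of_cokernel_π_eq_zero
    rw [← cancel_epi (kernel.lift tr (Formal.smulFamily J M) h), comp_zero]
    apply Sigma.hom_ext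
    intro a
    rw [comp_zero, ← Category.assoc]
    apply hP a (hS ▸ a.2)
    rw [Category.assoc, kernel.lift_ι]
    simp [Formal.smulFamily]
  -- quasi-coherence
  haveI hq1 : (⨁ f : X.Modules).IsQuasicoherent :=
    (SheafOfModules.isQuasicoherent X.ringCatSheaf).prop_of_iso (biproduct.isoCoproduct f).symm
      (QCLim.isQuasicoherent_sigma f)
  haveI hq2 : (kernel tr : X.Modules).IsQuasicoherent := QCProps.isQuasicoherent_kernel tr
  have hsurj := (QCExact.epi_iff_surjective_on_affines ψ').mp hepi V hV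
  -- lift `s` to the kernel
  obtain ⟨sK, hsK⟩ := QCExact.exact_sections (ShortComplex.mk (kernel.ι tr) tr (kernel.condition tr))
    (ShortComplex.exact_kernel tr) V s hs
  obtain ⟨t, ht⟩ := hsurj sK
  have hst : s = ψ.app V t := by
    rw [← hsK, ← ht, ← hψ'ι]
    rfl
  rw [hst]
  have hψsum : ψ = ∑ b : S, biproduct.π f b ≫ Formal.smulMod A M (b : A) := by
    apply biproduct.hom_ext'
    intro j
    show biproduct.ι f j ≫ biproduct.desc (fun b : S => Formal.smulMod A M (b : A)) = _
    rw [biproduct.ι_desc, Preadditive.comp_sum, Finset.sum_eq_single j]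
    · rw [biproduct.ι_π_self_assoc]
    · intro b _ hb
      rw [biproduct.ι_π_ne_assoc _ (Ne.symm hb), zero_comp]
    · intro h
      exact absurd (Finset.mem_univ _) h
  rw [hψsum, sum_app]
  refine Submodule.sum_mem _ (fun b _ => ?_)
  show (Formal.smulMod A M (b : A)).app V ((biproduct.π f b).app V t) ∈ _
  rw [smulMod_app]
  exact Submodule.smul_mem_smul (Ideal.mem_map_of_mem _ (hSJ b)) Submodule.mem_top

end Step

section Main

variable (I : Ideal A) (hI : I.FG) (G : ℕᵒᵖ ⥤ X.Modules) (hG : Formal2.IsQCohFormal I G)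

/-- the adic data of sections over an affine open. -/
noncomputable def dataV {I : Ideal A} (hI : I.FG) {G : ℕᵒᵖ ⥤ X.Modules}
    (hG : Formal2.IsQCohFormal I G) {V : X.Opens} (hV : IsAffineOpen V) :
    AdicLim.Data (I.map (rho (A := A) V)) (fun m => Γ(G.obj (op m), V)) Γ(limit G, V) where
  T h := QCProps.appₗ (G.map (homOfLE h).op) V
  T_id m x := by
    show (G.map (homOfLE (le_refl m)).op).app V x = x
    have e : (homOfLE (le_refl m)).op = 𝟙 (op m) := rfl
    rw [e, G.map_id]
    rfl
  T_comp {m k l} h1 h2 x := by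
    show (G.map (homOfLE h1).op).app V ((G.map (homOfLE h2).op).app V x) =
      (G.map (homOfLE (h1.trans h2)).op).app V x
    have e : (homOfLE (h1.trans h2)).op = (homOfLE h2).op ≫ (homOfLE h1).op := rfl
    rw [e, G.map_comp]
    rfl
  p m := QCProps.appₗ (limit.π G (op m)) V
  hp {m k} h x := by
    show (G.map (homOfLE h).op).app V ((limit.π G (op k)).app V x) = (limit.π G (op m)).app V x
    rw [← limit.w G (homOfLE h).op]
    rfl
  hex s hs := exists_section_of_compat G V s hs
  hinj x hx := section_ext G V x hx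
  hsurj m := by
    obtain ⟨h, hiso⟩ := hG.2.2 m
    haveI := hG.1 m
    haveI := hG.1 (m + 1)
    haveI := epi_tr (I ^ (m + 1)) _ h hiso
    exact (QCExact.epi_iff_surjective_on_affines (G.map (homOfLE (Nat.le_succ m)).op)).mp
      inferInstance V hV
  hker m := by
    obtain ⟨h, hiso⟩ := hG.2.2 m
    haveI := hG.1 m
    haveI := hG.1 (m + 1)
    intro s hs
    rw [← Ideal.map_pow]
    exact ker_app_le (I ^ (m + 1)) _ h hiso (hI.pow) hV s hs
  hkill m := by
    rw [← Ideal.map_pow]
    exact smul_top_eq_bot_of_killedBy _ (hG.2.1 m) V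

include hI hG in
theorem main (n : ℕ) :
    ∃ h : Formal.smulFamily (I ^ (n + 1)) (limit G) ≫ limit.π G (op n) = 0,
      IsIso (cokernel.desc _ _ h) := by
  have h : Formal.smulFamily (I ^ (n + 1)) (limit G) ≫ limit.π G (op n) = 0 :=
    (smulFamily_comp_eq_zero_iff _ _).mpr (kills_of_killedBy (hG.2.1 n) _)
  refine ⟨h, ?_⟩
  -- basis of affine opens
  have hbasis : ∀ (W : X.Opens) (x : X), x ∈ W → ∃ V : X.Opens, x ∈ V ∧ V ≤ W ∧ IsAffineOpen V := by
    intro W x hx
    obtain ⟨U, hU, hxU⟩ := QCProps.exists_affine_nbhd x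
    obtain ⟨g, hgW, hxg⟩ := hU.exists_basicOpen_le (V := W ⊓ U) ⟨x, ⟨hx, hxU⟩⟩ hxU
    exact ⟨X.basicOpen g, hxg, hgW.trans inf_le_left, hU.basicOpen g⟩
  have hepi : Epi (limit.π G (op n)) := by
    apply ModBasis.epi_of_surjective_on_basis
    intro W x hx
    obtain ⟨V, hxV, hVW, hV⟩ := hbasis W x hx
    exact ⟨V, hxV, hVW, AdicLim.surjective_p (dataV hI hG hV) n⟩
  let S0 : ShortComplex X.Modules := ShortComplex.mk _ _ h
  have hS0 : S0.Exact := by
    apply ModBasis.exact_of_exact_on_basis
    intro W x hx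
    obtain ⟨V, hxV, hVW, hV⟩ := hbasis W x hx
    refine ⟨V, hxV, hVW, ?_⟩
    intro s hs
    have h1 : s ∈ (I.map (rho (A := A) V)) ^ (n + 1) • (⊤ : Submodule Γ(X, V) Γ(limit G, V)) :=
      AdicLim.ker_le (dataV hI hG hV) (hI.map _) n (LinearMap.mem_ker.mpr hs)
    rw [← Ideal.map_pow] at h1
    have h2 := map_smul_mem (limit G) (I ^ (n + 1))
      (AddMonoidHom.range ((Formal.smulFamily (I ^ (n + 1)) (limit G)).app V).hom) (by
        intro a ha s'
        refine ⟨(Sigma.ι (fun _ : (I ^ (n + 1) : Ideal A) => limit G) ⟨a, ha⟩).app V s', ?_⟩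
        rw [← smulMod_app]
        have e : Sigma.ι (fun _ : (I ^ (n + 1) : Ideal A) => limit G) ⟨a, ha⟩ ≫
            Formal.smulFamily (I ^ (n + 1)) (limit G) = Formal.smulMod A (limit G) a := by
          simp [Formal.smulFamily]
        rw [← e]
        rfl) s h1
    obtain ⟨t, ht⟩ := h2
    exact ⟨t, ht⟩
  haveI : Mono (cokernel.desc _ _ h) := hS0.mono_cokernelDesc
  haveI : Epi (cokernel.desc _ _ h) := by
    have e : cokernel.π _ ≫ cokernel.desc _ _ h = limit.π G (op n) := cokernel.π_desc _ _ _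
    exact epi_of_epi_fac e
  exact isIso_of_mono_of_epi _

end Main

end Groth.Agent.Lib.Helper26.QCFormalLim
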