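import Groth.Prelude.Def_Coh
import Groth.Prelude.Def_CohB1
import Groth.Agent.Lib.Helper26.QCFormalLim
import Groth.Agent.Lib.Helper3.QCExact
import Groth.Agent.Lib.Helper3.QCProps
import Groth.Agent.Lib.Helper1.MaxAnnInt
import Groth.Agent.Lib.Helper15.AdicLimit

/-!
# Supports of the images of a Mittag-Leffler limit of coherent modules

For a Mittag-Leffler inverse system `(G_e)` of coherent modules the image of `lim G ⟶ G_e` is the
stable image of `G_d ⟶ G_e` (`d ≫ e`), which is coherent, so its support is closed.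
-/

set_option autoImplicit false
set_option linter.style.haveILetI false
universe u
open CategoryTheory CategoryTheory.Limits AlgebraicGeometry TopologicalSpace Opposite
open Scheme.Modules

namespace Groth.Agent.Lib.Helper26.MLSupport

open Groth.Agent.Lib.Helper3

variable {X : Scheme.{u}}

theorem isQuasicoherent_of_iso {M N : X.Modules} (e : M ≅ N) [hM : M.IsQuasicoherent] :
    N.IsQuasicoherent :=
  (SheafOfModules.isQuasicoherent X.ringCatSheaf).prop_of_iso e hM

theorem isQuasicoherent_image {M N : X.Modules} [M.IsQuasicoherent] [N.IsQuasicoherent]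
    (φ : M ⟶ N) : (image φ : X.Modules).IsQuasicoherent := by
  haveI : (cokernel φ : X.Modules).IsQuasicoherent := QCProps.isQuasicoherent_cokernel φ
  haveI : (kernel (cokernel.π φ) : X.Modules).IsQuasicoherent :=
    QCProps.isQuasicoherent_kernel (cokernel.π φ)
  exact isQuasicoherent_of_iso (Abelian.imageIsoImage φ)

theorem app_eq_of_eq {M N : X.Modules} {φ ψ : M ⟶ N} (h : φ = ψ) (V : X.Opens) (t : Γ(M, V)) :
    φ.app V t = ψ.app V t := by rw [h]

/-- If the image of `φ` is contained in the image of `ψ`, then over an affine open every section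
in the range of `φ` is in the range of `ψ`. -/
theorem exists_lift_of_imageSubobject_le {M M' N : X.Modules} [M.IsQuasicoherent]
    [M'.IsQuasicoherent] [N.IsQuasicoherent] (φ : M ⟶ N) (ψ : M' ⟶ N)
    (h : imageSubobject φ ≤ imageSubobject ψ) {V : X.Opens} (hV : IsAffineOpen V)
    (t : Γ(M, V)) : ∃ t' : Γ(M', V), ψ.app V t' = φ.app V t := by
  haveI := isQuasicoherent_image ψ
  have hsurj : Function.Surjective ((factorThruImage ψ).app V) :=
    (QCExact.epi_iff_surjective_on_affines (factorThruImage ψ)).1 inferInstance V hV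
  let j : image φ ⟶ image ψ := Subobject.ofMkLEMk (image.ι φ) (image.ι ψ) h
  have hj : j ≫ image.ι ψ = image.ι φ := Subobject.ofMkLEMk_comp h
  obtain ⟨t', ht'⟩ := hsurj (j.app V ((factorThruImage φ).app V t))
  refine ⟨t', ?_⟩
  have e1 : ψ.app V t' = (image.ι ψ).app V ((factorThruImage ψ).app V t') :=
    app_eq_of_eq (image.fac ψ).symm V t'
  have e2 : φ.app V t = (image.ι ψ).app V (j.app V ((factorThruImage φ).app V t)) := by
    have h3 : φ = factorThruImage φ ≫ j ≫ image.ι ψ := by rw [hj, image.fac]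
    exact app_eq_of_eq h3 V t
  rw [e1, ht', ← e2]

section ML

variable (G : ℕᵒᵖ ⥤ X.Modules)

/-- the transition maps of the system -/
abbrev T {m k : ℕ} (h : m ≤ k) : G.obj (op k) ⟶ G.obj (op m) := G.map (homOfLE h).op

theorem T_comp {m k l : ℕ} (h1 : m ≤ k) (h2 : k ≤ l) : T G h2 ≫ T G h1 = T G (h1.trans h2) := by
  show G.map _ ≫ G.map _ = G.map _
  rw [← G.map_comp]
  exact congrArg G.map (Subsingleton.elim _ _)

theorem T_refl (m : ℕ) : T G (le_refl m) = 𝟙 _ := by
  have h : (homOfLE (le_refl m)).op = 𝟙 (op m) := Subsingleton.elim _ _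
  show G.map _ = _
  rw [h, G.map_id]

theorem T_comp_apply {m k l : ℕ} (h1 : m ≤ k) (h2 : k ≤ l) (V : X.Opens)
    (t : Γ(G.obj (op l), V)) :
    (T G h1).app V ((T G h2).app V t) = (T G (h1.trans h2)).app V t :=
  app_eq_of_eq (T_comp G h1 h2) V t

theorem T_refl_apply (m : ℕ) (V : X.Opens) (t : Γ(G.obj (op m), V)) :
    (T G (le_refl m)).app V t = t :=
  app_eq_of_eq (T_refl G m) V t

/-- the universal images on sections over `V` -/
def InR (V : X.Opens) (m : ℕ) (y : Γ(G.obj (op m), V)) : Prop :=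
  ∀ (k : ℕ) (hk : m ≤ k), ∃ t : Γ(G.obj (op k), V), (T G hk).app V t = y

theorem inR_map (V : X.Opens) (m : ℕ) (y' : Γ(G.obj (op (m + 1)), V)) (hy' : InR G V (m + 1) y') :
    InR G V m ((T G (Nat.le_succ m)).app V y') := by
  intro k hk
  rcases Nat.eq_or_lt_of_le hk with rfl | hlt
  · exact ⟨(T G (Nat.le_succ m)).app V y', T_refl_apply G m V _⟩
  · obtain ⟨t, ht⟩ := hy' k hlt
    refine ⟨t, ?_⟩
    rw [← ht]
    exact (T_comp_apply G (Nat.le_succ m) hlt V t).symm

theorem compat_of_succ (V : X.Opens) (s : ∀ m, Γ(G.obj (op m), V))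
    (hs : ∀ m, (T G (Nat.le_succ m)).app V (s (m + 1)) = s m) {m k : ℕ} (h : m ≤ k) :
    (T G h).app V (s k) = s m := by
  induction k, h using Nat.le_induction with
  | base => exact T_refl_apply G m V _
  | succ k hmk ih =>
    rw [← T_comp_apply G hmk (Nat.le_succ k) V (s (k + 1)), hs k, ih]

variable (hG : ∀ n : ℕᵒᵖ, (G.obj n).IsQuasicoherent)
  (d : ℕ → ℕ) (hd : ∀ m, m ≤ d m)
  (hstab : ∀ (m k : ℕ) (hk : d m ≤ k),
    imageSubobject (T G ((hd m).trans hk)) = imageSubobject (T G (hd m)))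
  {V : X.Opens} (hV : IsAffineOpen V)

include hG hstab hV in
theorem inR_of_range (m : ℕ) (t' : Γ(G.obj (op (d m)), V)) :
    InR G V m ((T G (hd m)).app V t') := by
  intro k hk
  haveI := hG
  by_cases h : d m ≤ k
  · obtain ⟨t, ht⟩ := exists_lift_of_imageSubobject_le (T G (hd m)) (T G ((hd m).trans h))
      (hstab m k h).ge hV t'
    exact ⟨t, ht⟩
  · have h' : k ≤ d m := (not_le.mp h).le
    exact ⟨(T G h').app V t', T_comp_apply G hk h' V t'⟩

include hG hstab hV in
theorem inR_surj (m : ℕ) (y : Γ(G.obj (op m), V)) (hy : InR G V m y) :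
    ∃ y' : Γ(G.obj (op (m + 1)), V), InR G V (m + 1) y' ∧ (T G (Nat.le_succ m)).app V y' = y := by
  obtain ⟨t, ht⟩ := hy (d (m + 1)) ((Nat.le_succ m).trans (hd (m + 1)))
  refine ⟨(T G (hd (m + 1))).app V t, inR_of_range G hG d hd hstab hV (m + 1) t, ?_⟩
  exact (T_comp_apply G (Nat.le_succ m) (hd (m + 1)) V t).trans ht

include hG hstab hV in
theorem exists_limit_section (e : ℕ) (y : Γ(G.obj (op e), V)) (hy : InR G V e y) :
    ∃ x : Γ(limit G, V), (limit.π G (op e)).app V x = y := by
  obtain ⟨Y, hY, hYe⟩ := Groth.Agent.Lib.Helper15.AL.exists_compatible_family e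
    (fun k => {y : Γ(G.obj (op k), V) // InR G V k y})
    (fun k y' => ⟨(T G (Nat.le_succ k)).app V y'.1, inR_map G V k y'.1 y'.2⟩)
    (by
      rintro k ⟨y, hy⟩
      obtain ⟨y', hy', e'⟩ := inR_surj G hG d hd hstab hV k y hy
      exact ⟨⟨y', hy'⟩, Subtype.ext e'⟩)
    ⟨y, hy⟩
  obtain ⟨x, hx⟩ := Groth.Agent.Lib.Helper26.QCFormalLim.exists_section_of_compat G V
    (fun m => (Y m).1)
    (fun {m k} h => compat_of_succ G V (fun m => (Y m).1)
      (fun m => congrArg Subtype.val (hY m)) h)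
  exact ⟨x, (hx e).trans (congrArg Subtype.val hYe)⟩

include hG hstab in
theorem epi_q (e : ℕ) : Epi (limit.π G (op (d e)) ≫ factorThruImage (T G (hd e))) := by
  haveI := hG
  haveI : (image (T G (hd e)) : X.Modules).IsQuasicoherent := isQuasicoherent_image (T G (hd e))
  have hq : (limit.π G (op (d e)) ≫ factorThruImage (T G (hd e))) ≫ image.ι (T G (hd e)) =
      limit.π G (op e) := by
    rw [Category.assoc, image.fac]
    exact limit.w G (homOfLE (hd e)).op
  apply QCExact.epi_of_surjective_on_affine_cover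
  intro x
  obtain ⟨U, hU, hxU⟩ := QCProps.exists_affine_nbhd x
  refine ⟨U, hU, hxU, ?_⟩
  intro z
  obtain ⟨t', ht'⟩ := (QCExact.epi_iff_surjective_on_affines
    (factorThruImage (T G (hd e)))).1 inferInstance U hU z
  have e1 : (image.ι (T G (hd e))).app U z = (T G (hd e)).app U t' := by
    rw [← ht']
    exact app_eq_of_eq (image.fac (T G (hd e))) U t'
  have hy : InR G U e ((image.ι (T G (hd e))).app U z) := by
    rw [e1]
    exact inR_of_range G hG d hd hstab hU e t'
  obtain ⟨x', hx'⟩ := exists_limit_section G hG d hd hstab hU e _ hy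
  refine ⟨x', ?_⟩
  apply QCExact.injective_sections (image.ι (T G (hd e))) U
  exact (app_eq_of_eq hq U x').trans hx'

end ML

theorem main (X : Scheme.{u}) (G : ℕᵒᵖ ⥤ X.Modules) (hG : ∀ n : ℕᵒᵖ, Coh.IsCoh (G.obj n))
    (hML : ∀ e : ℕ, ∃ (d : ℕ) (hd : e ≤ d), ∀ (d' : ℕ) (hd' : d ≤ d'),
      imageSubobject (G.map (homOfLE (hd.trans hd')).op) = imageSubobject (G.map (homOfLE hd).op))
    (e : ℕ) : IsClosed (CohB1.support (image (limit.π G (op e)))) := by
  choose d hd hstab using hML
  have hqc : ∀ n : ℕᵒᵖ, (G.obj n).IsQuasicoherent := fun n => (hG n).1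
  haveI := hqc
  haveI : ∀ n : ℕᵒᵖ, (G.obj n).IsFiniteType := fun n => (hG n).2
  haveI : (image (T G (hd e)) : X.Modules).IsQuasicoherent := isQuasicoherent_image (T G (hd e))
  haveI : (image (T G (hd e)) : X.Modules).IsFiniteType :=
    QCProps.isFiniteType_of_epi (factorThruImage (T G (hd e)))
  have hq : (limit.π G (op (d e)) ≫ factorThruImage (T G (hd e))) ≫ image.ι (T G (hd e)) =
      limit.π G (op e) := by
    rw [Category.assoc, image.fac]
    exact limit.w G (homOfLE (hd e)).op
  haveI : Epi (limit.π G (op (d e)) ≫ factorThruImage (T G (hd e))) :=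
    epi_q G hqc d hd hstab e
  haveI : StrongEpi (limit.π G (op (d e)) ≫ factorThruImage (T G (hd e))) := strongEpi_of_epi _
  rw [← Groth.Agent.Lib.Helper1.MaxAnnInt.support_eq_of_iso
    (image.isoStrongEpiMono _ (image.ι (T G (hd e))) hq)]
  exact Groth.Agent.Lib.Helper1.MaxAnnInt.isClosed_support (image (T G (hd e)))

end Groth.Agent.Lib.Helper26.MLSupport
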