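import Mathlib
import Groth.Prelude.Def_W4c5qllcourbesmultMultCrv

/-!
# Basic facts on modules over `R[X]/(X^n)` (helper26)

* `z_pow_n` : `z^n = 0`.
* `finite_Rn`, `finite_of_finite_Rn` : `R[X]/(X^n)` and f.g. modules over it are finite over `R`.
* `finite_submodule`, `finite_quotient` : (over a Noetherian `R`) sub- and subquotients stay finite over `R`.
-/

set_option autoImplicit false
set_option linter.unusedSectionVars false
universe u
open Polynomial

namespace Groth.Agent.Lib.Helper26.MultCrvBasic

variable (R : Type u) [CommRing R] (n : ℕ)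

lemma z_pow_n : MultCrv.z R n ^ n = 0 := by
  unfold MultCrv.z
  rw [← map_pow, Ideal.Quotient.eq_zero_iff_mem]
  exact Ideal.mem_span_singleton_self _

instance finite_Rn : Module.Finite R (MultCrv.Rn R n) :=
  (Polynomial.monic_X_pow n).finite_quotient

lemma finite_of_finite_Rn (R : Type u) [CommRing R] (n : ℕ) (M : Type u) [AddCommGroup M]
    [Module (MultCrv.Rn R n) M] [Module R M]
    [IsScalarTower R (MultCrv.Rn R n) M] [Module.Finite (MultCrv.Rn R n) M] : Module.Finite R M :=
  Module.Finite.trans (MultCrv.Rn R n) M

variable {R n} {M : Type u} [AddCommGroup M] [Module (MultCrv.Rn R n) M] [Module R M]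
  [IsScalarTower R (MultCrv.Rn R n) M] [Module.Finite (MultCrv.Rn R n) M]

lemma finite_submodule [IsNoetherianRing R] (N : Submodule (MultCrv.Rn R n) M) :
    Module.Finite R ↥N := by
  haveI := finite_of_finite_Rn R n M
  haveI : IsNoetherian R M := isNoetherian_of_isNoetherianRing_of_finite R M
  exact Module.Finite.of_injective (N.subtype.restrictScalars R) N.injective_subtype

lemma finite_quotient [IsNoetherianRing R] (N : Submodule (MultCrv.Rn R n) M)
    (N' : Submodule (MultCrv.Rn R n) ↥N) : Module.Finite R (↥N ⧸ N') := by
  haveI := finite_submodule (R := R) N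
  exact Module.Finite.of_surjective (N'.mkQ.restrictScalars R) N'.mkQ_surjective

end Groth.Agent.Lib.Helper26.MultCrvBasic
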