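import Mathlib.RingTheory.MvPolynomial.Ideal
import Mathlib.Algebra.MvPolynomial.Rename
import Mathlib.Algebra.Polynomial.Div
import Mathlib.Algebra.Polynomial.AlgebraMap
import Mathlib.RingTheory.Ideal.Maps

/-!
# Quadratic-in-z polynomials `G₂ z² + 2 G₃ z + G₄` and the ideals of variables
-/

set_option autoImplicit false

universe u

namespace Groth.Agent.Lib.Helper26.MvPolyVars

open MvPolynomial

variable {K : Type u} [Field K]

/-- ideal of variables -/
noncomputable abbrev mIdeal (n : ℕ) : Ideal (MvPolynomial (Fin n) K) :=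
  Ideal.span (Set.range (MvPolynomial.X : Fin n → MvPolynomial (Fin n) K))

/-- the inclusion `K[x,y] → K[x,y,z]` -/
noncomputable abbrev incl : MvPolynomial (Fin 2) K →ₐ[K] MvPolynomial (Fin 3) K :=
  MvPolynomial.rename (Fin.castSucc : Fin 2 → Fin 3)

/-- the quadratic polynomial in z -/
noncomputable abbrev quad (G₂ G₃ G₄ : MvPolynomial (Fin 2) K) : MvPolynomial (Fin 3) K :=
  MvPolynomial.rename (Fin.castSucc : Fin 2 → Fin 3) G₂ * MvPolynomial.X (2 : Fin 3) ^ 2
    + 2 * MvPolynomial.rename (Fin.castSucc : Fin 2 → Fin 3) G₃ * MvPolynomial.X (2 : Fin 3)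
    + MvPolynomial.rename (Fin.castSucc : Fin 2 → Fin 3) G₄

theorem map_pow_le {R S : Type*} [CommRing R] [CommRing S] (f : R →+* S) (I : Ideal R) (J : Ideal S)
    (h : ∀ x ∈ I, f x ∈ J) (n : ℕ) : ∀ x ∈ I ^ n, f x ∈ J ^ n := by
  intro x hx
  have h1 : Ideal.map f I ≤ J := Ideal.map_le_iff_le_comap.2 (fun y hy => h y hy)
  have h2 : Ideal.map f (I ^ n) ≤ J ^ n := by
    rw [Ideal.map_pow]
    exact Ideal.pow_right_mono h1 n
  exact h2 (Ideal.mem_map_of_mem f hx)

theorem map_span_range_le {R S : Type*} [CommRing R] [CommRing S] (f : R →+* S) {ι : Type*}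
    (v : ι → R) (J : Ideal S) (h : ∀ i, f (v i) ∈ J) : ∀ x ∈ Ideal.span (Set.range v), f x ∈ J := by
  intro x hx
  have : Ideal.span (Set.range v) ≤ Ideal.comap f J := by
    rw [Ideal.span_le]
    rintro _ ⟨i, rfl⟩
    exact h i
  exact this hx

theorem incl_mem (n : ℕ) (G : MvPolynomial (Fin 2) K) (hG : G ∈ (mIdeal (K := K) 2) ^ n) :
    incl G ∈ (mIdeal (K := K) 3) ^ n := by
  refine map_pow_le (incl (K := K) : MvPolynomial (Fin 2) K →+* MvPolynomial (Fin 3) K) _ _ ?_ n G hG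
  refine map_span_range_le _ _ _ (fun i => ?_)
  change rename Fin.castSucc (X i) ∈ _
  rw [rename_X]
  exact Ideal.subset_span ⟨_, rfl⟩

/-- set `z = 0` -/
noncomputable def setZ0 : MvPolynomial (Fin 3) K →ₐ[K] MvPolynomial (Fin 2) K :=
  aeval (fun i : Fin 3 => Fin.lastCases (motive := fun _ => MvPolynomial (Fin 2) K) 0 (fun j : Fin 2 => X j) i)

theorem setZ0_incl (G : MvPolynomial (Fin 2) K) : setZ0 (incl G) = G := by
  unfold setZ0
  rw [aeval_rename]
  have : ((fun i : Fin 3 => Fin.lastCases (motive := fun _ => MvPolynomial (Fin 2) K) 0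
      (fun j : Fin 2 => X j) i) ∘ Fin.castSucc) = X := by
    funext j
    simp
  rw [this, aeval_X_left_apply]

theorem setZ0_X2 : setZ0 (X (2 : Fin 3) : MvPolynomial (Fin 3) K) = 0 := by
  unfold setZ0
  rw [aeval_X]
  exact Fin.lastCases_last

theorem setZ0_mem (n : ℕ) (p : MvPolynomial (Fin 3) K) (hp : p ∈ (mIdeal (K := K) 3) ^ n) :
    setZ0 p ∈ (mIdeal (K := K) 2) ^ n := by
  refine map_pow_le (setZ0 (K := K) : MvPolynomial (Fin 3) K →+* MvPolynomial (Fin 2) K) _ _ ?_ n p hp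
  refine map_span_range_le _ _ _ (fun i => ?_)
  change setZ0 (X i) ∈ _
  unfold setZ0
  rw [aeval_X]
  refine Fin.lastCases ?_ (fun j => ?_) i
  · rw [Fin.lastCases_last]; exact Ideal.zero_mem _
  · rw [Fin.lastCases_castSucc]; exact Ideal.subset_span ⟨_, rfl⟩

theorem setZ0_quad (G₂ G₃ G₄ : MvPolynomial (Fin 2) K) : setZ0 (quad G₂ G₃ G₄) = G₄ := by
  unfold quad
  rw [map_add, map_add, map_mul, map_mul, map_pow, setZ0_X2]
  have := setZ0_incl G₄
  simp only [incl] at this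
  rw [this]
  simp

/-- set `x = y = 0`, `z = X` -/
noncomputable def onlyZ : MvPolynomial (Fin 3) K →ₐ[K] Polynomial K :=
  aeval (fun i : Fin 3 => Fin.lastCases (motive := fun _ => Polynomial K) Polynomial.X (fun _ : Fin 2 => 0) i)

theorem onlyZ_incl (G : MvPolynomial (Fin 2) K) : onlyZ (incl G) = Polynomial.C (constantCoeff G) := by
  unfold onlyZ
  rw [aeval_rename]
  have : ((fun i : Fin 3 => Fin.lastCases (motive := fun _ => Polynomial K) Polynomial.X
      (fun _ : Fin 2 => 0) i) ∘ Fin.castSucc) = fun _ => 0 := by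
    funext j
    simp
  rw [this, aeval_zero']
  rfl

theorem onlyZ_X2 : onlyZ (X (2 : Fin 3) : MvPolynomial (Fin 3) K) = Polynomial.X := by
  unfold onlyZ
  rw [aeval_X]
  exact Fin.lastCases_last

theorem onlyZ_mem (n : ℕ) (p : MvPolynomial (Fin 3) K) (hp : p ∈ (mIdeal (K := K) 3) ^ n) :
    Polynomial.X ^ n ∣ onlyZ p := by
  have h := map_pow_le (onlyZ (K := K) : MvPolynomial (Fin 3) K →+* Polynomial K) (mIdeal (K := K) 3)
    (Ideal.span {Polynomial.X}) ?_ n p hp
  · rw [Ideal.span_singleton_pow, Ideal.mem_span_singleton] at h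
    exact h
  · refine map_span_range_le _ _ _ (fun i => ?_)
    change onlyZ (X i) ∈ _
    unfold onlyZ
    rw [aeval_X]
    refine Fin.lastCases ?_ (fun j => ?_) i
    · rw [Fin.lastCases_last]; exact Ideal.subset_span rfl
    · rw [Fin.lastCases_castSucc]; exact Ideal.zero_mem _

theorem onlyZ_quad (G₂ G₃ G₄ : MvPolynomial (Fin 2) K) :
    onlyZ (quad G₂ G₃ G₄) = Polynomial.C (constantCoeff G₂) * Polynomial.X ^ 2 +
      2 * Polynomial.C (constantCoeff G₃) * Polynomial.X + Polynomial.C (constantCoeff G₄) := by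
  unfold quad
  rw [map_add, map_add, map_mul, map_mul, map_mul, map_pow, onlyZ_X2]
  have h2 := onlyZ_incl G₂
  have h3 := onlyZ_incl G₃
  have h4 := onlyZ_incl G₄
  simp only [incl] at h2 h3 h4
  rw [h2, h3, h4, map_ofNat]

theorem mem_mIdeal_iff {n : ℕ} (p : MvPolynomial (Fin n) K) :
    p ∈ mIdeal (K := K) n ↔ constantCoeff p = 0 := by
  have := MvPolynomial.mem_pow_idealOfVars_iff' (σ := Fin n) (R := K) 1 p
  rw [pow_one] at this
  rw [this]
  constructor
  · intro h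
    exact h 0 (by simp)
  · intro h x hx
    have hx0 : x = 0 := by
      have : Finsupp.degree x = 0 := by omega
      exact (Finsupp.degree_eq_zero_iff x).1 this
    rw [hx0]
    exact h

/-- from `quad ∈ 𝔪₃²` : `G₃ ∈ 𝔪₂` and `G₄ ∈ 𝔪₂²` -/
theorem of_quad_mem_sq (h2 : (2 : K) ≠ 0) (G₂ G₃ G₄ : MvPolynomial (Fin 2) K)
    (h : quad G₂ G₃ G₄ ∈ (mIdeal (K := K) 3) ^ 2) :
    G₃ ∈ mIdeal (K := K) 2 ∧ G₄ ∈ (mIdeal (K := K) 2) ^ 2 := by
  constructor
  · rw [mem_mIdeal_iff]
    have hdvd := onlyZ_mem 2 _ h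
    rw [onlyZ_quad, Polynomial.X_pow_dvd_iff] at hdvd
    have h1 := hdvd 1 (by norm_num)
    simp only [Polynomial.coeff_add, Polynomial.coeff_C_mul, Polynomial.coeff_X_pow, Polynomial.coeff_C,
      Polynomial.coeff_mul_X] at h1
    have h1' : (2 : K) * constantCoeff G₃ = 0 := by
      have e : ((2 : Polynomial K) * Polynomial.C (constantCoeff G₃)).coeff 0 = 2 * constantCoeff G₃ := by
        rw [show (2 : Polynomial K) = Polynomial.C 2 from rfl, ← Polynomial.C_mul, Polynomial.coeff_C_zero]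
      simpa [e] using h1
    exact (mul_eq_zero.1 h1').resolve_left h2
  · have := setZ0_mem 2 _ h
    rwa [setZ0_quad] at this

/-- conversely -/
theorem quad_mem_sq (G₂ G₃ G₄ : MvPolynomial (Fin 2) K)
    (h3 : G₃ ∈ mIdeal (K := K) 2) (h4 : G₄ ∈ (mIdeal (K := K) 2) ^ 2) :
    quad G₂ G₃ G₄ ∈ (mIdeal (K := K) 3) ^ 2 := by
  have hz : (X (2 : Fin 3) : MvPolynomial (Fin 3) K) ∈ mIdeal (K := K) 3 := Ideal.subset_span ⟨_, rfl⟩
  unfold quad
  refine Ideal.add_mem _ (Ideal.add_mem _ ?_ ?_) ?_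
  · exact Ideal.mul_mem_left _ _ (Ideal.pow_mem_pow hz 2)
  · rw [pow_two]
    have h3' := incl_mem 1 G₃ (by rwa [pow_one])
    rw [pow_one] at h3'
    have : 2 * (rename Fin.castSucc) G₃ * X (2 : Fin 3) = (2 * (rename Fin.castSucc) G₃) * X (2 : Fin 3) := rfl
    exact Ideal.mul_mem_mul (Ideal.mul_mem_left _ _ h3') hz
  · exact incl_mem 2 G₄ h4

end Groth.Agent.Lib.Helper26.MvPolyVars
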