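import Mathlib
import Groth.Prelude.Def_Found
import Groth.Agent.Lib.Helper26.NagThmA
import Groth.Agent.Lib.Helper27.NagAU5
import Groth.Agent.Lib.Helper22.SmoothNormalLoc
import Groth.Agent.Lib.Helper15.NoethDescent

/-!
# The Nagata property descends along smooth faithfully flat ring maps (helper26)
-/

set_option autoImplicit false
universe u

open TensorProduct

namespace Groth.Agent.Lib.Helper26.NagSmoothDesc

open Groth.Agent.Lib.Helper26 Groth.Agent.Lib.Helper12.N2 Groth.Agent.Lib.Helper12

/-- A smooth algebra over a reduced ring is reduced. -/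
theorem isReduced_of_smooth (A B : Type u) [CommRing A] [IsReduced A] [CommRing B] [Algebra A B]
    [Algebra.Smooth A B] : IsReduced B := by
  refine isReduced_ofLocalizationMaximal B (fun J hJ => ?_)
  haveI := hJ
  exact Groth.Agent.Lib.Helper22.SmoothNormalLoc.isReduced_of_smooth A B J (Localization.AtPrime J)

/-- Core: if `A → B` is smooth and faithfully flat, `A` a domain, and `B` is Nagata, then `A` is
N-1. -/
theorem finite_integralClosure_of_smooth_faithfullyFlat (A : Type u) [CommRing A] [IsDomain A]
    (B : Type u) [CommRing B] [Algebra A B] [Algebra.Smooth A B] [Module.FaithfullyFlat A B]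
    (hB : CAlg.IsNagata B) (L : Type u) [Field L] [Algebra A L] [IsFractionRing A L] :
    Module.Finite A (integralClosure A L) := by
  classical
  haveI : IsNoetherianRing B := hB.1
  haveI : IsReduced B := isReduced_of_smooth A B
  haveI hfinB' : Module.Finite B (integralClosure B (FractionRing B)) :=
    Groth.Agent.Lib.Helper27.NagAU.finite_integralClosure_fractionRing B hB.2
  haveI : IsNoetherianRing A :=
    Groth.Agent.Lib.Helper15.isNoetherianRing_of_faithfullyFlat (R := A) (A := B)
  have hM' : ∀ y : Algebra.algebraMapSubmonoid B (nonZeroDivisors A),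
      IsUnit (Algebra.ofId B (FractionRing B) y) := by
    rintro ⟨_, a, ha, rfl⟩
    have hreg : IsSMulRegular B a := Module.Flat.isSMulRegular_of_nonZeroDivisors ha
    have hmem : algebraMap A B a ∈ nonZeroDivisors B := by
      rw [mem_nonZeroDivisors_iff_right]
      intro x hx
      apply hreg
      show a • x = a • 0
      rw [smul_zero, Algebra.smul_def, mul_comm]
      exact hx
    exact IsLocalization.map_units (FractionRing B) ⟨_, hmem⟩
  haveI hloc : IsLocalization (Algebra.algebraMapSubmonoid B (nonZeroDivisors A)) (B ⊗[A] L) :=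
    IsLocalization.tensor L (nonZeroDivisors A)
  let φ : B ⊗[A] L →ₐ[B] FractionRing B :=
    IsLocalization.liftAlgHom (M := Algebra.algebraMapSubmonoid B (nonZeroDivisors A))
      (f := Algebra.ofId B (FractionRing B)) hM'
  have hφinj : Function.Injective (φ : B ⊗[A] L →+* FractionRing B) := by
    rw [IsLocalization.injective_iff_map_algebraMap_eq
      (Algebra.algebraMapSubmonoid B (nonZeroDivisors A))]
    intro x y
    have hx : (φ : B ⊗[A] L →+* FractionRing B) (algebraMap B (B ⊗[A] L) x) =
        algebraMap B (FractionRing B) x := φ.commutes x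
    have hy : (φ : B ⊗[A] L →+* FractionRing B) (algebraMap B (B ⊗[A] L) y) =
        algebraMap B (FractionRing B) y := φ.commutes y
    rw [hx, hy]
    constructor
    · intro h
      rw [← hx, ← hy, h]
    · intro h
      rw [IsFractionRing.injective B (FractionRing B) h]
  let Φ : B ⊗[A] (integralClosure A L) →ₐ[B] integralClosure B (FractionRing B) :=
    (φ.mapIntegralClosure).comp (TensorProduct.toIntegralClosure A B L)
  have hΦinj : Function.Injective Φ := by
    have h1 : Function.Injective (TensorProduct.toIntegralClosure A B L) :=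
      TensorProduct.toIntegralClosure_injective_of_flat
    have h2 : Function.Injective (φ.mapIntegralClosure) := by
      intro x y hxy
      apply Subtype.ext
      apply hφinj
      exact congrArg Subtype.val hxy
    exact h2.comp h1
  haveI : IsNoetherian B (integralClosure B (FractionRing B)) :=
    isNoetherian_of_isNoetherianRing_of_finite B _
  have hN1 : IsNoetherian B (B ⊗[A] (integralClosure A L)) :=
    isNoetherian_of_injective Φ.toLinearMap hΦinj
  haveI hN2 : IsNoetherian A (integralClosure A L) :=
    Submodule.IsNoetherian.of_isNoetherian_tensorProduct_of_faithfullyFlat (R := A)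
      (M := integralClosure A L) (A := B) hN1
  infer_instance

/-- Reduction of N-2 to N-1 of finite extensions. -/
theorem N2'_of_forall_finite_subalgebra (A0 : Type u) [CommRing A0] [IsDomain A0]
    (h : ∀ (L : Type u) [Field L] [Algebra A0 L], Function.Injective (algebraMap A0 L) →
      ∀ (A : Subalgebra A0 L), Module.Finite A0 A → IsFractionRing A L →
        Module.Finite A (integralClosure A L)) :
    N2' A0 := by
  classical
  intro L _ _ hinj hfg
  letI : Algebra (FractionRing A0) L := (IsFractionRing.lift hinj).toAlgebra
  haveI : IsScalarTower A0 (FractionRing A0) L :=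
    IsScalarTower.of_algebraMap_eq (fun x => (IsFractionRing.lift_algebraMap hinj x).symm)
  haveI : FiniteDimensional (FractionRing A0) L :=
    finiteDimensional_of_finGen A0 (FractionRing A0) L hfg
  haveI : Algebra.IsAlgebraic A0 (FractionRing A0) :=
    IsLocalization.isAlgebraic (FractionRing A0) (nonZeroDivisors A0)
  haveI : Algebra.IsAlgebraic A0 L := Algebra.IsAlgebraic.trans A0 (FractionRing A0) L
  obtain ⟨s, hs⟩ := hfg
  obtain ⟨d, hd0, hd⟩ := Algebra.IsAlgebraic.exists_integral_multiples A0 s
  let s' : Set L := (fun z => d • z) '' (s : Set L)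
  have hs'fin : s'.Finite := (s.finite_toSet).image _
  have hs'int : ∀ x ∈ s', IsIntegral A0 x := by
    rintro _ ⟨z, hz, rfl⟩
    exact hd z hz
  let A : Subalgebra A0 L := Algebra.adjoin A0 s'
  have hAfin : Module.Finite A0 A := Algebra.finite_adjoin_of_finite_of_isIntegral hs'fin hs'int
  have hmem : ∀ w ∈ Submodule.span A0 (s : Set L), d • w ∈ A := by
    intro w hw
    refine Submodule.span_induction (p := fun v _ => d • v ∈ A) ?_ ?_ ?_ ?_ hw
    · intro v hv
      exact Algebra.subset_adjoin ⟨v, hv, rfl⟩
    · rw [smul_zero]
      exact zero_mem _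
    · intro a b _ _ ha hb
      rw [smul_add]
      exact add_mem ha hb
    · intro c v _ hv
      rw [smul_comm]
      exact Subalgebra.smul_mem _ hv c
  haveI : FaithfulSMul A L := (faithfulSMul_iff_algebraMap_injective A L).mpr Subtype.val_injective
  have hfrac : IsFractionRing A L := by
    refine IsFractionRing.of_field A L (fun z => ?_)
    obtain ⟨a, ha0, haz⟩ := hs z
    refine ⟨⟨d • (a • z), hmem _ haz⟩, algebraMap A0 A (d * a), ?_⟩
    have hne : algebraMap A0 L (d * a) ≠ 0 := by
      rw [Ne, map_eq_zero_iff _ hinj]
      exact mul_ne_zero hd0 ha0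
    show z = (d • (a • z)) / (algebraMap A0 L (d * a))
    rw [eq_div_iff hne, smul_smul, Algebra.smul_def, mul_comm]
  have hfin := h L hinj A hAfin hfrac
  exact N2Insep.finite_integralClosure_trans A0 A L hfin

/-- Finite-type domains over `R` are N-1 when `R → S` is smooth, faithfully flat and `S` Nagata. -/
theorem finite_integralClosure_of_finiteType (R S : Type u) [CommRing R] [CommRing S] [Algebra R S]
    [Algebra.Smooth R S] [Module.FaithfullyFlat R S] (hS : CAlg.IsNagata S)
    (A : Type u) [CommRing A] [IsDomain A] [Algebra R A] [Algebra.FiniteType R A]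
    (L : Type u) [Field L] [Algebra A L] [IsFractionRing A L] :
    Module.Finite A (integralClosure A L) := by
  have h1 : CAlg.IsNagata (S ⊗[R] A) := NagThmA.isNagata_of_finiteType S hS (S ⊗[R] A)
  have h2 : CAlg.IsNagata (A ⊗[R] S) :=
    NagThmA.isNagata_of_surjective (Algebra.TensorProduct.comm R S A).toRingEquiv.toRingHom
      (Algebra.TensorProduct.comm R S A).toRingEquiv.surjective h1
  exact finite_integralClosure_of_smooth_faithfullyFlat A (A ⊗[R] S) h2 L

/-- **Descent of the Nagata property along smooth faithfully flat ring maps.** -/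
theorem isNagata_of_smooth_of_faithfullyFlat (R S : Type u) [CommRing R] [CommRing S]
    [Algebra R S] [Algebra.Smooth R S] [Module.FaithfullyFlat R S] (hS : CAlg.IsNagata S) :
    CAlg.IsNagata R := by
  haveI : IsNoetherianRing S := hS.1
  haveI hRn : IsNoetherianRing R :=
    Groth.Agent.Lib.Helper15.isNoetherianRing_of_faithfullyFlat (R := R) (A := S)
  refine ⟨hRn, fun p hp => ?_⟩
  rw [NagataLoc.isN2_iff_N2']
  apply N2'_of_forall_finite_subalgebra
  intro L _ _ hinj A hAfin hfrac
  letI : Algebra R L := ((algebraMap (R ⧸ p) L).comp (algebraMap R (R ⧸ p))).toAlgebra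
  haveI : IsScalarTower R (R ⧸ p) L := IsScalarTower.of_algebraMap_eq (fun _ => rfl)
  haveI : Module.Finite R (R ⧸ p) := inferInstance
  haveI : Module.Finite R A := Module.Finite.trans (R ⧸ p) A
  haveI : Algebra.FiniteType R A := inferInstance
  exact finite_integralClosure_of_finiteType R S hS A L

end Groth.Agent.Lib.Helper26.NagSmoothDesc
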