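import Groth.Agent.Lib.Helper13.FTApprox
import Groth.Agent.Lib.Helper17.AffIso
import Groth.Prelude.Def_QCohCat
import Groth.Prelude.Def_Coh
import Mathlib.CategoryTheory.Subobject.NoetherianObject

/-!
# Noetherian objects of `QCoh(O_Y)` on a Noetherian scheme are the coherent modules
-/

set_option autoImplicit false
universe u
open CategoryTheory CategoryTheory.Limits AlgebraicGeometry TopologicalSpace Opposite
open Scheme.Modules ZeroObject

namespace Groth.Agent.Lib.Helper26.NoethObj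

open Groth.Agent.Lib.Helper3 Groth.Agent.Lib.Helper3.QCSec Groth.Agent.Lib.Helper13
open Groth.Agent.Lib.Helper17

variable {Y : Scheme.{u}}

/-- A monomorphism of `QCoh Y` has a monomorphic underlying morphism of modules. -/
theorem mono_hom {A B : QCohCat.QCoh Y} (f : A ⟶ B) [Mono f] : Mono f.hom := by
  haveI : A.obj.IsQuasicoherent := A.property
  haveI : B.obj.IsQuasicoherent := B.property
  apply Preadditive.mono_of_kernel_zero
  have hK : (kernel f.hom).IsQuasicoherent := QCProps.isQuasicoherent_kernel f.hom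
  let K : QCohCat.QCoh Y := ⟨kernel f.hom, hK⟩
  let k₁ : K ⟶ A := ObjectProperty.homMk (kernel.ι f.hom)
  let k₂ : K ⟶ A := ObjectProperty.homMk (0 : kernel f.hom ⟶ A.obj)
  have h0 : k₁ ≫ f = k₂ ≫ f := by
    apply ObjectProperty.hom_ext
    change kernel.ι f.hom ≫ f.hom = (0 : kernel f.hom ⟶ A.obj) ≫ f.hom
    rw [kernel.condition, zero_comp]
  have h1 : k₁ = k₂ := (cancel_mono f).mp h0
  exact congrArg (fun φ : K ⟶ A => φ.hom) h1

/-- A morphism of `QCoh Y` with monomorphic underlying morphism is a monomorphism. -/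
theorem mono_of_mono_hom {A B : QCohCat.QCoh Y} (f : A ⟶ B) [Mono f.hom] : Mono f :=
  ⟨fun g h w => ObjectProperty.hom_ext _
    ((cancel_mono f.hom).mp (congrArg (fun φ : _ ⟶ B => φ.hom) w))⟩

theorem noetherian_of_isCoh [IsNoetherian Y] (M : QCohCat.QCoh Y) (hM : Coh.IsCoh M.obj) :
    IsNoetherianObject M := by
  haveI : M.obj.IsQuasicoherent := hM.1
  haveI : M.obj.IsFiniteType := hM.2
  rw [isNoetherianObject_iff_monotone_chain_condition]
  intro f
  let a : ∀ k, ((f k : QCohCat.QCoh Y)).obj ⟶ M.obj := fun k => (f k).arrow.hom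
  haveI ha : ∀ k, Mono (a k) := fun k => mono_hom (f k).arrow
  haveI hq : ∀ k, ((f k : QCohCat.QCoh Y)).obj.IsQuasicoherent :=
    fun k => (f k : QCohCat.QCoh Y).property
  let N : ∀ (U : Y.Opens), ℕ → Submodule Γ(Y, U) Γ(M.obj, U) :=
    fun U k => LinearMap.range (QCProps.appₗ (a k) U)
  have hb : ∀ k l (hkl : k ≤ l),
      (Subobject.ofLE (f k) (f l) (f.monotone hkl)).hom ≫ a l = a k := by
    intro k l hkl
    exact congrArg (fun φ : ((f k : QCohCat.QCoh Y)) ⟶ M => φ.hom)
      (Subobject.ofLE_arrow (f.monotone hkl))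
  have hNmono : ∀ U, Monotone (N U) := by
    intro U k l hkl
    rintro _ ⟨t, rfl⟩
    refine ⟨(Subobject.ofLE (f k) (f l) (f.monotone hkl)).hom.app U t, ?_⟩
    exact congrArg (fun φ : ((f k : QCohCat.QCoh Y)).obj ⟶ M.obj => φ.app U t) (hb k l hkl)
  have hstab : ∀ (U : Y.Opens), IsAffineOpen U → ∃ n, ∀ m, n ≤ m → N U n = N U m := by
    intro U hU
    haveI : IsNoetherianRing Γ(Y, U) := IsLocallyNoetherian.component_noetherian ⟨U, hU⟩
    haveI : Module.Finite Γ(Y, U) Γ(M.obj, U) := QCProps.finite_sections M.obj hU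
    haveI : IsNoetherian Γ(Y, U) Γ(M.obj, U) := isNoetherian_of_isNoetherianRing_of_finite _ _
    exact monotone_stabilizes_iff_noetherian.mpr inferInstance ⟨N U, hNmono U⟩
  obtain ⟨ι, hι, V, hVa, -, hcov⟩ := exists_finite_affine_cover (⊤ : Y.Opens)
    (by simpa using (isCompact_univ : IsCompact (Set.univ : Set Y)))
  have := Fintype.ofFinite ι
  choose ns hns using fun i => hstab (V i) (hVa i)
  refine ⟨Finset.univ.sup ns, fun m hnm => ?_⟩
  have hle : ∀ i, ns i ≤ Finset.univ.sup ns := fun i => Finset.le_sup (Finset.mem_univ i)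
  have hNeq : ∀ i, N (V i) (Finset.univ.sup ns) = N (V i) m := fun i =>
    (hns i _ (hle i)).symm.trans (hns i m ((hle i).trans hnm))
  apply le_antisymm (f.monotone hnm)
  set n := Finset.univ.sup ns with hn
  let b := Subobject.ofLE (f n) (f m) (f.monotone hnm)
  have hbn : b.hom ≫ a m = a n := hb n m hnm
  haveI : Mono b.hom := by
    haveI : Mono (b.hom ≫ a m) := by rw [hbn]; infer_instance
    exact mono_of_mono b.hom (a m)
  haveI : IsIso b.hom := by
    apply AffIso.isIso_of_bijective_on_affine_cover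
    intro x
    obtain ⟨i, hxi⟩ := Opens.mem_iSup.mp (hcov (Opens.mem_top x))
    refine ⟨V i, hVa i, hxi, QCExact.injective_sections b.hom (V i), ?_⟩
    intro t
    have ht : (a m).app (V i) t ∈ N (V i) m := ⟨t, rfl⟩
    rw [← hNeq i] at ht
    obtain ⟨s, hs⟩ := ht
    refine ⟨s, ?_⟩
    apply QCExact.injective_sections (a m) (V i)
    have h2 := congrArg (fun φ : ((f n : QCohCat.QCoh Y)).obj ⟶ M.obj => φ.app (V i) s) hbn
    exact h2.trans hs
  haveI : IsIso b := (ObjectProperty.isIso_hom_iff b).mp inferInstance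
  exact Subobject.le_of_comm (inv b)
    ((IsIso.inv_comp_eq b).mpr (Subobject.ofLE_arrow (f.monotone hnm)).symm)

theorem isCoh_of_noetherian [IsNoetherian Y] (M : QCohCat.QCoh Y) [IsNoetherianObject M] :
    Coh.IsCoh M.obj := by
  haveI : M.obj.IsQuasicoherent := M.property
  refine ⟨M.property, ?_⟩
  let S : Set (Subobject M) := {P | ((P : QCohCat.QCoh Y)).obj.IsFiniteType}
  have hne : S.Nonempty := by
    let Z : QCohCat.QCoh Y :=
      ⟨(0 : Y.Modules), QCOpen.isQuasicoherent_of_isZero (isZero_zero _)⟩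
    let z : Z ⟶ M := ObjectProperty.homMk (0 : (0 : Y.Modules) ⟶ M.obj)
    haveI : Mono z :=
      ⟨fun g h _ => ObjectProperty.hom_ext _ ((isZero_zero Y.Modules).eq_of_tgt _ _)⟩
    refine ⟨Subobject.mk z, ?_⟩
    have e : ((Subobject.mk z : QCohCat.QCoh Y)).obj ≅ (0 : Y.Modules) :=
      (QCohCat.isQCoh Y).ι.mapIso (Subobject.underlyingIso z)
    haveI : (0 : Y.Modules).IsFiniteType := QCOpen.isFiniteType_of_isZero (isZero_zero _)
    exact QCProps.isFiniteType_of_iso e.symm
  obtain ⟨P, hPS, hmax⟩ := wellFounded_gt.has_min S hne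
  let a : ((P : QCohCat.QCoh Y)).obj ⟶ M.obj := P.arrow.hom
  haveI : Mono a := mono_hom P.arrow
  haveI hPq : ((P : QCohCat.QCoh Y)).obj.IsQuasicoherent := (P : QCohCat.QCoh Y).property
  haveI hPf : ((P : QCohCat.QCoh Y)).obj.IsFiniteType := hPS
  have hsurj : ∀ (U : Y.Opens), IsAffineOpen U → Function.Surjective (a.app U) := by
    intro U hU c
    obtain ⟨K₂, m₂, hm₂, hq₂, hf₂, y, hy⟩ := FTApprox.exists_ft_sub_of_section M.obj hU c
    haveI := hq₂
    haveI := hf₂
    obtain ⟨K', m, j₁, j₂, hm, hq', hf', hj₁, hj₂⟩ := FTApprox.exists_sum a m₂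
    let P' : QCohCat.QCoh Y := ⟨K', hq'⟩
    let m' : P' ⟶ M := ObjectProperty.homMk m
    haveI : Mono m'.hom := hm
    haveI : Mono m' := mono_of_mono_hom m'
    have hle : P ≤ Subobject.mk m' :=
      Subobject.le_mk_of_comm (ObjectProperty.homMk j₁) (ObjectProperty.hom_ext _ hj₁)
    have hS' : Subobject.mk m' ∈ S := by
      have e : ((Subobject.mk m' : QCohCat.QCoh Y)).obj ≅ K' :=
        (QCohCat.isQCoh Y).ι.mapIso (Subobject.underlyingIso m')
      haveI := hf'
      exact QCProps.isFiniteType_of_iso e.symm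
    have heq : P = Subobject.mk m' := eq_of_le_of_not_lt hle (fun h => hmax _ hS' h)
    have hge : Subobject.mk m' ≤ P := heq.ge
    let g := Subobject.ofMkLE m' P hge
    have hg : g.hom ≫ a = m :=
      congrArg (fun φ : P' ⟶ M => φ.hom) (Subobject.ofMkLE_arrow hge)
    refine ⟨g.hom.app U (j₂.app U y), ?_⟩
    have h1 := congrArg (fun φ : K' ⟶ M.obj => φ.app U (j₂.app U y)) hg
    have h2 := congrArg (fun φ : K₂ ⟶ M.obj => φ.app U y) hj₂
    exact h1.trans (h2.trans hy)
  haveI : Epi a := by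
    apply QCExact.epi_of_surjective_on_affine_cover
    intro x
    obtain ⟨U, hU, hxU⟩ := QCProps.exists_affine_nbhd x
    exact ⟨U, hU, hxU, hsurj U hU⟩
  exact QCProps.isFiniteType_of_epi a

end Groth.Agent.Lib.Helper26.NoethObj
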