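import Mathlib
import Groth.Agent.Lib.Helper26.PairHensOps
import Groth.Agent.Lib.Helper26.HenselIdem

/-!
# Chinese remainder theorem for henselizations of pairs (helper26)
-/

set_option autoImplicit false
universe u v

namespace Groth.Agent.Lib.Helper26.PairHensCRT

open Polynomial Groth.Agent.Lib.Helper26.PairHensConstr
  Groth.Agent.Lib.Helper26.PairHensNbhd Groth.Agent.Lib.Helper26.PairHensOps
  Groth.Agent.Lib.Helper26.HenselTFAE Groth.Agent.Lib.Helper26.HenselIdem

theorem nonempty_algEquiv_pi (A : Type u) [CommRing A] {n : ℕ} (I : Fin n → Ideal A)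
    (hI : Pairwise fun i j => I i ⊔ I j = ⊤) (B : Type u) [CommRing B] [Algebra A B]
    (hB : Hens2.IsPairHenselization A (⨅ i, I i) B) (Bi : Fin n → Type u)
    [∀ i, CommRing (Bi i)] [∀ i, Algebra A (Bi i)]
    (hBi : ∀ i, Hens2.IsPairHenselization A (I i) (Bi i)) :
    Nonempty (B ≃ₐ[A] ∀ i, Bi i) := by
  classical
  set K : Ideal A := ⨅ i, I i with hK
  haveI hBH : HenselianRing B (K.map (algebraMap A B)) := hB.1
  have hjac : K.map (algebraMap A B) ≤ Ideal.jacobson ⊥ := hBH.jac
  have hcop : Pairwise (Function.onFun IsCoprime I) :=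
    fun i j hij => Ideal.isCoprime_iff_sup_eq.mpr (hI hij)
  choose a ha using fun i : Fin n =>
    Ideal.exists_forall_sub_mem_ideal hcop (fun j => if j = i then (1 : A) else 0)
  have ha1 : ∀ i, a i - 1 ∈ I i := fun i => by simpa using ha i i
  have ha0 : ∀ i j, j ≠ i → a i ∈ I j := fun i j hji => by simpa [hji] using ha i j
  have hmemK : ∀ x : A, (∀ j, x ∈ I j) → x ∈ K := fun x hx => by
    rw [hK, Ideal.mem_iInf]; exact hx
  have hsq : ∀ i, a i * a i - a i ∈ K := by
    intro i
    apply hmemK
    intro j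
    have : a i * a i - a i = a i * (a i - 1) := by ring
    rw [this]
    by_cases hji : j = i
    · subst hji; exact Ideal.mul_mem_left _ _ (ha1 j)
    · exact Ideal.mul_mem_right _ _ (ha0 i j hji)
  have hprod : ∀ i j, i ≠ j → a i * a j ∈ K := by
    intro i j hij
    apply hmemK
    intro k
    by_cases hki : k = i
    · subst hki; exact Ideal.mul_mem_left _ _ (ha0 j k hij)
    · exact Ideal.mul_mem_right _ _ (ha0 i k hki)
  have hsum : ∑ i, a i - 1 ∈ K := by
    apply hmemK
    intro k
    have : ∑ i, a i - 1 = (a k - 1) + ∑ i ∈ Finset.univ.erase k, a i := by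
      rw [← Finset.add_sum_erase Finset.univ a (Finset.mem_univ k)]; ring
    rw [this]
    exact Ideal.add_mem _ (ha1 k)
      (Ideal.sum_mem _ (fun i hi => ha0 i k (Finset.ne_of_mem_erase hi).symm))
  have hxa : ∀ i x, x ∈ I i → x * a i ∈ K := by
    intro i x hx
    apply hmemK
    intro j
    by_cases hji : j = i
    · subst hji; exact Ideal.mul_mem_right _ _ hx
    · exact Ideal.mul_mem_left _ _ (ha0 i j hji)
  have hLF : LiftsFactorizations (K.map (algebraMap A B)) :=
    liftsFactorizations_of_liftsEtale _ (liftsEtale_of_henselianRing _)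
  have hmapid : (K.map (algebraMap A B)).map (algebraMap B B) = K.map (algebraMap A B) := by
    rw [Algebra.algebraMap_self, Ideal.map_id]
  have hex : ∀ i, ∃ e : B, IsIdempotentElem e ∧
      e - algebraMap A B (a i) ∈ K.map (algebraMap A B) := by
    intro i
    have hb : algebraMap A B (a i) * algebraMap A B (a i) - algebraMap A B (a i)
        ∈ (K.map (algebraMap A B)).map (algebraMap B B) := by
      rw [hmapid, ← map_mul, ← map_sub]
      exact Ideal.mem_map_of_mem _ (hsq i)
    obtain ⟨e, he, hee⟩ := exists_idempotent_finite (K.map (algebraMap A B)) hjac hLF (B := B)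
      (algebraMap A B (a i)) hb
    rw [hmapid] at hee
    exact ⟨e, he, hee⟩
  choose e he hea using hex
  have hidem0 : ∀ x : B, IsIdempotentElem x → x ∈ K.map (algebraMap A B) → x = 0 := by
    intro x hx hxK
    exact idempotent_eq_of_sub_mem_jacobson x 0 hx IsIdempotentElem.zero
      (by rw [sub_zero]; exact hjac hxK)
  have hortho : ∀ i j, i ≠ j → e i * e j = 0 := by
    intro i j hij
    apply hidem0 _ ((he i).mul (he j))
    have h1 : e i * e j - algebraMap A B (a i) * algebraMap A B (a j)
        ∈ K.map (algebraMap A B) := by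
      have : e i * e j - algebraMap A B (a i) * algebraMap A B (a j)
          = (e i - algebraMap A B (a i)) * e j
            + algebraMap A B (a i) * (e j - algebraMap A B (a j)) := by ring
      rw [this]
      exact Ideal.add_mem _ (Ideal.mul_mem_right _ _ (hea i)) (Ideal.mul_mem_left _ _ (hea j))
    have h2 : algebraMap A B (a i) * algebraMap A B (a j) ∈ K.map (algebraMap A B) := by
      rw [← map_mul]; exact Ideal.mem_map_of_mem _ (hprod i j hij)
    have := Ideal.add_mem _ h1 h2
    rwa [sub_add_cancel] at this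
  have hOI : OrthogonalIdempotents e := ⟨he, fun i j hij => hortho i j hij⟩
  have hcomplete : ∑ i, e i = 1 := by
    have hs : IsIdempotentElem (∑ i, e i) := hOI.isIdempotentElem_sum
    apply idempotent_eq_of_sub_mem_jacobson _ 1 hs IsIdempotentElem.one
    apply hjac
    have h1 : ∑ i, e i - 1 = ∑ i, (e i - algebraMap A B (a i))
        + algebraMap A B (∑ i, a i - 1) := by
      rw [map_sub, map_sum, map_one, Finset.sum_sub_distrib]; ring
    rw [h1]
    exact Ideal.add_mem _ (Ideal.sum_mem _ (fun i _ => hea i)) (Ideal.mem_map_of_mem _ hsum)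
  have hCOI : CompleteOrthogonalIdempotents e := ⟨hOI, hcomplete⟩
  have hCi : ∀ i, Hens2.IsPairHenselization A (I i) (B ⧸ Ideal.span {1 - e i}) := by
    intro i
    have hone : Ideal.Quotient.mk (Ideal.span {1 - e i}) (e i) = 1 := by
      rw [← map_one (Ideal.Quotient.mk (Ideal.span {1 - e i})), eq_comm, Ideal.Quotient.eq]
      exact Ideal.subset_span rfl
    have hmk : ∀ y : A, Ideal.Quotient.mk (Ideal.span {1 - e i}) (algebraMap A B y)
        = algebraMap A (B ⧸ Ideal.span {1 - e i}) y := fun y => rfl
    have hIeq : (K.map (algebraMap A B)).map (algebraMap B (B ⧸ Ideal.span {1 - e i}))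
        = (I i).map (algebraMap A (B ⧸ Ideal.span {1 - e i})) := by
      rw [Ideal.map_map, ← IsScalarTower.algebraMap_eq]
      apply le_antisymm
      · exact Ideal.map_mono (iInf_le _ i)
      · rw [Ideal.map_le_iff_le_comap]
        intro x hx
        rw [Ideal.mem_comap]
        have h1 : algebraMap A (B ⧸ Ideal.span {1 - e i}) x
            = algebraMap A (B ⧸ Ideal.span {1 - e i}) (x * a i)
              + algebraMap A (B ⧸ Ideal.span {1 - e i}) x
                * Ideal.Quotient.mk (Ideal.span {1 - e i}) (e i - algebraMap A B (a i)) := by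
          rw [map_sub, hone, map_mul, hmk]; ring
        rw [h1]
        refine Ideal.add_mem _ (Ideal.mem_map_of_mem _ (hxa i x hx)) (Ideal.mul_mem_left _ _ ?_)
        have h2 : (K.map (algebraMap A B)).map (Ideal.Quotient.mk (Ideal.span {1 - e i}))
            = K.map (algebraMap A (B ⧸ Ideal.span {1 - e i})) := by
          rw [Ideal.map_map]; rfl
        rw [← h2]
        exact Ideal.mem_map_of_mem _ (hea i)
    haveI : Algebra.IsIntegral B (B ⧸ Ideal.span {1 - e i}) :=
      Algebra.IsIntegral.of_surjective (Ideal.Quotient.mkₐ B _)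
        (Ideal.Quotient.mkₐ_surjective B _)
    have hH : HenselianRing (B ⧸ Ideal.span {1 - e i})
        ((K.map (algebraMap A B)).map (algebraMap B (B ⧸ Ideal.span {1 - e i}))) :=
      Groth.Agent.S0526.result B (K.map (algebraMap A B)) (B ⧸ Ideal.span {1 - e i})
    rw [hIeq] at hH
    refine ⟨hH, ?_⟩
    intro D _ J f hD hfJ
    have hKJ : K.map f ≤ J := (Ideal.map_mono (iInf_le _ i)).trans hfJ
    obtain ⟨g₀, hg₀, hg₀u⟩ := hB.2 D J f hD hKJ
    have hg₀a : ∀ y : A, g₀ (algebraMap A B y) = f y := fun y => RingHom.congr_fun hg₀ y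
    have hg₀e : g₀ (e i) = 1 := by
      apply idempotent_eq_of_sub_mem_jacobson _ 1 ((he i).map g₀) IsIdempotentElem.one
      apply hD.jac
      have h1 : g₀ (e i) - 1 = g₀ (e i - algebraMap A B (a i)) + f (a i - 1) := by
        rw [map_sub, map_sub, map_one, hg₀a]; ring
      rw [h1]
      refine Ideal.add_mem _ ?_ (hfJ (Ideal.mem_map_of_mem _ (ha1 i)))
      have h2 : (K.map (algebraMap A B)).map g₀ = K.map f := by rw [Ideal.map_map, hg₀]
      apply hKJ
      rw [← h2]
      exact Ideal.mem_map_of_mem g₀ (hea i)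
    have hker : ∀ x ∈ Ideal.span {1 - e i}, g₀ x = 0 := by
      intro x hx
      obtain ⟨c, rfl⟩ := Ideal.mem_span_singleton'.mp hx
      rw [map_mul, map_sub, map_one, hg₀e, sub_self, mul_zero]
    refine ⟨Ideal.Quotient.lift _ g₀ hker, ?_, ?_⟩
    · ext y
      show Ideal.Quotient.lift _ g₀ hker (Ideal.Quotient.mk _ (algebraMap A B y)) = f y
      rw [Ideal.Quotient.lift_mk, hg₀a]
    · intro g' hg'
      have h3 : g'.comp (Ideal.Quotient.mk (Ideal.span {1 - e i})) = g₀ := by
        apply hg₀u
        rw [RingHom.comp_assoc]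
        exact hg'
      apply Ideal.Quotient.ringHom_ext
      rw [h3]
      ext x
      simp
  let Φ : B →ₐ[A] ∀ i, B ⧸ Ideal.span {1 - e i} :=
    Pi.algHom A _ (fun i => Ideal.Quotient.mkₐ A (Ideal.span {1 - e i}))
  have hΦ : Function.Bijective Φ := hCOI.bijective_pi
  exact ⟨(AlgEquiv.ofBijective Φ hΦ).trans (AlgEquiv.piCongrRight (fun i =>
    Classical.choice (nonempty_algEquiv_of_isPairHenselization (hCi i) (hBi i))))⟩

end Groth.Agent.Lib.Helper26.PairHensCRT
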