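import Groth.Agent.Lib.Helper26.PairHensOps
import Mathlib

/-!
# Henselizations of pairs and pushouts (helper26)

Two "transitivity" lemmas used to show that Henselian finitely presented maps are stable under
composition and that maps between them are again Henselian finitely presented.
-/

set_option autoImplicit false
universe u

namespace Groth.Agent.Lib.Helper26.PairHensComp

open Groth.Agent.Lib.Helper26.PairHensConstr Groth.Agent.Lib.Helper26.PairHensNbhd TensorProduct

/-- If `B` is a henselization of `(N, K)`, `S = B ⊗[N] T` and `C` is a henselization of `(S, KS)`,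
then `C` is a henselization of `(T, KT)`. -/
theorem isPairHenselization_of_isPushout
    {N : Type u} [CommRing N] (K : Ideal N)
    {B : Type u} [CommRing B] [Algebra N B] (hB : Hens2.IsPairHenselization N K B)
    {T : Type u} [CommRing T] [Algebra N T]
    {S : Type u} [CommRing S] [Algebra N S] [Algebra B S] [Algebra T S]
    [IsScalarTower N B S] [IsScalarTower N T S] [Algebra.IsPushout N B T S]
    {C : Type u} [CommRing C] [Algebra S C] [Algebra T C] [IsScalarTower T S C]
    (hC : Hens2.IsPairHenselization S (K.map (algebraMap N S)) C) :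
    Hens2.IsPairHenselization T (K.map (algebraMap N T)) C := by
  have hTC : algebraMap T C = (algebraMap S C).comp (algebraMap T S) :=
    IsScalarTower.algebraMap_eq T S C
  have hNS : algebraMap N S = (algebraMap T S).comp (algebraMap N T) :=
    IsScalarTower.algebraMap_eq N T S
  have hmap : (K.map (algebraMap N T)).map (algebraMap T C) =
      (K.map (algebraMap N S)).map (algebraMap S C) := by
    rw [Ideal.map_map, Ideal.map_map, hTC, hNS, RingHom.comp_assoc]
  refine ⟨by rw [hmap]; exact hC.1, ?_⟩
  intro D _ J f hD hf
  set f₀ : N →+* D := f.comp (algebraMap N T) with hf₀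
  have hf₀J : K.map f₀ ≤ J := by rw [hf₀, ← Ideal.map_map]; exact hf
  obtain ⟨g, hg, hgu⟩ := hB.2 D J f₀ hD hf₀J
  letI : Algebra N D := f₀.toAlgebra
  let fT : T →ₐ[N] D := { f with commutes' := fun n => rfl }
  let gB : B →ₐ[N] D := { g with commutes' := fun n => RingHom.congr_fun hg n }
  let h : S →ₐ[N] D := Algebra.pushoutDesc S gB fT (fun _ _ => mul_comm _ _)
  have hhT : ∀ t : T, h (algebraMap T S t) = f t := fun t =>
    Algebra.pushoutDesc_right S gB fT _ t
  have hhB : ∀ b : B, h (algebraMap B S b) = g b := fun b =>
    Algebra.pushoutDesc_left S gB fT _ b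
  have hhJ : (K.map (algebraMap N S)).map h.toRingHom ≤ J := by
    rw [Ideal.map_map]
    have : h.toRingHom.comp (algebraMap N S) = f₀ := by
      ext n
      exact h.commutes n
    rw [this]
    exact hf₀J
  obtain ⟨k, hk, hku⟩ := hC.2 D J h.toRingHom hD hhJ
  have hk' : ∀ s : S, k (algebraMap S C s) = h s := fun s => RingHom.congr_fun hk s
  refine ⟨k, ?_, ?_⟩
  · ext t
    show k (algebraMap T C t) = f t
    rw [hTC, RingHom.comp_apply, hk', hhT]
  · intro k' hk'f
    have hk'f' : ∀ t : T, k' (algebraMap T C t) = f t := fun t => RingHom.congr_fun hk'f t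
    apply hku
    let h' : S →ₐ[N] D :=
      { k'.comp (algebraMap S C) with
        commutes' := fun n => by
          show k' (algebraMap S C (algebraMap N S n)) = f (algebraMap N T n)
          rw [hNS, RingHom.comp_apply, ← RingHom.comp_apply (algebraMap S C), ← hTC, hk'f'] }
    have hh' : h' = h := by
      apply Algebra.IsPushout.algHom_ext (H := (inferInstance : Algebra.IsPushout N B T S))
      · ext t
        show k' (algebraMap S C (algebraMap T S t)) = h (algebraMap T S t)
        rw [hhT, ← RingHom.comp_apply (algebraMap S C), ← hTC, hk'f']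
      · have h1 : (h'.comp (IsScalarTower.toAlgHom N B S)).toRingHom = g := by
          apply hgu
          ext n
          show h' (algebraMap B S (algebraMap N B n)) = f₀ n
          rw [← IsScalarTower.algebraMap_apply N B S]
          exact h'.commutes n
        ext b
        show h' (algebraMap B S b) = h (algebraMap B S b)
        rw [hhB]
        exact RingHom.congr_fun h1 b
    ext s
    show k' (algebraMap S C s) = h s
    rw [← hh']
    rfl

/-- If `B` is a henselization of `(R, K)`, `C` is a henselization of `(N, KN)` for an `R`-algebra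
`N`, `B → C` is an `R`-algebra map and `T = B ⊗[R] N`, then `C` is a henselization of `(T, KT)`. -/
theorem isPairHenselization_of_isPushout'
    {R : Type u} [CommRing R] (K : Ideal R)
    {B : Type u} [CommRing B] [Algebra R B] (hB : Hens2.IsPairHenselization R K B)
    {N : Type u} [CommRing N] [Algebra R N]
    {C : Type u} [CommRing C] [Algebra R C] [Algebra N C] [Algebra B C]
    [IsScalarTower R N C] [IsScalarTower R B C]
    (hC : Hens2.IsPairHenselization N (K.map (algebraMap R N)) C)
    {T : Type u} [CommRing T] [Algebra R T] [Algebra B T] [Algebra N T]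
    [IsScalarTower R B T] [IsScalarTower R N T] [Algebra.IsPushout R B N T]
    [Algebra T C] [IsScalarTower B T C] [IsScalarTower N T C] :
    Hens2.IsPairHenselization T (K.map (algebraMap R T)) C := by
  have hNC : algebraMap N C = (algebraMap T C).comp (algebraMap N T) :=
    IsScalarTower.algebraMap_eq N T C
  have hBC : algebraMap B C = (algebraMap T C).comp (algebraMap B T) :=
    IsScalarTower.algebraMap_eq B T C
  have hRT : algebraMap R T = (algebraMap N T).comp (algebraMap R N) :=
    IsScalarTower.algebraMap_eq R N T
  have hRT' : algebraMap R T = (algebraMap B T).comp (algebraMap R B) :=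
    IsScalarTower.algebraMap_eq R B T
  have hmap : (K.map (algebraMap R T)).map (algebraMap T C) =
      (K.map (algebraMap R N)).map (algebraMap N C) := by
    rw [Ideal.map_map, Ideal.map_map, hNC, hRT, RingHom.comp_assoc]
  refine ⟨by rw [hmap]; exact hC.1, ?_⟩
  intro D _ J f hD hf
  set fN : N →+* D := f.comp (algebraMap N T) with hfN
  have hfNJ : (K.map (algebraMap R N)).map fN ≤ J := by
    rw [hfN, Ideal.map_map, RingHom.comp_assoc, ← hRT, ← Ideal.map_map]; exact hf
  obtain ⟨k, hk, hku⟩ := hC.2 D J fN hD hfNJ
  have hk' : ∀ n : N, k (algebraMap N C n) = f (algebraMap N T n) := fun n =>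
    RingHom.congr_fun hk n
  -- uniqueness of maps out of `B`
  set f₀ : R →+* D := f.comp (algebraMap R T) with hf₀
  have hf₀J : K.map f₀ ≤ J := by rw [hf₀, ← Ideal.map_map]; exact hf
  obtain ⟨g, -, hgu⟩ := hB.2 D J f₀ hD hf₀J
  have hkB : k.comp (algebraMap B C) = f.comp (algebraMap B T) := by
    have h1 : (f.comp (algebraMap B T)).comp (algebraMap R B) = f₀ := by
      rw [RingHom.comp_assoc, ← hRT']
    have h2 : (k.comp (algebraMap B C)).comp (algebraMap R B) = f₀ := by
      ext r
      show k (algebraMap B C (algebraMap R B r)) = f (algebraMap R T r)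
      rw [← IsScalarTower.algebraMap_apply R B C, IsScalarTower.algebraMap_apply R N C, hk',
        ← IsScalarTower.algebraMap_apply R N T]
    rw [hgu _ h1, hgu _ h2]
  refine ⟨k, ?_, ?_⟩
  · letI : Algebra R D := f₀.toAlgebra
    let F₁ : T →ₐ[R] D :=
      { k.comp (algebraMap T C) with
        commutes' := fun r => by
          show k (algebraMap T C (algebraMap R T r)) = f (algebraMap R T r)
          rw [hRT, RingHom.comp_apply, ← RingHom.comp_apply (algebraMap T C), ← hNC, hk'] }
    let F₂ : T →ₐ[R] D := { f with commutes' := fun r => rfl }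
    have hF : F₁ = F₂ := by
      apply Algebra.IsPushout.algHom_ext (H := (inferInstance : Algebra.IsPushout R B N T))
      · ext n
        show k (algebraMap T C (algebraMap N T n)) = f (algebraMap N T n)
        rw [← RingHom.comp_apply (algebraMap T C), ← hNC, hk']
      · ext b
        show k (algebraMap T C (algebraMap B T b)) = f (algebraMap B T b)
        rw [← RingHom.comp_apply (algebraMap T C), ← hBC]
        exact RingHom.congr_fun hkB b
    ext t
    exact AlgHom.congr_fun hF t
  · intro k' hk'f
    apply hku
    rw [hNC, ← RingHom.comp_assoc, hk'f]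

attribute [local instance] Algebra.TensorProduct.rightAlgebra in
/-- Packaged form of `isPairHenselization_of_isPushout`: if `B` is a henselization of `(N, IN)` with
`N` finitely presented over `A`, `S ≃ B ⊗[N] T` with `T` finitely presented over `N` and `C` is a
henselization of `(S, IS)`, then `C` is a henselization of `(T, IT)` and `T` is finitely presented
over `A`. -/
theorem exists_fp_of_tensorEquiv
    {A : Type u} [CommRing A] (I : Ideal A)
    {N : Type u} [CommRing N] [Algebra A N] [Algebra.FinitePresentation A N]
    {B : Type u} [CommRing B] [Algebra N B]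
    (hB : Hens2.IsPairHenselization N (I.map (algebraMap A N)) B)
    {T : Type u} [CommRing T] [Algebra N T] [Algebra.FinitePresentation N T]
    {S : Type u} [CommRing S] [Algebra N S] [Algebra B S] [IsScalarTower N B S]
    (e : B ⊗[N] T ≃ₐ[B] S)
    {C : Type u} [CommRing C] [Algebra S C] [Algebra A C]
    (hAC : ∀ a, algebraMap A C a = algebraMap S C (algebraMap N S (algebraMap A N a)))
    (hC : Hens2.IsPairHenselization S ((I.map (algebraMap A N)).map (algebraMap N S)) C) :
    ∃ (T' : Type u) (_ : CommRing T') (_ : Algebra A T') (_ : Algebra T' C)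
      (_ : IsScalarTower A T' C),
      Algebra.FinitePresentation A T' ∧ Hens2.IsPairHenselization T' (I.map (algebraMap A T')) C := by
  letI algTS : Algebra T S := (e.toRingHom.comp (algebraMap T (B ⊗[N] T))).toAlgebra
  haveI : IsScalarTower N T S := IsScalarTower.of_algebraMap_eq (fun n => by
    show algebraMap N S n = e (algebraMap T (B ⊗[N] T) (algebraMap N T n))
    rw [← IsScalarTower.algebraMap_apply N T (B ⊗[N] T),
      IsScalarTower.algebraMap_apply N B (B ⊗[N] T), e.commutes,
      ← IsScalarTower.algebraMap_apply N B S])
  haveI hpush : Algebra.IsPushout N B T S :=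
    Algebra.IsPushout.of_equiv (h := TensorProduct.isPushout) e rfl
  letI algTC : Algebra T C := ((algebraMap S C).comp (algebraMap T S)).toAlgebra
  haveI : IsScalarTower T S C := IsScalarTower.of_algebraMap_eq' rfl
  have key := isPairHenselization_of_isPushout (I.map (algebraMap A N)) hB (T := T) (S := S)
    (C := C) hC
  letI algAT : Algebra A T := ((algebraMap N T).comp (algebraMap A N)).toAlgebra
  haveI : IsScalarTower A N T := IsScalarTower.of_algebraMap_eq' rfl
  haveI : IsScalarTower A T C := IsScalarTower.of_algebraMap_eq (fun a => by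
    show algebraMap A C a = algebraMap S C (algebraMap T S (algebraMap N T (algebraMap A N a)))
    rw [← IsScalarTower.algebraMap_apply N T S, hAC])
  haveI : Algebra.FinitePresentation A T := Algebra.FinitePresentation.trans A N T
  refine ⟨T, inferInstance, algAT, algTC, inferInstance, inferInstance, ?_⟩
  have : I.map (algebraMap A T) = (I.map (algebraMap A N)).map (algebraMap N T) := by
    rw [Ideal.map_map]
    rfl
  rw [this]
  exact key

attribute [local instance] Algebra.TensorProduct.rightAlgebra in
/-- Packaged form of `isPairHenselization_of_isPushout'` with `T = B ⊗[R] N`. -/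
theorem exists_fp_of_compat
    {R : Type u} [CommRing R] (K : Ideal R)
    {B : Type u} [CommRing B] [Algebra R B] (hB : Hens2.IsPairHenselization R K B)
    {N : Type u} [CommRing N] [Algebra R N] [Algebra.FinitePresentation R N]
    {C : Type u} [CommRing C] [Algebra N C] [Algebra B C]
    (hcompat : ∀ r, algebraMap B C (algebraMap R B r) = algebraMap N C (algebraMap R N r))
    (hC : Hens2.IsPairHenselization N (K.map (algebraMap R N)) C) :
    ∃ (T : Type u) (_ : CommRing T) (_ : Algebra B T) (_ : Algebra T C) (_ : IsScalarTower B T C),
      Algebra.FinitePresentation B T ∧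
      Hens2.IsPairHenselization T ((K.map (algebraMap R B)).map (algebraMap B T)) C := by
  letI : Algebra R C := ((algebraMap B C).comp (algebraMap R B)).toAlgebra
  haveI : IsScalarTower R B C := IsScalarTower.of_algebraMap_eq' rfl
  haveI : IsScalarTower R N C := IsScalarTower.of_algebraMap_eq (fun r => hcompat r)
  letI algTC : Algebra (B ⊗[R] N) C :=
    (Algebra.TensorProduct.lift (IsScalarTower.toAlgHom R B C) (IsScalarTower.toAlgHom R N C)
      (fun _ _ => Commute.all _ _)).toRingHom.toAlgebra
  haveI : IsScalarTower B (B ⊗[R] N) C := IsScalarTower.of_algebraMap_eq (fun b => by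
    show algebraMap B C b = (Algebra.TensorProduct.lift (IsScalarTower.toAlgHom R B C)
      (IsScalarTower.toAlgHom R N C) (fun _ _ => Commute.all _ _)) (b ⊗ₜ[R] (1 : N))
    simp)
  haveI : IsScalarTower N (B ⊗[R] N) C := IsScalarTower.of_algebraMap_eq (fun x => by
    show algebraMap N C x = (Algebra.TensorProduct.lift (IsScalarTower.toAlgHom R B C)
      (IsScalarTower.toAlgHom R N C) (fun _ _ => Commute.all _ _)) ((1 : B) ⊗ₜ[R] x)
    simp)
  have key := isPairHenselization_of_isPushout' K hB hC (T := B ⊗[R] N)
  refine ⟨B ⊗[R] N, inferInstance, inferInstance, algTC, inferInstance, inferInstance, ?_⟩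
  have : (K.map (algebraMap R B)).map (algebraMap B (B ⊗[R] N)) =
      K.map (algebraMap R (B ⊗[R] N)) := by
    rw [Ideal.map_map, ← IsScalarTower.algebraMap_eq]
  rw [this]; exact key

end Groth.Agent.Lib.Helper26.PairHensComp
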