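import Groth.Agent.Lib.Helper26.PairHensOps
import Mathlib

/-!
# The henselization functor on `A`-algebras along an ideal `I` of `A` (helper26)

Generic universal-property lemmas for henselizations `H` of pairs `(C, I C)` with `C` an
`A`-algebra (lifting and uniqueness of `A`-algebra maps into Henselian `A`-algebras), the
concrete functor `HA I C := PH C (I C)`, and surjectivity of `HA I C → HA I C'` for surjective
`C → C'`.
-/

set_option autoImplicit false
universe u

namespace Groth.Agent.Lib.Helper26.PairHensFunctor

open Groth.Agent.Lib.Helper26.PairHensConstr Groth.Agent.Lib.Helper26.PairHensNbhd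
  Groth.Agent.Lib.Helper26.PairHensOps

section Generic

variable {A : Type u} [CommRing A] (I : Ideal A)

/-- A quotient of a Henselian `A`-algebra (along `I`) is Henselian along `I`. -/
theorem henselianRing_quotient (H : Type u) [CommRing H] [Algebra A H]
    [HenselianRing H (I.map (algebraMap A H))] (μ : Ideal H) :
    HenselianRing (H ⧸ μ) (I.map (algebraMap A (H ⧸ μ))) := by
  haveI : Algebra.IsIntegral H (H ⧸ μ) :=
    Algebra.IsIntegral.of_surjective (Ideal.Quotient.mkₐ H μ) (Ideal.Quotient.mkₐ_surjective H μ)
  have h := Groth.Agent.S0526.result H (I.map (algebraMap A H)) (H ⧸ μ)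
  rwa [Ideal.map_map, ← IsScalarTower.algebraMap_eq A H (H ⧸ μ)] at h

variable {C H : Type u} [CommRing C] [CommRing H] [Algebra A C] [Algebra C H] [Algebra A H]
  [IsScalarTower A C H] (hH : Hens2.IsPairHenselization C (I.map (algebraMap A C)) H)

include hH in
theorem henselianRing_of_isPH : HenselianRing H (I.map (algebraMap A H)) := by
  have h := hH.1
  rwa [Ideal.map_map, ← IsScalarTower.algebraMap_eq A C H] at h

include hH in
/-- Two `A`-algebra maps from a henselization of `(C, I C)` to a Henselian `A`-algebra agreeing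
on `C` are equal. -/
theorem algHom_ext {T : Type u} [CommRing T] [Algebra A T]
    [hT : HenselianRing T (I.map (algebraMap A T))]
    (φ ψ : H →ₐ[A] T) (h : ∀ c, φ (algebraMap C H c) = ψ (algebraMap C H c)) : φ = ψ := by
  have hle : (I.map (algebraMap A C)).map ((φ : H →+* T).comp (algebraMap C H)) ≤
      I.map (algebraMap A T) := by
    rw [Ideal.map_map]
    apply le_of_eq
    congr 1
    ext a
    simp only [RingHom.comp_apply, RingHom.coe_coe]
    rw [← IsScalarTower.algebraMap_apply, φ.commutes]
  obtain ⟨G, -, hu⟩ := hH.2 T _ ((φ : H →+* T).comp (algebraMap C H)) hT hle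
  have h1 : (φ : H →+* T) = G := hu _ rfl
  have h2 : (ψ : H →+* T) = G := hu _ (by
    ext c
    simp only [RingHom.comp_apply, RingHom.coe_coe]
    exact (h c).symm)
  ext x
  exact RingHom.congr_fun (h1.trans h2.symm) x

include hH in
/-- Lifting an `A`-algebra map `C → T` (with `T` Henselian along `I`) to the henselization. -/
theorem exists_lift (T : Type u) [CommRing T] [Algebra A T]
    [hT : HenselianRing T (I.map (algebraMap A T))] (f : C →ₐ[A] T) :
    ∃ G : H →ₐ[A] T, ∀ c, G (algebraMap C H c) = f c := by
  have hle : (I.map (algebraMap A C)).map (f : C →+* T) ≤ I.map (algebraMap A T) := by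
    rw [Ideal.map_map, AlgHom.comp_algebraMap]
  obtain ⟨G, hG, -⟩ := hH.2 T _ (f : C →+* T) hT hle
  refine ⟨{ toRingHom := G, commutes' := fun a => ?_ }, fun c => RingHom.congr_fun hG c⟩
  show G (algebraMap A H a) = algebraMap A T a
  rw [IsScalarTower.algebraMap_apply A C H, ← f.commutes a]
  exact RingHom.congr_fun hG (algebraMap A C a)

/-- The lift of `exists_lift`. -/
noncomputable def lift (T : Type u) [CommRing T] [Algebra A T]
    [HenselianRing T (I.map (algebraMap A T))] (f : C →ₐ[A] T) : H →ₐ[A] T :=
  Classical.choose (exists_lift I hH T f)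

theorem lift_algebraMap (T : Type u) [CommRing T] [Algebra A T]
    [HenselianRing T (I.map (algebraMap A T))] (f : C →ₐ[A] T) (c : C) :
    lift I hH T f (algebraMap C H c) = f c :=
  Classical.choose_spec (exists_lift I hH T f) c

include hH in
/-- A map of henselizations covering a surjective map of `A`-algebras is surjective. -/
theorem surjective_of_surjective {C' H' : Type u} [CommRing C'] [CommRing H'] [Algebra A C']
    [Algebra C' H'] [Algebra A H'] [IsScalarTower A C' H']
    (hH' : Hens2.IsPairHenselization C' (I.map (algebraMap A C')) H')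
    (g : C →ₐ[A] C') (hg : Function.Surjective g) (G : H →ₐ[A] H')
    (hG : ∀ c, G (algebraMap C H c) = algebraMap C' H' (g c)) : Function.Surjective G := by
  haveI := henselianRing_of_isPH I hH
  haveI := henselianRing_of_isPH I hH'
  haveI := henselianRing_quotient I H (RingHom.ker G)
  -- the map `C' → H ⧸ ker G`
  have hker : RingHom.ker (g : C →+* C') ≤
      RingHom.ker ((Ideal.Quotient.mk (RingHom.ker G)).comp (algebraMap C H)) := by
    intro c hc
    rw [RingHom.mem_ker] at hc ⊢
    have hc' : g c = 0 := hc
    show Ideal.Quotient.mk (RingHom.ker G) (algebraMap C H c) = 0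
    rw [Ideal.Quotient.eq_zero_iff_mem, RingHom.mem_ker, hG, hc', map_zero]
  let s₀ : C' →+* H ⧸ RingHom.ker G :=
    (g : C →+* C').liftOfRightInverse (Function.surjInv hg) (Function.rightInverse_surjInv hg)
      ⟨(Ideal.Quotient.mk (RingHom.ker G)).comp (algebraMap C H), hker⟩
  have hs₀ : ∀ c, s₀ (g c) = Ideal.Quotient.mk (RingHom.ker G) (algebraMap C H c) := fun c =>
    RingHom.liftOfRightInverse_comp_apply (g : C →+* C') (Function.surjInv hg)
      (Function.rightInverse_surjInv hg)
      ⟨(Ideal.Quotient.mk (RingHom.ker G)).comp (algebraMap C H), hker⟩ c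
  let s : C' →ₐ[A] H ⧸ RingHom.ker G :=
    { toRingHom := s₀
      commutes' := fun a => by
        show s₀ (algebraMap A C' a) = algebraMap A (H ⧸ RingHom.ker G) a
        rw [← g.commutes a, hs₀, ← IsScalarTower.algebraMap_apply A C H]
        rfl }
  obtain ⟨S, hS⟩ := exists_lift I hH' (H ⧸ RingHom.ker G) s
  let Gbar : H ⧸ RingHom.ker G →ₐ[A] H' := Ideal.Quotient.liftₐ (RingHom.ker G) G (fun x hx => hx)
  have hid : Gbar.comp S = AlgHom.id A H' := by
    apply algHom_ext I hH'
    intro c'
    obtain ⟨c, rfl⟩ := hg c'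
    show Gbar (S (algebraMap C' H' (g c))) = algebraMap C' H' (g c)
    rw [hS]
    show Gbar (s₀ (g c)) = _
    rw [hs₀]
    show G (algebraMap C H c) = _
    exact hG c
  intro y
  obtain ⟨x, hx⟩ := Ideal.Quotient.mk_surjective (S y)
  refine ⟨x, ?_⟩
  have : Gbar (S y) = y := DFunLike.congr_fun hid y
  rw [← this, ← hx]
  rfl

end Generic

section Functor

variable {A : Type u} [CommRing A] (I : Ideal A)

/-- The henselization of the `A`-algebra `C` along `I C`. -/
def HA (C : Type u) [CommRing C] [Algebra A C] : Type u := PH C (I.map (algebraMap A C))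

variable (C : Type u) [CommRing C] [Algebra A C]

noncomputable instance : CommRing (HA I C) :=
  inferInstanceAs (CommRing (PH C (I.map (algebraMap A C))))

noncomputable instance : Algebra C (HA I C) :=
  inferInstanceAs (Algebra C (PH C (I.map (algebraMap A C))))

noncomputable instance algebraA : Algebra A (HA I C) :=
  ((algebraMap C (HA I C)).comp (algebraMap A C)).toAlgebra

instance : IsScalarTower A C (HA I C) := IsScalarTower.of_algebraMap_eq fun _ => rfl

theorem isPH_HA : Hens2.IsPairHenselization C (I.map (algebraMap A C)) (HA I C) :=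
  isPairHenselization_PH

instance : HenselianRing (HA I C) (I.map (algebraMap A (HA I C))) :=
  henselianRing_of_isPH I (isPH_HA I C)

variable {C} {C' : Type u} [CommRing C'] [Algebra A C']

/-- Functoriality of `HA`. -/
noncomputable def map (g : C →ₐ[A] C') : HA I C →ₐ[A] HA I C' :=
  lift I (isPH_HA I C) (HA I C') ((IsScalarTower.toAlgHom A C' (HA I C')).comp g)

theorem map_algebraMap (g : C →ₐ[A] C') (c : C) :
    map I g (algebraMap C (HA I C) c) = algebraMap C' (HA I C') (g c) :=
  lift_algebraMap I (isPH_HA I C) (HA I C') _ c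

theorem map_id : map I (AlgHom.id A C) = AlgHom.id A (HA I C) :=
  algHom_ext I (isPH_HA I C) (map I (AlgHom.id A C)) (AlgHom.id A (HA I C)) (fun c => by
    rw [map_algebraMap, AlgHom.id_apply, AlgHom.id_apply])

theorem map_comp {C'' : Type u} [CommRing C''] [Algebra A C''] (g : C →ₐ[A] C')
    (g' : C' →ₐ[A] C'') : map I (g'.comp g) = (map I g').comp (map I g) :=
  algHom_ext I (isPH_HA I C) (map I (g'.comp g)) ((map I g').comp (map I g)) (fun c => by
    rw [AlgHom.comp_apply, map_algebraMap, map_algebraMap, map_algebraMap, AlgHom.comp_apply])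

theorem map_surjective (g : C →ₐ[A] C') (hg : Function.Surjective g) :
    Function.Surjective (map I g) :=
  surjective_of_surjective I (isPH_HA I C) (isPH_HA I C') g hg (map I g) (map_algebraMap I g)

end Functor

section DirectLimitAlgebra

variable {A : Type u} [CommRing A] {κ : Type u} [Preorder κ] [IsDirectedOrder κ] [Nonempty κ]
  (Ra : κ → Type u) [∀ a, CommRing (Ra a)] [∀ a, Algebra A (Ra a)]
  (t : ∀ a b : κ, a ≤ b → (Ra a →+* Ra b)) [DirectedSystem Ra (fun a b hab => t a b hab)]

/-- An `A`-algebra structure on a direct limit of `A`-algebras along ring maps compatible with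
the structure maps. -/
theorem exists_algebra_directLimit
    (hcomp : ∀ (a b : κ) (hab : a ≤ b),
      (t a b hab).comp (algebraMap A (Ra a)) = algebraMap A (Ra b)) :
    ∃ alg : Algebra A (DirectLimit Ra t), ∀ (a : κ) (x : A),
      @algebraMap A (DirectLimit Ra t) _ _ alg x =
        DirectLimit.Ring.of Ra t a (algebraMap A (Ra a) x) := by
  let a₀ : κ := Classical.arbitrary κ
  refine ⟨((DirectLimit.Ring.of Ra t a₀).comp (algebraMap A (Ra a₀))).toAlgebra, fun a x => ?_⟩
  obtain ⟨b, h₀, h₁⟩ := exists_ge_ge a₀ a
  have e₀ := RingHom.congr_fun (hcomp a₀ b h₀) x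
  have e₁ := RingHom.congr_fun (hcomp a b h₁) x
  simp only [RingHom.comp_apply] at e₀ e₁
  calc DirectLimit.Ring.of Ra t a₀ (algebraMap A (Ra a₀) x)
      = DirectLimit.Ring.of Ra t b (t a₀ b h₀ (algebraMap A (Ra a₀) x)) :=
        (DirectLimit.Ring.of_f h₀ _).symm
    _ = DirectLimit.Ring.of Ra t b (t a b h₁ (algebraMap A (Ra a) x)) := by rw [e₀, e₁]
    _ = _ := DirectLimit.Ring.of_f h₁ _

end DirectLimitAlgebra

end Groth.Agent.Lib.Helper26.PairHensFunctor
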