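import Groth.Agent.Lib.Helper26.PairHensNbhd
import Mathlib

/-!
# Truncations of a Henselization over a base pair (helper26)
-/

set_option autoImplicit false
universe u

namespace Groth.Agent.Lib.Helper26.PairHensTrunc

open Groth.Agent.Lib.Helper26.PairHensConstr Groth.Agent.Lib.Helper26.PairHensNbhd

variable {A : Type u} [CommRing A] (I : Ideal A) {R : Type u} [CommRing R] [Algebra A R]
  {B : Type u} [CommRing B] [Algebra R B] [Algebra A B] [IsScalarTower A R B]

/-- If `B` is a henselization of `(R, IR)` then `R/IʳR ≅ B/IʳB` as `A/Iʳ`-algebras. -/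
theorem nonempty_algEquiv_trunc (hB : Hens2.IsPairHenselization R (I.map (algebraMap A R)) B)
    (r : ℕ) : Nonempty ((R ⧸ (I ^ r).map (algebraMap A R)) ≃ₐ[A ⧸ I ^ r]
      (B ⧸ (I ^ r).map (algebraMap A B))) := by
  have h := (quotBij_iff _ B).mp (quotBij_pow hB r)
  have e1 : (I.map (algebraMap A R)) ^ r = (I ^ r).map (algebraMap A R) := (Ideal.map_pow _ _ _).symm
  have e2 : ((I.map (algebraMap A R)) ^ r).map (algebraMap R B) = (I ^ r).map (algebraMap A B) := by
    rw [e1, Ideal.map_map, ← IsScalarTower.algebraMap_eq]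
  rw [e2, e1] at h
  have hle : (I ^ r).map (algebraMap A R) ≤
      ((I ^ r).map (algebraMap A B)).comap (algebraMap R B) := by
    rw [← Ideal.map_le_iff_le_comap, Ideal.map_map, ← IsScalarTower.algebraMap_eq]
  let q : (R ⧸ (I ^ r).map (algebraMap A R)) →ₐ[A ⧸ I ^ r] (B ⧸ (I ^ r).map (algebraMap A B)) :=
    { toRingHom := Ideal.quotientMap _ (algebraMap R B) hle
      commutes' := fun z => by
        obtain ⟨a, rfl⟩ := Ideal.Quotient.mk_surjective z
        show Ideal.quotientMap _ (algebraMap R B) hle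
          (Ideal.Quotient.mk _ (algebraMap A R a)) = Ideal.Quotient.mk _ (algebraMap A B a)
        rw [Ideal.quotientMap_mk, ← IsScalarTower.algebraMap_apply] }
  have hq : Function.Bijective q := by
    constructor
    · rw [injective_iff_map_eq_zero]
      intro z hz
      obtain ⟨a, rfl⟩ := Ideal.Quotient.mk_surjective z
      have : Ideal.Quotient.mk ((I ^ r).map (algebraMap A B)) (algebraMap R B a) = 0 := hz
      rw [Ideal.Quotient.eq_zero_iff_mem] at this
      exact Ideal.Quotient.eq_zero_iff_mem.mpr (h.2 a this)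
    · intro z
      obtain ⟨x, rfl⟩ := Ideal.Quotient.mk_surjective z
      obtain ⟨a, ha⟩ := h.1 x
      refine ⟨Ideal.Quotient.mk _ a, ?_⟩
      show Ideal.Quotient.mk ((I ^ r).map (algebraMap A B)) (algebraMap R B a) = _
      exact (Ideal.Quotient.eq.mpr ha).symm
  exact ⟨AlgEquiv.ofBijective q hq⟩

theorem flat_of_flat_base [Module.Flat A R]
    (hB : Hens2.IsPairHenselization R (I.map (algebraMap A R)) B) : Module.Flat A B := by
  haveI := flat_of_isPairHenselization hB
  exact Module.Flat.trans A R B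

theorem etale_trunc [Algebra.Etale A R]
    (hB : Hens2.IsPairHenselization R (I.map (algebraMap A R)) B) (r : ℕ) :
    Algebra.Etale (A ⧸ I ^ r) (B ⧸ (I ^ r).map (algebraMap A B)) := by
  obtain ⟨e⟩ := nonempty_algEquiv_trunc I hB r
  haveI : Algebra.Etale (A ⧸ I ^ r) (R ⧸ (I ^ r).map (algebraMap A R)) :=
    Algebra.Etale.of_equiv (Algebra.TensorProduct.quotIdealMapEquivQuotTensor R (I ^ r)).symm
  exact Algebra.Etale.of_equiv e

theorem smooth_trunc [Algebra.Smooth A R]
    (hB : Hens2.IsPairHenselization R (I.map (algebraMap A R)) B) (r : ℕ) :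
    Algebra.Smooth (A ⧸ I ^ r) (B ⧸ (I ^ r).map (algebraMap A B)) := by
  obtain ⟨e⟩ := nonempty_algEquiv_trunc I hB r
  haveI : Algebra.Smooth (A ⧸ I ^ r) (R ⧸ (I ^ r).map (algebraMap A R)) :=
    Algebra.Smooth.of_equiv (Algebra.TensorProduct.quotIdealMapEquivQuotTensor R (I ^ r)).symm
  exact Algebra.Smooth.of_equiv e

theorem finitePresentation_trunc [Algebra.FinitePresentation A R]
    (hB : Hens2.IsPairHenselization R (I.map (algebraMap A R)) B) (r : ℕ) :
    Algebra.FinitePresentation (A ⧸ I ^ r) (B ⧸ (I ^ r).map (algebraMap A B)) := by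
  obtain ⟨e⟩ := nonempty_algEquiv_trunc I hB r
  haveI : Algebra.FinitePresentation (A ⧸ I ^ r) (R ⧸ (I ^ r).map (algebraMap A R)) :=
    Algebra.FinitePresentation.equiv
      (Algebra.TensorProduct.quotIdealMapEquivQuotTensor R (I ^ r)).symm
  exact Algebra.FinitePresentation.equiv e

end Groth.Agent.Lib.Helper26.PairHensTrunc
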