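import Mathlib
import Groth.Agent.Lib.Helper10.ML2

/-! `M` is finitely generated if `M ⊗ R^M → M^M` is surjective; finitely presented if
`M ⊗ ∏ Q → ∏ M ⊗ Q` is bijective for all families. -/

set_option autoImplicit false
universe u

open TensorProduct

namespace Groth.Agent.Lib.Helper26.PiTensorFin

variable (R : Type u) [CommRing R] (M : Type u) [AddCommGroup M] [Module R M]

lemma finite_of_surjective
    (h : Function.Surjective (TensorProduct.piRightHom R R M (fun _ : M => R))) :
    Module.Finite R M := by
  classical
  obtain ⟨w, hw⟩ := h (fun m => m ⊗ₜ[R] (1 : R))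
  obtain ⟨T, hT⟩ := TensorProduct.exists_finset w
  refine ⟨⟨T.image Prod.fst, ?_⟩⟩
  rw [eq_top_iff]
  rintro m -
  have h1 : TensorProduct.rid R M (TensorProduct.piRightHom R R M (fun _ : M => R) w m) = m := by
    rw [hw]
    simp
  rw [hT, map_sum, Finset.sum_apply, map_sum] at h1
  simp only [TensorProduct.piRightHom_tmul, TensorProduct.rid_tmul] at h1
  rw [← h1]
  refine Submodule.sum_mem _ fun p hp => Submodule.smul_mem _ _ (Submodule.subset_span ?_)
  exact Finset.mem_coe.mpr (Finset.mem_image_of_mem _ hp)

lemma finitePresentation_of_bijective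
    (H : ∀ (ι : Type u) (Q : ι → Type u) [∀ i, AddCommGroup (Q i)] [∀ i, Module R (Q i)],
      Function.Bijective (TensorProduct.piRightHom R R M Q)) :
    Module.FinitePresentation R M := by
  classical
  haveI : Module.Finite R M := finite_of_surjective R M (H M (fun _ => R)).2
  obtain ⟨n, p, hp⟩ := Module.Finite.exists_fin' R M
  refine Module.finitePresentation_of_surjective p hp ?_
  rw [← Module.Finite.iff_fg]
  apply finite_of_surjective R (LinearMap.ker p)
  intro t
  let K := LinearMap.ker p
  let i : K →ₗ[R] (Fin n → R) := K.subtype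
  have hτF := Groth.Agent.Lib.Helper10.piRightHom_bijective_of_finitePresentation R (Fin n → R)
    (fun _ : K => R)
  obtain ⟨b', hb'⟩ := hτF.2 (fun x => (i.rTensor R) (t x))
  have hpb' : (p.rTensor (K → R)) b' = 0 := by
    apply (H K (fun _ => R)).1
    rw [map_zero]
    funext x
    rw [Groth.Agent.Lib.Helper10.piRightHom_rTensor p (fun _ : K => R) b' x, hb']
    simp only [Pi.zero_apply]
    rw [← LinearMap.comp_apply, ← LinearMap.rTensor_comp]
    have hpi : p ∘ₗ i = 0 := by
      ext y
      exact y.2
    rw [hpi, LinearMap.rTensor_zero, LinearMap.zero_apply]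
  have hex : Function.Exact (i.rTensor (K → R)) (p.rTensor (K → R)) :=
    rTensor_exact (K → R) (LinearMap.exact_subtype_ker_map p) hp
  obtain ⟨k', hk'⟩ := (hex b').mp hpb'
  refine ⟨k', ?_⟩
  funext x
  have hinj : Function.Injective (i.rTensor R) :=
    Module.Flat.rTensor_preserves_injective_linearMap i K.injective_subtype
  apply hinj
  have h5 := Groth.Agent.Lib.Helper10.piRightHom_rTensor i (fun _ : K => R) k' x
  rw [hk', hb'] at h5
  exact h5.symm

end Groth.Agent.Lib.Helper26.PiTensorFin
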