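import Mathlib
import Groth.Agent.Lib.Helper26.ProConsTop

/-!
# Helper26: a constructibly closed subset of `Spec A` is the image of `Spec B` for some `A`-algebra `B`

`B` is the product of the residue fields at the points of the subset.
-/

set_option autoImplicit false
universe u

namespace Groth.Agent.Lib.Helper26.ProConsRing

open Topology TopologicalSpace Set PrimeSpectrum Groth.Agent.Lib.Helper26.ProConsTop

lemma exists_range_comap_eq_of_isClosed_cons {A : Type u} [CommRing A]
    {F : Set (PrimeSpectrum A)}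
    (hF : IsClosed[constructibleTopology (PrimeSpectrum A)] F) :
    ∃ (B : Type u) (_ : CommRing B) (φ : A →+* B), Set.range (PrimeSpectrum.comap φ) = F := by
  classical
  let κ : F → Type u := fun p => p.1.asIdeal.ResidueField
  let φ : A →+* (Π p : F, κ p) := Pi.ringHom fun p => algebraMap A (κ p)
  have hφ : ∀ (a : A) (p : F), φ a p = algebraMap A (κ p) a := fun a p => rfl
  refine ⟨Π p : F, κ p, inferInstance, φ, ?_⟩
  apply Set.Subset.antisymm
  · rintro _ ⟨q, rfl⟩
    by_contra hx
    obtain ⟨S, hS, hFS⟩ := exists_family_of_isClosed_cons hF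
    have hx' : comap φ q ∉ ⋂₀ S := fun h => hx (hFS ▸ h)
    rw [Set.mem_sInter] at hx'
    push_neg at hx'
    obtain ⟨T, hTS, hxT⟩ := hx'
    obtain ⟨C, hC⟩ := PrimeSpectrum.exists_constructibleSetData_iff.mpr (hS T hTS).compl
    have hxC : comap φ q ∈ C.toSet := by rw [hC]; exact hxT
    simp only [ConstructibleSetData.toSet, Set.mem_iUnion] at hxC
    obtain ⟨c, hcC, hxc⟩ := hxC
    have hFc : ∀ p : F, p.1 ∉ c.toSet := by
      intro p hp
      have h1 : p.1 ∈ Tᶜ := by
        rw [← hC]
        exact Set.mem_biUnion hcC hp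
      have h2 : p.1 ∈ ⋂₀ S := by rw [← hFS]; exact p.2
      exact h1 (h2 T hTS)
    simp only [BasicConstructibleSetData.toSet, Set.mem_diff, mem_zeroLocus,
      Set.range_subset_iff, Set.singleton_subset_iff, SetLike.mem_coe] at hxc hFc
    obtain ⟨hg, hf⟩ := hxc
    -- `hg i : φ (c.g i) ∈ q`, `hf : φ c.f ∉ q`
    have hg' : ∀ i, φ (c.g i) ∈ q.asIdeal := hg
    have hf' : φ c.f ∉ q.asIdeal := hf
    have hex : ∀ p : F, c.f ∉ p.1.asIdeal → ∃ i, c.g i ∉ p.1.asIdeal := by
      intro p hp
      by_contra hcon
      push_neg at hcon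
      exact hFc p ⟨hcon, hp⟩
    let e : Π p : F, κ p := fun p => if c.f ∈ p.1.asIdeal then 0 else 1
    let h : Fin c.n → Π p : F, κ p := fun i p =>
      if hp : c.f ∈ p.1.asIdeal then 0
      else if i = Classical.choose (hex p hp) then (algebraMap A (κ p) (c.g i))⁻¹ else 0
    have he : e = ∑ i, h i * φ (c.g i) := by
      funext p
      rw [Finset.sum_apply]
      by_cases hp : c.f ∈ p.1.asIdeal
      · simp [e, h, hp]
      · have hne : algebraMap A (κ p) (c.g (Classical.choose (hex p hp))) ≠ 0 := by
          rw [Ne, Ideal.algebraMap_residueField_eq_zero]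
          exact Classical.choose_spec (hex p hp)
        simp only [e, h, hp, if_false, dif_neg, not_false_eq_true, Pi.mul_apply, hφ]
        rw [Finset.sum_eq_single (Classical.choose (hex p hp))]
        · rw [if_pos rfl, inv_mul_cancel₀ hne]
        · intro j _ hj
          rw [if_neg hj, zero_mul]
        · intro hj
          exact absurd (Finset.mem_univ _) hj
    have heq : e ∈ q.asIdeal := by
      rw [he]
      exact Ideal.sum_mem _ fun i _ => Ideal.mul_mem_left _ _ (hg' i)
    have hzero : φ c.f * (1 - e) = 0 := by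
      funext p
      by_cases hp : c.f ∈ p.1.asIdeal
      · have : algebraMap A (κ p) c.f = 0 := Ideal.algebraMap_residueField_eq_zero.mpr hp
        simp [hφ, this]
      · simp [e, hp]
    have h1e : 1 - e ∈ q.asIdeal := by
      have : φ c.f * (1 - e) ∈ q.asIdeal := by rw [hzero]; exact Ideal.zero_mem _
      exact (q.2.mem_or_mem this).resolve_left hf'
    have : (1 : Π p : F, κ p) ∈ q.asIdeal := by
      have := Ideal.add_mem _ h1e heq
      rwa [sub_add_cancel] at this
    exact q.2.ne_top ((Ideal.eq_top_iff_one _).mpr this)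
  · intro p hp
    let p' : F := ⟨p, hp⟩
    refine ⟨comap (Pi.evalRingHom κ p') ⟨⊥, Ideal.bot_prime⟩, ?_⟩
    ext a
    simp only [comap_asIdeal, Ideal.mem_comap, Ideal.mem_bot]
    show algebraMap A (κ p') a = 0 ↔ a ∈ p.asIdeal
    exact Ideal.algebraMap_residueField_eq_zero

end Groth.Agent.Lib.Helper26.ProConsRing
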