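import Mathlib
import Groth.Prelude.Def_W4c5suslinpi1abAdj

/-!
# Projection-formula calculus for monoidal adjunctions (helper26)

Adjoints of the projection morphisms `projR`, `projL` of the prelude `W4c5suslinpi1ab`.
-/

set_option autoImplicit false
universe v u
open CategoryTheory MonoidalCategory Functor.LaxMonoidal Functor.OplaxMonoidal

namespace Groth.Agent.Lib.Helper26.ProjFormula

variable {C : Type u} [Category.{v} C] [MonoidalCategory C]
variable {D : Type u} [Category.{v} D] [MonoidalCategory D]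
variable {L : C ⥤ D} {R : D ⥤ C} (adj : L ⊣ R) [L.OplaxMonoidal] [R.LaxMonoidal] [adj.IsMonoidal]

@[reassoc]
lemma map_projR_counit (A : D) (B : C) :
    L.map (W4c5suslinpi1ab.projR adj A B) ≫ adj.counit.app (A ⊗ L.obj B) =
      δ L (R.obj A) B ≫ (adj.counit.app A ▷ L.obj B) := by
  simp only [W4c5suslinpi1ab.projR, Functor.map_comp, Category.assoc]
  rw [adj.map_μ_comp_counit_app_tensor]
  have h1 := δ_natural_right_assoc L (R.obj A) (adj.unit.app B)
    (adj.counit.app A ⊗ₘ adj.counit.app (L.obj B))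
  dsimp only [Functor.id_obj, Functor.comp_obj] at h1
  rw [← h1, MonoidalCategory.tensorHom_def', ← MonoidalCategory.whiskerLeft_comp_assoc,
    adj.left_triangle_components]
  simp

@[reassoc]
lemma map_projL_counit (A : C) (B : D) :
    L.map (W4c5suslinpi1ab.projL adj A B) ≫ adj.counit.app (L.obj A ⊗ B) =
      δ L A (R.obj B) ≫ (L.obj A ◁ adj.counit.app B) := by
  simp only [W4c5suslinpi1ab.projL, Functor.map_comp, Category.assoc]
  rw [adj.map_μ_comp_counit_app_tensor]
  have h1 := δ_natural_left_assoc L (adj.unit.app A) (R.obj B)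
    (adj.counit.app (L.obj A) ⊗ₘ adj.counit.app B)
  dsimp only [Functor.id_obj, Functor.comp_obj] at h1
  rw [← h1, MonoidalCategory.tensorHom_def, ← MonoidalCategory.comp_whiskerRight_assoc,
    adj.left_triangle_components]
  simp

omit [L.OplaxMonoidal] [adj.IsMonoidal] in
/-- Naturality of the right projection morphism in the second variable. -/
@[reassoc]
lemma projR_natural_right (A : D) {B B' : C} (b : B' ⟶ B) :
    W4c5suslinpi1ab.projR adj A B' ≫ R.map (A ◁ L.map b) =
      (R.obj A ◁ b) ≫ W4c5suslinpi1ab.projR adj A B := by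
  simp only [W4c5suslinpi1ab.projR, Category.assoc]
  have h1 := μ_natural_right R A (L.map b)
  have h2 := adj.unit.naturality b
  dsimp only [Functor.id_obj, Functor.comp_obj, Functor.id_map, Functor.comp_map] at h1 h2
  rw [← h1, ← MonoidalCategory.whiskerLeft_comp_assoc, ← h2,
    MonoidalCategory.whiskerLeft_comp_assoc]

omit [L.OplaxMonoidal] [adj.IsMonoidal] in
/-- Naturality of the right projection morphism in the first variable. -/
@[reassoc]
lemma projR_natural_left {A A' : D} (a : A' ⟶ A) (B : C) :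
    W4c5suslinpi1ab.projR adj A' B ≫ R.map (a ▷ L.obj B) =
      (R.map a ▷ B) ≫ W4c5suslinpi1ab.projR adj A B := by
  simp only [W4c5suslinpi1ab.projR, Category.assoc]
  have h1 := μ_natural_left R a (L.obj B)
  rw [← h1, ← whisker_exchange_assoc]
  rfl

omit [L.OplaxMonoidal] [adj.IsMonoidal] in
/-- Naturality of the left projection morphism in the first variable. -/
@[reassoc]
lemma projL_natural_left {A A' : C} (a : A' ⟶ A) (B : D) :
    W4c5suslinpi1ab.projL adj A' B ≫ R.map (L.map a ▷ B) =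
      (a ▷ R.obj B) ≫ W4c5suslinpi1ab.projL adj A B := by
  simp only [W4c5suslinpi1ab.projL, Category.assoc]
  have h1 := μ_natural_left R (L.map a) B
  have h2 := adj.unit.naturality a
  dsimp only [Functor.id_obj, Functor.comp_obj, Functor.id_map, Functor.comp_map] at h1 h2
  rw [← h1, ← MonoidalCategory.comp_whiskerRight_assoc, ← h2,
    MonoidalCategory.comp_whiskerRight_assoc]

omit [L.OplaxMonoidal] [adj.IsMonoidal] in
/-- Naturality of the left projection morphism in the second variable. -/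
@[reassoc]
lemma projL_natural_right (A : C) {B B' : D} (b : B' ⟶ B) :
    W4c5suslinpi1ab.projL adj A B' ≫ R.map (L.obj A ◁ b) =
      (A ◁ R.map b) ≫ W4c5suslinpi1ab.projL adj A B := by
  simp only [W4c5suslinpi1ab.projL, Category.assoc]
  have h1 := μ_natural_right R (L.obj A) b
  rw [← h1, whisker_exchange_assoc]
  rfl

section Shriek

variable {S : C ⥤ D} (adj' : R ⊣ S) [∀ (A : D) (B : C), IsIso (W4c5suslinpi1ab.projR adj A B)]

omit [L.OplaxMonoidal] [adj.IsMonoidal] in
lemma map_cupShriek_counit (A B : C) :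
    R.map (W4c5suslinpi1ab.cupShriek adj adj' A B) ≫ adj'.counit.app (A ⊗ B) =
      inv (W4c5suslinpi1ab.projR adj (S.obj A) B) ≫ (adj'.counit.app A ▷ B) := by
  have := (adj'.homEquiv (S.obj A ⊗ L.obj B) (A ⊗ B)).symm_apply_apply
    (inv (W4c5suslinpi1ab.projR adj (S.obj A) B) ≫ (adj'.counit.app A ▷ B))
  rw [Adjunction.homEquiv_counit] at this
  exact this

omit [L.OplaxMonoidal] [adj.IsMonoidal] in
/-- Naturality of `cupShriek` in the second variable. -/
@[reassoc]
lemma cupShriek_natural_right (A : C) {B B' : C} (b : B' ⟶ B) :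
    W4c5suslinpi1ab.cupShriek adj adj' A B' ≫ S.map (A ◁ b) =
      (S.obj A ◁ L.map b) ≫ W4c5suslinpi1ab.cupShriek adj adj' A B := by
  apply (adj'.homEquiv _ _).symm.injective
  rw [Adjunction.homEquiv_counit, Adjunction.homEquiv_counit, Functor.map_comp, Functor.map_comp,
    Category.assoc, Category.assoc, map_cupShriek_counit]
  have h1 := adj'.counit.naturality (A ◁ b)
  dsimp only [Functor.id_obj, Functor.comp_obj, Functor.id_map, Functor.comp_map] at h1
  have h3 := whisker_exchange (adj'.counit.app A) b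
  dsimp only [Functor.id_obj, Functor.comp_obj] at h3
  rw [h1, ← Category.assoc, map_cupShriek_counit, Category.assoc, ← h3]
  have h2 := projR_natural_right adj (S.obj A) b
  rw [← Category.assoc, ← Category.assoc]
  congr 1
  rw [IsIso.inv_comp_eq, ← Category.assoc, h2, Category.assoc, IsIso.hom_inv_id, Category.comp_id]

end Shriek

section Square

variable {S₀ : Type u} [Category.{v} S₀] [MonoidalCategory S₀]
variable {Y₁ : Type u} [Category.{v} Y₁] [MonoidalCategory Y₁]
variable {Y₂ : Type u} [Category.{v} Y₂] [MonoidalCategory Y₂]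
variable {X : Type u} [Category.{v} X] [MonoidalCategory X]
variable {fL : S₀ ⥤ Y₁} {fR : Y₁ ⥤ S₀} (adjf : fL ⊣ fR) [fR.LaxMonoidal] {gR : Y₂ ⥤ S₀}
variable {pL : Y₁ ⥤ X} {pR : X ⥤ Y₁} (adjp : pL ⊣ pR) [pR.LaxMonoidal]
variable {qL : Y₂ ⥤ X} {qR : X ⥤ Y₂} (adjq : qL ⊣ qR) (ν : qR ⋙ gR ⟶ pR ⋙ fR)

omit [MonoidalCategory Y₂] in
@[reassoc]
lemma extProd_natural_left {A A' : Y₁} (a : A' ⟶ A) (B : Y₂) :
    W4c5suslinpi1ab.extProd adjf adjp adjq ν A' B ≫ fR.map (pR.map (pL.map a ▷ qL.obj B)) =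
      (fR.map a ▷ gR.obj B) ≫ W4c5suslinpi1ab.extProd adjf adjp adjq ν A B := by
  simp only [W4c5suslinpi1ab.extProd, Category.assoc]
  have h1 : fR.map (W4c5suslinpi1ab.projL adjp A' (qL.obj B)) ≫
      fR.map (pR.map (pL.map a ▷ qL.obj B)) =
      fR.map (a ▷ pR.obj (qL.obj B)) ≫ fR.map (W4c5suslinpi1ab.projL adjp A (qL.obj B)) := by
    rw [← fR.map_comp, ← fR.map_comp, projL_natural_left]
  have h2 : fR.map (A' ◁ (W4c5suslinpi1ab.bcMor adjf adjq ν).app B) ≫
      fR.map (a ▷ pR.obj (qL.obj B)) =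
      fR.map (a ▷ fL.obj (gR.obj B)) ≫ fR.map (A ◁ (W4c5suslinpi1ab.bcMor adjf adjq ν).app B) := by
    rw [← fR.map_comp, ← fR.map_comp]
    exact congrArg fR.map (whisker_exchange a ((W4c5suslinpi1ab.bcMor adjf adjq ν).app B))
  rw [h1, reassoc_of% h2, projR_natural_left_assoc]

omit [MonoidalCategory Y₂] in
@[reassoc]
lemma extProd_natural_right (A : Y₁) {B B' : Y₂} (b : B' ⟶ B) :
    W4c5suslinpi1ab.extProd adjf adjp adjq ν A B' ≫ fR.map (pR.map (pL.obj A ◁ qL.map b)) =
      (fR.obj A ◁ gR.map b) ≫ W4c5suslinpi1ab.extProd adjf adjp adjq ν A B := by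
  simp only [W4c5suslinpi1ab.extProd, Category.assoc]
  have h1 : fR.map (W4c5suslinpi1ab.projL adjp A (qL.obj B')) ≫
      fR.map (pR.map (pL.obj A ◁ qL.map b)) =
      fR.map (A ◁ pR.map (qL.map b)) ≫ fR.map (W4c5suslinpi1ab.projL adjp A (qL.obj B)) := by
    rw [← fR.map_comp, ← fR.map_comp, projL_natural_right]
  have hbc := (W4c5suslinpi1ab.bcMor adjf adjq ν).naturality b
  dsimp only [Functor.comp_obj, Functor.comp_map] at hbc
  have h2 : fR.map (A ◁ (W4c5suslinpi1ab.bcMor adjf adjq ν).app B') ≫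
      fR.map (A ◁ pR.map (qL.map b)) =
      fR.map (A ◁ fL.map (gR.map b)) ≫ fR.map (A ◁ (W4c5suslinpi1ab.bcMor adjf adjq ν).app B) := by
    rw [← fR.map_comp, ← fR.map_comp, ← MonoidalCategory.whiskerLeft_comp,
      ← MonoidalCategory.whiskerLeft_comp, hbc]
  rw [h1, reassoc_of% h2, projR_natural_right_assoc]

omit [MonoidalCategory Y₂] in
/-- Naturality of the exterior product. -/
@[reassoc]
lemma extProd_natural {A A' : Y₁} {B B' : Y₂} (a : A' ⟶ A) (b : B' ⟶ B) :
    W4c5suslinpi1ab.extProd adjf adjp adjq ν A' B' ≫ fR.map (pR.map (pL.map a ⊗ₘ qL.map b)) =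
      (fR.map a ⊗ₘ gR.map b) ≫ W4c5suslinpi1ab.extProd adjf adjp adjq ν A B := by
  rw [MonoidalCategory.tensorHom_def (pL.map a), Functor.map_comp, Functor.map_comp,
    extProd_natural_left_assoc, extProd_natural_right, MonoidalCategory.tensorHom_def,
    Category.assoc]

variable [∀ (A : Y₁) (B : S₀), IsIso (W4c5suslinpi1ab.projR adjf A B)]
  [∀ (A : Y₁) (B : X), IsIso (W4c5suslinpi1ab.projL adjp A B)]
  [∀ B : Y₂, IsIso ((W4c5suslinpi1ab.bcMor adjf adjq ν).app B)]

instance isIso_extProd (A : Y₁) (B : Y₂) :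
    IsIso (W4c5suslinpi1ab.extProd adjf adjp adjq ν A B) := by
  unfold W4c5suslinpi1ab.extProd
  infer_instance

variable {fS : S₀ ⥤ Y₁} (adjf' : fR ⊣ fS) {gS : S₀ ⥤ Y₂} (adjg' : gR ⊣ gS)
  {pS : Y₁ ⥤ X} (adjp' : pR ⊣ pS)

lemma map_prodShriek_counit (A B : S₀) :
    pR.map (W4c5suslinpi1ab.prodShriek adjf adjf' adjg' adjp adjp' adjq ν A B) ≫
        adjp'.counit.app (fS.obj (A ⊗ B)) =
      inv (W4c5suslinpi1ab.projL adjp (fS.obj A) (qL.obj (gS.obj B))) ≫
        (fS.obj A ◁ inv ((W4c5suslinpi1ab.bcMor adjf adjq ν).app (gS.obj B))) ≫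
        W4c5suslinpi1ab.cupShriek adjf adjf' A (gR.obj (gS.obj B)) ≫
        fS.map (A ◁ adjg'.counit.app B) := by
  have := (adjp'.homEquiv (pL.obj (fS.obj A) ⊗ qL.obj (gS.obj B)) (fS.obj (A ⊗ B))).symm_apply_apply
    (inv (W4c5suslinpi1ab.projL adjp (fS.obj A) (qL.obj (gS.obj B))) ≫
        (fS.obj A ◁ inv ((W4c5suslinpi1ab.bcMor adjf adjq ν).app (gS.obj B))) ≫
        W4c5suslinpi1ab.cupShriek adjf adjf' A (gR.obj (gS.obj B)) ≫
        fS.map (A ◁ adjg'.counit.app B))
  rw [Adjunction.homEquiv_counit] at this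
  exact this

/-- The exterior product followed by `fR` of the adjoint of the shriek product. -/
lemma extProd_map_prodShriek_counit (A B : S₀) :
    W4c5suslinpi1ab.extProd adjf adjp adjq ν (fS.obj A) (gS.obj B) ≫
      fR.map (pR.map (W4c5suslinpi1ab.prodShriek adjf adjf' adjg' adjp adjp' adjq ν A B)) ≫
        fR.map (adjp'.counit.app (fS.obj (A ⊗ B))) =
      W4c5suslinpi1ab.projR adjf (fS.obj A) (gR.obj (gS.obj B)) ≫
        fR.map (W4c5suslinpi1ab.cupShriek adjf adjf' A (gR.obj (gS.obj B))) ≫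
        fR.map (fS.map (A ◁ adjg'.counit.app B)) := by
  rw [← fR.map_comp, map_prodShriek_counit]
  simp only [W4c5suslinpi1ab.extProd, Category.assoc, Functor.map_comp]
  rw [← fR.map_comp_assoc (W4c5suslinpi1ab.projL adjp (fS.obj A) (qL.obj (gS.obj B))),
    IsIso.hom_inv_id, fR.map_id, Category.id_comp, ← fR.map_comp_assoc,
    ← MonoidalCategory.whiskerLeft_comp, IsIso.hom_inv_id, MonoidalCategory.whiskerLeft_id,
    fR.map_id, Category.id_comp]

end Square

end Groth.Agent.Lib.Helper26.ProjFormula
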