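import Mathlib
import Groth.Agent.Lib.Helper26.NbhdDescent
import Groth.Agent.Lib.Helper26.HenselProj

/-!
# Étale-local lifting of finite projective modules (helper26)
-/

set_option autoImplicit false
universe u v

namespace Groth.Agent.Lib.Helper26.ProjNbhd

open Polynomial TensorProduct Groth.Agent.Lib.Helper26.PairHensConstr
  Groth.Agent.Lib.Helper26.PairHensNbhd Groth.Agent.Lib.Helper26.PairHensOps
  Groth.Agent.Lib.Helper26.HenselTFAE Groth.Agent.Lib.Helper26.HenselIdem
  Groth.Agent.Lib.Helper26.NbhdDescent Groth.Agent.Lib.Helper26.HenselProj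

/-- The range of an idempotent matrix lifting the idempotent of a presentation of `Q`. -/
theorem tensor_range_equiv {R : Type u} [CommRing R] (I : Ideal R) (Q : Type u) [AddCommGroup Q]
    [Module (R ⧸ I) Q] (n : ℕ) (p₀ : (Fin n → R ⧸ I) →ₗ[R ⧸ I] Q)
    (i₀ : Q →ₗ[R ⧸ I] (Fin n → R ⧸ I)) (hpi : ∀ q, p₀ (i₀ q) = q)
    (e : Matrix (Fin n) (Fin n) R) (he : IsIdempotentElem e)
    (hemap : e.map (Ideal.Quotient.mk I) = LinearMap.toMatrix' (i₀ ∘ₗ p₀)) :
    Module.Finite R (LinearMap.range (Matrix.toLin' e)) ∧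
    Module.Projective R (LinearMap.range (Matrix.toLin' e)) ∧
    Nonempty (TensorProduct R (R ⧸ I) (LinearMap.range (Matrix.toLin' e)) ≃ₗ[R ⧸ I] Q) := by
  classical
  let Elin : (Fin n → R ⧸ I) →ₗ[R ⧸ I] (Fin n → R ⧸ I) := i₀ ∘ₗ p₀
  let Ebar : Matrix (Fin n) (Fin n) (R ⧸ I) := LinearMap.toMatrix' Elin
  have hEbar : ∀ v, Ebar.mulVec v = i₀ (p₀ v) := by
    intro v
    have := LinearMap.toMatrix'_mulVec Elin v
    exact this
  let elin : (Fin n → R) →ₗ[R] (Fin n → R) := Matrix.toLin' e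
  have helin : ∀ v, elin (elin v) = elin v := by
    intro v
    show Matrix.toLin' e (Matrix.toLin' e v) = Matrix.toLin' e v
    rw [← LinearMap.comp_apply, ← Matrix.toLin'_mul, he.eq]
  let P : Submodule R (Fin n → R) := LinearMap.range elin
  have hPfix : ∀ x ∈ P, elin x = x := by
    rintro _ ⟨v, rfl⟩
    exact helin v
  letI : Module R Q := Module.compHom Q (Ideal.Quotient.mk I)
  haveI : IsScalarTower R (R ⧸ I) Q := ⟨fun r s q => by
    show (r • s) • q = (Ideal.Quotient.mk I r) • (s • q)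
    rw [Algebra.smul_def, mul_smul]
    rfl⟩
  let red : (Fin n → R) →ₗ[R] (Fin n → R ⧸ I) :=
    (Ideal.Quotient.mkₐ R I).toLinearMap.compLeft (Fin n)
  have hred : ∀ v j, red v j = Ideal.Quotient.mk I (v j) := fun v j => rfl
  have hred_e : ∀ v, red (elin v) = Ebar.mulVec (red v) := by
    intro v
    ext j
    rw [hred]
    show Ideal.Quotient.mk I ((e.mulVec v) j) = _
    rw [RingHom.map_mulVec, hemap]
    rfl
  have hred_surj : Function.Surjective red := by
    intro w
    have hs : ∀ c : R ⧸ I, ∃ a : R, Ideal.Quotient.mk I a = c := Ideal.Quotient.mk_surjective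
    choose lift hlift using hs
    exact ⟨fun j => lift (w j), funext fun j => hlift _⟩
  let α : P →ₗ[R] Q := (p₀.restrictScalars R) ∘ₗ red ∘ₗ P.subtype
  have hα : ∀ x : P, α x = p₀ (red (x : Fin n → R)) := fun x => rfl
  have hαsurj : Function.Surjective α := by
    intro q
    obtain ⟨v, hv⟩ := hred_surj (i₀ q)
    refine ⟨⟨elin v, v, rfl⟩, ?_⟩
    rw [hα]
    show p₀ (red (elin v)) = q
    rw [hred_e, hv, hEbar, hpi, hpi]
  have hker : LinearMap.ker α = I • (⊤ : Submodule R P) := by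
    apply le_antisymm
    · intro x hx
      rw [LinearMap.mem_ker, hα] at hx
      have hx1 : elin (x : Fin n → R) = x := hPfix _ x.2
      have hredx : red (x : Fin n → R) = 0 := by
        rw [← hx1, hred_e, hEbar, hx, map_zero]
      have hxI : ∀ j, (x : Fin n → R) j ∈ I := fun j => by
        rw [← Ideal.Quotient.eq_zero_iff_mem, ← hred, hredx]
        rfl
      have hsum : x = ∑ j, (x : Fin n → R) j •
          (⟨elin (fun k => if j = k then 1 else 0), _, rfl⟩ : P) := by
        apply Subtype.ext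
        rw [Submodule.coe_sum]
        simp only [Submodule.coe_smul]
        exact hx1.symm.trans (LinearMap.pi_apply_eq_sum_univ elin (x : Fin n → R))
      rw [hsum]
      exact Submodule.sum_mem _ (fun j _ => Submodule.smul_mem_smul (hxI j) trivial)
    · rw [Submodule.smul_le]
      intro i hi x _
      rw [LinearMap.mem_ker, map_smul]
      show (Ideal.Quotient.mk I i) • α x = 0
      rw [Ideal.Quotient.eq_zero_iff_mem.mpr hi, zero_smul]
  refine ⟨?_, ?_, ?_⟩
  · exact Module.Finite.range elin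
  · apply Module.Projective.of_split P.subtype (elin.codRestrict P (fun v => ⟨v, rfl⟩))
    ext x : 1
    apply Subtype.ext
    show elin (x : Fin n → R) = x
    exact hPfix _ x.2
  · let e1 : (P ⧸ LinearMap.ker α) ≃ₗ[R] Q := α.quotKerEquivOfSurjective hαsurj
    let e2 : (P ⧸ (I • ⊤ : Submodule R P)) ≃ₗ[R] (P ⧸ LinearMap.ker α) :=
      Submodule.quotEquivOfEq _ _ hker.symm
    let e3 : TensorProduct R (R ⧸ I) P ≃ₗ[R] P ⧸ (I • ⊤ : Submodule R P) :=
      TensorProduct.quotTensorEquivQuotSMul P I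
    exact ⟨(e3 ≪≫ₗ e2 ≪≫ₗ e1).extendScalarsOfSurjective Ideal.Quotient.mk_surjective⟩

/-- Base change along a bijective algebra map is trivial. -/
theorem nonempty_equiv_tensor_of_bijective {R₀ S : Type*} [CommRing R₀] [CommRing S]
    [Algebra R₀ S] (hb : Function.Bijective (algebraMap R₀ S)) (Q : Type*) [AddCommGroup Q]
    [Module R₀ Q] [Module S Q] [IsScalarTower R₀ S Q] :
    Nonempty (Q ≃ₗ[S] TensorProduct R₀ S Q) := by
  let εlin : R₀ ≃ₗ[R₀] S := LinearEquiv.ofBijective (Algebra.linearMap R₀ S) hb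
  let f : Q ≃ₗ[R₀] TensorProduct R₀ S Q :=
    (TensorProduct.lid R₀ Q).symm ≪≫ₗ (LinearEquiv.rTensor Q εlin)
  exact ⟨f.extendScalarsOfSurjective hb.2⟩

/-- Étale-local lifting of finite projective modules. -/
theorem exists_nbhd_projective {A : Type u} [CommRing A] (I : Ideal A) (P : Type u)
    [AddCommGroup P] [Module (A ⧸ I) P] [Module.Finite (A ⧸ I) P]
    [Module.Projective (A ⧸ I) P] :
    ∃ (A' : Type u) (_ : CommRing A') (_ : Algebra A A') (_ : Algebra.Etale A A'), QuotBij I A' ∧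
      ∃ (P' : Type u) (_ : AddCommGroup P') (_ : Module A' P'), Module.Finite A' P' ∧
        Module.Projective A' P' ∧
        Nonempty (((A' ⧸ I.map (algebraMap A A')) ⊗[A'] P') ≃ₗ[A' ⧸ I.map (algebraMap A A')]
          ((A' ⧸ I.map (algebraMap A A')) ⊗[A ⧸ I] P)) := by
  classical
  obtain ⟨n, p₀, hp₀⟩ := Module.Finite.exists_fin' (A ⧸ I) P
  obtain ⟨i₀, hi₀⟩ := Module.projective_lifting_property p₀ LinearMap.id hp₀
  have hpi : ∀ q, p₀ (i₀ q) = q := fun q => LinearMap.congr_fun hi₀ q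
  let Ebar : Matrix (Fin n) (Fin n) (A ⧸ I) := LinearMap.toMatrix' (i₀ ∘ₗ p₀)
  have hE : IsIdempotentElem Ebar := by
    show Ebar * Ebar = Ebar
    rw [← LinearMap.toMatrix'_mul]
    congr 1
    apply LinearMap.ext
    intro v
    show i₀ (p₀ (i₀ (p₀ v))) = i₀ (p₀ v)
    rw [hpi]
  let EbarH : Matrix (Fin n) (Fin n) (PH A I ⧸ I.map (algebraMap A (PH A I))) :=
    (θ I).mapMatrix Ebar
  have hEH : IsIdempotentElem EbarH := by
    show (θ I).mapMatrix Ebar * (θ I).mapMatrix Ebar = (θ I).mapMatrix Ebar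
    rw [← map_mul, hE.eq]
  obtain ⟨eH, heH, heHmap⟩ := exists_idempotent_matrix _ map_le_jacobson_PH
    (liftsFactorizations_PH I) n EbarH hEH
  obtain ⟨N, _, _, _, hN, φ, hφ⟩ := exists_nbhd_finset I
    (Finset.univ.image (fun ij : Fin n × Fin n => eH ij.1 ij.2))
  choose y hy using fun ij : Fin n × Fin n =>
    hφ (eH ij.1 ij.2) (Finset.mem_image_of_mem _ (Finset.mem_univ ij))
  let eN : Matrix (Fin n) (Fin n) N := Matrix.of (fun i j => y (i, j))
  have heN : (φ : N →+* PH A I).mapMatrix eN = eH := by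
    ext i j
    simp only [RingHom.mapMatrix_apply, Matrix.map_apply, eN, Matrix.of_apply]
    exact hy (i, j)
  have hzN : ∀ x ∈ Finset.univ.image (fun ij : Fin n × Fin n => (eN * eN - eN) ij.1 ij.2),
      φ x = 0 := by
    intro x hx
    obtain ⟨ij, -, rfl⟩ := Finset.mem_image.mp hx
    have h1 : (φ : N →+* PH A I).mapMatrix (eN * eN - eN) = 0 := by
      rw [map_sub, map_mul, heN, heH.eq, sub_self]
    have h2 := congrFun (congrFun h1 ij.1) ij.2
    simpa using h2
  obtain ⟨N', _, _, _, hN', ψ, φ', hφ'ψ, hψ⟩ := exists_nbhd_kill I hN φ _ hzN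
  let e' : Matrix (Fin n) (Fin n) N' := (ψ : N →+* N').mapMatrix eN
  have he' : IsIdempotentElem e' := by
    show e' * e' = e'
    rw [← sub_eq_zero]
    show (ψ : N →+* N').mapMatrix eN * (ψ : N →+* N').mapMatrix eN
      - (ψ : N →+* N').mapMatrix eN = 0
    rw [← map_mul, ← map_sub]
    ext i j
    simp only [RingHom.mapMatrix_apply, Matrix.map_apply, Matrix.zero_apply]
    exact hψ _ (Finset.mem_image_of_mem
      (fun ij : Fin n × Fin n => (eN * eN - eN) ij.1 ij.2) (Finset.mem_univ (i, j)))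
  have hφ'e' : ∀ i j, φ' (e' i j) = eH i j := by
    intro i j
    have h1 : φ' (ψ (eN i j)) = φ (eN i j) := AlgHom.congr_fun hφ'ψ (eN i j)
    show φ' (ψ (eN i j)) = eH i j
    rw [h1]; exact hy (i, j)
  have hred : ∀ i j, Ideal.Quotient.mk (I.map (algebraMap A N')) (e' i j)
      = algebraMap (A ⧸ I) (N' ⧸ I.map (algebraMap A N')) (Ebar i j) := by
    intro i j
    obtain ⟨a, ha⟩ := Ideal.Quotient.mk_surjective (Ebar i j)
    have h1 : Ideal.Quotient.mk (I.map (algebraMap A (PH A I))) (eH i j) = θ I (Ebar i j) := by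
      have := congrFun (congrFun heHmap i) j
      simpa [EbarH] using this
    rw [← ha, θ_mk, Ideal.Quotient.eq] at h1
    have h2 : e' i j - algebraMap A N' a ∈ I.map (algebraMap A N') := by
      apply mem_map_of_map_mem I hN' φ'
      rw [map_sub, hφ'e', AlgHom.commutes]; exact h1
    rw [← ha]
    show Ideal.Quotient.mk _ (e' i j) = Ideal.Quotient.mk _ (algebraMap A N' a)
    exact Ideal.Quotient.eq.mpr h2
  let ε : (A ⧸ I) ≃+* (N' ⧸ I.map (algebraMap A N')) :=
    RingEquiv.ofBijective (algebraMap (A ⧸ I) (N' ⧸ I.map (algebraMap A N'))) hN'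
  have hε : ∀ x, ε x = algebraMap (A ⧸ I) (N' ⧸ I.map (algebraMap A N')) x := fun x => rfl
  letI modS : Module (N' ⧸ I.map (algebraMap A N')) P :=
    Module.compHom P (ε.symm : (N' ⧸ I.map (algebraMap A N')) →+* A ⧸ I)
  have hsmul : ∀ (s : N' ⧸ I.map (algebraMap A N')) (q : P), s • q = ε.symm s • q :=
    fun s q => rfl
  haveI : IsScalarTower (A ⧸ I) (N' ⧸ I.map (algebraMap A N')) P := ⟨fun r s q => by
    rw [hsmul, hsmul, Algebra.smul_def, map_mul, ← hε, RingEquiv.symm_apply_apply, mul_smul]⟩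
  let p₀' : (Fin n → N' ⧸ I.map (algebraMap A N')) →ₗ[N' ⧸ I.map (algebraMap A N')] P :=
    { toFun := fun v => p₀ (fun j => ε.symm (v j))
      map_add' := fun v w => by
        rw [← map_add]; congr 1; funext j; simp
      map_smul' := fun s v => by
        simp only [RingHom.id_apply]
        rw [hsmul, ← map_smul]; congr 1; funext j; simp }
  let i₀' : P →ₗ[N' ⧸ I.map (algebraMap A N')] (Fin n → N' ⧸ I.map (algebraMap A N')) :=
    { toFun := fun q j => ε (i₀ q j)
      map_add' := fun q q' => by funext j; simp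
      map_smul' := fun s q => by
        funext j
        simp only [RingHom.id_apply, Pi.smul_apply, smul_eq_mul]
        rw [hsmul, map_smul, Pi.smul_apply, smul_eq_mul, map_mul, RingEquiv.apply_symm_apply] }
  have hpi' : ∀ q, p₀' (i₀' q) = q := by
    intro q
    show p₀ (fun j => ε.symm (ε (i₀ q j))) = q
    simp only [RingEquiv.symm_apply_apply]
    exact hpi q
  have hemap : e'.map (Ideal.Quotient.mk (I.map (algebraMap A N')))
      = LinearMap.toMatrix' (i₀' ∘ₗ p₀') := by
    ext i j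
    rw [Matrix.map_apply, hred, LinearMap.toMatrix'_apply]
    show _ = ε (i₀ (p₀ (fun k => ε.symm ((Pi.single j 1 : Fin n → N' ⧸ I.map (algebraMap A N')) k))) i)
    have h1 : (fun k => ε.symm ((Pi.single j 1 : Fin n → N' ⧸ I.map (algebraMap A N')) k))
        = (Pi.single j 1 : Fin n → A ⧸ I) := by
      funext k
      rw [Pi.single_apply, Pi.single_apply]
      split_ifs <;> simp
    rw [h1, hε]
    rfl
  obtain ⟨hfin, hproj, ⟨eq1⟩⟩ :=
    tensor_range_equiv (I.map (algebraMap A N')) P n p₀' i₀' hpi' e' he' hemap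
  obtain ⟨eq2⟩ := nonempty_equiv_tensor_of_bijective (R₀ := A ⧸ I)
    (S := N' ⧸ I.map (algebraMap A N')) hN' P
  exact ⟨N', inferInstance, inferInstance, inferInstance, hN', _, inferInstance, inferInstance,
    hfin, hproj, ⟨eq1 ≪≫ₗ eq2⟩⟩

end Groth.Agent.Lib.Helper26.ProjNbhd
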