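import Mathlib
import Groth.Agent.S0542
import Groth.Agent.S0581
import Groth.Agent.Lib.Helper4.TorsionFree
import Groth.Agent.Lib.Helper4.RegCM
import Groth.Agent.Lib.Helper12.IntegralDim
import Groth.Agent.Lib.Helper7.FlatFS2
import Groth.Agent.Lib.Helper26.RegularCompletion

/-!
# If the punctured spectrum of a Noetherian local ring is affine, then `dim ≤ 1` (ring level)

We axiomatise "the ring of functions `B` on the punctured spectrum `D(x₁) ∪ … ∪ D(x_r)` when the
latter is affine" by the predicate `IsPunc A x B`, show that it is stable under arbitrary base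
change, and prove that it forces `dim A ≤ 1` for a Noetherian local ring `A` whose maximal ideal is
generated by the `xᵢ`.  The proof passes to the completion, divides by a minimal prime, uses the
Cohen structure theorem to get a finite injective map from a regular local ring `P`, and then a
depth-two (Hartogs) argument over `P`.
-/

set_option autoImplicit false
set_option linter.style.haveILetI false
set_option linter.unusedSectionVars false
universe u
open IsLocalRing TensorProduct

namespace Groth.Agent.Lib.Helper26.PuncAffine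

/-- If `y1, y2` is a regular sequence in a domain then `y2 ^ k * a ∈ (y1 ^ j)` forces `a ∈ (y1 ^ j)`. -/
theorem dvd_of_mul_pow_eq {P : Type*} [CommRing P] [IsDomain P] (y1 y2 : P) (h1 : y1 ≠ 0)
    (h12 : ∀ a b, y2 * a = y1 * b → ∃ c, a = y1 * c) :
    ∀ (j k : ℕ) (a b : P), y2 ^ k * a = y1 ^ j * b → ∃ c, a = y1 ^ j * c := by
  have hA : ∀ (k : ℕ) (a b : P), y2 ^ k * a = y1 * b → ∃ c, a = y1 * c := by
    intro k
    induction k with
    | zero => intro a b h; exact ⟨b, by simpa using h⟩
    | succ k ih =>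
      intro a b h
      obtain ⟨c, hc⟩ := h12 (y2 ^ k * a) b (by rw [← h]; ring)
      exact ih a c hc
  intro j
  induction j with
  | zero => intro k a b _; exact ⟨a, by simp⟩
  | succ j ih =>
    intro k a b h
    obtain ⟨c, hc⟩ := hA k a (y1 ^ j * b) (by rw [h]; ring)
    have h2 : y2 ^ k * c = y1 ^ j * b := by
      apply mul_left_cancel₀ h1
      rw [hc] at h
      calc y1 * (y2 ^ k * c) = y2 ^ k * (y1 * c) := by ring
        _ = y1 ^ (j + 1) * b := h
        _ = y1 * (y1 ^ j * b) := by ring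
    obtain ⟨c', hc'⟩ := ih k c b h2
    exact ⟨c', by rw [hc, hc']; ring⟩

section LemmaF

variable {P : Type u} [CommRing P] {M N : Type u} [AddCommGroup M] [Module P M]
  [AddCommGroup N] [Module P N]

/-- The graph of the (partially defined) extension of `ψ` from `M` to `N`. -/
def graphSub (y1 : P) (ι : M →ₗ[P] N) {r : ℕ} (ψ : M →ₗ[P] (Fin r → P)) :
    Submodule P (N × (Fin r → P)) where
  carrier := {q | ∃ (k : ℕ) (a : M), y1 ^ k • q.1 = ι a ∧ y1 ^ k • q.2 = ψ a}
  add_mem' := by
    rintro ⟨n1, t1⟩ ⟨n2, t2⟩ ⟨k1, a1, h11, h12⟩ ⟨k2, a2, h21, h22⟩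
    have h11' : y1 ^ k1 • n1 = ι a1 := h11
    have h12' : y1 ^ k1 • t1 = ψ a1 := h12
    have h21' : y1 ^ k2 • n2 = ι a2 := h21
    have h22' : y1 ^ k2 • t2 = ψ a2 := h22
    refine ⟨k1 + k2, y1 ^ k2 • a1 + y1 ^ k1 • a2, ?_, ?_⟩
    · show y1 ^ (k1 + k2) • (n1 + n2) = ι (y1 ^ k2 • a1 + y1 ^ k1 • a2)
      rw [map_add, map_smul, map_smul, ← h11', ← h21']
      module
    · show y1 ^ (k1 + k2) • (t1 + t2) = ψ (y1 ^ k2 • a1 + y1 ^ k1 • a2)
      rw [map_add, map_smul, map_smul, ← h12', ← h22']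
      module
  zero_mem' := ⟨0, 0, by simp, by simp⟩
  smul_mem' := by
    rintro c ⟨n, t⟩ ⟨k, a, h1, h2⟩
    have h1' : y1 ^ k • n = ι a := h1
    have h2' : y1 ^ k • t = ψ a := h2
    refine ⟨k, c • a, ?_, ?_⟩
    · show y1 ^ k • (c • n) = ι (c • a)
      rw [map_smul, ← h1', smul_comm]
    · show y1 ^ k • (c • t) = ψ (c • a)
      rw [map_smul, ← h2', smul_comm]

theorem mem_graphSub {y1 : P} {ι : M →ₗ[P] N} {r : ℕ} {ψ : M →ₗ[P] (Fin r → P)} {n : N}
    {t : Fin r → P} :
    (n, t) ∈ graphSub y1 ι ψ ↔ ∃ (k : ℕ) (a : M), y1 ^ k • n = ι a ∧ y1 ^ k • t = ψ a :=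
  Iff.rfl

/-- **Hartogs-type lemma.**  Let `y1, y2` be a regular sequence in a Noetherian local domain `P`,
`M ⊆ N` with `M` finite torsion-free, every element of `N` multiplied into `M` by powers of `y1`
and of `y2`, and `N = 𝔪 N`.  Then `M = 0`. -/
theorem subsingleton_of_punctured [IsDomain P] [IsLocalRing P]
    [IsNoetherianRing P] (y1 y2 : P) (h1 : y1 ≠ 0)
    (h12 : ∀ a b, y2 * a = y1 * b → ∃ c, a = y1 * c)
    [Module.Finite P M] [Module.IsTorsionFree P M]
    (ι : M →ₗ[P] N) (hι : Function.Injective ι)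
    (hN : ∀ n : N, ∃ (k : ℕ) (a b : M), y1 ^ k • n = ι a ∧ y2 ^ k • n = ι b)
    (hmN : ∀ n : N, n ∈ maximalIdeal P • (⊤ : Submodule P N)) : Subsingleton M := by
  classical
  obtain ⟨r, ψ, hψ⟩ := Groth.Agent.Lib.Helper4.exists_injective_of_isTorsionFree P M
  have hfun : ∀ t, ((0 : N), t) ∈ graphSub y1 ι ψ → t = 0 := by
    intro t ht
    obtain ⟨k, a, h1', h2'⟩ := mem_graphSub.mp ht
    have ha : a = 0 := hι (by rw [map_zero, ← h1', smul_zero])
    rw [ha, map_zero] at h2'
    funext i
    have := congrFun h2' i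
    simp only [Pi.smul_apply, smul_eq_mul, Pi.zero_apply] at this
    exact (mul_eq_zero.mp this).resolve_left (pow_ne_zero k h1)
  have htot : ∀ n : N, ∃ t, (n, t) ∈ graphSub y1 ι ψ := by
    intro n
    obtain ⟨k, a, b, ha, hb⟩ := hN n
    have hab : y2 ^ k • a = y1 ^ k • b := by
      apply hι
      rw [map_smul, map_smul, ← ha, ← hb, smul_comm]
    have hψab : ∀ i, y2 ^ k * ψ a i = y1 ^ k * ψ b i := by
      intro i
      have := congrFun (congrArg ψ hab) i
      simpa [map_smul] using this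
    choose c hc using fun i => dvd_of_mul_pow_eq y1 y2 h1 h12 k k (ψ a i) (ψ b i) (hψab i)
    refine ⟨c, mem_graphSub.mpr ⟨k, a, ha, ?_⟩⟩
    funext i
    show y1 ^ k * c i = ψ a i
    exact (hc i).symm
  let N' : Submodule P (Fin r → P) := (graphSub y1 ι ψ).map (LinearMap.snd P N (Fin r → P))
  have hN'mem : ∀ {n : N} {t : Fin r → P}, (n, t) ∈ graphSub y1 ι ψ → t ∈ N' :=
    fun {n t} h => Submodule.mem_map.mpr ⟨(n, t), h, rfl⟩
  have hstep : ∀ n : N, n ∈ maximalIdeal P • (⊤ : Submodule P N) →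
      ∃ t ∈ maximalIdeal P • N', (n, t) ∈ graphSub y1 ι ψ := by
    intro n hn
    refine Submodule.smul_induction_on hn ?_ ?_
    · intro c hc n' _
      obtain ⟨t, ht⟩ := htot n'
      exact ⟨c • t, Submodule.smul_mem_smul hc (hN'mem ht), (graphSub y1 ι ψ).smul_mem c ht⟩
    · rintro n1 n2 ⟨t1, ht1, hg1⟩ ⟨t2, ht2, hg2⟩
      exact ⟨t1 + t2, Submodule.add_mem _ ht1 ht2, (graphSub y1 ι ψ).add_mem hg1 hg2⟩
  have hle : N' ≤ maximalIdeal P • N' := by
    intro t ht
    obtain ⟨⟨n, t'⟩, hg, rfl⟩ := Submodule.mem_map.mp ht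
    obtain ⟨t'', ht'', hg''⟩ := hstep n (hmN n)
    have h0 : ((0 : N), t' - t'') ∈ graphSub y1 ι ψ := by
      have := (graphSub y1 ι ψ).sub_mem hg hg''
      rwa [Prod.mk_sub_mk, sub_self] at this
    have : t' = t'' := sub_eq_zero.mp (hfun _ h0)
    show t' ∈ _
    rw [this]; exact ht''
  have hN'bot : N' = ⊥ :=
    Submodule.eq_bot_of_le_smul_of_le_jacobson_bot (maximalIdeal P) N'
      (IsNoetherian.noetherian N') hle (IsLocalRing.maximalIdeal_le_jacobson ⊥)
  refine ⟨fun a b => hψ ?_⟩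
  have ha : ψ a ∈ N' := hN'mem (n := ι a) (mem_graphSub.mpr ⟨0, a, by simp, by simp⟩)
  have hb : ψ b ∈ N' := hN'mem (n := ι b) (mem_graphSub.mpr ⟨0, b, by simp, by simp⟩)
  rw [hN'bot, Submodule.mem_bot] at ha hb
  rw [ha, hb]

end LemmaF

/-- The ideal of those `c` with `c • d` in the image of `C`. -/
def imIdeal {C D : Type*} [CommRing C] [CommRing D] [Algebra C D] (d : D) : Ideal C where
  carrier := {c | ∃ a, c • d = algebraMap C D a}
  add_mem' := by
    rintro c1 c2 ⟨a1, e1⟩ ⟨a2, e2⟩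
    exact ⟨a1 + a2, by rw [add_smul, e1, e2, map_add]⟩
  zero_mem' := ⟨0, by simp⟩
  smul_mem' := by
    rintro c' c1 ⟨a1, e1⟩
    exact ⟨c' * a1, by rw [smul_eq_mul, mul_smul, e1, map_mul, Algebra.smul_def]⟩

theorem mem_imIdeal {C D : Type*} [CommRing C] [CommRing D] [Algebra C D] {d : D} {c : C} :
    c ∈ imIdeal (C := C) d ↔ ∃ a, c • d = algebraMap C D a := Iff.rfl

/-- `B` looks like the ring of functions on an affine `D(x₁) ∪ … ∪ D(x_r) ⊆ Spec A`. -/
structure IsPunc (A : Type u) [CommRing A] {r : ℕ} (x : Fin r → A) (B : Type u) [CommRing B]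
    [Algebra A B] : Prop where
  top : Ideal.span (Set.range fun i => algebraMap A B (x i)) = ⊤
  toLoc : ∀ i, Nonempty (B →ₐ[A] Localization.Away (x i))
  ofLoc : ∀ i (b : B), ∃ (k : ℕ) (a : A), x i ^ k • b = algebraMap A B a

theorem IsPunc.baseChange {A : Type u} [CommRing A] {r : ℕ} {x : Fin r → A} {B : Type u}
    [CommRing B] [Algebra A B] (h : IsPunc A x B) (C : Type u) [CommRing C] [Algebra A C] :
    IsPunc C (fun i => algebraMap A C (x i)) (C ⊗[A] B) where
  top := by
    have h1 : (fun i => algebraMap C (C ⊗[A] B) (algebraMap A C (x i))) =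
        fun i => (Algebra.TensorProduct.includeRight : B →ₐ[A] C ⊗[A] B)
          (algebraMap A B (x i)) := by
      funext i
      rw [AlgHom.commutes, ← IsScalarTower.algebraMap_apply]
    have h2 : Set.range (fun i => (Algebra.TensorProduct.includeRight : B →ₐ[A] C ⊗[A] B)
        (algebraMap A B (x i))) = (Algebra.TensorProduct.includeRight : B →ₐ[A] C ⊗[A] B) ''
          Set.range (fun i => algebraMap A B (x i)) :=
      Set.range_comp _ _
    rw [h1, h2, ← Ideal.map_span, h.top, Ideal.map_top]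
  toLoc := fun i => by
    obtain ⟨σ⟩ := h.toLoc i
    have hu : IsUnit (algebraMap A (Localization.Away (algebraMap A C (x i))) (x i)) := by
      rw [IsScalarTower.algebraMap_apply A C (Localization.Away (algebraMap A C (x i)))]
      exact IsLocalization.Away.algebraMap_isUnit _
    let ρ : Localization.Away (x i) →ₐ[A] Localization.Away (algebraMap A C (x i)) :=
      IsLocalization.liftAlgHom (M := Submonoid.powers (x i))
        (f := Algebra.ofId A (Localization.Away (algebraMap A C (x i)))) (by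
          rintro ⟨_, n, rfl⟩
          simp only [Algebra.ofId_apply, map_pow]
          exact hu.pow n)
    exact ⟨Algebra.TensorProduct.lift (Algebra.ofId C _) (ρ.comp σ) (fun _ _ => Commute.all _ _)⟩
  ofLoc := fun i d => by
    show ∃ (k : ℕ) (a : C), algebraMap A C (x i) ^ k • d = algebraMap C (C ⊗[A] B) a
    induction d using TensorProduct.induction_on with
    | zero => exact ⟨0, 0, by simp⟩
    | tmul c b =>
      obtain ⟨k, a, hka⟩ := h.ofLoc i b
      refine ⟨k, c * algebraMap A C a, ?_⟩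
      calc algebraMap A C (x i) ^ k • (c ⊗ₜ[A] b)
          = (algebraMap A C (x i ^ k) • c) ⊗ₜ[A] b := by rw [TensorProduct.smul_tmul', map_pow]
        _ = (x i ^ k • c) ⊗ₜ[A] b := by rw [algebraMap_smul]
        _ = c ⊗ₜ[A] (x i ^ k • b) := TensorProduct.smul_tmul _ _ _
        _ = c ⊗ₜ[A] (a • (1 : B)) := by rw [hka, Algebra.algebraMap_eq_smul_one]
        _ = (a • c) ⊗ₜ[A] (1 : B) := (TensorProduct.smul_tmul _ _ _).symm
        _ = algebraMap C (C ⊗[A] B) (c * algebraMap A C a) := by
            rw [Algebra.TensorProduct.algebraMap_apply, Algebra.smul_def, mul_comm]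
            rfl
    | add d1 d2 h1 h2 =>
      obtain ⟨k1, a1, e1⟩ := h1
      obtain ⟨k2, a2, e2⟩ := h2
      refine ⟨k1 + k2, algebraMap A C (x i) ^ k2 * a1 + algebraMap A C (x i) ^ k1 * a2, ?_⟩
      rw [map_add, map_mul, map_mul, ← e1, ← e2, ← Algebra.smul_def, ← Algebra.smul_def]
      module

/-- The local key step: a finite injective local extension `P ⊆ C` of Noetherian local domains,
`y1, y2` a regular sequence in `𝔪_P`, and `D` "punctured" over `C`: contradiction. -/
theorem key_local {P C D : Type u} [CommRing P] [IsDomain P] [IsLocalRing P] [IsNoetherianRing P]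
    [CommRing C] [IsDomain C] [IsLocalRing C] [IsNoetherianRing C] [Algebra P C]
    [Module.Finite P C] (hinj : Function.Injective (algebraMap P C))
    [CommRing D] [Algebra C D] [Algebra P D] [IsScalarTower P C D]
    (y1 y2 : P) (hy1 : y1 ∈ maximalIdeal P) (hy2 : y2 ∈ maximalIdeal P) (h1 : y1 ≠ 0)
    (h12 : ∀ a b, y2 * a = y1 * b → ∃ c, a = y1 * c)
    {r : ℕ} (xb : Fin r → C) (hxb : Ideal.span (Set.range xb) = maximalIdeal C)
    (htop : (maximalIdeal C).map (algebraMap C D) = ⊤)
    (hinjD : Function.Injective (algebraMap C D))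
    (hloc : ∀ i (d : D), ∃ (k : ℕ) (c : C), xb i ^ k • d = algebraMap C D c) : False := by
  haveI : Module.IsTorsionFree P C := Module.isTorsionFree_iff_algebraMap_injective.mpr hinj
  haveI : FaithfulSMul P C := (faithfulSMul_iff_algebraMap_injective P C).mpr hinj
  haveI : Algebra.IsIntegral P C := Algebra.IsIntegral.of_finite P C
  haveI : IsLocalHom (algebraMap P C) := inferInstance
  have hmem : ∀ y ∈ maximalIdeal P, algebraMap P C y ∈ maximalIdeal C := by
    intro y hy
    rw [IsLocalRing.mem_maximalIdeal, mem_nonunits_iff] at hy ⊢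
    exact fun hu => hy (isUnit_of_map_unit (algebraMap P C) y hu)
  have hpow : ∀ (d : D) (c : C), c ∈ maximalIdeal C →
      ∃ (k : ℕ) (a : C), c ^ k • d = algebraMap C D a := by
    intro d c hc
    have hT : maximalIdeal C ≤ (imIdeal (C := C) d).radical := by
      rw [← hxb, Ideal.span_le]
      rintro _ ⟨i, rfl⟩
      obtain ⟨k, a, e⟩ := hloc i d
      exact Ideal.mem_radical_iff.mpr ⟨k, mem_imIdeal.mpr ⟨a, e⟩⟩
    obtain ⟨k, hk⟩ := Ideal.mem_radical_iff.mp (hT hc)
    obtain ⟨a, e⟩ := mem_imIdeal.mp hk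
    exact ⟨k, a, e⟩
  let ι : C →ₗ[P] D := (IsScalarTower.toAlgHom P C D).toLinearMap
  have hιapp : ∀ c, ι c = algebraMap C D c := fun c => rfl
  have hιinj : Function.Injective ι := hinjD
  have hNN : ∀ n : D, ∃ (k : ℕ) (a b : C), y1 ^ k • n = ι a ∧ y2 ^ k • n = ι b := by
    intro n
    obtain ⟨k1, a1, e1⟩ := hpow n _ (hmem y1 hy1)
    obtain ⟨k2, a2, e2⟩ := hpow n _ (hmem y2 hy2)
    refine ⟨k1 + k2, algebraMap P C y1 ^ k2 * a1, algebraMap P C y2 ^ k1 * a2, ?_, ?_⟩
    · have : y1 ^ (k1 + k2) • n = algebraMap P C y1 ^ (k1 + k2) • n := by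
        rw [← map_pow, algebraMap_smul]
      rw [this, hιapp, map_mul, ← e1, ← Algebra.smul_def, smul_smul, ← pow_add, add_comm]
    · have : y2 ^ (k1 + k2) • n = algebraMap P C y2 ^ (k1 + k2) • n := by
        rw [← map_pow, algebraMap_smul]
      rw [this, hιapp, map_mul, ← e2, ← Algebra.smul_def, smul_smul, ← pow_add]
  have hmD : (maximalIdeal P).map (algebraMap P D) = ⊤ := by
    have hrad : maximalIdeal C ≤ ((maximalIdeal P).map (algebraMap P C)).radical := by
      rw [Ideal.radical_eq_sInf]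
      refine le_sInf ?_
      rintro J ⟨hJ, hJp⟩
      haveI := hJp
      have hle : maximalIdeal P ≤ J.comap (algebraMap P C) := Ideal.map_le_iff_le_comap.mp hJ
      have hne : J.comap (algebraMap P C) ≠ ⊤ :=
        (inferInstance : (J.comap (algebraMap P C)).IsPrime).ne_top
      have hc : maximalIdeal P = J.comap (algebraMap P C) :=
        (IsLocalRing.maximalIdeal.isMaximal P).eq_of_le hne hle
      have hJmax : J.IsMaximal :=
        Ideal.isMaximal_of_isIntegral_of_isMaximal_comap J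
          (hc ▸ IsLocalRing.maximalIdeal.isMaximal P)
      rw [IsLocalRing.eq_maximalIdeal hJmax]
    obtain ⟨k, hk⟩ := Ideal.exists_pow_le_of_le_radical_of_fg hrad
      (maximalIdeal C).fg_of_isNoetherianRing
    have := Ideal.map_mono (f := algebraMap C D) hk
    rw [Ideal.map_pow, htop, Ideal.top_pow, Ideal.map_map,
      ← IsScalarTower.algebraMap_eq P C D] at this
    exact top_le_iff.mp this
  have hmN : ∀ n : D, n ∈ maximalIdeal P • (⊤ : Submodule P D) := by
    intro n
    rw [Ideal.smul_top_eq_map, hmD]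
    trivial
  haveI := subsingleton_of_punctured y1 y2 h1 h12 ι hιinj hNN hmN
  exact false_of_nontrivial_of_subsingleton C

end Groth.Agent.Lib.Helper26.PuncAffine
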