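import Groth.Agent.Lib.Helper26.PuncAffine

/-!
# Punctured spectrum affine ⇒ `dim ≤ 1`: reduction to the complete domain case
-/

set_option autoImplicit false
set_option linter.style.haveILetI false
set_option linter.unusedSectionVars false
universe u
open IsLocalRing TensorProduct

namespace Groth.Agent.Lib.Helper26.PuncAffine

/-- Complete local domain case, via the Cohen structure theorem. -/
theorem false_of_isPunc_complete (C : Type u) [CommRing C] [IsDomain C] [IsLocalRing C]
    [IsNoetherianRing C] [IsAdicComplete (maximalIdeal C) C]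
    (hdim : ((2 : ℕ) : WithBot ℕ∞) ≤ ringKrullDim C)
    {r : ℕ} (xb : Fin r → C) (hxb : Ideal.span (Set.range xb) = maximalIdeal C)
    (D : Type u) [CommRing D] [Algebra C D] (hD : IsPunc C xb D) : False := by
  obtain ⟨Λ, hring, n, f, hΛ, hfinj, hffin, -⟩ := Groth.Agent.S0581.result C
  letI := hring
  have hreg : IsRegularRing Λ ∧ IsLocalRing Λ := by
    rcases hΛ with hΛ | hΛ
    · letI := hΛ.toField
      exact ⟨inferInstance, inferInstance⟩
    · obtain ⟨hd, hdvr, -⟩ := hΛ
      haveI := hd
      haveI := hdvr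
      exact ⟨inferInstance, inferInstance⟩
  obtain ⟨hΛreg, hΛloc⟩ := hreg
  haveI := hΛreg
  haveI := hΛloc
  haveI : IsRegularRing (MvPowerSeries (Fin n) Λ) :=
    Groth.Agent.Lib.Helper26.RegularCompletion.isRegularRing_mvPowerSeries Λ n
  haveI : IsDomain (MvPowerSeries (Fin n) Λ) := Function.Injective.isDomain f hfinj
  haveI : IsRegularLocalRing (MvPowerSeries (Fin n) Λ) :=
    IsRegularLocalRing.of_isRegularRing_of_isLocalRing _
  letI : Algebra (MvPowerSeries (Fin n) Λ) C := f.toAlgebra
  haveI : Module.Finite (MvPowerSeries (Fin n) Λ) C := hffin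
  have hinj : Function.Injective (algebraMap (MvPowerSeries (Fin n) Λ) C) := hfinj
  haveI : Algebra.IsIntegral (MvPowerSeries (Fin n) Λ) C := Algebra.IsIntegral.of_finite _ C
  have hdimP : ((2 : ℕ) : WithBot ℕ∞) ≤ ringKrullDim (MvPowerSeries (Fin n) Λ) :=
    hdim.trans (Groth.Agent.Lib.Helper12.ringKrullDim_le_of_isIntegral
      (R := MvPowerSeries (Fin n) Λ) (S := C))
  obtain ⟨d, hd⟩ := Groth.Agent.Lib.Helper4.RegCM.exists_nat_ringKrullDim (MvPowerSeries (Fin n) Λ)
  rw [hd] at hdimP
  have hd2 : 2 ≤ d := by exact_mod_cast hdimP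
  obtain ⟨d', rfl⟩ : ∃ d', d = d' + 2 := ⟨d - 2, by omega⟩
  obtain ⟨y, hy, hyreg⟩ :=
    Groth.Agent.Lib.Helper4.RegCM.exists_regular_system (MvPowerSeries (Fin n) Λ) (d' + 2) hd
  have hw := hyreg.toIsWeaklyRegular
  rw [List.ofFn_succ, RingTheory.Sequence.isWeaklyRegular_cons_iff, List.ofFn_succ,
    RingTheory.Sequence.isWeaklyRegular_cons_iff] at hw
  obtain ⟨hr1, hr2, -⟩ := hw
  have hymem : ∀ i, y i ∈ maximalIdeal (MvPowerSeries (Fin n) Λ) := fun i =>
    hy ▸ Ideal.subset_span ⟨i, rfl⟩
  have hy0 : y 0 ≠ 0 := by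
    intro h0
    have : (1 : MvPowerSeries (Fin n) Λ) = 0 := hr1 (by simp [h0])
    exact one_ne_zero this
  have h12 : ∀ a b, y (Fin.succ 0) * a = y 0 * b → ∃ c, a = y 0 * c := by
    intro a b hab
    have h0 : (Submodule.Quotient.mk a : QuotSMulTop (y 0) (MvPowerSeries (Fin n) Λ)) = 0 := by
      apply hr2
      show y (Fin.succ 0) • (Submodule.Quotient.mk a :
        QuotSMulTop (y 0) (MvPowerSeries (Fin n) Λ)) = y (Fin.succ 0) • 0
      rw [smul_zero, ← Submodule.Quotient.mk_smul, Submodule.Quotient.mk_eq_zero, smul_eq_mul, hab]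
      exact (Submodule.mem_smul_pointwise_iff_exists _ _ _).mpr ⟨b, Submodule.mem_top, rfl⟩
    rw [Submodule.Quotient.mk_eq_zero] at h0
    obtain ⟨c, -, hc⟩ := (Submodule.mem_smul_pointwise_iff_exists _ _ _).mp h0
    exact ⟨c, hc.symm⟩
  letI : Algebra (MvPowerSeries (Fin n) Λ) D := ((algebraMap C D).comp f).toAlgebra
  haveI : IsScalarTower (MvPowerSeries (Fin n) Λ) C D :=
    IsScalarTower.of_algebraMap_eq (fun _ => rfl)
  have htop : (maximalIdeal C).map (algebraMap C D) = ⊤ := by
    rw [← hxb, Ideal.map_span, ← Set.range_comp]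
    exact hD.top
  have hex : ∃ i, xb i ≠ 0 := by
    by_contra hall
    push_neg at hall
    have hbot : maximalIdeal C = ⊥ := by
      rw [← hxb, Ideal.span_eq_bot]
      rintro _ ⟨i, rfl⟩
      exact hall i
    have hf : IsField C := IsLocalRing.isField_iff_maximalIdeal_eq.mpr hbot
    rw [ringKrullDim_eq_zero_of_isField hf] at hdim
    have : (2 : ℕ) ≤ 0 := by exact_mod_cast hdim
    omega
  have hinjD : Function.Injective (algebraMap C D) := by
    obtain ⟨i, hi⟩ := hex
    obtain ⟨σ⟩ := hD.toLoc i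
    have hinjL : Function.Injective (algebraMap C (Localization.Away (xb i))) :=
      IsLocalization.injective _ (powers_le_nonZeroDivisors_of_noZeroDivisors hi)
    intro c1 c2 h
    apply hinjL
    rw [← σ.commutes, ← σ.commutes, h]
  exact key_local (P := MvPowerSeries (Fin n) Λ) (C := C) (D := D) hinj (y 0) (y (Fin.succ 0))
    (hymem _) (hymem _) hy0 h12 xb hxb htop hinjD hD.ofLoc

/-- Complete local case (not necessarily a domain): divide by the bottom of a chain of primes of
length `≥ 2`. -/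
theorem false_of_isPunc_complete' (A : Type u) [CommRing A]
    (R : Type u) [CommRing R] [IsLocalRing R] [IsNoetherianRing R]
    [IsAdicComplete (maximalIdeal R) R] [Algebra A R]
    {r : ℕ} (x : Fin r → A)
    (hxR : Ideal.span (Set.range fun i => algebraMap A R (x i)) = maximalIdeal R)
    (L : LTSeries (PrimeSpectrum R)) (hL2 : 2 ≤ L.length)
    (B : Type u) [CommRing B] [Algebra A B] (hB : IsPunc A x B) : False := by
  haveI : (L.head.asIdeal).IsPrime := L.head.isPrime
  haveI : IsLocalRing (R ⧸ L.head.asIdeal) :=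
    IsLocalRing.of_surjective' (Ideal.Quotient.mk _) Ideal.Quotient.mk_surjective
  haveI : IsAdicComplete (maximalIdeal (R ⧸ L.head.asIdeal)) (R ⧸ L.head.asIdeal) :=
    Groth.Agent.Lib.Helper7.FlatFS.isAdicComplete_quot _
  have hdimC : ((2 : ℕ) : WithBot ℕ∞) ≤ ringKrullDim (R ⧸ L.head.asIdeal) := by
    have h1 : ((L.length : ℕ) : WithBot ℕ∞) ≤ ringKrullDim (R ⧸ L.head.asIdeal) := by
      rw [ringKrullDim_quotient]
      let L' : LTSeries (PrimeSpectrum.zeroLocus (L.head.asIdeal : Set R)) :=
        LTSeries.mk L.length (fun i => ⟨L i, by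
          rw [PrimeSpectrum.mem_zeroLocus]
          exact SetLike.coe_subset_coe.mpr ((PrimeSpectrum.asIdeal_le_asIdeal _ _).mpr
            (L.head_le i))⟩) (fun i j h => L.strictMono h)
      exact Order.LTSeries.length_le_krullDim L'
    exact le_trans (by exact_mod_cast hL2) h1
  have hxC : Ideal.span (Set.range fun i => algebraMap A (R ⧸ L.head.asIdeal) (x i)) =
      maximalIdeal (R ⧸ L.head.asIdeal) := by
    have h1 : maximalIdeal (R ⧸ L.head.asIdeal) =
        (maximalIdeal R).map (algebraMap R (R ⧸ L.head.asIdeal)) :=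
      (IsLocalRing.map_maximalIdeal_of_surjective (algebraMap R (R ⧸ L.head.asIdeal))
        Ideal.Quotient.mk_surjective).symm
    rw [h1, ← hxR, Ideal.map_span, ← Set.range_comp]
    congr 2
  exact false_of_isPunc_complete (R ⧸ L.head.asIdeal) hdimC _ hxC
    ((R ⧸ L.head.asIdeal) ⊗[A] B) (hB.baseChange _)

/-- **Main ring-level theorem.** If `B` is "the ring of functions of an affine punctured spectrum"
of the Noetherian local ring `A`, then `dim A ≤ 1`. -/
theorem ringKrullDim_le_one_of_isPunc (A : Type u) [CommRing A] [IsLocalRing A]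
    [IsNoetherianRing A] {r : ℕ} (x : Fin r → A)
    (hx : Ideal.span (Set.range x) = maximalIdeal A)
    (B : Type u) [CommRing B] [Algebra A B] (hB : IsPunc A x B) : ringKrullDim A ≤ 1 := by
  by_contra hcon
  rw [not_le, ringKrullDim, Order.krullDim] at hcon
  obtain ⟨l, hl⟩ := lt_iSup_iff.mp hcon
  have hl2 : 2 ≤ l.length := by
    have : 1 < l.length := by exact_mod_cast hl
    omega
  haveI : IsNoetherianRing (AdicCompletion (maximalIdeal A) A) :=
    Groth.Agent.S0542.result A (maximalIdeal A) (maximalIdeal A).fg_of_isNoetherianRing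
  haveI : Module.FaithfullyFlat A (AdicCompletion (maximalIdeal A) A) :=
    Module.FaithfullyFlat.of_flat_of_isLocalHom
  obtain ⟨Q, hQ⟩ := PrimeSpectrum.comap_surjective_of_faithfullyFlat
    (A := A) (B := AdicCompletion (maximalIdeal A) A) l.last
  haveI : Q.asIdeal.LiesOver l.last.asIdeal := ⟨by rw [← hQ]; rfl⟩
  obtain ⟨L, hLlen, -, -⟩ := Ideal.exists_ltSeries_of_hasGoingDown l Q.asIdeal
  have hL2 : 2 ≤ L.length := hLlen ▸ hl2
  have hxR : Ideal.span (Set.range fun i => algebraMap A (AdicCompletion (maximalIdeal A) A) (x i))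
      = maximalIdeal (AdicCompletion (maximalIdeal A) A) := by
    rw [AdicCompletion.maximalIdeal_eq_map, ← hx, Ideal.map_span, ← Set.range_comp]
    rfl
  exact false_of_isPunc_complete' A (AdicCompletion (maximalIdeal A) A) x hxR L hL2 B hB

end Groth.Agent.Lib.Helper26.PuncAffine
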