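import Groth.Agent.Lib.Helper26.PuncAffineDense

/-!
# Points in the closure of an open of a locally Noetherian scheme are specialisations
-/

set_option autoImplicit false
set_option linter.style.haveILetI false
set_option linter.unusedSectionVars false
universe u
open CategoryTheory CategoryTheory.Limits AlgebraicGeometry IsLocalRing TopologicalSpace

namespace Groth.Agent.Lib.Helper26.PuncAffine

/-- In a Noetherian quasi-sober space, a point of the closure of an open set `S` is a
specialisation of a point of `S`. -/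
theorem exists_mem_specializes_of_mem_closure {α : Type*} [TopologicalSpace α] [NoetherianSpace α]
    [QuasiSober α] {S : Set α} (hS : IsOpen S) {ξ : α} (hξ : ξ ∈ closure S) :
    ∃ u ∈ S, u ⤳ ξ := by
  let C : Set (Set α) := {Z | Z ∈ irreducibleComponents α ∧ ∃ η ∈ S, IsGenericPoint η Z}
  have hCfin : C.Finite :=
    NoetherianSpace.finite_irreducibleComponents.subset (fun Z hZ => hZ.1)
  have hCcl : IsClosed (⋃₀ C) := by
    rw [Set.sUnion_eq_biUnion]
    exact hCfin.isClosed_biUnion (fun Z hZ => isClosed_of_mem_irreducibleComponents Z hZ.1)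
  have hSC : S ⊆ ⋃₀ C := by
    intro s hs
    have hZ := irreducibleComponent_mem_irreducibleComponents s
    obtain ⟨η, hη⟩ := QuasiSober.sober (isIrreducible_irreducibleComponent (x := s))
      isClosed_irreducibleComponent
    have hsp : η ⤳ s := hη.specializes mem_irreducibleComponent
    exact ⟨irreducibleComponent s, ⟨hZ, η, hsp.mem_open hS hs, hη⟩, mem_irreducibleComponent⟩
  obtain ⟨Z, ⟨-, η, hηS, hη⟩, hξZ⟩ := (closure_minimal hSC hCcl) hξ
  exact ⟨η, hηS, hη.specializes hξZ⟩

/-- In a locally Noetherian scheme, a point of the closure of an open `U` is a specialisation of a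
point of `U`. -/
theorem exists_mem_specializes_of_mem_closure_scheme (X : Scheme.{u}) [IsLocallyNoetherian X]
    (U : X.Opens) (ξ : X) (hξ : ξ ∈ closure (U : Set X)) : ∃ u : X, u ∈ U ∧ u ⤳ ξ := by
  obtain ⟨W, hW, hξW, -⟩ := exists_isAffineOpen_mem_and_subset (x := ξ) (U := ⊤) trivial
  haveI : IsNoetherianRing Γ(X, W) := IsLocallyNoetherian.component_noetherian ⟨W, hW⟩
  haveI : NoetherianSpace ↥(W : Set X) := noetherianSpace_of_isAffineOpen W hW
  haveI hqs : QuasiSober ↥(W : Set X) := inferInstanceAs (QuasiSober (W : Scheme.{u}))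
  let ξ' : ↥(W : Set X) := ⟨ξ, hξW⟩
  have hopen : IsOpen ((Subtype.val : ↥(W : Set X) → X) ⁻¹' (U : Set X)) :=
    U.isOpen.preimage continuous_subtype_val
  have hcl : ξ' ∈ closure ((Subtype.val : ↥(W : Set X) → X) ⁻¹' (U : Set X)) := by
    rw [← (W.isOpen.isOpenMap_subtype_val).preimage_closure_eq_closure_preimage
      continuous_subtype_val]
    exact hξ
  obtain ⟨u, huU, hu⟩ := exists_mem_specializes_of_mem_closure hopen hcl
  exact ⟨u.1, huU, hu.map continuous_subtype_val⟩

/-- Variant of `one_le_ringKrullDim_stalk_of_dense` assuming only `ξ ∈ closure U`. -/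
theorem one_le_ringKrullDim_stalk_of_mem_closure (X : Scheme.{u}) [IsLocallyNoetherian X]
    (U : X.Opens) (ξ : X) (hξ : ξ ∉ U) (hcl : ξ ∈ closure (U : Set X)) :
    1 ≤ ringKrullDim (X.presheaf.stalk ξ) := by
  obtain ⟨u, huU, huξ⟩ := exists_mem_specializes_of_mem_closure_scheme X U ξ hcl
  have hr : u ∈ Set.range (X.fromSpecStalk ξ) := by
    rw [Scheme.range_fromSpecStalk]; exact huξ
  obtain ⟨p0, rfl⟩ := hr
  obtain ⟨p, rfl⟩ : ∃ p : PrimeSpectrum (X.presheaf.stalk ξ), p = p0 := ⟨p0, rfl⟩
  have hne : p ≠ closedPoint (X.presheaf.stalk ξ) := by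
    rintro rfl
    rw [Scheme.fromSpecStalk_closedPoint] at huU
    exact hξ huU
  have hlt : p < closedPoint (X.presheaf.stalk ξ) :=
    lt_of_le_of_ne (IsLocalRing.le_maximalIdeal p.isPrime.ne_top) hne
  exact Order.one_le_krullDim_iff.mpr ⟨p, _, hlt⟩

end Groth.Agent.Lib.Helper26.PuncAffine
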