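import Groth.Agent.Lib.Helper26.PuncAffineSch

/-!
# Complement of a dense affine open immersion has pure codimension one
-/

set_option autoImplicit false
set_option linter.style.haveILetI false
set_option linter.unusedSectionVars false
universe u
open CategoryTheory CategoryTheory.Limits AlgebraicGeometry IsLocalRing TopologicalSpace

namespace Groth.Agent.Lib.Helper26.PuncAffine

/-- In a locally Noetherian scheme every point is a specialisation of a point of any given dense
open subset. -/
theorem exists_mem_specializes_of_dense (X : Scheme.{u}) [IsLocallyNoetherian X] (U : X.Opens)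
    (hU : Dense (U : Set X)) (ξ : X) : ∃ u : X, u ∈ U ∧ u ⤳ ξ := by
  obtain ⟨W, hW, hξW, -⟩ := exists_isAffineOpen_mem_and_subset (x := ξ) (U := ⊤) trivial
  haveI : IsNoetherianRing Γ(X, W) := IsLocallyNoetherian.component_noetherian ⟨W, hW⟩
  haveI : NoetherianSpace W := noetherianSpace_of_isAffineOpen W hW
  let ξ' : W := ⟨ξ, hξW⟩
  have hZ : irreducibleComponent ξ' ∈ irreducibleComponents W :=
    irreducibleComponent_mem_irreducibleComponents ξ'
  obtain ⟨o, ho, hone, hoZ⟩ :=
    TopologicalSpace.NoetherianSpace.exists_isOpen_nonempty_subset_irreducibleComponent _ hZ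
  have ho' : IsOpen (Subtype.val '' o) := W.isOpen.isOpenMap_subtype_val _ ho
  obtain ⟨_, huU, ⟨u', hu'o, rfl⟩⟩ := hU.exists_mem_open ho' (hone.image _)
  have hZirr : IsIrreducible (irreducibleComponent ξ') := isIrreducible_irreducibleComponent
  have hZcl : IsClosed (irreducibleComponent ξ') := isClosed_irreducibleComponent
  have hqs : QuasiSober W := inferInstanceAs (QuasiSober (W : Scheme.{u}))
  obtain ⟨η, hη⟩ := hqs.sober hZirr hZcl
  have h1 : η ⤳ ξ' := hη.specializes mem_irreducibleComponent
  have h2 : η ⤳ u' := hη.specializes (hoZ hu'o)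
  refine ⟨η.1, ?_, h1.map continuous_subtype_val⟩
  exact (h2.map continuous_subtype_val).mem_open U.isOpen huU

/-- If `U` is a dense open of a locally Noetherian scheme and `ξ ∉ U` then `dim 𝒪_ξ ≥ 1`. -/
theorem one_le_ringKrullDim_stalk_of_dense (X : Scheme.{u}) [IsLocallyNoetherian X] (U : X.Opens)
    (ξ : X) (hξ : ξ ∉ U) (hU : Dense (U : Set X)) : 1 ≤ ringKrullDim (X.presheaf.stalk ξ) := by
  obtain ⟨u, huU, huξ⟩ := exists_mem_specializes_of_dense X U hU ξ
  have hr : u ∈ Set.range (X.fromSpecStalk ξ) := by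
    rw [Scheme.range_fromSpecStalk]; exact huξ
  obtain ⟨p0, rfl⟩ := hr
  obtain ⟨p, rfl⟩ : ∃ p : PrimeSpectrum (X.presheaf.stalk ξ), p = p0 := ⟨p0, rfl⟩
  have hne : p ≠ closedPoint (X.presheaf.stalk ξ) := by
    rintro rfl
    rw [Scheme.fromSpecStalk_closedPoint] at huU
    exact hξ huU
  have hlt : p < closedPoint (X.presheaf.stalk ξ) :=
    lt_of_le_of_ne (IsLocalRing.le_maximalIdeal p.isPrime.ne_top) hne
  exact Order.one_le_krullDim_iff.mpr ⟨p, _, hlt⟩

end Groth.Agent.Lib.Helper26.PuncAffine
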