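import Groth.Agent.Lib.Helper26.PuncAffine2
import Groth.Prelude.Def_FEt

/-!
# Punctured spectrum affine ⇔ `dim ≤ 1`: scheme glue
-/

set_option autoImplicit false
set_option linter.style.haveILetI false
set_option linter.unusedSectionVars false
universe u
open CategoryTheory CategoryTheory.Limits AlgebraicGeometry IsLocalRing

namespace Groth.Agent.Lib.Helper26.PuncAffine

/-- Ring-level: if `L` is at the same time `A'[1/g]` and `B[1/g]`, we get the `toLoc`/`ofLoc` data
of `IsPunc`. -/
theorem loc_aux {A' B L : Type u} [CommRing A'] [CommRing B] [CommRing L] [Algebra A' B]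
    [Algebra A' L] [Algebra B L] [IsScalarTower A' B L] (g : A') [IsLocalization.Away g L]
    [IsLocalization.Away (algebraMap A' B g) L] :
    Nonempty (B →ₐ[A'] Localization.Away g) ∧
      ∀ b : B, ∃ (k : ℕ) (a : A'), g ^ k • b = algebraMap A' B a := by
  refine ⟨⟨((IsLocalization.algEquiv (Submonoid.powers g) L (Localization.Away g)).toAlgHom).comp
    (IsScalarTower.toAlgHom A' B L)⟩, fun b => ?_⟩
  obtain ⟨n, a, hna⟩ := IsLocalization.Away.surj g (algebraMap B L b)
  have h1 : algebraMap B L (b * algebraMap A' B g ^ n) = algebraMap B L (algebraMap A' B a) := by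
    rw [map_mul, map_pow, ← IsScalarTower.algebraMap_apply, ← IsScalarTower.algebraMap_apply, hna]
  obtain ⟨k, hk⟩ := IsLocalization.Away.exists_of_eq (algebraMap A' B g) h1
  refine ⟨k + n, g ^ k * a, ?_⟩
  rw [Algebra.smul_def, map_pow, map_mul, map_pow, ← hk, pow_add]
  ring

/-- An affine open `U = ⋃ D(fᵢ)` of an affine scheme gives punctured data. -/
theorem isPunc_of_isAffineOpen {S : Scheme.{u}} [IsAffine S] (U : S.Opens) (hU : IsAffineOpen U)
    {r : ℕ} (f : Fin r → Γ(S, ⊤)) (hUf : U = ⨆ i, S.basicOpen (f i)) :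
    letI : Algebra Γ(S, ⊤) Γ(S, U) := (S.presheaf.map (homOfLE le_top).op).hom.toAlgebra
    IsPunc Γ(S, ⊤) f Γ(S, U) := by
  letI : Algebra Γ(S, ⊤) Γ(S, U) := (S.presheaf.map (homOfLE le_top).op).hom.toAlgebra
  have hVU : ∀ i, S.basicOpen (f i) ≤ U := fun i =>
    hUf ▸ le_iSup (fun i => S.basicOpen (f i)) i
  have hbo : ∀ i, S.basicOpen (algebraMap Γ(S, ⊤) Γ(S, U) (f i)) = S.basicOpen (f i) := by
    intro i
    show S.basicOpen (S.presheaf.map (homOfLE le_top).op (f i)) = _
    rw [Scheme.basicOpen_res]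
    exact inf_eq_right.mpr (hVU i)
  have key : ∀ i, Nonempty (Γ(S, U) →ₐ[Γ(S, ⊤)] Localization.Away (f i)) ∧
      ∀ b : Γ(S, U), ∃ (k : ℕ) (a : Γ(S, ⊤)), f i ^ k • b = algebraMap Γ(S, ⊤) Γ(S, U) a := by
    intro i
    letI : Algebra Γ(S, ⊤) Γ(S, S.basicOpen (f i)) :=
      (S.presheaf.map (homOfLE le_top).op).hom.toAlgebra
    letI : Algebra Γ(S, U) Γ(S, S.basicOpen (f i)) :=
      (S.presheaf.map (homOfLE (hVU i)).op).hom.toAlgebra
    have hcomp : S.presheaf.map (homOfLE (le_top : S.basicOpen (f i) ≤ ⊤)).op =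
        S.presheaf.map (homOfLE (le_top : U ≤ ⊤)).op ≫
          S.presheaf.map (homOfLE (hVU i)).op := by
      rw [← Functor.map_comp]; rfl
    haveI : IsScalarTower Γ(S, ⊤) Γ(S, U) Γ(S, S.basicOpen (f i)) :=
      IsScalarTower.of_algebraMap_eq (fun a => by
        have := congrArg (fun φ => φ.hom a) hcomp
        exact this)
    haveI : IsLocalization.Away (f i) Γ(S, S.basicOpen (f i)) :=
      (isAffineOpen_top S).isLocalization_of_eq_basicOpen (f i) (homOfLE le_top) rfl
    haveI : IsLocalization.Away (algebraMap Γ(S, ⊤) Γ(S, U) (f i)) Γ(S, S.basicOpen (f i)) :=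
      hU.isLocalization_of_eq_basicOpen (algebraMap Γ(S, ⊤) Γ(S, U) (f i)) (homOfLE (hVU i))
        (hbo i).symm
    exact loc_aux (L := Γ(S, S.basicOpen (f i))) (f i)
  refine ⟨hU.self_le_iSup_basicOpen_iff.mp ?_, fun i => (key i).1, fun i => (key i).2⟩
  refine hUf.le.trans (iSup_le fun i => ?_)
  rw [← hbo i]
  exact le_iSup (fun g : (Set.range fun i => algebraMap Γ(S, ⊤) Γ(S, U) (f i)) =>
    S.basicOpen g.1) ⟨_, i, rfl⟩

/-- **(⇒)** If the punctured spectrum of a Noetherian local ring is affine then `dim A ≤ 1`. -/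
theorem ringKrullDim_le_one_of_isAffine_puncturedSpec (A : Type u) [CommRing A] [IsLocalRing A]
    [IsNoetherianRing A] (h : IsAffine (FEt.puncturedSpec A : Scheme.{u})) :
    ringKrullDim A ≤ 1 := by
  let e : A ≃+* Γ(Spec (CommRingCat.of A), ⊤) :=
    (Scheme.ΓSpecIso (CommRingCat.of A)).symm.commRingCatIsoToRingEquiv
  haveI : IsLocalRing Γ(Spec (CommRingCat.of A), ⊤) := e.isLocalRing
  haveI : IsNoetherianRing Γ(Spec (CommRingCat.of A), ⊤) := isNoetherianRing_of_ringEquiv A e
  obtain ⟨r, x, hx⟩ := (Submodule.fg_iff_exists_fin_generating_family).mp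
    (maximalIdeal A).fg_of_isNoetherianRing
  have hx' : Ideal.span (Set.range x) = maximalIdeal A := hx
  have hf : Ideal.span (Set.range fun i => e (x i)) =
      maximalIdeal Γ(Spec (CommRingCat.of A), ⊤) := by
    rw [← IsLocalRing.map_maximalIdeal_of_surjective
      (e : A →+* Γ(Spec (CommRingCat.of A), ⊤)) e.surjective, ← hx', Ideal.map_span,
      ← Set.range_comp]
    rfl
  have hb : ∀ i, (Spec (CommRingCat.of A)).basicOpen (e (x i)) = PrimeSpectrum.basicOpen (x i) :=
    fun i => basicOpen_eq_of_affine (R := CommRingCat.of A) (x i)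
  have hUf : FEt.puncturedSpec A = ⨆ i, (Spec (CommRingCat.of A)).basicOpen (e (x i)) := by
    refine TopologicalSpace.Opens.ext (Set.ext fun p0 => ?_)
    rw [SetLike.mem_coe, SetLike.mem_coe, TopologicalSpace.Opens.mem_iSup]
    simp only [hb]
    obtain ⟨p, rfl⟩ : ∃ p : PrimeSpectrum A, p = p0 := ⟨p0, rfl⟩
    change p ≠ closedPoint A ↔ ∃ i, p ∈ PrimeSpectrum.basicOpen (x i)
    constructor
    · intro hp
      by_contra hcon
      push_neg at hcon
      have hle : maximalIdeal A ≤ p.asIdeal := by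
        rw [← hx', Ideal.span_le]
        rintro _ ⟨i, rfl⟩
        have := hcon i
        rw [PrimeSpectrum.mem_basicOpen, not_not] at this
        exact this
      have : p = closedPoint A :=
        PrimeSpectrum.ext ((maximalIdeal.isMaximal A).eq_of_le p.isPrime.ne_top hle).symm
      exact hp this
    · rintro ⟨i, hi⟩ hp
      rw [PrimeSpectrum.mem_basicOpen] at hi
      apply hi
      have : p.asIdeal = maximalIdeal A := by rw [hp]; rfl
      rw [this, ← hx']
      exact Ideal.subset_span ⟨i, rfl⟩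
  letI : Algebra Γ(Spec (CommRingCat.of A), ⊤) Γ(Spec (CommRingCat.of A), FEt.puncturedSpec A) :=
    ((Spec (CommRingCat.of A)).presheaf.map (homOfLE le_top).op).hom.toAlgebra
  have hP := isPunc_of_isAffineOpen (FEt.puncturedSpec A) h _ hUf
  have := ringKrullDim_le_one_of_isPunc Γ(Spec (CommRingCat.of A), ⊤) _ hf _ hP
  rwa [← ringKrullDim_eq_of_ringEquiv e] at this

/-- **(⇐)** If `dim A ≤ 1` the punctured spectrum is a basic open, hence affine. -/
theorem isAffine_puncturedSpec_of_dim_le_one (A : Type u) [CommRing A] [IsLocalRing A]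
    [IsNoetherianRing A] (h : ringKrullDim A ≤ 1) :
    IsAffine (FEt.puncturedSpec A : Scheme.{u}) := by
  classical
  have hK : Ring.KrullDimLE 1 A := Ring.krullDimLE_iff.mpr (by simpa using h)
  have hK' := Ring.krullDimLE_one_iff.mp hK
  have hfin := minimalPrimes.finite_of_isNoetherianRing A
  let s : Finset (Ideal A) := hfin.toFinset.filter (fun p => p ≠ maximalIdeal A)
  have hs : ∀ p, p ∈ s ↔ p ∈ minimalPrimes A ∧ p ≠ maximalIdeal A := by
    intro p; simp [s]
  have hnot : ¬ ((maximalIdeal A : Set A) ⊆ ⋃ i ∈ (s : Set (Ideal A)), (i : Set A)) := by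
    intro hsub
    obtain ⟨p, hps, hle⟩ := (Ideal.subset_union_prime (f := fun i : Ideal A => i) ⊥ ⊥
      (fun i hi _ _ => ((hs i).mp hi).1.1.1)).mp hsub
    obtain ⟨hpmin, hpne⟩ := (hs p).mp hps
    exact hpne ((maximalIdeal.isMaximal A).eq_of_le hpmin.1.1.ne_top hle).symm
  obtain ⟨g, hgm, hgs⟩ := Set.not_subset.mp hnot
  have hg : FEt.puncturedSpec A = PrimeSpectrum.basicOpen g := by
    refine TopologicalSpace.Opens.ext (Set.ext fun p0 => ?_)
    rw [SetLike.mem_coe, SetLike.mem_coe]
    obtain ⟨p, rfl⟩ : ∃ p : PrimeSpectrum A, p = p0 := ⟨p0, rfl⟩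
    change p ≠ closedPoint A ↔ g ∉ p.asIdeal
    constructor
    · intro hp hgp
      rcases hK' p.asIdeal p.isPrime with hmin | hmax
      · have hne : p.asIdeal ≠ maximalIdeal A := by
          intro heq
          exact hp (PrimeSpectrum.ext heq)
        apply hgs
        simp only [Set.mem_iUnion, SetLike.mem_coe]
        exact ⟨p.asIdeal, (hs _).mpr ⟨hmin, hne⟩, hgp⟩
      · exact hp (PrimeSpectrum.ext (IsLocalRing.eq_maximalIdeal hmax))
    · intro hgp hp
      apply hgp
      have : p.asIdeal = maximalIdeal A := by rw [hp]; rfl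
      rw [this]
      exact hgm
  rw [hg]
  exact IsAffineOpen.Spec_basicOpen (R := CommRingCat.of A) g

/-- Affine open immersions have complement of codimension `≤ 1`. -/
theorem ringKrullDim_stalk_le_one (X : Scheme.{u}) [IsLocallyNoetherian X] (U : X.Opens)
    [IsAffineHom U.ι] (ξ : X) (hξ : ξ ∉ U)
    (hmax : ∀ η : X, η ∉ U → η ⤳ ξ → η = ξ) : ringKrullDim (X.presheaf.stalk ξ) ≤ 1 := by
  have h1 : IsAffineHom ((X.fromSpecStalk ξ) ⁻¹ᵁ U).ι :=
    MorphismProperty.of_isPullback (isPullback_morphismRestrict (X.fromSpecStalk ξ) U)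
      (inferInstance : IsAffineHom U.ι)
  have h2 : IsAffine (((X.fromSpecStalk ξ) ⁻¹ᵁ U : (Spec (X.presheaf.stalk ξ)).Opens) : Scheme.{u}) :=
    isAffine_of_isAffineHom ((X.fromSpecStalk ξ) ⁻¹ᵁ U).ι
  have h3 : (X.fromSpecStalk ξ) ⁻¹ᵁ U = FEt.puncturedSpec (X.presheaf.stalk ξ) := by
    refine TopologicalSpace.Opens.ext (Set.ext fun p => ?_)
    constructor
    · intro hp hpc
      rw [Set.mem_singleton_iff.mp hpc] at hp
      apply hξ
      have h' : X.fromSpecStalk ξ (closedPoint (X.presheaf.stalk ξ)) ∈ U := hp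
      rwa [Scheme.fromSpecStalk_closedPoint] at h'
    · intro hp
      by_contra hpU
      have hspec : X.fromSpecStalk ξ p ⤳ ξ := by
        have : X.fromSpecStalk ξ p ∈ Set.range (X.fromSpecStalk ξ) := ⟨p, rfl⟩
        rw [Scheme.range_fromSpecStalk] at this
        exact this
      have heq := hmax _ hpU hspec
      have heq' := heq.trans (Scheme.fromSpecStalk_closedPoint (X := X) (x := ξ)).symm
      have := (X.fromSpecStalk ξ).isEmbedding.injective heq'
      exact hp this
  rw [h3] at h2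
  exact ringKrullDim_le_one_of_isAffine_puncturedSpec (X.presheaf.stalk ξ) h2

end Groth.Agent.Lib.Helper26.PuncAffine
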