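import Groth.Agent.Lib.Helper13.ModGrothendieck
import Groth.Agent.Lib.Helper3.QCLim

/-!
# The largest quasi-coherent submodule
-/

set_option autoImplicit false
set_option linter.style.haveILetI false
universe u
open CategoryTheory CategoryTheory.Limits AlgebraicGeometry TopologicalSpace Opposite
open Scheme.Modules

namespace Groth.Agent.Lib.Helper26.QCSub

open Groth.Agent.Lib.Helper3

variable {X : Scheme.{u}}

/-- for `ψ : H ⟶ G` with `H` quasi-coherent and `j : G ⟶ F` a monomorphism into a quasi-coherent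
module, the image of `ψ` is a quasi-coherent subobject of `G` -/
theorem exists_qc_image {F G H : X.Modules} [F.IsQuasicoherent] [H.IsQuasicoherent]
    (j : G ⟶ F) [Mono j] (ψ : H ⟶ G) :
    ∃ (Q : X.Modules) (e : H ⟶ Q) (k : Q ⟶ G), Q.IsQuasicoherent ∧ Epi e ∧ Mono k ∧ e ≫ k = ψ := by
  haveI : (Abelian.image (ψ ≫ j) : X.Modules).IsQuasicoherent := QCLim.isQuasicoherent_image _
  have sq : CommSq ψ (Abelian.factorThruImage (ψ ≫ j)) j (Abelian.image.ι (ψ ≫ j)) :=
    ⟨(Abelian.image.fac (ψ ≫ j)).symm⟩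
  haveI : StrongEpi (Abelian.factorThruImage (ψ ≫ j)) := strongEpi_of_epi _
  refine ⟨Abelian.image (ψ ≫ j), Abelian.factorThruImage (ψ ≫ j), sq.lift, inferInstance,
    inferInstance, ?_, sq.fac_left⟩
  haveI : Mono (sq.lift ≫ j) := by rw [sq.fac_right]; infer_instance
  exact mono_of_mono sq.lift j

/-- **The largest quasi-coherent submodule.** -/
theorem exists_largest_qc_sub (F G : X.Modules) (hF : Coh.IsQCoh F) (j : G ⟶ F) [Mono j] :
    ∃ (G' : X.Modules) (k : G' ⟶ G), Coh.IsQCoh G' ∧ Mono k ∧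
      ∀ H : X.Modules, Coh.IsQCoh H → Function.Bijective (fun φ : H ⟶ G' => φ ≫ k) := by
  haveI : F.IsQuasicoherent := hF
  haveI : IsGrothendieckAbelian.{u} X.Modules :=
    Groth.Agent.Lib.Helper13.ModGrothendieck.isGrothendieckAbelian X.ringCatSheaf
  -- the index type of quasi-coherent subobjects
  let T := Shrink.{u} (Subobject G)
  let P : T → Subobject G := (equivShrink (Subobject G)).symm
  let I := {t : T // ((P t : X.Modules)).IsQuasicoherent}
  let f : I → X.Modules := fun i => (P i.1 : X.Modules)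
  haveI : ∀ i, (f i).IsQuasicoherent := fun i => i.2
  haveI : (∐ f : X.Modules).IsQuasicoherent := QCLim.isQuasicoherent_sigma f
  let σ : (∐ f : X.Modules) ⟶ G := Sigma.desc (fun i => (P i.1).arrow)
  obtain ⟨G', e, k, hG', he, hk, hek⟩ := exists_qc_image j σ
  haveI := hk
  refine ⟨G', k, hG', hk, fun H hH => ⟨fun φ φ' h => (cancel_mono k).mp h, ?_⟩⟩
  haveI : H.IsQuasicoherent := hH
  -- every quasi-coherent subobject factors through `G'`
  have key : ∀ (S : Subobject G), ((S : X.Modules)).IsQuasicoherent →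
      ∃ c : (S : X.Modules) ⟶ G', c ≫ k = S.arrow := by
    intro S hS
    obtain ⟨t, rfl⟩ : ∃ t : T, P t = S :=
      ⟨equivShrink (Subobject G) S, (equivShrink (Subobject G)).symm_apply_apply S⟩
    refine ⟨Sigma.ι f ⟨t, hS⟩ ≫ e, ?_⟩
    rw [Category.assoc, hek]
    exact Sigma.ι_desc (fun i : I => (P i.1).arrow) ⟨t, hS⟩
  intro ψ
  obtain ⟨Q, eψ, kψ, hQ, heψ, hkψ, hψ⟩ := exists_qc_image j ψ
  haveI := hkψ
  have hS : ((Subobject.mk kψ : X.Modules)).IsQuasicoherent :=
    (SheafOfModules.isQuasicoherent X.ringCatSheaf).prop_of_iso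
      (Subobject.underlyingIso kψ).symm hQ
  obtain ⟨c, hc⟩ := key (Subobject.mk kψ) hS
  refine ⟨eψ ≫ (Subobject.underlyingIso kψ).inv ≫ c, ?_⟩
  change (eψ ≫ (Subobject.underlyingIso kψ).inv ≫ c) ≫ k = ψ
  rw [Category.assoc, Category.assoc, hc, Subobject.underlyingIso_arrow, hψ]

end Groth.Agent.Lib.Helper26.QCSub
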