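import Mathlib
import Groth.Prelude.Def_EGA4b
import Groth.Agent.S9137
import Groth.Agent.S0545
import Groth.Agent.Lib.Helper15.FiniteComplete

/-!
# Quasi-finite local algebras over complete local rings are complete

Helper lemmas for S9289 / S9290.
-/

set_option autoImplicit false

namespace Groth.Agent.Lib.Helper26.QFFormal1

universe u

open IsLocalRing TensorProduct

section LemQ

variable (X Y : Type u) [CommRing X] [CommRing Y] [IsLocalRing X] [IsLocalRing Y]
  [Algebra X Y] [IsLocalHom (algebraMap X Y)] [Algebra.QuasiFinite X Y]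

theorem map_maximalIdeal_le :
    (maximalIdeal X).map (algebraMap X Y) ≤ maximalIdeal Y :=
  ((IsLocalRing.local_hom_TFAE (algebraMap X Y)).out 0 2).mp
    (inferInstance : IsLocalHom (algebraMap X Y))

theorem finite_quot_field :
    letI : Field (X ⧸ maximalIdeal X) := Ideal.Quotient.field _
    Module.Finite (X ⧸ maximalIdeal X) (Y ⧸ (maximalIdeal X).map (algebraMap X Y)) := by
  letI : Field (X ⧸ maximalIdeal X) := Ideal.Quotient.field _
  haveI : Algebra.QuasiFinite (X ⧸ maximalIdeal X)
      (Y ⧸ (maximalIdeal X).map (algebraMap X Y)) :=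
    Algebra.QuasiFinite.of_restrictScalars X _ _
  exact Module.Finite.of_quasiFinite

theorem finite_quot_of_quasiFinite :
    Module.Finite X (Y ⧸ (maximalIdeal X).map (algebraMap X Y)) := by
  letI : Field (X ⧸ maximalIdeal X) := Ideal.Quotient.field _
  haveI := finite_quot_field X Y
  exact Module.Finite.trans (X ⧸ maximalIdeal X) _

theorem finite_residueField_of_quasiFinite :
    Module.Finite (ResidueField X) (ResidueField Y) := by
  haveI := finite_quot_of_quasiFinite X Y
  have hle := map_maximalIdeal_le X Y
  have h : Module.Finite X (Y ⧸ maximalIdeal Y) :=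
    Module.Finite.of_surjective (Ideal.Quotient.factorₐ X hle).toLinearMap (fun y => by
      obtain ⟨y, rfl⟩ := Ideal.Quotient.mk_surjective y
      exact ⟨Ideal.Quotient.mk _ y, rfl⟩)
  haveI : Module.Finite X (ResidueField Y) := h
  exact Module.Finite.of_restrictScalars_finite X _ _

theorem ringKrullDim_quot_eq_zero_of_quasiFinite :
    ringKrullDim (Y ⧸ (maximalIdeal X).map (algebraMap X Y)) = 0 := by
  letI : Field (X ⧸ maximalIdeal X) := Ideal.Quotient.field _
  haveI := finite_quot_field X Y
  haveI : IsArtinianRing (Y ⧸ (maximalIdeal X).map (algebraMap X Y)) :=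
    IsArtinianRing.of_finite (X ⧸ maximalIdeal X) _
  have hle := map_maximalIdeal_le X Y
  haveI : Nontrivial (Y ⧸ (maximalIdeal X).map (algebraMap X Y)) :=
    Ideal.Quotient.nontrivial_iff.mpr
      (fun h => (maximalIdeal.isMaximal Y).ne_top (top_le_iff.mp (h ▸ hle)))
  exact ringKrullDimZero_iff_ringKrullDim_eq_zero.mp inferInstance

end LemQ

section right

variable (A B Â : Type u) [CommRing A] [CommRing B] [CommRing Â] [Algebra A B] [Algebra A Â]

attribute [local instance] Algebra.TensorProduct.rightAlgebra

/-- `comm` as an `Â`-algebra isomorphism from `Â ⊗ B` (left structure) to `B ⊗ Â`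
(right structure). -/
noncomputable def commRight : (Â ⊗[A] B) ≃ₐ[Â] (B ⊗[A] Â) :=
  AlgEquiv.ofRingEquiv (f := (Algebra.TensorProduct.comm A Â B).toRingEquiv) (by
    intro z
    simp [Algebra.TensorProduct.algebraMap_apply, Algebra.TensorProduct.right_algebraMap_apply])

theorem essFiniteType_right [Algebra.EssFiniteType A B] :
    Algebra.EssFiniteType Â (B ⊗[A] Â) :=
  (Algebra.EssFiniteType.iff_of_algEquiv (commRight A B Â)).mp inferInstance

theorem quasiFinite_right [Algebra.QuasiFinite A B] :
    Algebra.QuasiFinite Â (B ⊗[A] Â) :=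
  (Algebra.QuasiFinite.iff_of_algEquiv (commRight A B Â)).mp inferInstance

end right

section complete

variable (Â : Type u) [CommRing Â] [IsLocalRing Â] [IsNoetherianRing Â]
  [IsAdicComplete (maximalIdeal Â) Â]

theorem isAdicComplete_of_isLocalization_atPrime
    (S : Type u) [CommRing S] [Algebra Â S] [Module.Finite Â S]
    (q : Ideal S) [hq : q.IsMaximal] (D : Type u) [CommRing D] [IsLocalRing D]
    [IsNoetherianRing D] [Algebra S D] [IsLocalization.AtPrime D q] :
    IsAdicComplete (maximalIdeal D) D := by
  let m : MaximalSpectrum S := ⟨q, hq⟩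
  have hL : IsAdicComplete (maximalIdeal (Localization.AtPrime q)) (Localization.AtPrime q) :=
    Groth.Agent.Lib.Helper15.FiniteComplete.isAdicComplete_localization Â S m
  have hLq : IsPrecomplete q (Localization.AtPrime q) := by
    have h1 : IsPrecomplete (q.map (algebraMap S (Localization.AtPrime q)))
        (Localization.AtPrime q) := by
      rw [Localization.AtPrime.map_eq_maximalIdeal]
      exact hL.toIsPrecomplete
    exact IsPrecomplete.map_algebraMap_iff.mp h1
  let e := IsLocalization.algEquiv q.primeCompl (Localization.AtPrime q) D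
  have hDq : IsPrecomplete q D :=
    Groth.Agent.S0545.isPrecomplete_of_surjective q e.toLinearMap e.surjective hLq
  have hD : IsPrecomplete (maximalIdeal D) D := by
    rw [← IsLocalization.AtPrime.map_eq_maximalIdeal q D]
    exact IsPrecomplete.map_algebraMap_iff.mpr hDq
  exact { toIsHausdorff := inferInstance, toIsPrecomplete := hD }

theorem isAdicComplete_of_quasiFinite_of_complete (D : Type u) [CommRing D] [IsLocalRing D]
    [IsNoetherianRing D] [Algebra Â D] [IsLocalHom (algebraMap Â D)]
    [Algebra.EssFiniteType Â D] [Algebra.QuasiFinite Â D] :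
    IsAdicComplete (maximalIdeal D) D := by
  obtain ⟨S', _, _, _, _, q, hq, hfin, hloc⟩ := Groth.Agent.S9137.result Â D
    (finite_residueField_of_quasiFinite Â D) (ringKrullDim_quot_eq_zero_of_quasiFinite Â D)
  haveI := hq
  haveI := hfin
  haveI := hloc
  haveI : q.IsMaximal := by
    haveI : Algebra.IsIntegral Â S' := Algebra.IsIntegral.of_finite Â S'
    have h1 : q.comap (algebraMap Â S') = maximalIdeal Â := by
      have hq' : (maximalIdeal D).comap (algebraMap S' D) = q :=
        IsLocalization.AtPrime.comap_maximalIdeal D q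
      rw [← hq', Ideal.comap_comap, ← IsScalarTower.algebraMap_eq]
      exact ((IsLocalRing.local_hom_TFAE (algebraMap Â D)).out 0 4).mp
        (inferInstance : IsLocalHom (algebraMap Â D))
    exact Ideal.isMaximal_of_isIntegral_of_isMaximal_comap q
      (h1 ▸ maximalIdeal.isMaximal Â)
  exact isAdicComplete_of_isLocalization_atPrime Â S' q D

end complete

end Groth.Agent.Lib.Helper26.QFFormal1
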