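import Mathlib
import Groth.Prelude.Def_EGA4b
import Groth.Agent.Lib.Helper14.ComplTensor
import Groth.Agent.Lib.Helper14.GeomRegularSep

/-!
# Completion of a local algebra as a localization of `B ⊗ Â` (compatible version)

Strengthening of `Helper14.ComplTensor.nonempty_cpl_equiv`, and regularity transfer.
-/

set_option autoImplicit false

namespace Groth.Agent.Lib.Helper26.QFFormal2

universe u

open IsLocalRing TensorProduct EGA4 Groth.Agent.Lib.Helper14.ComplFlat
  Groth.Agent.Lib.Helper14.ComplIadic Groth.Agent.Lib.Helper14.ComplTensor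

section
variable (A B : Type u) [CommRing A] [CommRing B] [IsNoetherianRing A]
    [IsNoetherianRing B] [IsLocalRing A] [IsLocalRing B] [Algebra A B] [IsLocalHom (algebraMap A B)]
    [IsNoetherianRing (B ⊗[A] Cpl A)] (n' : Ideal (B ⊗[A] Cpl A)) [hn'p : n'.IsPrime]
    (h1 : n'.comap (algebraMap B (B ⊗[A] Cpl A)) = maximalIdeal B)

include h1 in
theorem map_le : (maximalIdeal B).map (algebraMap B (B ⊗[A] Cpl A)) ≤ n' := by
  rw [Ideal.map_le_iff_le_comap, h1]

include h1 in
theorem isLocalHom_localization : IsLocalHom (algebraMap B (Localization.AtPrime n')) := by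
  have hJle := map_le A B n' h1
  constructor
  intro b hb
  by_contra hbu
  have hbm : b ∈ maximalIdeal B := (IsLocalRing.mem_maximalIdeal b).mpr hbu
  have h2 : algebraMap B (B ⊗[A] Cpl A) b ∈ n' := hJle (Ideal.mem_map_of_mem _ hbm)
  rw [IsScalarTower.algebraMap_apply B (B ⊗[A] Cpl A) (Localization.AtPrime n')] at hb
  have h3 := (IsLocalization.AtPrime.isUnit_to_map_iff (Localization.AtPrime n') n' _).mp hb
  exact h3 h2

include h1 in
theorem cplMap_bijective [IsLocalHom (algebraMap B (Localization.AtPrime n'))] :
    Function.Bijective (cplMap B (Localization.AtPrime n')) := by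
  have hJle := map_le A B n' h1
  have hn'J : n' ≤ (maximalIdeal B).map (algebraMap B (B ⊗[A] Cpl A)) := by
    intro x hx
    obtain ⟨b, hb⟩ := exists_sub_mem_tensor A B x
    have hb' : algebraMap B (B ⊗[A] Cpl A) b ∈ n' := by
      have := n'.sub_mem hx (hJle hb)
      simpa using this
    have hbm : b ∈ maximalIdeal B := by rw [← h1]; exact hb'
    have : x = (x - algebraMap B (B ⊗[A] Cpl A) b) + algebraMap B (B ⊗[A] Cpl A) b := by ring
    rw [this]
    exact add_mem hb (Ideal.mem_map_of_mem _ hbm)
  have hn' : (maximalIdeal B).map (algebraMap B (B ⊗[A] Cpl A)) = n' := le_antisymm hJle hn'J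
  haveI hmaxn : n'.IsMaximal := by
    rw [Ideal.isMaximal_iff]
    refine ⟨fun h => hn'p.ne_top ((Ideal.eq_top_iff_one _).mpr h), fun J x hnJ hxn hxJ => ?_⟩
    obtain ⟨b, hb⟩ := exists_sub_mem_tensor A B x
    have hbJ : algebraMap B (B ⊗[A] Cpl A) b ∈ J := by
      have := J.sub_mem hxJ (hnJ (hJle hb))
      simpa using this
    have hbu : IsUnit b := by
      by_contra hbu
      have hbm : b ∈ maximalIdeal B := (IsLocalRing.mem_maximalIdeal b).mpr hbu
      apply hxn
      have : x = (x - algebraMap B (B ⊗[A] Cpl A) b) + algebraMap B (B ⊗[A] Cpl A) b := by ring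
      rw [this]
      exact add_mem (hJle hb) (hJle (Ideal.mem_map_of_mem _ hbm))
    have hu : IsUnit (algebraMap B (B ⊗[A] Cpl A) b) := hbu.map _
    have := J.eq_top_of_isUnit_mem hbJ hu
    rw [this]; trivial
  haveI : IsNoetherianRing (Localization.AtPrime n') :=
    IsLocalization.isNoetherianRing n'.primeCompl _ inferInstance
  haveI : Module.Flat B (Localization.AtPrime n') :=
    Module.Flat.trans B (B ⊗[A] Cpl A) (Localization.AtPrime n')
  have hmax : (maximalIdeal B).map (algebraMap B (Localization.AtPrime n')) =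
      maximalIdeal (Localization.AtPrime n') := by
    rw [IsScalarTower.algebraMap_eq B (B ⊗[A] Cpl A) (Localization.AtPrime n'), ← Ideal.map_map,
      hn', Localization.AtPrime.map_eq_maximalIdeal]
  have hres : ∀ y : Localization.AtPrime n', ∃ b : B,
      y - algebraMap B (Localization.AtPrime n') b ∈ maximalIdeal (Localization.AtPrime n') := by
    intro y
    obtain ⟨x, hx⟩ := n'.algebraMap_residueField_surjective
      (IsLocalRing.residue (Localization.AtPrime n') y)
    obtain ⟨b, hb⟩ := exists_sub_mem_tensor A B x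
    refine ⟨b, ?_⟩
    refine (IsLocalRing.residue_eq_zero_iff (R := Localization.AtPrime n') _).mp ?_
    rw [map_sub, sub_eq_zero, ← hx]
    have h2 : algebraMap (B ⊗[A] Cpl A) n'.ResidueField x =
        algebraMap (B ⊗[A] Cpl A) n'.ResidueField (algebraMap B (B ⊗[A] Cpl A) b) := by
      rw [← sub_eq_zero, ← map_sub, Ideal.algebraMap_residueField_eq_zero]
      exact hJle hb
    rw [h2, IsScalarTower.algebraMap_apply B (B ⊗[A] Cpl A) (Localization.AtPrime n')]
    rfl
  exact cplMap_bijective_of _ _ hmax hres

end

section iso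

variable (B D : Type u) [CommRing B] [CommRing D] [IsLocalRing B] [IsLocalRing D]
  [IsNoetherianRing B] [IsNoetherianRing D] [Algebra B D] [IsLocalHom (algebraMap B D)]
  [IsAdicComplete (maximalIdeal D) D]

/-- If `D` is complete and `cplMap B D` is bijective, `B̂ ≃ D`. -/
noncomputable def cplEquivOfBijective (h : Function.Bijective (cplMap B D)) : Cpl B ≃+* D :=
  (RingEquiv.ofBijective (cplMap B D) h).trans
    (AdicCompletion.ofAlgEquiv (maximalIdeal D)).symm.toRingEquiv

theorem cplEquivOfBijective_algebraMap (h : Function.Bijective (cplMap B D)) (b : B) :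
    cplEquivOfBijective B D h (algebraMap B (Cpl B) b) = algebraMap B D b := by
  have h3 := DFunLike.congr_fun (cplMap_comp B D) b
  simp only [RingHom.comp_apply] at h3
  have h4 : cplEquivOfBijective B D h (algebraMap B (Cpl B) b) =
      (AdicCompletion.ofAlgEquiv (maximalIdeal D)).symm
        (cplMap B D (algebraMap B (Cpl B) b)) := rfl
  rw [h4, h3]
  exact AdicCompletion.ofAlgEquiv_symm_of (maximalIdeal D) (algebraMap B D b)

end iso

section regular

/-- Regularity transfer along localization of a base change. -/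
theorem isRegularRing_tensor_of_localization
    (A B Â : Type u) [CommRing A] [CommRing B] [CommRing Â] [Algebra A B] [Algebra A Â]
    (n' : Ideal (B ⊗[A] Â)) [n'.IsPrime]
    (X : Type u) [CommRing X] [Algebra B X] (e : X ≃+* Localization.AtPrime n')
    (he : ∀ b : B, e (algebraMap B X b) = algebraMap B (Localization.AtPrime n') b)
    (K : Type u) [Field K] [Algebra A K] [Algebra B K] [IsScalarTower A B K]
    (hreg : IsRegularRing (K ⊗[A] Â)) : IsRegularRing (K ⊗[B] X) := by
  haveI h1 : IsRegularRing (K ⊗[B] (B ⊗[A] Â)) :=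
    IsRegularRing.of_ringEquiv
      (Algebra.TensorProduct.cancelBaseChange A B B K Â).symm.toRingEquiv
  haveI h1' : IsRegularRing (Localization
      (n'.primeCompl.map (Algebra.TensorProduct.includeRight (R := B) (A := K)))) :=
    Groth.Agent.Lib.Helper14.GeomRegularSep.isRegularRing_of_isLocalization
      (n'.primeCompl.map (Algebra.TensorProduct.includeRight (R := B) (A := K))) _
  haveI h2 : IsRegularRing (K ⊗[B] Localization.AtPrime n') :=
    IsRegularRing.of_ringEquiv
      (IsLocalization.tensorProductEquivOfMapIncludeRight B K n'.primeCompl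
        (Localization.AtPrime n') (Localization
          (n'.primeCompl.map (Algebra.TensorProduct.includeRight (R := B) (A := K))))).symm.toRingEquiv
  let eX : X ≃ₐ[B] Localization.AtPrime n' := AlgEquiv.ofRingEquiv (f := e) he
  exact IsRegularRing.of_ringEquiv
    (Algebra.TensorProduct.congr (AlgEquiv.refl : K ≃ₐ[B] K) eX).symm.toRingEquiv

end regular

end Groth.Agent.Lib.Helper26.QFFormal2
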