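import Mathlib
import Groth.Prelude.Def_EGA4b
import Groth.Agent.Lib.Helper26.QFFormal1
import Groth.Agent.Lib.Helper26.QFFormal2
import Groth.Agent.Lib.Helper14.ComplEtale
import Groth.Agent.Lib.Helper14.GeomReduced

/-!
# Formal fibres of quasi-finite local algebras

If `A → B` is a local, essentially finite type, quasi-finite homomorphism of Noetherian local
rings, then `B̂` is a localization of `B ⊗[A] Â`, so geometric regularity of the formal fibres of
`A` passes to `B`.  (Helper lemmas for S9289 / S9290.)
-/

set_option autoImplicit false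

namespace Groth.Agent.Lib.Helper26.QFFormal3

universe u

open IsLocalRing TensorProduct EGA4 Groth.Agent.Lib.Helper14.ComplFlat
  Groth.Agent.Lib.Helper14.ComplIadic Groth.Agent.Lib.Helper14.ComplTensor

section loc
variable (A B : Type u) [CommRing A] [CommRing B] [IsNoetherianRing A]
    [IsNoetherianRing B] [IsLocalRing A] [IsLocalRing B] [Algebra A B] [IsLocalHom (algebraMap A B)]
    [Algebra.EssFiniteType A B] [Algebra.QuasiFinite A B]

section right
attribute [local instance] Algebra.TensorProduct.rightAlgebra

theorem isNoetherianRing_tensor : IsNoetherianRing (B ⊗[A] Cpl A) := by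
  haveI := QFFormal1.essFiniteType_right A B (Cpl A)
  haveI : IsNoetherianRing (Cpl A) :=
    Groth.Agent.Lib.Helper14.ComplEtale.isNoetherianRing_completion A
  exact Algebra.EssFiniteType.isNoetherianRing (Cpl A) _

theorem isAdicComplete_localization [IsNoetherianRing (B ⊗[A] Cpl A)]
    (n' : Ideal (B ⊗[A] Cpl A)) [n'.IsPrime]
    (h1 : n'.comap (algebraMap B (B ⊗[A] Cpl A)) = maximalIdeal B) :
    IsAdicComplete (R := Localization.AtPrime n') (maximalIdeal _) (Localization.AtPrime n') := by
  haveI := QFFormal1.essFiniteType_right A B (Cpl A)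
  haveI := QFFormal1.quasiFinite_right A B (Cpl A)
  haveI : IsNoetherianRing (Cpl A) :=
    Groth.Agent.Lib.Helper14.ComplEtale.isNoetherianRing_completion A
  haveI : IsNoetherianRing (Localization.AtPrime n') :=
    IsLocalization.isNoetherianRing n'.primeCompl _ inferInstance
  haveI : IsLocalHom (algebraMap (Cpl A) (Localization.AtPrime n')) := by
    constructor
    intro z hz
    by_contra hzu
    have hzm : z ∈ maximalIdeal (Cpl A) := (IsLocalRing.mem_maximalIdeal z).mpr hzu
    have h2 : (Algebra.TensorProduct.includeRight : Cpl A →ₐ[A] B ⊗[A] Cpl A) z ∈ n' :=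
      QFFormal2.map_le A B n' h1 (includeRight_mem A B z hzm)
    have h2' : algebraMap (Cpl A) (B ⊗[A] Cpl A) z ∈ n' := by
      rw [Algebra.TensorProduct.right_algebraMap_apply]
      rw [Algebra.TensorProduct.includeRight_apply] at h2
      exact h2
    rw [IsScalarTower.algebraMap_apply (Cpl A) (B ⊗[A] Cpl A) (Localization.AtPrime n')] at hz
    have h3 := (IsLocalization.AtPrime.isUnit_to_map_iff (Localization.AtPrime n') n' _).mp hz
    exact h3 h2'
  exact QFFormal1.isAdicComplete_of_quasiFinite_of_complete (Cpl A) (Localization.AtPrime n')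

end right

/-- **Local theorem.** Geometric regularity of a formal fibre ascends along a local,
essentially finite type, quasi-finite homomorphism of Noetherian local rings. -/
theorem geomRegular_formalFibre
    (Q : Ideal A) [Q.IsPrime] (Q' : Ideal B) [Q'.IsPrime] [Q'.LiesOver Q]
    (h : CAlg.IsGeometricallyRegular Q.ResidueField (formalFibre A Q)) :
    CAlg.IsGeometricallyRegular Q'.ResidueField (formalFibre B Q') := by
  haveI hNE : IsNoetherianRing (B ⊗[A] Cpl A) := isNoetherianRing_tensor A B
  haveI : Module.FaithfullyFlat A (Cpl A) := Module.FaithfullyFlat.of_flat_of_isLocalHom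
  obtain ⟨n', hn'p, hn'lo⟩ := Ideal.exists_isPrime_liesOver_of_faithfullyFlat
    (B := B ⊗[A] Cpl A) (maximalIdeal B)
  haveI := hn'p
  have h1 : n'.comap (algebraMap B (B ⊗[A] Cpl A)) = maximalIdeal B := hn'lo.over.symm
  haveI : IsLocalHom (algebraMap B (Localization.AtPrime n')) :=
    QFFormal2.isLocalHom_localization A B n' h1
  haveI : IsNoetherianRing (Localization.AtPrime n') :=
    IsLocalization.isNoetherianRing n'.primeCompl _ inferInstance
  haveI : IsAdicComplete (R := Localization.AtPrime n') (maximalIdeal _) (Localization.AtPrime n') :=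
    isAdicComplete_localization A B n' h1
  have hbij := QFFormal2.cplMap_bijective A B n' h1
  let e : Cpl B ≃+* Localization.AtPrime n' :=
    QFFormal2.cplEquivOfBijective B (Localization.AtPrime n') hbij
  have he : ∀ b : B, e (algebraMap B (Cpl B) b) = algebraMap B (Localization.AtPrime n') b :=
    QFFormal2.cplEquivOfBijective_algebraMap B (Localization.AtPrime n') hbij
  letI algQQ' : Algebra (Localization.AtPrime Q) (Localization.AtPrime Q') :=
    Localization.AtPrime.algebraOfLiesOver Q Q'
  intro K _ _ hK
  haveI := hK
  letI algBK : Algebra B K :=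
    ((algebraMap Q'.ResidueField K).comp (algebraMap B Q'.ResidueField)).toAlgebra
  letI algAK : Algebra A K := ((algebraMap B K).comp (algebraMap A B)).toAlgebra
  letI algQK : Algebra Q.ResidueField K :=
    ((algebraMap Q'.ResidueField K).comp (algebraMap Q.ResidueField Q'.ResidueField)).toAlgebra
  haveI t1 : IsScalarTower B Q'.ResidueField K := IsScalarTower.of_algebraMap_eq (fun _ => rfl)
  haveI t2 : IsScalarTower A B K := IsScalarTower.of_algebraMap_eq (fun _ => rfl)
  haveI t3 : IsScalarTower Q.ResidueField Q'.ResidueField K :=
    IsScalarTower.of_algebraMap_eq (fun _ => rfl)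
  haveI t4 : IsScalarTower A Q.ResidueField K := IsScalarTower.of_algebraMap_eq (fun a => by
    have e1 : algebraMap A K a =
        algebraMap Q'.ResidueField K (algebraMap B Q'.ResidueField (algebraMap A B a)) := rfl
    have e2 : algebraMap Q.ResidueField K (algebraMap A Q.ResidueField a) =
        algebraMap Q'.ResidueField K (algebraMap Q.ResidueField Q'.ResidueField
          (algebraMap A Q.ResidueField a)) := rfl
    rw [e1, e2, ← IsScalarTower.algebraMap_apply A B Q'.ResidueField,
      ← IsScalarTower.algebraMap_apply A Q.ResidueField Q'.ResidueField])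
  haveI : Module.Finite Q.ResidueField K := Module.Finite.trans Q'.ResidueField K
  haveI hreg1 : IsRegularRing (K ⊗[Q.ResidueField] (Q.ResidueField ⊗[A] Cpl A)) :=
    h K inferInstance
  have hreg2 : IsRegularRing (K ⊗[A] Cpl A) :=
    IsRegularRing.of_ringEquiv (Algebra.TensorProduct.cancelBaseChange A Q.ResidueField
      Q.ResidueField K (Cpl A)).toRingEquiv
  haveI hreg3 : IsRegularRing (K ⊗[B] Cpl B) :=
    QFFormal2.isRegularRing_tensor_of_localization A B (Cpl A) n' (Cpl B) e he K hreg2
  exact IsRegularRing.of_ringEquiv (Algebra.TensorProduct.cancelBaseChange B Q'.ResidueField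
    Q'.ResidueField K (Cpl B)).symm.toRingEquiv

/-- Local form of S9289. -/
theorem isRegularHom_cpl (h : CAlg.IsRegularHom A (Cpl A)) : CAlg.IsRegularHom B (Cpl B) := by
  refine ⟨inferInstance, fun Q' _ => ⟨?_, ?_⟩⟩
  · haveI : IsNoetherianRing (Cpl B) :=
      Groth.Agent.Lib.Helper14.ComplEtale.isNoetherianRing_completion B
    exact Groth.Agent.Lib.Helper14.GeomReduced.isNoetherianRing_fiber B (Cpl B) Q'
  · exact geomRegular_formalFibre A B (Q'.under A) Q' (h.2 (Q'.under A)).2

end loc

section glob

variable (R R' : Type u) [CommRing R] [CommRing R'] [IsNoetherianRing R] [IsNoetherianRing R']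
  [Algebra R R'] [Algebra.FiniteType R R']
  (p : Ideal R) [p.IsPrime] (p' : Ideal R') [p'.IsPrime] [p'.LiesOver p]
  [Algebra.QuasiFiniteAt R p']

theorem geomRegular_formalFibre_atPrime
    (Q' : Ideal (Localization.AtPrime p')) [Q'.IsPrime]
    (Q : Ideal (Localization.AtPrime p)) [Q.IsPrime]
    (hQ : Q.comap (algebraMap R (Localization.AtPrime p)) =
      Q'.comap (algebraMap R (Localization.AtPrime p')))
    (h : CAlg.IsGeometricallyRegular Q.ResidueField (formalFibre (Localization.AtPrime p) Q)) :
    CAlg.IsGeometricallyRegular Q'.ResidueField (formalFibre (Localization.AtPrime p') Q') := by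
  letI := Localization.AtPrime.algebraOfLiesOver p p'
  haveI : IsNoetherianRing (Localization.AtPrime p) :=
    IsLocalization.isNoetherianRing p.primeCompl _ inferInstance
  haveI : IsNoetherianRing (Localization.AtPrime p') :=
    IsLocalization.isNoetherianRing p'.primeCompl _ inferInstance
  haveI : Algebra.EssFiniteType (Localization.AtPrime p) (Localization.AtPrime p') :=
    Algebra.EssFiniteType.of_comp R _ _
  haveI : Algebra.QuasiFinite (Localization.AtPrime p) (Localization.AtPrime p') :=
    Algebra.QuasiFinite.of_restrictScalars R _ _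
  haveI : Q'.LiesOver Q := by
    refine ⟨?_⟩
    rw [Ideal.under_def]
    have h1 : Q'.comap (algebraMap R (Localization.AtPrime p')) =
        (Q'.comap (algebraMap (Localization.AtPrime p) (Localization.AtPrime p'))).under R := by
      rw [Ideal.under_def, Ideal.comap_comap, ← IsScalarTower.algebraMap_eq]
    have hQ' : Q.under R =
        (Q'.comap (algebraMap (Localization.AtPrime p) (Localization.AtPrime p'))).under R := by
      rw [← h1, ← hQ, Ideal.under_def]
    exact ((IsLocalization.map_under p.primeCompl (Localization.AtPrime p) Q).symm.trans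
      (congrArg (Ideal.map (algebraMap R (Localization.AtPrime p))) hQ')).trans
      (IsLocalization.map_under p.primeCompl (Localization.AtPrime p) _)
  exact geomRegular_formalFibre (Localization.AtPrime p) (Localization.AtPrime p') Q Q' h

theorem isRegularHom_cpl_atPrime
    (h : CAlg.IsRegularHom (Localization.AtPrime p) (Cpl (Localization.AtPrime p))) :
    CAlg.IsRegularHom (Localization.AtPrime p') (Cpl (Localization.AtPrime p')) := by
  letI := Localization.AtPrime.algebraOfLiesOver p p'
  haveI : IsNoetherianRing (Localization.AtPrime p) :=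
    IsLocalization.isNoetherianRing p.primeCompl _ inferInstance
  haveI : IsNoetherianRing (Localization.AtPrime p') :=
    IsLocalization.isNoetherianRing p'.primeCompl _ inferInstance
  haveI : Algebra.EssFiniteType (Localization.AtPrime p) (Localization.AtPrime p') :=
    Algebra.EssFiniteType.of_comp R _ _
  haveI : Algebra.QuasiFinite (Localization.AtPrime p) (Localization.AtPrime p') :=
    Algebra.QuasiFinite.of_restrictScalars R _ _
  exact isRegularHom_cpl (Localization.AtPrime p) (Localization.AtPrime p') h

end glob

end Groth.Agent.Lib.Helper26.QFFormal3
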