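import Mathlib
import Groth.Prelude.Def_EGA4b
import Groth.Agent.Lib.Helper26.QFFormal3

/-!
# Formal fibres: converse transfer along a surjective local homomorphism

For `A → B` surjective (local Noetherian), `B ⊗[A] Â` is local and equal to `B̂`, so the
geometric regularity of a formal fibre of `B` gives that of the corresponding formal fibre of `A`.
(Helper lemmas for S9257.)
-/

set_option autoImplicit false

namespace Groth.Agent.Lib.Helper26.QFFormal4

universe u

open IsLocalRing TensorProduct EGA4 Groth.Agent.Lib.Helper14.ComplFlat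
  Groth.Agent.Lib.Helper14.ComplIadic Groth.Agent.Lib.Helper14.ComplTensor

section loc
variable (A B : Type u) [CommRing A] [CommRing B] [IsNoetherianRing A]
    [IsNoetherianRing B] [IsLocalRing A] [IsLocalRing B] [Algebra A B] [IsLocalHom (algebraMap A B)]
    [Algebra.EssFiniteType A B] [Algebra.QuasiFinite A B]

/-- `B̂ ≅ (B ⊗[A] Â)_{n'}` for any prime `n'` over the maximal ideal of `B`, compatibly with `B`. -/
theorem exists_cplEquiv [IsNoetherianRing (B ⊗[A] Cpl A)] (n' : Ideal (B ⊗[A] Cpl A)) [n'.IsPrime]
    (h1 : n'.comap (algebraMap B (B ⊗[A] Cpl A)) = maximalIdeal B) :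
    ∃ e : Cpl B ≃+* Localization.AtPrime n',
      ∀ b : B, e (algebraMap B (Cpl B) b) = algebraMap B (Localization.AtPrime n') b := by
  haveI : IsLocalHom (algebraMap B (Localization.AtPrime n')) :=
    QFFormal2.isLocalHom_localization A B n' h1
  haveI : IsNoetherianRing (Localization.AtPrime n') :=
    IsLocalization.isNoetherianRing n'.primeCompl _ inferInstance
  haveI : IsAdicComplete (R := Localization.AtPrime n') (maximalIdeal _)
      (Localization.AtPrime n') :=
    QFFormal3.isAdicComplete_localization A B n' h1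
  have hbij := QFFormal2.cplMap_bijective A B n' h1
  exact ⟨QFFormal2.cplEquivOfBijective B (Localization.AtPrime n') hbij,
    QFFormal2.cplEquivOfBijective_algebraMap B (Localization.AtPrime n') hbij⟩

/-- **Converse local theorem (surjective case).** -/
theorem geomRegular_formalFibre_conv (hs : Function.Surjective (algebraMap A B))
    (Q : Ideal A) [Q.IsPrime] (Q' : Ideal B) [Q'.IsPrime] [Q'.LiesOver Q]
    (h : CAlg.IsGeometricallyRegular Q'.ResidueField (formalFibre B Q')) :
    CAlg.IsGeometricallyRegular Q.ResidueField (formalFibre A Q) := by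
  haveI hNE : IsNoetherianRing (B ⊗[A] Cpl A) := QFFormal3.isNoetherianRing_tensor A B
  haveI : Module.FaithfullyFlat A (Cpl A) := Module.FaithfullyFlat.of_flat_of_isLocalHom
  obtain ⟨n0, hn0p, -⟩ := Ideal.exists_isPrime_liesOver_of_faithfullyFlat
    (B := B ⊗[A] Cpl A) (maximalIdeal B)
  haveI : Nontrivial (B ⊗[A] Cpl A) :=
    ⟨⟨0, 1, fun h0 => hn0p.ne_top ((Ideal.eq_top_iff_one n0).mpr (h0 ▸ n0.zero_mem))⟩⟩
  haveI : IsLocalRing (B ⊗[A] Cpl A) :=
    IsLocalRing.of_surjective'
      (Algebra.TensorProduct.includeRight : Cpl A →ₐ[A] B ⊗[A] Cpl A).toRingHom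
      (Algebra.TensorProduct.includeRight_surjective (Cpl A) hs)
  have h1 : (maximalIdeal (B ⊗[A] Cpl A)).comap (algebraMap B (B ⊗[A] Cpl A)) = maximalIdeal B :=
    ((IsLocalRing.local_hom_TFAE (algebraMap B (B ⊗[A] Cpl A))).out 0 4).mp
      (inferInstance : IsLocalHom (algebraMap B (B ⊗[A] Cpl A)))
  obtain ⟨e, he⟩ := exists_cplEquiv A B (maximalIdeal (B ⊗[A] Cpl A)) h1
  let eE : (B ⊗[A] Cpl A) ≃ₐ[B ⊗[A] Cpl A]
      Localization.AtPrime (maximalIdeal (B ⊗[A] Cpl A)) :=
    IsLocalization.atUnits _ (maximalIdeal (B ⊗[A] Cpl A)).primeCompl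
      (fun x hx => (IsLocalRing.notMem_maximalIdeal).mp hx)
  letI algQQ' : Algebra (Localization.AtPrime Q) (Localization.AtPrime Q') :=
    Localization.AtPrime.algebraOfLiesOver Q Q'
  have hbij0 : Function.Bijective (algebraMap Q.ResidueField Q'.ResidueField) :=
    (RingHom.surjectiveOnStalks_of_surjective hs).residueFieldMap_bijective Q Q' (Q'.over_def Q)
  let e0 : Q.ResidueField ≃+* Q'.ResidueField := RingEquiv.ofBijective _ hbij0
  intro K _ _ hK
  haveI := hK
  letI algQ'K : Algebra Q'.ResidueField K :=
    ((algebraMap Q.ResidueField K).comp e0.symm.toRingHom).toAlgebra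
  haveI t3 : IsScalarTower Q.ResidueField Q'.ResidueField K :=
    IsScalarTower.of_algebraMap_eq (fun x => by
      have e1 : algebraMap Q'.ResidueField K (algebraMap Q.ResidueField Q'.ResidueField x) =
          algebraMap Q.ResidueField K (e0.symm (e0 x)) := rfl
      rw [e1, e0.symm_apply_apply])
  letI algBK : Algebra B K :=
    ((algebraMap Q'.ResidueField K).comp (algebraMap B Q'.ResidueField)).toAlgebra
  letI algAK : Algebra A K :=
    ((algebraMap Q.ResidueField K).comp (algebraMap A Q.ResidueField)).toAlgebra
  haveI t1 : IsScalarTower B Q'.ResidueField K := IsScalarTower.of_algebraMap_eq (fun _ => rfl)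
  haveI t4 : IsScalarTower A Q.ResidueField K := IsScalarTower.of_algebraMap_eq (fun _ => rfl)
  haveI t2 : IsScalarTower A B K := IsScalarTower.of_algebraMap_eq (fun a => by
    have e1 : algebraMap A K a =
        algebraMap Q.ResidueField K (algebraMap A Q.ResidueField a) := rfl
    have e2 : algebraMap B K (algebraMap A B a) =
        algebraMap Q'.ResidueField K (algebraMap B Q'.ResidueField (algebraMap A B a)) := rfl
    rw [e1, e2, ← IsScalarTower.algebraMap_apply A B Q'.ResidueField,
      IsScalarTower.algebraMap_apply A Q.ResidueField Q'.ResidueField,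
      ← IsScalarTower.algebraMap_apply Q.ResidueField Q'.ResidueField K])
  haveI : Module.Finite Q'.ResidueField K :=
    Module.Finite.of_restrictScalars_finite Q.ResidueField Q'.ResidueField K
  haveI hreg1 : IsRegularRing (K ⊗[Q'.ResidueField] (Q'.ResidueField ⊗[B] Cpl B)) :=
    h K inferInstance
  haveI hreg2 : IsRegularRing (K ⊗[B] Cpl B) :=
    IsRegularRing.of_ringEquiv (Algebra.TensorProduct.cancelBaseChange B Q'.ResidueField
      Q'.ResidueField K (Cpl B)).toRingEquiv
  let eX : Cpl B ≃ₐ[B] Localization.AtPrime (maximalIdeal (B ⊗[A] Cpl A)) :=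
    AlgEquiv.ofRingEquiv (f := e) he
  let eD : (B ⊗[A] Cpl A) ≃ₐ[B] Localization.AtPrime (maximalIdeal (B ⊗[A] Cpl A)) :=
    eE.restrictScalars B
  haveI hreg3 : IsRegularRing (K ⊗[B] (B ⊗[A] Cpl A)) :=
    IsRegularRing.of_ringEquiv
      (Algebra.TensorProduct.congr (AlgEquiv.refl : K ≃ₐ[B] K) (eX.trans eD.symm)).toRingEquiv
  haveI hreg4 : IsRegularRing (K ⊗[A] Cpl A) :=
    IsRegularRing.of_ringEquiv
      (Algebra.TensorProduct.cancelBaseChange A B B K (Cpl A)).toRingEquiv
  exact IsRegularRing.of_ringEquiv (Algebra.TensorProduct.cancelBaseChange A Q.ResidueField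
    Q.ResidueField K (Cpl A)).symm.toRingEquiv

end loc

section glob

variable (R R' : Type u) [CommRing R] [CommRing R'] [IsNoetherianRing R] [IsNoetherianRing R']
  [Algebra R R'] [Algebra.FiniteType R R']
  (p : Ideal R) [p.IsPrime] (p' : Ideal R') [p'.IsPrime] [p'.LiesOver p]
  [Algebra.QuasiFiniteAt R p']

theorem geomRegular_formalFibre_atPrime_conv (hs : Function.Surjective (algebraMap R R'))
    (Q' : Ideal (Localization.AtPrime p')) [Q'.IsPrime]
    (Q : Ideal (Localization.AtPrime p)) [Q.IsPrime]
    (hQ : Q.comap (algebraMap R (Localization.AtPrime p)) =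
      Q'.comap (algebraMap R (Localization.AtPrime p')))
    (h : CAlg.IsGeometricallyRegular Q'.ResidueField
      (formalFibre (Localization.AtPrime p') Q')) :
    CAlg.IsGeometricallyRegular Q.ResidueField (formalFibre (Localization.AtPrime p) Q) := by
  letI := Localization.AtPrime.algebraOfLiesOver p p'
  haveI : IsNoetherianRing (Localization.AtPrime p) :=
    IsLocalization.isNoetherianRing p.primeCompl _ inferInstance
  haveI : IsNoetherianRing (Localization.AtPrime p') :=
    IsLocalization.isNoetherianRing p'.primeCompl _ inferInstance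
  haveI : Algebra.EssFiniteType (Localization.AtPrime p) (Localization.AtPrime p') :=
    Algebra.EssFiniteType.of_comp R _ _
  haveI : Algebra.QuasiFinite (Localization.AtPrime p) (Localization.AtPrime p') :=
    Algebra.QuasiFinite.of_restrictScalars R _ _
  haveI : Q'.LiesOver Q := by
    refine ⟨?_⟩
    rw [Ideal.under_def]
    have h1 : Q'.comap (algebraMap R (Localization.AtPrime p')) =
        (Q'.comap (algebraMap (Localization.AtPrime p) (Localization.AtPrime p'))).under R := by
      rw [Ideal.under_def, Ideal.comap_comap, ← IsScalarTower.algebraMap_eq]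
    have hQ' : Q.under R =
        (Q'.comap (algebraMap (Localization.AtPrime p) (Localization.AtPrime p'))).under R := by
      rw [← h1, ← hQ, Ideal.under_def]
    exact ((IsLocalization.map_under p.primeCompl (Localization.AtPrime p) Q).symm.trans
      (congrArg (Ideal.map (algebraMap R (Localization.AtPrime p))) hQ')).trans
      (IsLocalization.map_under p.primeCompl (Localization.AtPrime p) _)
  have hsurj : Function.Surjective
      (algebraMap (Localization.AtPrime p) (Localization.AtPrime p')) := by
    intro y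
    obtain ⟨r', s', rfl⟩ := IsLocalization.exists_mk'_eq p'.primeCompl y
    obtain ⟨r, rfl⟩ := hs r'
    obtain ⟨s, hs'⟩ := hs (s' : R')
    have hsp : s ∈ p.primeCompl := by
      intro hsp
      apply s'.2
      rw [p'.over_def p] at hsp
      rw [← hs']
      exact hsp
    refine ⟨IsLocalization.mk' _ r ⟨s, hsp⟩, ?_⟩
    change Localization.localRingHom p p' (algebraMap R R') _ _ = _
    rw [Localization.localRingHom_mk']
    congr 1
    exact Subtype.ext hs'
  exact geomRegular_formalFibre_conv (Localization.AtPrime p) (Localization.AtPrime p') hsurj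
    Q Q' h

end glob

end Groth.Agent.Lib.Helper26.QFFormal4
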