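import Mathlib
import Groth.Prelude.Def_EGA4b
import Groth.Agent.Lib.Helper26.QFFormal4
import Groth.Agent.Lib.Helper26.RegularRing

/-!
# Formal fibres: covering argument for finite algebras

`R` Noetherian, `S` a finite `R`-algebra, `p0` a prime of `R`, `A = R_{p0}`, `K` a field which is an
`S`-algebra.  If `K ⊗[S_n] (S_n)^` is regular for all primes `n` of `S` over `p0`, then
`K ⊗[A] Â` is regular.  (Helper lemmas for S9274.)
-/

set_option autoImplicit false

namespace Groth.Agent.Lib.Helper26.QFFormal5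

universe u

open IsLocalRing TensorProduct EGA4 Groth.Agent.Lib.Helper14.ComplFlat
  Groth.Agent.Lib.Helper14.ComplIadic Groth.Agent.Lib.Helper14.ComplTensor

/-- `K ⊗[A] Â` is regular. -/
def RegFib (A : Type u) [CommRing A] [IsLocalRing A] (K : Type u) [CommRing K] [Algebra A K] :
    Prop :=
  IsRegularRing (K ⊗[A] Cpl A)

section noeth

attribute [local instance] Algebra.TensorProduct.rightAlgebra in
/-- `K ⊗[A] Â` is Noetherian for `K` essentially of finite type over `A`. -/
theorem isNoetherianRing_tensor_cpl (A : Type u) [CommRing A] [IsNoetherianRing A] [IsLocalRing A]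
    (K : Type u) [CommRing K] [Algebra A K] [Algebra.EssFiniteType A K] :
    IsNoetherianRing (K ⊗[A] Cpl A) := by
  haveI := QFFormal1.essFiniteType_right A K (Cpl A)
  haveI : IsNoetherianRing (Cpl A) :=
    Groth.Agent.Lib.Helper14.ComplEtale.isNoetherianRing_completion A
  exact Algebra.EssFiniteType.isNoetherianRing (Cpl A) _

end noeth

theorem mem_iff_of_comap_eq {R₁ R₂ F : Type*} [CommRing R₁] [CommRing R₂] [FunLike F R₁ R₂]
    [RingHomClass F R₁ R₂] {f : F}
    {I : Ideal R₂} {J : Ideal R₁} (h : I.comap f = J) (x : R₁) : f x ∈ I ↔ x ∈ J := by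
  rw [← h, Ideal.mem_comap]

section G

variable (A B Â : Type u) [CommRing A] [CommRing B] [CommRing Â] [Algebra A B] [Algebra A Â]
    (K : Type u) [CommRing K] [Algebra A K] [Algebra B K] [IsScalarTower A B K]

/-- `B ⊗[A] Â → K ⊗[A] Â`. -/
noncomputable def G : B ⊗[A] Â →ₐ[A] K ⊗[A] Â :=
  Algebra.TensorProduct.map (IsScalarTower.toAlgHom A B K) (AlgHom.id A Â)

theorem G_tmul (b : B) (z : Â) : G A B Â K (b ⊗ₜ z) = (algebraMap B K b) ⊗ₜ z := by
  simp [G]

theorem cancel_one_tmul (t : B ⊗[A] Â) :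
    Algebra.TensorProduct.cancelBaseChange A B B K Â ((1 : K) ⊗ₜ[B] t) = G A B Â K t := by
  induction t using TensorProduct.induction_on with
  | zero => simp
  | tmul b z =>
    rw [Algebra.TensorProduct.cancelBaseChange_tmul, G_tmul, Algebra.smul_def, mul_one]
  | add x y hx hy => rw [TensorProduct.tmul_add, map_add, map_add, hx, hy]

end G

section loc

/-- **Local covering lemma (abstract form).** -/
theorem isRegularLocalRing_atPrime_of_le_abs
    (A B Â : Type u) [CommRing A] [CommRing B] [CommRing Â] [Algebra A B] [Algebra A Â]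
    (n' : Ideal (B ⊗[A] Â)) [n'.IsPrime]
    (X : Type u) [CommRing X] [Algebra B X] (e : X ≃+* Localization.AtPrime n')
    (he : ∀ b : B, e (algebraMap B X b) = algebraMap B (Localization.AtPrime n') b)
    (K : Type u) [Field K] [Algebra A K] [Algebra B K] [IsScalarTower A B K]
    [IsNoetherianRing (K ⊗[A] Â)]
    (hreg : IsRegularRing (K ⊗[B] X))
    (𝔓 : Ideal (K ⊗[A] Â)) [𝔓.IsPrime]
    (hle : 𝔓.comap (G A B Â K).toRingHom ≤ n') :
    IsRegularLocalRing (Localization.AtPrime 𝔓) := by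
  let eX : X ≃ₐ[B] Localization.AtPrime n' := AlgEquiv.ofRingEquiv (f := e) he
  haveI h2 : IsRegularRing (K ⊗[B] Localization.AtPrime n') :=
    IsRegularRing.of_ringEquiv
      (Algebra.TensorProduct.congr (AlgEquiv.refl : K ≃ₐ[B] K) eX).toRingEquiv
  haveI h3 : IsRegularRing (Localization
      (n'.primeCompl.map (Algebra.TensorProduct.includeRight (R := B) (A := K)))) :=
    IsRegularRing.of_ringEquiv
      (IsLocalization.tensorProductEquivOfMapIncludeRight B K n'.primeCompl
        (Localization.AtPrime n') (Localization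
          (n'.primeCompl.map
            (Algebra.TensorProduct.includeRight (R := B) (A := K))))).toRingEquiv
  haveI hN2 : IsNoetherianRing (K ⊗[B] (B ⊗[A] Â)) :=
    isNoetherianRing_of_ringEquiv (K ⊗[A] Â)
      (Algebra.TensorProduct.cancelBaseChange A B B K Â).symm.toRingEquiv
  haveI h𝔓2 : (𝔓.comap (Algebra.TensorProduct.cancelBaseChange A B B K
      Â).toRingEquiv).IsPrime := Ideal.comap_isPrime _ 𝔓
  have hdisj : Disjoint
      ((n'.primeCompl.map (Algebra.TensorProduct.includeRight (R := B) (A := K)) :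
        Submonoid (K ⊗[B] (B ⊗[A] Â))) : Set (K ⊗[B] (B ⊗[A] Â)))
      ((𝔓.comap (Algebra.TensorProduct.cancelBaseChange A B B K Â).toRingEquiv :
        Ideal (K ⊗[B] (B ⊗[A] Â))) : Set (K ⊗[B] (B ⊗[A] Â))) := by
    rw [Set.disjoint_left]
    intro y hy hmem
    obtain ⟨t, ht, rfl⟩ := Submonoid.mem_map.mp hy
    refine ht (hle ?_)
    rw [Ideal.mem_comap]
    have h4 : (G A B Â K).toRingHom t =
        Algebra.TensorProduct.cancelBaseChange A B B K Â ((1 : K) ⊗ₜ[B] t) :=
      (cancel_one_tmul A B Â K t).symm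
    rw [h4]
    exact hmem
  haveI hflat : Module.Flat (K ⊗[B] (B ⊗[A] Â)) (Localization
      (n'.primeCompl.map (Algebra.TensorProduct.includeRight (R := B) (A := K)))) :=
    IsLocalization.flat _ (n'.primeCompl.map (Algebra.TensorProduct.includeRight (R := B) (A := K)))
  haveI hp : ((𝔓.comap (Algebra.TensorProduct.cancelBaseChange A B B K
      Â).toRingEquiv).map (algebraMap (K ⊗[B] (B ⊗[A] Â)) (Localization
      (n'.primeCompl.map (Algebra.TensorProduct.includeRight (R := B) (A := K)))))).IsPrime :=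
    IsLocalization.isPrime_of_isPrime_disjoint
      (n'.primeCompl.map (Algebra.TensorProduct.includeRight (R := B) (A := K))) _ _ h𝔓2 hdisj
  haveI hlo : ((𝔓.comap (Algebra.TensorProduct.cancelBaseChange A B B K
      Â).toRingEquiv).map (algebraMap (K ⊗[B] (B ⊗[A] Â)) (Localization
      (n'.primeCompl.map (Algebra.TensorProduct.includeRight (R := B) (A := K)))))).LiesOver
      (𝔓.comap (Algebra.TensorProduct.cancelBaseChange A B B K Â).toRingEquiv) :=
    ⟨(IsLocalization.under_map_of_isPrime_disjoint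
      (n'.primeCompl.map (Algebra.TensorProduct.includeRight (R := B) (A := K))) _ h𝔓2 hdisj).symm⟩
  haveI hreg2 : IsRegularLocalRing (Localization.AtPrime
      (𝔓.comap (Algebra.TensorProduct.cancelBaseChange A B B K Â).toRingEquiv)) :=
    RegularRing.isRegularLocalRing_atPrime_of_flat (K ⊗[B] (B ⊗[A] Â)) (Localization
      (n'.primeCompl.map (Algebra.TensorProduct.includeRight (R := B) (A := K))))
      (𝔓.comap (Algebra.TensorProduct.cancelBaseChange A B B K Â).toRingEquiv)
      ((𝔓.comap (Algebra.TensorProduct.cancelBaseChange A B B K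
      Â).toRingEquiv).map (algebraMap (K ⊗[B] (B ⊗[A] Â)) (Localization
      (n'.primeCompl.map (Algebra.TensorProduct.includeRight (R := B) (A := K))))))
  exact IsRegularLocalRing.of_ringEquiv (R := Localization.AtPrime
      (𝔓.comap (Algebra.TensorProduct.cancelBaseChange A B B K Â).toRingEquiv)) <|
    IsLocalization.ringEquivOfRingEquiv
    (Localization.AtPrime
      (𝔓.comap (Algebra.TensorProduct.cancelBaseChange A B B K Â).toRingEquiv))
    (Localization.AtPrime 𝔓) (Algebra.TensorProduct.cancelBaseChange A B B K Â).toRingEquiv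
    ((Algebra.TensorProduct.cancelBaseChange A B B K Â).toRingEquiv.map_primeCompl_comap_eq 𝔓)

variable (A B : Type u) [CommRing A] [CommRing B] [IsNoetherianRing A]
    [IsNoetherianRing B] [IsLocalRing A] [IsLocalRing B] [Algebra A B] [IsLocalHom (algebraMap A B)]
    [Algebra.EssFiniteType A B] [Algebra.QuasiFinite A B]
    (K : Type u) [Field K] [Algebra A K] [Algebra B K] [IsScalarTower A B K]

/-- **Local covering lemma.**  If `K ⊗[B] B̂` is regular, then `K ⊗[A] Â` is regular at every prime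
`𝔓` whose preimage in `B ⊗[A] Â` is contained in a prime `n'` over the maximal ideal of `B`. -/
theorem isRegularLocalRing_atPrime_of_le
    [IsNoetherianRing (K ⊗[A] Cpl A)]
    (hreg : IsRegularRing (K ⊗[B] Cpl B))
    (n' : Ideal (B ⊗[A] Cpl A)) [n'.IsPrime]
    (h1 : n'.comap (algebraMap B (B ⊗[A] Cpl A)) = maximalIdeal B)
    (𝔓 : Ideal (K ⊗[A] Cpl A)) [𝔓.IsPrime]
    (hle : 𝔓.comap (G A B (Cpl A) K).toRingHom ≤ n') :
    IsRegularLocalRing (Localization.AtPrime 𝔓) := by
  haveI hNE : IsNoetherianRing (B ⊗[A] Cpl A) := QFFormal3.isNoetherianRing_tensor A B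
  obtain ⟨e, he⟩ := QFFormal4.exists_cplEquiv A B n' h1
  exact isRegularLocalRing_atPrime_of_le_abs A B (Cpl A) n' (Cpl B) e he K hreg 𝔓 hle

end loc

section T

variable (R S : Type u) [CommRing R] [CommRing S] [Algebra R S]
  (p0 : Ideal R) [p0.IsPrime]
  (A : Type u) [CommRing A] [Algebra R A] [IsLocalRing A] [IsLocalization.AtPrime A p0]
  (Â : Type u) [CommRing Â] [IsLocalRing Â] [Algebra A Â] [IsLocalHom (algebraMap A Â)]
  [Algebra R Â] [IsScalarTower R A Â]

section right
attribute [local instance] Algebra.TensorProduct.rightAlgebra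

omit [IsLocalRing A] [IsLocalization.AtPrime A p0] [IsLocalHom (algebraMap A Â)]
  [IsScalarTower R A Â] in
theorem comap_includeRight_of_isMaximal [Module.Finite R S]
    (𝔑 : Ideal (S ⊗[R] Â)) [𝔑.IsMaximal] :
    𝔑.comap (Algebra.TensorProduct.includeRight : Â →ₐ[R] S ⊗[R] Â) = maximalIdeal Â := by
  haveI : Module.Finite Â (S ⊗[R] Â) :=
    Module.Finite.equiv (QFFormal1.commRight R S Â).toLinearEquiv
  haveI : Algebra.IsIntegral Â (S ⊗[R] Â) := Algebra.IsIntegral.of_finite _ _
  have hmax : (𝔑.comap (algebraMap Â (S ⊗[R] Â))).IsMaximal :=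
    Ideal.isMaximal_comap_of_isIntegral_of_isMaximal 𝔑
  rw [← IsLocalRing.eq_maximalIdeal hmax]
  ext z
  rw [Ideal.mem_comap, Ideal.mem_comap, Algebra.TensorProduct.right_algebraMap_apply,
    Algebra.TensorProduct.includeRight_apply]

end right

omit [IsLocalRing A] [IsLocalization.AtPrime A p0] [IsLocalRing Â]
  [IsLocalHom (algebraMap A Â)] in
theorem algebraMap_algebraMap_eq_includeRight (r : R) :
    algebraMap S (S ⊗[R] Â) (algebraMap R S r) =
      (Algebra.TensorProduct.includeRight : Â →ₐ[R] S ⊗[R] Â)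
        (algebraMap A Â (algebraMap R A r)) := by
  rw [Algebra.TensorProduct.includeRight_apply, Algebra.TensorProduct.algebraMap_apply,
    ← IsScalarTower.algebraMap_apply R A Â,
    Algebra.algebraMap_self_apply, Algebra.algebraMap_eq_smul_one,
    Algebra.algebraMap_eq_smul_one (A := Â), TensorProduct.smul_tmul]

include A in
theorem under_under_of_isMaximal [Module.Finite R S]
    (𝔑 : Ideal (S ⊗[R] Â)) [𝔑.IsMaximal] :
    (𝔑.comap (algebraMap S (S ⊗[R] Â))).comap (algebraMap R S) = p0 := by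
  have h1 := comap_includeRight_of_isMaximal R S Â 𝔑
  have h2 : (maximalIdeal Â).comap (algebraMap A Â) = maximalIdeal A :=
    ((IsLocalRing.local_hom_TFAE (algebraMap A Â)).out 0 4).mp
      (inferInstance : IsLocalHom (algebraMap A Â))
  have h3 : (maximalIdeal A).comap (algebraMap R A) = p0 :=
    IsLocalization.AtPrime.under_maximalIdeal A p0
  ext r
  have e1 := mem_iff_of_comap_eq h3 r
  have e2 := mem_iff_of_comap_eq h2 (algebraMap R A r)
  have e3 := mem_iff_of_comap_eq h1 (algebraMap A Â (algebraMap R A r))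
  change algebraMap S (S ⊗[R] Â) (algebraMap R S r) ∈ 𝔑 ↔ r ∈ p0
  rw [algebraMap_algebraMap_eq_includeRight R S A Â, e3, e2, e1]

variable (K : Type u) [Field K] [Algebra R K] [Algebra A K]
  [IsScalarTower R A K] [Algebra S K] [IsScalarTower R S K]

/-- The comparison map `S ⊗[R] Â → K ⊗[A] Â`. -/
noncomputable def Phi : S ⊗[R] Â →ₐ[R] K ⊗[A] Â :=
  (Algebra.TensorProduct.mapOfCompatibleSMul A R R K Â).comp
    (Algebra.TensorProduct.map (IsScalarTower.toAlgHom R S K) (AlgHom.id R Â))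

omit [IsLocalRing A] [IsLocalization.AtPrime A p0] [IsLocalRing Â]
  [IsLocalHom (algebraMap A Â)] in
theorem Phi_tmul (s : S) (z : Â) :
    Phi R S A Â K (s ⊗ₜ z) = (algebraMap S K s) ⊗ₜ z := by
  simp [Phi]

section perN

variable (B : Type u) [CommRing B] [Algebra S B]
  [Algebra R B] [IsScalarTower R S B] [Algebra A B] [IsScalarTower R A B]

/-- `S ⊗[R] Â → B ⊗[R] Â`. -/
noncomputable def PsiR : S ⊗[R] Â →ₐ[R] B ⊗[R] Â :=
  Algebra.TensorProduct.map (IsScalarTower.toAlgHom R S B) (AlgHom.id R Â)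

/-- `S ⊗[R] Â → B ⊗[A] Â`. -/
noncomputable def Psi : S ⊗[R] Â →+* B ⊗[A] Â :=
  ((IsLocalization.algebraTensorEquiv p0.primeCompl A B Â).symm.toRingEquiv.toRingHom).comp
    (PsiR R S Â B).toRingHom

omit [IsLocalRing A] [IsLocalRing Â] [IsLocalHom (algebraMap A Â)] in
theorem Psi_tmul (s : S) (z : Â) :
    Psi R S p0 A Â B (s ⊗ₜ z) = (algebraMap S B s) ⊗ₜ z := by
  have h : (IsLocalization.algebraTensorEquiv p0.primeCompl A B Â)
      ((algebraMap S B s) ⊗ₜ[A] z) = (algebraMap S B s) ⊗ₜ[R] z := rfl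
  show (IsLocalization.algebraTensorEquiv p0.primeCompl A B Â).symm
      (PsiR R S Â B (s ⊗ₜ z)) = _
  rw [AlgEquiv.symm_apply_eq, h]
  simp [PsiR]

omit [IsLocalRing A] [IsLocalRing Â] [IsLocalHom (algebraMap A Â)] in
theorem isLocalization_Psi (n : Ideal S) [n.IsPrime] [IsLocalization.AtPrime B n]
    [Algebra (S ⊗[R] Â) (B ⊗[A] Â)]
    (h : algebraMap (S ⊗[R] Â) (B ⊗[A] Â) = Psi R S p0 A Â B) :
    IsLocalization (Algebra.algebraMapSubmonoid (S ⊗[R] Â) n.primeCompl) (B ⊗[A] Â) := by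
  letI algTER : Algebra (S ⊗[R] Â) (B ⊗[R] Â) := (PsiR R S Â B).toRingHom.toAlgebra
  haveI : IsScalarTower S (S ⊗[R] Â) (B ⊗[R] Â) :=
    IsScalarTower.of_algebraMap_eq (fun s => by
      show algebraMap S (B ⊗[R] Â) s = PsiR R S Â B (algebraMap S (S ⊗[R] Â) s)
      rw [Algebra.TensorProduct.algebraMap_apply, Algebra.TensorProduct.algebraMap_apply]
      simp [PsiR])
  haveI hlocR : IsLocalization (Algebra.algebraMapSubmonoid (S ⊗[R] Â) n.primeCompl)
      (B ⊗[R] Â) :=
    IsLocalization.tensorProduct_tensorProduct R Â n.primeCompl B (RingHom.ext fun z => by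
        show PsiR R S Â B ((1 : S) ⊗ₜ z) = (1 : B) ⊗ₜ z
        simp [PsiR])
  let eT : (B ⊗[R] Â) ≃ₐ[S ⊗[R] Â] (B ⊗[A] Â) :=
    AlgEquiv.ofRingEquiv (f := (IsLocalization.algebraTensorEquiv p0.primeCompl
      A B Â).symm.toRingEquiv) (fun t => by rw [h]; rfl)
  exact IsLocalization.isLocalization_of_algEquiv _ eT

variable [Algebra B K] [IsScalarTower S B K] [IsScalarTower A B K]

omit [IsLocalRing A] [IsLocalRing Â] [IsLocalHom (algebraMap A Â)] in
theorem G_Psi (t : S ⊗[R] Â) :
    G A B Â K (Psi R S p0 A Â B t) = Phi R S A Â K t := by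
  induction t using TensorProduct.induction_on with
  | zero => simp
  | tmul s z =>
    rw [Psi_tmul, G_tmul, Phi_tmul, ← IsScalarTower.algebraMap_apply S B K]
  | add x y hx hy => rw [map_add, map_add, map_add, hx, hy]

omit [IsLocalRing A] [IsLocalRing Â] [IsLocalHom (algebraMap A Â)] in
include p0 in
/-- Step 2: the prime `n'` of `B ⊗[A] Â`. -/
theorem exists_prime_le (n : Ideal S) [n.IsPrime] [IsLocalRing B] [IsLocalization.AtPrime B n]
    (𝔓 : Ideal (K ⊗[A] Â)) [𝔓.IsPrime] (𝔑 : Ideal (S ⊗[R] Â)) [𝔑.IsPrime]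
    (h𝔑le : 𝔓.comap (Phi R S A Â K).toRingHom ≤ 𝔑)
    (hn : 𝔑.comap (algebraMap S (S ⊗[R] Â)) = n) :
    ∃ n' : Ideal (B ⊗[A] Â), n'.IsPrime ∧
      n'.comap (algebraMap B (B ⊗[A] Â)) = maximalIdeal B ∧
      𝔓.comap (G A B Â K).toRingHom ≤ n' := by
  letI algTE : Algebra (S ⊗[R] Â) (B ⊗[A] Â) := (Psi R S p0 A Â B).toAlgebra
  haveI hloc : IsLocalization (Algebra.algebraMapSubmonoid (S ⊗[R] Â) n.primeCompl)
      (B ⊗[A] Â) := isLocalization_Psi R S p0 A Â B n rfl
  have h𝔑p : 𝔑.IsPrime := inferInstance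
  have hdisj : Disjoint ((Algebra.algebraMapSubmonoid (S ⊗[R] Â) n.primeCompl :
        Submonoid (S ⊗[R] Â)) : Set (S ⊗[R] Â)) (𝔑 : Set (S ⊗[R] Â)) := by
    rw [Set.disjoint_left]
    intro y hy hmem
    obtain ⟨s, hs, rfl⟩ := Submonoid.mem_map.mp hy
    exact hs ((mem_iff_of_comap_eq hn s).mp hmem)
  have hn'p : (𝔑.map (algebraMap (S ⊗[R] Â) (B ⊗[A] Â))).IsPrime :=
    IsLocalization.isPrime_of_isPrime_disjoint
      (Algebra.algebraMapSubmonoid (S ⊗[R] Â) n.primeCompl) _ 𝔑 h𝔑p hdisj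
  have hn'c : (𝔑.map (algebraMap (S ⊗[R] Â) (B ⊗[A] Â))).comap
      (algebraMap (S ⊗[R] Â) (B ⊗[A] Â)) = 𝔑 :=
    IsLocalization.under_map_of_isPrime_disjoint
      (Algebra.algebraMapSubmonoid (S ⊗[R] Â) n.primeCompl) _ h𝔑p hdisj
  have hcomm : ∀ s : S, algebraMap B (B ⊗[A] Â) (algebraMap S B s) =
      algebraMap (S ⊗[R] Â) (B ⊗[A] Â) (algebraMap S (S ⊗[R] Â) s) := fun s => by
    show _ = Psi R S p0 A Â B (algebraMap S (S ⊗[R] Â) s)
    rw [Algebra.TensorProduct.algebraMap_apply, Algebra.TensorProduct.algebraMap_apply, Psi_tmul,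
      Algebra.algebraMap_self_apply, Algebra.algebraMap_self_apply]
  have key : ∀ s : S, algebraMap B (B ⊗[A] Â) (algebraMap S B s) ∈
      (𝔑.map (algebraMap (S ⊗[R] Â) (B ⊗[A] Â))) ↔ s ∈ n := fun s => by
    rw [hcomm s]
    exact (mem_iff_of_comap_eq hn'c _).trans (mem_iff_of_comap_eq hn s)
  refine ⟨𝔑.map (algebraMap (S ⊗[R] Â) (B ⊗[A] Â)), hn'p, ?_, ?_⟩
  · have e1 := IsLocalization.map_under n.primeCompl B
      ((𝔑.map (algebraMap (S ⊗[R] Â) (B ⊗[A] Â))).comap (algebraMap B (B ⊗[A] Â)))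
    have e2 := IsLocalization.map_under n.primeCompl B (maximalIdeal B)
    have e3 : ((𝔑.map (algebraMap (S ⊗[R] Â) (B ⊗[A] Â))).comap
        (algebraMap B (B ⊗[A] Â))).under S = (maximalIdeal B).under S := by
      rw [IsLocalization.AtPrime.under_maximalIdeal B n]
      ext s
      exact key s
    exact e1.symm.trans ((congrArg (Ideal.map (algebraMap S B)) e3).trans e2)
  · have hJ : (𝔓.comap (G A B Â K).toRingHom).under (S ⊗[R] Â) ≤ 𝔑 := by
      intro t ht
      apply h𝔑le
      rw [Ideal.mem_comap]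
      have h5 : (G A B Â K).toRingHom (Psi R S p0 A Â B t) ∈ 𝔓 := ht
      have h6 : (G A B Â K).toRingHom (Psi R S p0 A Â B t) = (Phi R S A Â K).toRingHom t :=
        G_Psi R S p0 A Â K B t
      rwa [h6] at h5
    have e1 := IsLocalization.map_under (Algebra.algebraMapSubmonoid (S ⊗[R] Â) n.primeCompl)
      (B ⊗[A] Â) (𝔓.comap (G A B Â K).toRingHom)
    exact le_of_eq_of_le e1.symm (Ideal.map_mono hJ)

end perN

end T

end Groth.Agent.Lib.Helper26.QFFormal5
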