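import Mathlib
import Groth.Prelude.Def_EGA4b
import Groth.Agent.Lib.Helper26.QFFormal5

/-!
# Formal fibres: G-ring criterion via finite free algebras

Covering theorem (regularity of `K ⊗[A] Â` from that of `K ⊗[S_n] (S_n)^`), and the induction on the
degree `[K : κ(Q)]` proving that a Noetherian ring all of whose finite free algebras have regular
formal fibres is a G-ring.  (Helper lemmas for S9274.)
-/

set_option autoImplicit false

namespace Groth.Agent.Lib.Helper26.QFFormal6

universe u

open IsLocalRing TensorProduct EGA4 Groth.Agent.Lib.Helper14.ComplFlat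
  Groth.Agent.Lib.Helper14.ComplIadic Groth.Agent.Lib.Helper14.ComplTensor
  Groth.Agent.Lib.Helper26.QFFormal5

/-- The tower `A → B → K` for `A` a localization of `R`, from the towers through `R` and `S`. -/
theorem isScalarTower_of_isLocalization (R S A B K : Type u) [CommRing R] [CommRing S] [CommRing A]
    [CommRing B] [CommRing K] [Algebra R S] [Algebra R A] [Algebra R B] [Algebra S B] [Algebra A B]
    [Algebra R K] [Algebra A K] [Algebra S K] [Algebra B K] [IsScalarTower R A B]
    [IsScalarTower R S B] [IsScalarTower R A K] [IsScalarTower R S K] [IsScalarTower S B K]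
    (M : Submonoid R) [IsLocalization M A] : IsScalarTower A B K :=
  IsScalarTower.of_algebraMap_eq' (by
    apply IsLocalization.ringHom_ext M
    ext r
    simp only [RingHom.comp_apply]
    rw [← IsScalarTower.algebraMap_apply R A K,
      ← IsScalarTower.algebraMap_apply R A B,
      IsScalarTower.algebraMap_apply R S B,
      ← IsScalarTower.algebraMap_apply S B K,
      ← IsScalarTower.algebraMap_apply R S K])

section cover

variable (R S : Type u) [CommRing R] [CommRing S] [Algebra R S] [Module.Finite R S]
  [IsNoetherianRing R] (p0 : Ideal R) [p0.IsPrime]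
  (A : Type u) [CommRing A] [Algebra R A] [IsLocalRing A] [IsLocalization.AtPrime A p0]
  (K : Type u) [Field K] [Algebra R K] [Algebra A K] [IsScalarTower R A K] [Algebra S K]
  [IsScalarTower R S K]

/-- Per-prime part of the covering theorem. -/
theorem cover_aux [IsNoetherianRing A] [IsNoetherianRing (K ⊗[A] Cpl A)]
    (𝔓 : Ideal (K ⊗[A] Cpl A)) [𝔓.IsPrime] (𝔑 : Ideal (S ⊗[R] Cpl A)) [𝔑.IsPrime]
    (h𝔑le : 𝔓.comap (Phi R S A (Cpl A) K).toRingHom ≤ 𝔑)
    (n : Ideal S) [n.IsPrime] [n.LiesOver p0]
    (hn : 𝔑.comap (algebraMap S (S ⊗[R] Cpl A)) = n)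
    (hreg : ∀ [Algebra (Localization.AtPrime n) K] [IsScalarTower S (Localization.AtPrime n) K],
      RegFib (Localization.AtPrime n) K) :
    IsRegularLocalRing (Localization.AtPrime 𝔓) := by
  haveI : IsNoetherianRing S := IsNoetherianRing.of_finite R S
  haveI hBN : IsNoetherianRing (Localization.AtPrime n) :=
    IsLocalization.isNoetherianRing n.primeCompl _ inferInstance
  -- `Algebra A B`
  have hu : ∀ y : p0.primeCompl, IsUnit (algebraMap R (Localization.AtPrime n) y) := fun y => by
    rw [IsScalarTower.algebraMap_apply R S (Localization.AtPrime n)]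
    have hy : algebraMap R S y ∈ n.primeCompl := fun hmem =>
      y.2 ((Ideal.mem_of_liesOver n p0 (y : R)).mpr hmem)
    exact IsLocalization.map_units (Localization.AtPrime n) (⟨algebraMap R S y, hy⟩ : n.primeCompl)
  letI algAB : Algebra A (Localization.AtPrime n) :=
    (IsLocalization.lift (M := p0.primeCompl) (S := A)
      (g := algebraMap R (Localization.AtPrime n)) hu).toAlgebra
  haveI tRAB : IsScalarTower R A (Localization.AtPrime n) :=
    IsScalarTower.of_algebraMap_eq (fun r => (IsLocalization.lift_eq hu r).symm)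
  -- `Algebra B K`
  have hker : ∀ s : S, algebraMap S K s = 0 → s ∈ n := by
    intro s hs
    have h0 : (Phi R S A (Cpl A) K).toRingHom (algebraMap S (S ⊗[R] Cpl A) s) = 0 := by
      rw [Algebra.TensorProduct.algebraMap_apply]
      show Phi R S A (Cpl A) K _ = 0
      rw [Phi_tmul, Algebra.algebraMap_self_apply, hs, TensorProduct.zero_tmul]
    have h2 : algebraMap S (S ⊗[R] Cpl A) s ∈ 𝔑 := by
      apply h𝔑le
      rw [Ideal.mem_comap, h0]
      exact 𝔓.zero_mem
    exact (mem_iff_of_comap_eq hn s).mp h2
  have hunits : ∀ y : n.primeCompl, IsUnit (algebraMap S K y) := fun y =>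
    isUnit_iff_ne_zero.mpr (fun h0 => y.2 (hker _ h0))
  letI algBK : Algebra (Localization.AtPrime n) K :=
    (IsLocalization.lift (M := n.primeCompl) (S := Localization.AtPrime n)
      (g := algebraMap S K) hunits).toAlgebra
  haveI tSBK : IsScalarTower S (Localization.AtPrime n) K :=
    IsScalarTower.of_algebraMap_eq (fun s => (IsLocalization.lift_eq hunits s).symm)
  haveI tABK : IsScalarTower A (Localization.AtPrime n) K :=
    isScalarTower_of_isLocalization R S A (Localization.AtPrime n) K p0.primeCompl
  -- local hom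
  haveI hlocal : IsLocalHom (algebraMap A (Localization.AtPrime n)) := by
    refine ((IsLocalRing.local_hom_TFAE (algebraMap A (Localization.AtPrime n))).out 0 4).mpr ?_
    have e1 := IsLocalization.map_under p0.primeCompl A
      ((maximalIdeal (Localization.AtPrime n)).comap (algebraMap A (Localization.AtPrime n)))
    have e2 := IsLocalization.map_under p0.primeCompl A (maximalIdeal A)
    have e3 : ((maximalIdeal (Localization.AtPrime n)).comap
        (algebraMap A (Localization.AtPrime n))).under R = (maximalIdeal A).under R := by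
      rw [IsLocalization.AtPrime.under_maximalIdeal A p0]
      ext r
      change algebraMap A (Localization.AtPrime n) (algebraMap R A r) ∈
        maximalIdeal (Localization.AtPrime n) ↔ r ∈ p0
      rw [← IsScalarTower.algebraMap_apply R A (Localization.AtPrime n),
        IsScalarTower.algebraMap_apply R S (Localization.AtPrime n),
        IsLocalization.AtPrime.to_map_mem_maximal_iff (Localization.AtPrime n) n,
        ← Ideal.mem_of_liesOver n p0]
    exact e1.symm.trans ((congrArg (Ideal.map (algebraMap R A)) e3).trans e2)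
  haveI : Algebra.EssFiniteType A (Localization.AtPrime n) := Algebra.EssFiniteType.of_comp R _ _
  haveI : Algebra.QuasiFinite A (Localization.AtPrime n) :=
    Algebra.QuasiFinite.of_restrictScalars R _ _
  obtain ⟨n', hn'p, h1, hle⟩ :=
    exists_prime_le R S p0 A (Cpl A) K (Localization.AtPrime n) n 𝔓 𝔑 h𝔑le hn
  haveI := hn'p
  exact isRegularLocalRing_atPrime_of_le A (Localization.AtPrime n) K hreg n' h1 𝔓 hle

/-- **Covering theorem.** -/
theorem regFib_of_cover [Algebra.EssFiniteType A K]
    (hreg : ∀ (n : Ideal S) [n.IsPrime] [n.LiesOver p0] [Algebra (Localization.AtPrime n) K]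
      [IsScalarTower S (Localization.AtPrime n) K], RegFib (Localization.AtPrime n) K) :
    RegFib A K := by
  haveI hAN : IsNoetherianRing A := IsLocalization.isNoetherianRing p0.primeCompl A inferInstance
  haveI hX : IsNoetherianRing (K ⊗[A] Cpl A) := isNoetherianRing_tensor_cpl A K
  unfold RegFib
  refine isRegularRing_iff.mpr fun 𝔓 h𝔓 => ?_
  haveI := h𝔓
  have h𝔔ne : 𝔓.comap (Phi R S A (Cpl A) K).toRingHom ≠ ⊤ := (Ideal.comap_isPrime _ 𝔓).ne_top
  obtain ⟨𝔑, h𝔑max, h𝔑le⟩ := Ideal.exists_le_maximal _ h𝔔ne
  haveI := h𝔑max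
  haveI h𝔑p : 𝔑.IsPrime := h𝔑max.isPrime
  haveI hnp : (𝔑.comap (algebraMap S (S ⊗[R] Cpl A))).IsPrime := Ideal.comap_isPrime _ 𝔑
  haveI hnlo : (𝔑.comap (algebraMap S (S ⊗[R] Cpl A))).LiesOver p0 :=
    ⟨(under_under_of_isMaximal R S p0 A (Cpl A) 𝔑).symm⟩
  exact cover_aux R S p0 A K 𝔓 𝔑 h𝔑le _ rfl (hreg _)

end cover

section degree

theorem algebraMap_eq_zero_iff_mem (A : Type u) [CommRing A] (Q : Ideal A) [Q.IsPrime]
    (K : Type u) [Field K] [Algebra A K] [Algebra Q.ResidueField K]
    [IsScalarTower A Q.ResidueField K] (a : A) : algebraMap A K a = 0 ↔ a ∈ Q := by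
  rw [IsScalarTower.algebraMap_apply A Q.ResidueField K, map_eq_zero,
    Ideal.algebraMap_residueField_eq_zero]

/-- Scaling an element of a finite extension of a residue field of a localization to an integral
element. -/
theorem exists_integral_multiple
    (R : Type u) [CommRing R] (p0 : Ideal R) [p0.IsPrime]
    (A : Type u) [CommRing A] [Algebra R A] [IsLocalization.AtPrime A p0]
    (Q : Ideal A) [Q.IsPrime]
    (K : Type u) [Field K] [Algebra R K] [Algebra A K] [IsScalarTower R A K]
    [Algebra Q.ResidueField K] [IsScalarTower A Q.ResidueField K] [Module.Finite Q.ResidueField K]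
    (x : K) : ∃ β : R, algebraMap R K β ≠ 0 ∧ IsIntegral R (algebraMap R K β * x) := by
  have hx : IsIntegral Q.ResidueField x := IsIntegral.of_finite Q.ResidueField x
  letI algQK : Algebra (A ⧸ Q) K :=
    ((algebraMap Q.ResidueField K).comp (algebraMap (A ⧸ Q) Q.ResidueField)).toAlgebra
  haveI t1 : IsScalarTower (A ⧸ Q) Q.ResidueField K :=
    IsScalarTower.of_algebraMap_eq (fun _ => rfl)
  haveI t2 : IsScalarTower A (A ⧸ Q) K := IsScalarTower.of_algebraMap_eq (fun a => by
    show algebraMap A K a = algebraMap Q.ResidueField K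
      (algebraMap (A ⧸ Q) Q.ResidueField (algebraMap A (A ⧸ Q) a))
    rw [← IsScalarTower.algebraMap_apply A (A ⧸ Q) Q.ResidueField,
      ← IsScalarTower.algebraMap_apply A Q.ResidueField K])
  obtain ⟨⟨m, hm⟩, hmx⟩ :=
    IsIntegral.exists_multiple_integral_of_isLocalization (nonZeroDivisors (A ⧸ Q)) x hx
  obtain ⟨a, rfl⟩ := Ideal.Quotient.mk_surjective m
  have haQ : a ∉ Q := fun h =>
    (nonZeroDivisors.ne_zero hm) (Ideal.Quotient.eq_zero_iff_mem.mpr h)
  have h3 : algebraMap (A ⧸ Q) K (Ideal.Quotient.mk Q a) = algebraMap A K a :=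
    (IsScalarTower.algebraMap_apply A (A ⧸ Q) K a).symm
  have h1 : IsIntegral (A ⧸ Q) (algebraMap A K a * x) := by
    have h0 : (⟨Ideal.Quotient.mk Q a, hm⟩ : nonZeroDivisors (A ⧸ Q)) • x =
        algebraMap A K a * x := by
      rw [Submonoid.smul_def, Algebra.smul_def]
      exact congrArg (· * x) h3
    rwa [h0] at hmx
  haveI : Algebra.IsIntegral A (A ⧸ Q) :=
    Algebra.isIntegral_of_surjective Ideal.Quotient.mk_surjective
  have h2 : IsIntegral A (algebraMap A K a * x) := isIntegral_trans _ h1
  obtain ⟨⟨m', hm'⟩, hm'x⟩ :=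
    IsIntegral.exists_multiple_integral_of_isLocalization p0.primeCompl (algebraMap A K a * x) h2
  obtain ⟨⟨r, s⟩, hrs⟩ := IsLocalization.surj p0.primeCompl a
  have hrs' : a * algebraMap R A (s : R) = algebraMap R A r := hrs
  have hm'x' : IsIntegral R (algebraMap R K m' * (algebraMap A K a * x)) := by
    have h0 : (⟨m', hm'⟩ : p0.primeCompl) • (algebraMap A K a * x) =
        algebraMap R K m' * (algebraMap A K a * x) := by
      rw [Submonoid.smul_def, Algebra.smul_def]
    rwa [h0] at hm'x
  refine ⟨m' * r, ?_, ?_⟩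
  · intro h0
    rw [IsScalarTower.algebraMap_apply R A K, algebraMap_eq_zero_iff_mem A Q K, map_mul,
      ← hrs'] at h0
    have hu1 : IsUnit (algebraMap R A m') :=
      IsLocalization.map_units A (⟨m', hm'⟩ : p0.primeCompl)
    have hu2 : IsUnit (algebraMap R A (s : R)) := IsLocalization.map_units A s
    exact haQ ((Ideal.mul_unit_mem_iff_mem Q hu2).mp ((Ideal.unit_mul_mem_iff_mem Q hu1).mp h0))
  · have e1 : algebraMap R K r = algebraMap A K a * algebraMap R K (s : R) := by
      rw [IsScalarTower.algebraMap_apply R A K r, ← hrs', map_mul,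
        ← IsScalarTower.algebraMap_apply R A K]
    have e : algebraMap R K (m' * r) * x =
        algebraMap R K (s : R) * (algebraMap R K m' * (algebraMap A K a * x)) := by
      rw [map_mul, e1]; ring
    rw [e]
    exact isIntegral_algebraMap.mul hm'x'

/-- Degree drop. -/
theorem finrank_lt_of_mem_range
    (A B : Type u) [CommRing A] [CommRing B] [Algebra A B]
    (K : Type u) [Field K] [Algebra A K] [Algebra B K] [IsScalarTower A B K]
    (Q : Ideal A) [Q.IsPrime] [Algebra Q.ResidueField K] [IsScalarTower A Q.ResidueField K]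
    [Module.Finite Q.ResidueField K]
    (𝔮 : Ideal B) [𝔮.IsPrime] [Algebra 𝔮.ResidueField K] [IsScalarTower B 𝔮.ResidueField K]
    (x : K) (hx1 : x ∉ (algebraMap Q.ResidueField K).range)
    (hx2 : x ∈ (algebraMap 𝔮.ResidueField K).range) :
    Module.Finite 𝔮.ResidueField K ∧
      Module.finrank 𝔮.ResidueField K < Module.finrank Q.ResidueField K := by
  have hQ : Q = 𝔮.comap (algebraMap A B) := by
    ext a
    rw [Ideal.mem_comap]
    have e1 : a ∈ Q ↔ algebraMap A K a = 0 := (algebraMap_eq_zero_iff_mem A Q K a).symm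
    have e2 : algebraMap A B a ∈ 𝔮 ↔ algebraMap A K a = 0 := by
      rw [IsScalarTower.algebraMap_apply A B K, algebraMap_eq_zero_iff_mem B 𝔮 K]
    exact e1.trans e2.symm
  letI algκ : Algebra Q.ResidueField 𝔮.ResidueField :=
    (Ideal.ResidueField.map Q 𝔮 (algebraMap A B) hQ).toAlgebra
  haveI tκ : IsScalarTower Q.ResidueField 𝔮.ResidueField K :=
    IsScalarTower.of_algebraMap_eq' (by
      apply Ideal.ResidueField.ringHom_ext
      ext a
      simp only [RingHom.comp_apply]
      show algebraMap Q.ResidueField K (algebraMap A Q.ResidueField a) =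
        algebraMap 𝔮.ResidueField K
          (Ideal.ResidueField.map Q 𝔮 (algebraMap A B) hQ (algebraMap A Q.ResidueField a))
      rw [Ideal.ResidueField.map_algebraMap, ← IsScalarTower.algebraMap_apply A Q.ResidueField K,
        ← IsScalarTower.algebraMap_apply B 𝔮.ResidueField K,
        ← IsScalarTower.algebraMap_apply A B K])
  haveI hf1 : Module.Finite Q.ResidueField 𝔮.ResidueField :=
    Module.Finite.left Q.ResidueField 𝔮.ResidueField K
  haveI hf2 : Module.Finite 𝔮.ResidueField K :=
    Module.Finite.right Q.ResidueField 𝔮.ResidueField K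
  refine ⟨hf2, ?_⟩
  have hmul := Module.finrank_mul_finrank Q.ResidueField 𝔮.ResidueField K
  have hpos : 0 < Module.finrank 𝔮.ResidueField K := Module.finrank_pos
  have hpos2 : 0 < Module.finrank Q.ResidueField 𝔮.ResidueField := Module.finrank_pos
  have hne1 : Module.finrank Q.ResidueField 𝔮.ResidueField ≠ 1 := by
    intro h1
    apply hx1
    obtain ⟨y, rfl⟩ := RingHom.mem_range.mp hx2
    have hbt : (⊥ : Subalgebra Q.ResidueField 𝔮.ResidueField) = ⊤ :=
      Subalgebra.bot_eq_top_of_finrank_eq_one h1
    have hy : y ∈ (⊥ : Subalgebra Q.ResidueField 𝔮.ResidueField) := hbt ▸ Algebra.mem_top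
    obtain ⟨z, rfl⟩ := Algebra.mem_bot.mp hy
    exact RingHom.mem_range.mpr
      ⟨z, IsScalarTower.algebraMap_apply Q.ResidueField 𝔮.ResidueField K z⟩
  have h2 : 2 ≤ Module.finrank Q.ResidueField 𝔮.ResidueField := by omega
  calc Module.finrank 𝔮.ResidueField K < 2 * Module.finrank 𝔮.ResidueField K := by omega
    _ ≤ Module.finrank Q.ResidueField 𝔮.ResidueField * Module.finrank 𝔮.ResidueField K :=
        Nat.mul_le_mul_right _ h2
    _ = Module.finrank Q.ResidueField K := hmul

/-- The prime `𝔮 = ker (B → K)` with the induced structure on `K`, and the degree drop. -/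
theorem exists_prime_finrank_lt
    (A B : Type u) [CommRing A] [CommRing B] [Algebra A B]
    (K : Type u) [Field K] [Algebra A K] [Algebra B K] [IsScalarTower A B K]
    (Q : Ideal A) [Q.IsPrime] [Algebra Q.ResidueField K] [IsScalarTower A Q.ResidueField K]
    [Module.Finite Q.ResidueField K]
    (x : K) (hx1 : x ∉ (algebraMap Q.ResidueField K).range)
    (b c : B) (hc : algebraMap B K c ≠ 0) (hbc : algebraMap B K b = algebraMap B K c * x) :
    ∃ (𝔮 : Ideal B) (_ : 𝔮.IsPrime) (_ : Algebra 𝔮.ResidueField K)
      (_ : IsScalarTower B 𝔮.ResidueField K) (_ : Module.Finite 𝔮.ResidueField K),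
      Module.finrank 𝔮.ResidueField K < Module.finrank Q.ResidueField K := by
  haveI h𝔮p : (RingHom.ker (algebraMap B K)).IsPrime := RingHom.ker_isPrime _
  have hunits : (RingHom.ker (algebraMap B K)).primeCompl ≤
      (IsUnit.submonoid K).comap (algebraMap B K) := fun y hy => by
    rw [Submonoid.mem_comap, IsUnit.mem_submonoid_iff, isUnit_iff_ne_zero]
    exact fun h0 => hy (RingHom.mem_ker.mpr h0)
  letI algκK : Algebra (RingHom.ker (algebraMap B K)).ResidueField K :=
    (Ideal.ResidueField.lift (RingHom.ker (algebraMap B K)) (algebraMap B K) le_rfl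
      hunits).toAlgebra
  haveI tBκK : IsScalarTower B (RingHom.ker (algebraMap B K)).ResidueField K :=
    IsScalarTower.of_algebraMap_eq (fun y =>
      (Ideal.ResidueField.lift_algebraMap (RingHom.ker (algebraMap B K)) (algebraMap B K) le_rfl
        hunits y).symm)
  have hx2 : x ∈ (algebraMap (RingHom.ker (algebraMap B K)).ResidueField K).range := by
    refine RingHom.mem_range.mpr ⟨algebraMap B _ b / algebraMap B _ c, ?_⟩
    rw [map_div₀, ← IsScalarTower.algebraMap_apply B _ K, ← IsScalarTower.algebraMap_apply B _ K,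
      hbc, mul_div_cancel_left₀ _ hc]
  obtain ⟨hfin, hlt⟩ :=
    finrank_lt_of_mem_range A B K Q (RingHom.ker (algebraMap B K)) x hx1 hx2
  exact ⟨RingHom.ker (algebraMap B K), h𝔮p, algκK, tBκK, hfin, hlt⟩

end degree

section transfer

theorem regFib_of_bijective (A : Type u) [CommRing A] [IsLocalRing A] (k K : Type u) [Field k]
    [Field K] [Algebra A k] [Algebra A K] [Algebra k K] [IsScalarTower A k K]
    (h : Function.Bijective (algebraMap k K)) (hk : RegFib A k) : RegFib A K := by
  let e0 : k ≃ₐ[A] K := AlgEquiv.ofBijective (IsScalarTower.toAlgHom A k K) h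
  haveI : IsRegularRing (k ⊗[A] Cpl A) := hk
  show IsRegularRing (K ⊗[A] Cpl A)
  exact IsRegularRing.of_ringEquiv
    (Algebra.TensorProduct.congr e0 (AlgEquiv.refl : Cpl A ≃ₐ[A] Cpl A)).toRingEquiv

theorem isRegularRing_tensor_fiber (A : Type u) [CommRing A] [IsLocalRing A] (Q : Ideal A)
    [Q.IsPrime] (K : Type u) [Field K] [Algebra A K] [Algebra Q.ResidueField K]
    [IsScalarTower A Q.ResidueField K] (h : RegFib A K) :
    IsRegularRing (K ⊗[Q.ResidueField] (Q.ResidueField ⊗[A] Cpl A)) := by
  haveI : IsRegularRing (K ⊗[A] Cpl A) := h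
  exact IsRegularRing.of_ringEquiv (Algebra.TensorProduct.cancelBaseChange A Q.ResidueField
    Q.ResidueField K (Cpl A)).symm.toRingEquiv

theorem isRegularRing_of_geomRegular (A : Type u) [CommRing A] [IsLocalRing A] (p : Ideal A)
    [p.IsPrime] (h : CAlg.IsGeometricallyRegular p.ResidueField (formalFibre A p)) :
    IsRegularRing (formalFibre A p) := by
  haveI : IsRegularRing (p.ResidueField ⊗[p.ResidueField] formalFibre A p) :=
    h p.ResidueField inferInstance
  exact IsRegularRing.of_ringEquiv (R := p.ResidueField ⊗[p.ResidueField] formalFibre A p)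
    (Algebra.TensorProduct.lid p.ResidueField (formalFibre A p)).toRingEquiv

theorem isRegularHom_cpl_of_regFib (A : Type u) [CommRing A] [IsLocalRing A] [IsNoetherianRing A]
    (h : ∀ (Q : Ideal A) [Q.IsPrime] (K : Type u) [Field K] [Algebra A K]
      [Algebra Q.ResidueField K] [IsScalarTower A Q.ResidueField K]
      [Module.Finite Q.ResidueField K], RegFib A K) : CAlg.IsRegularHom A (Cpl A) := by
  refine ⟨inferInstance, fun Q _ => ⟨?_, ?_⟩⟩
  · haveI : IsNoetherianRing (Cpl A) :=
      Groth.Agent.Lib.Helper14.ComplEtale.isNoetherianRing_completion A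
    exact Groth.Agent.Lib.Helper14.GeomReduced.isNoetherianRing_fiber A (Cpl A) Q
  · intro K _ _ hK
    haveI := hK
    letI algAK : Algebra A K :=
      ((algebraMap Q.ResidueField K).comp (algebraMap A Q.ResidueField)).toAlgebra
    haveI : IsScalarTower A Q.ResidueField K := IsScalarTower.of_algebraMap_eq (fun _ => rfl)
    exact isRegularRing_tensor_fiber A Q K (h Q K)

end transfer

section main

/-- The hypothesis of S9274: regular formal fibres for all local rings of finite free algebras. -/
def Hyp (R : Type u) [CommRing R] : Prop :=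
  ∀ (S : Type u) [CommRing S] [Algebra R S] [Module.Finite R S] [Module.Free R S]
    (q : Ideal S) [q.IsPrime] (p : Ideal (Localization.AtPrime q)) [p.IsPrime],
    IsRegularRing (EGA4.formalFibre (Localization.AtPrime q) p)

theorem hyp_of_finite_free {R : Type u} [CommRing R] (H : Hyp R) (S1 : Type u) [CommRing S1]
    [Algebra R S1] [Module.Finite R S1] [Module.Free R S1] : Hyp S1 := by
  intro S' _ _ _ _ q _ p _
  letI : Algebra R S' := ((algebraMap S1 S').comp (algebraMap R S1)).toAlgebra
  haveI : IsScalarTower R S1 S' := IsScalarTower.of_algebraMap_eq (fun _ => rfl)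
  haveI : Module.Finite R S' := Module.Finite.trans S1 S'
  haveI : Module.Free R S' := Module.Free.trans (S := S1)
  exact H S' q p

/-- **Main induction.** -/
theorem main (d : ℕ) : ∀ (R : Type u) [CommRing R] [IsNoetherianRing R], Hyp R →
    ∀ (p0 : Ideal R) [p0.IsPrime] (Q : Ideal (Localization.AtPrime p0)) [Q.IsPrime]
      (K : Type u) [Field K] [Algebra (Localization.AtPrime p0) K] [Algebra Q.ResidueField K]
      [IsScalarTower (Localization.AtPrime p0) Q.ResidueField K]
      [Module.Finite Q.ResidueField K],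
      Module.finrank Q.ResidueField K ≤ d → RegFib (Localization.AtPrime p0) K := by
  induction d using Nat.strong_induction_on with
  | _ d ih =>
  intro R _ _ H p0 _ Q _ K _ _ _ _ _ hd
  by_cases hsurj : Function.Surjective (algebraMap Q.ResidueField K)
  · have hbij : Function.Bijective (algebraMap Q.ResidueField K) :=
      ⟨(algebraMap Q.ResidueField K).injective, hsurj⟩
    have h0 : RegFib (Localization.AtPrime p0) Q.ResidueField := H R p0 Q
    exact regFib_of_bijective (Localization.AtPrime p0) Q.ResidueField K hbij h0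
  · obtain ⟨x, hx⟩ : ∃ x : K, x ∉ (algebraMap Q.ResidueField K).range := by
      by_contra hcon
      push Not at hcon
      exact hsurj (fun y => RingHom.mem_range.mp (hcon y))
    letI algRK : Algebra R K := ((algebraMap (Localization.AtPrime p0) K).comp
      (algebraMap R (Localization.AtPrime p0))).toAlgebra
    haveI tRAK : IsScalarTower R (Localization.AtPrime p0) K :=
      IsScalarTower.of_algebraMap_eq (fun _ => rfl)
    obtain ⟨β, hβ, hint⟩ := exists_integral_multiple R p0 (Localization.AtPrime p0) Q K x
    obtain ⟨f, hfm, hfx⟩ := hint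
    haveI := hfm.finite_adjoinRoot
    haveI := hfm.free_adjoinRoot
    letI algS1K : Algebra (AdjoinRoot f) K :=
      (AdjoinRoot.lift (algebraMap R K) (algebraMap R K β * x) hfx).toAlgebra
    haveI tRS1K : IsScalarTower R (AdjoinRoot f) K :=
      IsScalarTower.of_algebraMap_eq (fun r => (AdjoinRoot.lift_of hfx).symm)
    have hroot : algebraMap (AdjoinRoot f) K (AdjoinRoot.root f) = algebraMap R K β * x :=
      AdjoinRoot.lift_root hfx
    haveI : IsNoetherianRing (AdjoinRoot f) := IsNoetherianRing.of_finite R (AdjoinRoot f)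
    have H1 : Hyp (AdjoinRoot f) := hyp_of_finite_free H (AdjoinRoot f)
    haveI : Algebra.EssFiniteType (Localization.AtPrime p0) K :=
      Algebra.EssFiniteType.comp _ Q.ResidueField _
    refine regFib_of_cover R (AdjoinRoot f) p0 (Localization.AtPrime p0) K ?_
    intro n hnp hnlo algBK tSBK
    letI algAB : Algebra (Localization.AtPrime p0) (Localization.AtPrime n) :=
      Localization.AtPrime.algebraOfLiesOver p0 n
    haveI tABK : IsScalarTower (Localization.AtPrime p0) (Localization.AtPrime n) K :=
      isScalarTower_of_isLocalization R (AdjoinRoot f) (Localization.AtPrime p0)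
        (Localization.AtPrime n) K p0.primeCompl
    have hc : algebraMap (Localization.AtPrime n) K
        (algebraMap (AdjoinRoot f) (Localization.AtPrime n) (algebraMap R (AdjoinRoot f) β)) ≠ 0 := by
      rw [← IsScalarTower.algebraMap_apply (AdjoinRoot f) (Localization.AtPrime n) K,
        ← IsScalarTower.algebraMap_apply R (AdjoinRoot f) K]
      exact hβ
    have hbc : algebraMap (Localization.AtPrime n) K
        (algebraMap (AdjoinRoot f) (Localization.AtPrime n) (AdjoinRoot.root f)) =
        algebraMap (Localization.AtPrime n) K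
        (algebraMap (AdjoinRoot f) (Localization.AtPrime n) (algebraMap R (AdjoinRoot f) β)) * x := by
      rw [← IsScalarTower.algebraMap_apply (AdjoinRoot f) (Localization.AtPrime n) K,
        ← IsScalarTower.algebraMap_apply (AdjoinRoot f) (Localization.AtPrime n) K,
        ← IsScalarTower.algebraMap_apply R (AdjoinRoot f) K, hroot]
    obtain ⟨𝔮, h𝔮p, algκK, tBκK, hfin, hlt⟩ :=
      exists_prime_finrank_lt (Localization.AtPrime p0) (Localization.AtPrime n) K Q x hx _ _ hc hbc
    exact ih (Module.finrank 𝔮.ResidueField K) (lt_of_lt_of_le hlt hd) (AdjoinRoot f) H1 n 𝔮 K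
      le_rfl

end main

end Groth.Agent.Lib.Helper26.QFFormal6
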