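import Mathlib
import Groth.Prelude
import Groth.Agent.Lib.Helper3.RelAmpleLib

/-!
# G2 for S19377 (helper3): quasi-projectivity passes to `f ∣_ V` when `f ⁻¹ᵁ V ≤ U`
and `U.ι ≫ f` is quasi-projective.
-/

set_option autoImplicit false
universe u
open CategoryTheory CategoryTheory.Limits AlgebraicGeometry

namespace Groth.Agent.Lib.Helper26.QProjG2

open Groth.Agent.Lib.Helper3.RelAmpleLib

theorem isQuasiProjective_restrict_of_le {X S : Scheme.{u}} (f : X ⟶ S) (U : X.Opens)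
    (hq : RelProj.IsQuasiProjective (U.ι ≫ f)) (V : S.Opens) (hVU : f ⁻¹ᵁ V ≤ U) :
    RelProj.IsQuasiProjective (f ∣_ V) := by
  obtain ⟨hlft, hqc, L, hL⟩ := hq
  haveI := hlft
  haveI := hqc
  -- the open subscheme `(U.ι ≫ f) ⁻¹ᵁ V` of `U` is isomorphic to `f ⁻¹ᵁ V`
  have himg : U.ι ''ᵁ ((U.ι ≫ f) ⁻¹ᵁ V) = f ⁻¹ᵁ V := by
    rw [Scheme.Hom.comp_preimage, Scheme.Hom.image_preimage_eq_opensRange_inf,
      Scheme.Opens.opensRange_ι]
    exact inf_eq_right.mpr hVU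
  have hrange : Set.range (((U.ι ≫ f) ⁻¹ᵁ V).ι ≫ U.ι) = Set.range (f ⁻¹ᵁ V).ι := by
    have h1 : (((U.ι ≫ f) ⁻¹ᵁ V).ι ≫ U.ι).opensRange = (f ⁻¹ᵁ V).ι.opensRange := by
      rw [Scheme.Hom.opensRange_comp, Scheme.Opens.opensRange_ι, Scheme.Opens.opensRange_ι, himg]
    exact congrArg (fun O : X.Opens => (O : Set X)) h1
  let e : ((U.ι ≫ f) ⁻¹ᵁ V).toScheme ≅ (f ⁻¹ᵁ V).toScheme :=
    IsOpenImmersion.isoOfRangeEq (((U.ι ≫ f) ⁻¹ᵁ V).ι ≫ U.ι) (f ⁻¹ᵁ V).ι hrange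
  have he : e.hom ≫ (f ⁻¹ᵁ V).ι = ((U.ι ≫ f) ⁻¹ᵁ V).ι ≫ U.ι :=
    IsOpenImmersion.isoOfRangeEq_hom_fac _ _ hrange
  have hfac : e.hom ≫ (f ∣_ V) = (U.ι ≫ f) ∣_ V := by
    rw [← cancel_mono V.ι, Category.assoc, morphismRestrict_ι, ← Category.assoc, he,
      morphismRestrict_ι, Category.assoc]
  have hfV : f ∣_ V = e.inv ≫ ((U.ι ≫ f) ∣_ V) := by
    rw [← hfac, Iso.inv_hom_id_assoc]
  refine ⟨?_, ?_, ?_⟩
  · rw [hfV]; infer_instance
  · rw [hfV]; infer_instance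
  · -- the ample module
    have hj : X.homOfLE hVU ≫ U.ι = (f ⁻¹ᵁ V).ι := X.homOfLE_ι hVU
    refine ⟨L.restrict (X.homOfLE hVU), ?_, fun W' => ?_⟩
    · rw [hfV]; infer_instance
    · rw [isAmple_restrict_restrict_iff]
      have hW : IsAffineOpen (V.ι ''ᵁ W'.1) := W'.2.image_of_isOpenImmersion V.ι
      have hA := hL.2 ⟨V.ι ''ᵁ W'.1, hW⟩
      refine isAmple_restrict_of_opensRange_eq _ _ ?_ L hA
      -- compare the two opens of `U` after pushing forward to `X`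
      rw [Scheme.Hom.opensRange_comp, Scheme.Opens.opensRange_ι, Scheme.Opens.opensRange_ι]
      apply (Scheme.Hom.image_injective U.ι)
      show U.ι ''ᵁ (X.homOfLE hVU ''ᵁ ((f ∣_ V) ⁻¹ᵁ W'.1)) =
        U.ι ''ᵁ ((U.ι ≫ f) ⁻¹ᵁ (V.ι ''ᵁ W'.1))
      have key : (X.homOfLE hVU ≫ U.ι) ''ᵁ ((f ∣_ V) ⁻¹ᵁ W'.1) =
          (f ⁻¹ᵁ V).ι ''ᵁ ((f ∣_ V) ⁻¹ᵁ W'.1) := by
        apply SetLike.coe_injective
        rw [Scheme.Hom.coe_image, Scheme.Hom.coe_image, hj]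
      rw [← Scheme.Hom.comp_image, key, image_morphismRestrict_preimage,
        Scheme.Hom.comp_preimage, Scheme.Hom.image_preimage_eq_opensRange_inf,
        Scheme.Opens.opensRange_ι]
      refine (inf_eq_right.mpr ?_).symm
      refine le_trans ?_ hVU
      intro x hx
      exact (V.ι.image_le_opensRange W'.1 |>.trans (le_of_eq V.opensRange_ι)) hx
  
end Groth.Agent.Lib.Helper26.QProjG2
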