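import Mathlib
import Groth.Prelude.Def_W4c2filtblowupsingRees

/-!
# Integral closedness of Rees algebras of valuation filtrations (helper26)

* `scale`: the ring map `A[X] → A[X][t]`, `X ↦ tX`;
* `isIntegral_monomial_coeff`: if `z ∈ A[X]` is integral over the Rees algebra `R` of a filtration, so
  is every homogeneous component `z_k X^k` (graded integral closure, via `IsIntegral.coeff`);
* `exists_monic_relation`: a monomial `a X^k` integral over `R` gives an equation
  `a^n + b_{n-1} a^{n-1} + ⋯ + b_0 = 0` with `b_j ∈ F^{k(n-j)}`;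
* `val_step`: the valuation estimate;
* `isIntegrallyClosed_rees_of_valuations`.
-/

set_option autoImplicit false
set_option linter.unusedSectionVars false
set_option linter.unusedVariables false

open Polynomial

universe u

namespace Groth.Agent.Lib.Helper26.ReesIC

open FiltBl

attribute [local instance] Polynomial.algebra

variable {A : Type u} [CommRing A]

/-- the "scaling" ring hom `X ↦ tX` -/
noncomputable def scale (A : Type u) [CommRing A] : A[X] →+* A[X][X] :=
  Polynomial.eval₂RingHom ((C : A[X] →+* A[X][X]).comp (C : A →+* A[X])) (C X * X)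

theorem scale_coeff (f : A[X]) (k : ℕ) : (scale A f).coeff k = monomial k (f.coeff k) := by
  induction f using Polynomial.induction_on' with
  | add p q hp hq => rw [map_add, coeff_add, hp, hq, coeff_add, map_add]
  | monomial n a =>
    have h1 : scale A (monomial n a) = C (C a * X ^ n) * X ^ n := by
      unfold scale
      rw [coe_eval₂RingHom, eval₂_monomial, RingHom.comp_apply, mul_pow, ← C_pow, ← mul_assoc,
        ← C_mul]
    rw [h1, coeff_C_mul_X_pow, coeff_monomial]
    by_cases h : k = n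
    · subst h; rw [if_pos rfl, if_pos rfl, C_mul_X_pow_eq_monomial]
    · rw [if_neg h, if_neg (Ne.symm h), map_zero]

variable (𝓕 : IdealFiltration A)

theorem monomial_mem (n : ℕ) {c : A} (hc : c ∈ 𝓕.F n) : monomial n c ∈ 𝓕.rees := by
  intro m
  rw [coeff_monomial]
  split_ifs with h
  · subst h; exact hc
  · exact zero_mem _

theorem coeff_mem (f : 𝓕.rees) (n : ℕ) : (f : A[X]).coeff n ∈ 𝓕.F n := f.2 n

theorem exists_lift (f : 𝓕.rees) :
    ∃ g : (↥𝓕.rees)[X], g.map (algebraMap ↥𝓕.rees A[X]) = scale A (f : A[X]) := by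
  rw [← mem_lifts, lifts_iff_coeff_lifts]
  intro n
  rw [scale_coeff]
  exact ⟨⟨monomial n ((f : A[X]).coeff n), monomial_mem 𝓕 n (coeff_mem 𝓕 f n)⟩, rfl⟩

/-- the lift of `scale` to the Rees algebra -/
noncomputable def scaleFun (f : 𝓕.rees) : (↥𝓕.rees)[X] := Classical.choose (exists_lift 𝓕 f)

theorem scaleFun_spec (f : 𝓕.rees) :
    (scaleFun 𝓕 f).map (algebraMap ↥𝓕.rees A[X]) = scale A (f : A[X]) :=
  Classical.choose_spec (exists_lift 𝓕 f)

theorem map_inj : Function.Injective (Polynomial.map (algebraMap ↥𝓕.rees A[X])) :=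
  Polynomial.map_injective _ Subtype.val_injective

noncomputable def scaleR : ↥𝓕.rees →+* (↥𝓕.rees)[X] where
  toFun := scaleFun 𝓕
  map_one' := by
    apply map_inj 𝓕
    rw [scaleFun_spec, Polynomial.map_one, OneMemClass.coe_one, map_one]
  map_mul' f g := by
    apply map_inj 𝓕
    rw [scaleFun_spec, Polynomial.map_mul, scaleFun_spec, scaleFun_spec, MulMemClass.coe_mul,
      map_mul]
  map_zero' := by
    apply map_inj 𝓕
    rw [scaleFun_spec, Polynomial.map_zero, ZeroMemClass.coe_zero, map_zero]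
  map_add' f g := by
    apply map_inj 𝓕
    rw [scaleFun_spec, Polynomial.map_add, scaleFun_spec, scaleFun_spec, AddMemClass.coe_add,
      map_add]

theorem scaleR_comp :
    (algebraMap (↥𝓕.rees)[X] A[X][X]).comp (scaleR 𝓕) = (scale A).comp (algebraMap ↥𝓕.rees A[X]) := by
  ext1 f
  rw [RingHom.comp_apply, RingHom.comp_apply, Polynomial.algebraMap_def]
  exact scaleFun_spec 𝓕 f

/-- Homogeneous components of an element integral over the Rees algebra are integral. -/
theorem isIntegral_monomial_coeff {z : A[X]} (hz : IsIntegral ↥𝓕.rees z) (k : ℕ) :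
    IsIntegral ↥𝓕.rees (monomial k (z.coeff k)) := by
  have h1 : IsIntegral (↥𝓕.rees)[X] (scale A z) :=
    hz.map_of_comp_eq (scaleR 𝓕) (scale A) (scaleR_comp 𝓕)
  have h2 := IsIntegral.coeff h1 k
  rwa [scale_coeff] at h2

/-- A monomial `a X^k` integral over the Rees algebra satisfies a homogeneous equation. -/
theorem exists_monic_relation {a : A} {k : ℕ} (h : IsIntegral ↥𝓕.rees (monomial k a)) :
    ∃ (n : ℕ) (b : ℕ → A), (∀ j, b j ∈ 𝓕.F (k * (n - j))) ∧
      a ^ n = - ∑ j ∈ Finset.range n, b j * a ^ j := by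
  obtain ⟨P, hmonic, hP⟩ := h
  set n := P.natDegree with hn
  refine ⟨n, fun j => ((P.coeff j : ↥𝓕.rees) : A[X]).coeff (k * (n - j)),
    fun j => coeff_mem 𝓕 (P.coeff j) _, ?_⟩
  rw [eval₂_eq_sum_range] at hP
  have h2 := congrArg (fun g : A[X] => g.coeff (k * n)) hP
  simp only [coeff_zero, finset_sum_coeff] at h2
  have hterm : ∀ j ∈ Finset.range (n + 1),
      ((algebraMap ↥𝓕.rees A[X]) (P.coeff j) * (monomial k a) ^ j).coeff (k * n) =
        ((P.coeff j : ↥𝓕.rees) : A[X]).coeff (k * (n - j)) * a ^ j := by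
    intro j hj
    have hjn : j ≤ n := Nat.lt_succ_iff.mp (Finset.mem_range.mp hj)
    have e : k * n = k * (n - j) + k * j := by
      rw [← Nat.mul_add, Nat.sub_add_cancel hjn]
    rw [monomial_pow, e, coeff_mul_monomial]
    rfl
  rw [Finset.sum_congr rfl hterm, Finset.sum_range_succ] at h2
  have hlead : ((P.coeff n : ↥𝓕.rees) : A[X]).coeff (k * (n - n)) = 1 := by
    rw [hn, hmonic.coeff_natDegree, Nat.sub_self, Nat.mul_zero, OneMemClass.coe_one, coeff_one_zero]
  rw [hlead, one_mul] at h2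
  exact eq_neg_of_add_eq_zero_right h2

section val

variable {K : Type u} [Field K]

theorem natCast_ne_zero' {Q : ℕ} (hQ : 0 < Q) : (Q : WithTop ℤ) ≠ 0 := by
  rw [← WithTop.coe_natCast, Ne, WithTop.coe_eq_zero]
  exact_mod_cast hQ.ne'

theorem natCast_mul_coe (Q : ℕ) (m : ℤ) :
    (Q : WithTop ℤ) * (m : WithTop ℤ) = (((Q : ℤ) * m : ℤ) : WithTop ℤ) := by
  rw [WithTop.coe_mul, WithTop.coe_natCast]

/-- The valuation estimate: from `x^n = -∑_{j<n} β_j x^j` with `Q v(β_j) ≥ k (n-j) P` get
`Q v(x) ≥ k P`. -/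
theorem val_step (v : AddValuation K (WithTop ℤ)) (P Q k n : ℕ) (hQ : 0 < Q)
    (x : K) (β : ℕ → K)
    (hβ : ∀ j < n, ((k * (n - j) * P : ℕ) : WithTop ℤ) ≤ (Q : WithTop ℤ) * v (β j))
    (hx : x ^ n = - ∑ j ∈ Finset.range n, β j * x ^ j) :
    ((k * P : ℕ) : WithTop ℤ) ≤ (Q : WithTop ℤ) * v x := by
  by_contra hcon
  rw [not_le] at hcon
  have hne : v x ≠ ⊤ := by
    intro h
    rw [h, WithTop.mul_top (natCast_ne_zero' hQ)] at hcon
    exact not_top_lt hcon
  obtain ⟨m, hm⟩ := WithTop.ne_top_iff_exists.mp hne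
  rw [← hm, natCast_mul_coe, ← WithTop.coe_natCast, WithTop.coe_lt_coe] at hcon
  have hterms : ∀ j ∈ Finset.range n, (((n : ℤ) * m : ℤ) : WithTop ℤ) < v (β j * x ^ j) := by
    intro j hj
    have hjn : j < n := Finset.mem_range.mp hj
    rw [AddValuation.map_mul, AddValuation.map_pow, ← hm, ← WithTop.coe_nsmul]
    rcases eq_or_ne (v (β j)) ⊤ with htop | hfin
    · rw [htop, WithTop.top_add]; exact WithTop.coe_lt_top _
    · obtain ⟨mj, hmj⟩ := WithTop.ne_top_iff_exists.mp hfin
      have hb := hβ j hjn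
      rw [← hmj, natCast_mul_coe, ← WithTop.coe_natCast, WithTop.coe_le_coe] at hb
      rw [← hmj, ← WithTop.coe_add, WithTop.coe_lt_coe, nsmul_eq_mul]
      obtain ⟨d, hd⟩ : ∃ d : ℕ, n = d + 1 + j := ⟨n - j - 1, by omega⟩
      have hd' : n - j = d + 1 := by omega
      rw [hd'] at hb
      push_cast at hb hcon ⊢
      rw [hd]
      push_cast
      have hQ' : (0 : ℤ) < Q := by exact_mod_cast hQ
      have h3 : ((d : ℤ) + 1) * ((Q : ℤ) * m) < ((d : ℤ) + 1) * ((k : ℤ) * P) :=
        mul_lt_mul_of_pos_left hcon (by positivity)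
      have h4 : (Q : ℤ) * (((d : ℤ) + 1) * m) < (Q : ℤ) * mj := by nlinarith
      have h5 : ((d : ℤ) + 1) * m < mj := lt_of_mul_lt_mul_left h4 hQ'.le
      nlinarith
  have h6 : (((n : ℤ) * m : ℤ) : WithTop ℤ) < v (∑ j ∈ Finset.range n, β j * x ^ j) :=
    AddValuation.map_lt_sum v (WithTop.coe_ne_top) hterms
  rw [← AddValuation.map_neg, ← hx, AddValuation.map_pow, ← hm, ← WithTop.coe_nsmul,
    nsmul_eq_mul] at h6
  exact lt_irrefl _ h6

end val

/-- The Rees algebra of a filtration cut out by finitely many (in fact any family of) ℤ-valued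
valuations with positive rational weights is integrally closed, when `A` is. -/
theorem isIntegrallyClosed_rees_of_valuations (A K : Type u) [CommRing A] [IsDomain A]
    [IsIntegrallyClosed A] [Field K] [Algebra A K]
    (ι : Type) (v : ι → AddValuation K (WithTop ℤ))
    (p q : ι → ℕ) (hq : ∀ i, 0 < q i) (𝓕 : FiltBl.IdealFiltration A)
    (hF : ∀ (k : ℕ) (x : A), x ∈ 𝓕.F k ↔
      ∀ i, ((k * p i : ℕ) : WithTop ℤ) ≤ (q i : WithTop ℤ) * v i (algebraMap A K x)) :
    IsIntegrallyClosed 𝓕.rees := by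
  haveI : FaithfulSMul ↥𝓕.rees A[X] :=
    (faithfulSMul_iff_algebraMap_injective _ _).mpr Subtype.val_injective
  haveI : IsIntegrallyClosedIn ↥𝓕.rees A[X] := by
    rw [isIntegrallyClosedIn_iff]
    refine ⟨Subtype.val_injective, fun {z} hz => ?_⟩
    have hmem : z ∈ 𝓕.rees := by
      intro k
      obtain ⟨n, b, hb, hrel⟩ := exists_monic_relation 𝓕 (isIntegral_monomial_coeff 𝓕 hz k)
      rw [hF]
      intro i
      refine val_step (v i) (p i) (q i) k n (hq i) (algebraMap A K (z.coeff k))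
        (fun j => algebraMap A K (b j)) (fun j _ => ((hF _ _).mp (hb j)) i) ?_
      have := congrArg (algebraMap A K) hrel
      rw [map_pow, map_neg, map_sum] at this
      rw [this]
      congr 1
      exact Finset.sum_congr rfl fun j _ => by rw [map_mul, map_pow]
    exact ⟨⟨z, hmem⟩, rfl⟩
  exact IsIntegrallyClosed.of_isIntegrallyClosed_of_isIntegrallyClosedIn ↥𝓕.rees A[X]

end Groth.Agent.Lib.Helper26.ReesIC
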