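import Mathlib
import Groth.Prelude.Def_RefHull
import Groth.Agent.Lib.Helper17.AffGlue
import Groth.Agent.Lib.Helper3.QCSec
import Groth.Agent.Lib.Helper3.QcohStalk

/-!
# Sections of the sheaf Hom as maps of sections (helper26)

For a section `s` of `𝓗om(F, G)` over `U`, an open `V ≤ U` and a section `m` of `F` over `V`,
`ev s hVU m` is the section of `G` over `V` whose germs are `s_y (m_y)`.  Over an affine open `U`
(and for quasi-coherent `F`) sections of `𝓗om(F, G)` over `U` are the same as `Γ(X, U)`-linear maps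
`Γ(F, U) → Γ(G, U)`.
-/

set_option autoImplicit false
set_option linter.style.haveILetI false
set_option linter.unusedSectionVars false
universe u
open CategoryTheory CategoryTheory.Limits AlgebraicGeometry TopologicalSpace Opposite

namespace Groth.Agent.Lib.Helper26.RefSh

open Groth.Agent.Lib.Helper3 Groth.Agent.Lib.Helper3.QCSec Groth.Agent.Lib.Helper17

variable {X : Scheme.{u}} {F G : X.Modules}

theorem existsUnique_ev {U : X.Opens} (s : Γ(RefHull.homSh F G, U)) {V : X.Opens} (hVU : V ≤ U)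
    (m : Γ(F, V)) :
    ∃! n : Γ(G, V), ∀ (y : X) (hy : y ∈ V),
      G.presheaf.germ V y hy n = s.1 ⟨y, hVU hy⟩ (F.presheaf.germ V y hy m) := by
  have hs := RefHull.isLocSect_of_mem s
  choose W hxW j n hn using fun x : V => hs V (homOfLE hVU) m x
  let Gs : TopCat.Sheaf AddCommGrpCat.{u} X := ⟨G.presheaf, G.isSheaf⟩
  have hcompat : TopCat.Presheaf.IsCompatible Gs.1 W n := by
    intro i k
    refine TopCat.Presheaf.section_ext Gs _ _ _ fun y hy => ?_
    rw [TopCat.Presheaf.germ_res_apply, TopCat.Presheaf.germ_res_apply]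
    exact ((hn i ⟨y, hy.1⟩).symm.trans (hn k ⟨y, hy.2⟩))
  have hcover : V ≤ iSup W := fun x hx => Opens.mem_iSup.2 ⟨⟨x, hx⟩, hxW ⟨x, hx⟩⟩
  obtain ⟨t, ht, htu⟩ := TopCat.Sheaf.existsUnique_gluing' Gs W V (fun i => j i)
    hcover n hcompat
  refine ⟨t, fun y hy => ?_, fun t' ht' => ?_⟩
  · have h1 := ht ⟨y, hy⟩
    have h2 := hn ⟨y, hy⟩ ⟨y, hxW ⟨y, hy⟩⟩
    refine Eq.trans ?_ h2.symm
    rw [← h1]
    exact (TopCat.Presheaf.germ_res_apply Gs.1 (j ⟨y, hy⟩) y (hxW ⟨y, hy⟩) t).symm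
  · apply htu
    intro i
    refine TopCat.Presheaf.section_ext Gs _ _ _ fun y hy => ?_
    rw [TopCat.Presheaf.germ_res_apply]
    exact (ht' y ((j i).le hy)).trans (hn i ⟨y, hy⟩)

/-- The value of a section of the sheaf Hom on a section of `F`. -/
noncomputable def ev {U : X.Opens} (s : Γ(RefHull.homSh F G, U)) {V : X.Opens} (hVU : V ≤ U)
    (m : Γ(F, V)) : Γ(G, V) :=
  (existsUnique_ev s hVU m).choose

theorem germ_ev {U : X.Opens} (s : Γ(RefHull.homSh F G, U)) {V : X.Opens} (hVU : V ≤ U)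
    (m : Γ(F, V)) (y : X) (hy : y ∈ V) :
    G.presheaf.germ V y hy (ev s hVU m) = s.1 ⟨y, hVU hy⟩ (F.presheaf.germ V y hy m) :=
  (existsUnique_ev s hVU m).choose_spec.1 y hy

theorem eq_ev {U : X.Opens} (s : Γ(RefHull.homSh F G, U)) {V : X.Opens} (hVU : V ≤ U)
    (m : Γ(F, V)) (n : Γ(G, V))
    (h : ∀ (y : X) (hy : y ∈ V),
      G.presheaf.germ V y hy n = s.1 ⟨y, hVU hy⟩ (F.presheaf.germ V y hy m)) :
    n = ev s hVU m :=
  (existsUnique_ev s hVU m).choose_spec.2 n h

theorem ev_add {U : X.Opens} (s : Γ(RefHull.homSh F G, U)) {V : X.Opens} (hVU : V ≤ U)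
    (m m' : Γ(F, V)) : ev s hVU (m + m') = ev s hVU m + ev s hVU m' := by
  symm
  apply eq_ev
  intro y hy
  rw [map_add, map_add, map_add, germ_ev, germ_ev]

theorem ev_smul {U : X.Opens} (s : Γ(RefHull.homSh F G, U)) {V : X.Opens} (hVU : V ≤ U)
    (r : Γ(X, V)) (m : Γ(F, V)) : ev s hVU (r • m) = r • ev s hVU m := by
  symm
  apply eq_ev
  intro y hy
  rw [Mero.germ_smul, Mero.germ_smul, germ_ev, map_smul]

theorem ev_zero_left {U V : X.Opens} (hVU : V ≤ U) (m : Γ(F, V)) :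
    ev (0 : Γ(RefHull.homSh F G, U)) hVU m = 0 := by
  symm
  apply eq_ev
  intro y hy
  rw [map_zero]
  rfl

theorem ev_add_left {U : X.Opens} (s s' : Γ(RefHull.homSh F G, U)) {V : X.Opens} (hVU : V ≤ U)
    (m : Γ(F, V)) : ev (s + s') hVU m = ev s hVU m + ev s' hVU m := by
  symm
  apply eq_ev
  intro y hy
  rw [map_add, germ_ev, germ_ev]
  rfl

theorem ev_smul_left {U : X.Opens} (r : Γ(X, U)) (s : Γ(RefHull.homSh F G, U)) {V : X.Opens}
    (hVU : V ≤ U) (m : Γ(F, V)) : ev (r • s) hVU m = rres X hVU r • ev s hVU m := by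
  symm
  apply eq_ev
  intro y hy
  have e : X.presheaf.germ V y hy (rres X hVU r) = X.presheaf.germ U y (hVU hy) r :=
    TopCat.Presheaf.germ_res_apply X.presheaf (homOfLE hVU) y hy r
  rw [Mero.germ_smul, germ_ev, e]
  rfl

theorem res_ev {U : X.Opens} (s : Γ(RefHull.homSh F G, U)) {V V' : X.Opens} (hVU : V ≤ U)
    (hV'V : V' ≤ V) (m : Γ(F, V)) :
    res G hV'V (ev s hVU m) = ev s (hV'V.trans hVU) (res F hV'V m) := by
  apply eq_ev
  intro y hy
  have h1 : G.presheaf.germ V' y hy (res G hV'V (ev s hVU m)) =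
      G.presheaf.germ V y (hV'V hy) (ev s hVU m) :=
    TopCat.Presheaf.germ_res_apply G.presheaf (homOfLE hV'V) y hy _
  have h2 : F.presheaf.germ V' y hy (res F hV'V m) = F.presheaf.germ V y (hV'V hy) m :=
    TopCat.Presheaf.germ_res_apply F.presheaf (homOfLE hV'V) y hy m
  rw [h1, h2, germ_ev]

theorem ev_res_left {U U' : X.Opens} (hU'U : U' ≤ U) (s : Γ(RefHull.homSh F G, U)) {V : X.Opens}
    (hVU' : V ≤ U') (m : Γ(F, V)) :
    ev (res (RefHull.homSh F G) hU'U s) hVU' m = ev s (hVU'.trans hU'U) m := by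
  apply eq_ev
  intro y hy
  rw [germ_ev]
  rfl

/-- Sections of the sheaf Hom over (an open inside) an affine open are determined by their values
on the sections of `F` over the affine open. -/
theorem ext_of_ev {U : X.Opens} (hU : IsAffineOpen U) [F.IsQuasicoherent] {W : X.Opens}
    (hWU : W ≤ U) (s s' : Γ(RefHull.homSh F G, W))
    (h : ∀ m : Γ(F, U), ev s le_rfl (res F hWU m) = ev s' le_rfl (res F hWU m)) : s = s' := by
  refine Subtype.ext (funext fun x => ?_)
  refine AffGlue.stalkHom_ext F G hU x.1 (hWU x.2) _ _ fun m => ?_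
  have e : F.presheaf.germ U x.1 (hWU x.2) m = F.presheaf.germ W x.1 x.2 (res F hWU m) :=
    (TopCat.Presheaf.germ_res_apply F.presheaf (homOfLE hWU) x.1 x.2 m).symm
  rw [e]
  have h1 := germ_ev s le_rfl (res F hWU m) x.1 x.2
  have h2 := germ_ev s' le_rfl (res F hWU m) x.1 x.2
  exact h1.symm.trans ((congrArg _ (h m)).trans h2)

theorem ext_of_ev_self {U : X.Opens} (hU : IsAffineOpen U) [F.IsQuasicoherent]
    (s s' : Γ(RefHull.homSh F G, U))
    (h : ∀ m : Γ(F, U), ev s le_rfl m = ev s' le_rfl m) : s = s' := by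
  refine ext_of_ev hU le_rfl s s' fun m => ?_
  rw [res_self]
  exact h m

/-- Over an affine open, every linear map of sections comes from a section of the sheaf Hom. -/
theorem exists_ofLin {U : X.Opens} (hU : IsAffineOpen U) [F.IsQuasicoherent]
    (ψ : Γ(F, U) →ₗ[Γ(X, U)] Γ(G, U)) :
    ∃ s : Γ(RefHull.homSh F G, U), ∀ m : Γ(F, U), ev s le_rfl m = ψ m := by
  classical
  choose fam0 hfam0 using fun y : U => AffGlue.exists_stalkHom F G hU ψ y.1 y.2
  let fam : ∀ y : X, GermHom.SH F G y := fun y => if h : y ∈ U then fam0 ⟨y, h⟩ else 0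
  have hfam : ∀ (y : X) (hy : y ∈ U) (m : Γ(F, U)),
      fam y (F.presheaf.germ U y hy m) = G.presheaf.germ U y hy (ψ m) := by
    intro y hy m
    have e : fam y = fam0 ⟨y, hy⟩ := dif_pos hy
    rw [e]
    exact hfam0 ⟨y, hy⟩ m
  have hloc : RefHull.IsLocSect F G (fun x : U => fam x.1) := by
    intro V i m x
    obtain ⟨W, hxW, hWV, n, hn⟩ :=
      AffGlue.exists_local_section F G hU ψ fam hfam V i.le m x.1 x.2
    exact ⟨W, hxW, homOfLE hWV, n, fun y => hn y.1 y.2⟩
  refine ⟨⟨fun x => fam x.1, hloc⟩, fun m => ?_⟩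
  symm
  apply eq_ev
  intro y hy
  exact (hfam y hy m).symm

/-- `ev` over the open itself, as a linear map. -/
noncomputable def evLin {U : X.Opens} (s : Γ(RefHull.homSh F G, U)) :
    Γ(F, U) →ₗ[Γ(X, U)] Γ(G, U) where
  toFun := ev s le_rfl
  map_add' := ev_add s le_rfl
  map_smul' := ev_smul s le_rfl

theorem evLin_apply {U : X.Opens} (s : Γ(RefHull.homSh F G, U)) (m : Γ(F, U)) :
    evLin s m = ev s le_rfl m := rfl

end Groth.Agent.Lib.Helper26.RefSh
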