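import Groth.Agent.Lib.Helper26.RefShE
import Groth.Agent.Lib.Helper4.SerreNormal
import Groth.Agent.Lib.Helper3.LocFreeCrit
import Groth.Agent.Lib.Helper17.LocConstRank

/-!
# Reflexive coherent modules on normal schemes (helper26)
-/

set_option autoImplicit false
set_option linter.style.haveILetI false
set_option linter.unusedSectionVars false
universe u
open CategoryTheory CategoryTheory.Limits AlgebraicGeometry TopologicalSpace Opposite

namespace Groth.Agent.Lib.Helper26.RefSh

open Groth.Agent.Lib.Helper3 Groth.Agent.Lib.Helper3.QCSec Groth.Agent.Lib.Helper17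
open Groth.Agent.Lib.Helper3.FreeBasis

section algebra

open IsLocalRing

/-- A finite torsion-free module over a normal Noetherian local domain of dimension at most one is
free. -/
theorem free_of_torsionFree_normal_dim_le_one (R : Type u) [CommRing R] [IsDomain R]
    [IsNoetherianRing R] [IsLocalRing R] [IsIntegrallyClosed R]
    (hdim : ¬ (2 : WithBot ℕ∞) ≤ ringKrullDim R) (M : Type u)
    [AddCommGroup M] [Module R M] [Module.Finite R M] [Module.IsTorsionFree R M] :
    Module.Free R M := by
  obtain ⟨d, hd⟩ := Groth.Agent.Lib.Helper26.SerreReg.exists_nat_ringKrullDim R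
  have hd1 : ringKrullDim R ≤ 1 := by
    rw [hd]
    have : d ≤ 1 := by
      by_contra h
      apply hdim
      rw [hd]
      have : 2 ≤ d := by omega
      exact_mod_cast this
    exact_mod_cast this
  haveI := Groth.Agent.Lib.Helper4.SerreNormal.isRegularLocalRing_of_normal_of_dim_le_one R hd1
  exact free_of_torsionFree_regular_dim_le_one R hdim M

theorem two_le_depth_of_normal (R : Type u) [CommRing R] [IsDomain R]
    [IsNoetherianRing R] [IsLocalRing R] [IsIntegrallyClosed R]
    (h : (2 : WithBot ℕ∞) ≤ ringKrullDim R) : (2 : ℕ∞) ≤ LocCoh.depth R R := by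
  have hht : ((maximalIdeal R).height : WithBot ℕ∞) = ringKrullDim R :=
    IsLocalRing.maximalIdeal_height_eq_ringKrullDim
  rw [← hht] at h
  have h2 : (2 : ℕ∞) ≤ (maximalIdeal R).height :=
    WithBot.coe_le_coe.mp
      (show ((2 : ℕ∞) : WithBot ℕ∞) ≤ ((maximalIdeal R).height : WithBot ℕ∞) from h)
  have h3 := Groth.Agent.Lib.Helper4.SerreNormal.min_two_le_depth_of_normal R
  have h4 : min ((2 : ℕ) : ℕ∞) (maximalIdeal R).height = 2 := by
    rw [min_eq_left]
    · rfl
    · exact_mod_cast h2
  rw [h4] at h3
  exact h3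

end algebra

variable {X : Scheme.{u}}

theorem exists_isBasis_of_free_stalk (F : X.Modules) [F.IsQuasicoherent]
    [SheafOfModules.IsFinitePresentation (R := X.ringCatSheaf) F] (x : X)
    (h : Module.Free (X.presheaf.stalk x) (F.presheaf.stalk x)) :
    ∃ (W : X.Opens) (n : ℕ) (e : Fin n → Γ(F, W)), x ∈ W ∧ IsBasis F W e := by
  obtain ⟨U, hU, hxU⟩ := QCProps.exists_affine_nbhd x
  haveI := QCProps.finitePresentation_sections F hU
  have h1 := (LocFreeCrit.free_stalk_iff_mem_freeLocus F hU x hxU).mp h
  obtain ⟨g, r, e, hxg, he⟩ := LocFreeCrit.exists_isBasis_of_mem_freeLocus F hU x hxU h1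
  exact ⟨X.basicOpen g, r, e, hxg, he⟩

/-- the open set of points near which `F` is free of finite rank. -/
def freeOpen (F : X.Modules) : X.Opens where
  carrier := {x | ∃ (U : X.Opens) (n : ℕ) (e : Fin n → Γ(F, U)), x ∈ U ∧ IsBasis F U e}
  is_open' := by
    rw [isOpen_iff_forall_mem_open]
    rintro x ⟨U, n, e, hxU, he⟩
    exact ⟨U, fun z hz => ⟨U, n, e, hz, he⟩, U.2, hxU⟩

theorem isFinLocFree_restrict_freeOpen (F : X.Modules) :
    FlatMod.IsFinLocFree (F.restrict (freeOpen F).ι) := by
  rw [LocFreeCrit.isFinLocFree_restrict_iff]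
  rintro x ⟨U, n, e, hxU, he⟩
  exact ⟨U, n, e, hxU, fun z hz => ⟨U, n, e, hz, he⟩, he⟩

/-- If the biduality map is bijective on the stalks at the points of `U` and both `F` and `F^**`
satisfy Hartogs extension from `U`, then `F` is reflexive. -/
theorem isIso_bidualMap_of_open {F : X.Modules} (U : X.Opens)
    (hst : ∀ x ∈ U, Function.Bijective (RefHull.stalkMapₗ (RefHull.bidualMap F) x))
    (hF' : ∀ U' : X.Opens,
      Function.Bijective (F.presheaf.map (homOfLE (inf_le_left : U' ⊓ U ≤ U')).op))
    (hD' : ∀ U' : X.Opens,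
      Function.Bijective ((RefHull.ddual F).presheaf.map
        (homOfLE (inf_le_left : U' ⊓ U ≤ U')).op)) :
    IsIso (RefHull.bidualMap F) := by
  have key : ∀ U' : X.Opens, Function.Bijective ((RefHull.bidualMap F).app U') := by
    intro U'
    have hl := hF' U'
    have hr := hD' U'
    have hb : Function.Bijective ((RefHull.bidualMap F).app (U' ⊓ U)) := by
      let Fs : TopCat.Sheaf Ab X := ⟨F.presheaf, F.isSheaf⟩
      let Gs : TopCat.Sheaf Ab X := ⟨(RefHull.ddual F).presheaf, (RefHull.ddual F).isSheaf⟩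
      let f : Fs ⟶ Gs := ⟨(RefHull.bidualMap F).mapPresheaf⟩
      exact TopCat.Presheaf.app_bijective_of_stalkFunctor_map_bijective f (U' ⊓ U)
        (fun x hx => hst x hx.2)
    have hsq : (fun s => res (RefHull.ddual F) (inf_le_left : U' ⊓ U ≤ U')
        ((RefHull.bidualMap F).app U' s)) =
        (fun s => (RefHull.bidualMap F).app (U' ⊓ U) (res F (inf_le_left : U' ⊓ U ≤ U') s)) :=
      funext fun s => (QCExact.app_res' (RefHull.bidualMap F) inf_le_left s).symm
    have h3 : Function.Bijective (fun s => res (RefHull.ddual F) (inf_le_left : U' ⊓ U ≤ U')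
        ((RefHull.bidualMap F).app U' s)) := by
      rw [hsq]
      exact hb.comp hl
    exact (Function.Bijective.of_comp_iff' hr _).mp h3
  apply ModIso.isIso_of_stalkMapₗ_bijective
  intro x
  exact Hartogs.stalkMap_bijective_of_bijective_below _ ⊤ (fun W _ => key W) x trivial

end Groth.Agent.Lib.Helper26.RefSh
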