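import Groth.Agent.Lib.Helper26.RefShF
import Groth.Agent.Lib.Helper5.UnitSections
import Groth.Agent.Lib.Helper3.InvGen

/-!
# Sections of rank one reflexive modules (helper26)
-/

set_option autoImplicit false
set_option linter.style.haveILetI false
set_option linter.unusedSectionVars false
universe u
open CategoryTheory CategoryTheory.Limits AlgebraicGeometry TopologicalSpace Opposite

namespace Groth.Agent.Lib.Helper26.RefSh

open Groth.Agent.Lib.Helper3 Groth.Agent.Lib.Helper3.QCSec Groth.Agent.Lib.Helper17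
open Groth.Agent.Lib.Helper3.InvGen

variable {X : Scheme.{u}}

/-- the morphism `O ⟶ N` attached to a global section -/
noncomputable def secHom (N : X.Modules) (t : Γ(N, ⊤)) : Coh.structureModule X ⟶ N :=
  ((Groth.Agent.Lib.Helper5.bijective_evTop N).surjective t).choose

theorem sec_secHom (N : X.Modules) (t : Γ(N, ⊤)) : sec (secHom N t) ⊤ = t :=
  ((Groth.Agent.Lib.Helper5.bijective_evTop N).surjective t).choose_spec

theorem stalkMap_apply {N : X.Modules} (φ : Coh.structureModule X ⟶ N) (x : X)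
    (t : (Coh.structureModule X).presheaf.stalk x) :
    RefHull.stalkMapₗ φ x t = unitEquiv x t • N.presheaf.germ ⊤ x trivial (sec φ ⊤) := by
  obtain ⟨U, hx, a, rfl⟩ := TopCat.Presheaf.exists_germ_eq (Coh.structureModule X).presheaf t
  rw [RefHull.stalkMapₗ_germ]
  have h1 : φ.app U a = (toFun U a) • sec φ U := app_eq_smul_sec φ U (toFun U a)
  have h2 : unitEquiv x ((Coh.structureModule X).presheaf.germ U x hx a) =
      X.presheaf.germ U x hx (toFun U a) :=
    Groth.Agent.Lib.Helper9.StalkUnit.unitStalkHom_germ x U hx a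
  have h3 : N.presheaf.germ U x hx (sec φ U) = N.presheaf.germ ⊤ x trivial (sec φ ⊤) := by
    rw [← res_sec φ (le_top : U ≤ ⊤)]
    exact TopCat.Presheaf.germ_res_apply N.presheaf (homOfLE le_top) x hx _
  rw [h1, Mero.germ_smul, h2, h3]

theorem bijective_stalkMap_iff {N : X.Modules} (φ : Coh.structureModule X ⟶ N) (x : X) :
    Function.Bijective (RefHull.stalkMapₗ φ x) ↔
      Function.Bijective
        (fun a : X.presheaf.stalk x => a • N.presheaf.germ ⊤ x trivial (sec φ ⊤)) := by
  have hcomp : (RefHull.stalkMapₗ φ x : _ → _) =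
      (fun a : X.presheaf.stalk x => a • N.presheaf.germ ⊤ x trivial (sec φ ⊤)) ∘
        (unitEquiv x) :=
    funext fun t => stalkMap_apply φ x t
  rw [hcomp]
  exact Function.Bijective.of_comp_iff _ (unitEquiv x).bijective

theorem germ_ne_zero_of_torsionFree [IsIntegral X] (Q : X.Modules) [Q.IsQuasicoherent]
    (hQ : TorSh.IsTorsionFree Q) {U : X.Opens} (s : Γ(Q, U)) (hs : s ≠ 0) (x : X) (hx : x ∈ U) :
    Q.presheaf.germ U x hx s ≠ 0 := by
  intro h0
  have h0' : Q.presheaf.germ U x hx s = Q.presheaf.germ U x hx 0 := by rw [h0, map_zero]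
  obtain ⟨W, hxW, i1, i2, hW⟩ := TopCat.Presheaf.germ_eq Q.presheaf x hx hx _ _ h0'
  apply hs
  apply injective_res_of_torsionFree Q hQ i1.le
    (fun _ => genericPoint_mem_of_nonempty W ⟨x, hxW⟩)
  rw [map_zero]
  have h1 : Q.presheaf.map i1.op s = 0 := by rw [hW, map_zero]
  exact h1

theorem eq_genericPoint_of_ringKrullDim_eq_zero [IsIntegral X] (z : X)
    (h : ringKrullDim (X.presheaf.stalk z) = 0) : z = genericPoint X := by
  obtain ⟨W, hW, hz⟩ := QCProps.exists_affine_nbhd z
  have hη : genericPoint X ∈ W := genericPoint_mem_of_nonempty W ⟨z, hz⟩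
  haveI : Nonempty W := ⟨⟨z, hz⟩⟩
  letI algA : Algebra Γ(X, W) (X.presheaf.stalk z) :=
    TopCat.Presheaf.algebra_section_stalk X.presheaf (U := W) ⟨z, hz⟩
  haveI locA : IsLocalization.AtPrime (X.presheaf.stalk z)
      (hW.primeIdealOf ⟨z, hz⟩).asIdeal := hW.isLocalization_stalk ⟨z, hz⟩
  have h1 := IsLocalization.AtPrime.ringKrullDim_eq_height (hW.primeIdealOf ⟨z, hz⟩).asIdeal
    (X.presheaf.stalk z)
  rw [h] at h1
  have h2 : (hW.primeIdealOf ⟨z, hz⟩).asIdeal.height = 0 := by
    have : ((0 : ℕ∞) : WithBot ℕ∞) = ((hW.primeIdealOf ⟨z, hz⟩).asIdeal.height : WithBot ℕ∞) := h1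
    exact (WithBot.coe_injective this).symm
  have h3 : (hW.primeIdealOf ⟨z, hz⟩).asIdeal = ⊥ := Ideal.height_eq_zero_iff_eq_bot.mp h2
  have hsp : z ⤳ genericPoint X := by
    apply DepthTwoLocal.specializes_of_le hW hη hz
    rw [h3]
    exact bot_le
  have hsp' : genericPoint X ⤳ z := (genericPoint_spec X).specializes (Set.mem_univ z)
  exact (hsp.antisymm hsp').eq

/-- On an integral scheme, the generic stalk of a generically invertible module is generated by one
element. -/
theorem exists_generator_stalk_genericPoint [IsIntegral X] (F : X.Modules)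
    (hgi : RefHull.GenInvertible F) :
    ∃ v : F.presheaf.stalk (genericPoint X), ∀ t : F.presheaf.stalk (genericPoint X),
      ∃ a : X.presheaf.stalk (genericPoint X), a • v = t := by
  obtain ⟨U, hdense, hL⟩ := hgi
  have hη : genericPoint X ∈ U := genericPoint_mem_of_nonempty U hdense.nonempty
  obtain ⟨U', e, hηU', hg⟩ := InvGen.exists_isGen hL ⟨genericPoint X, hη⟩
  have hηW : genericPoint X ∈ U.ι ''ᵁ U' := ⟨⟨genericPoint X, hη⟩, hηU', rfl⟩
  refine ⟨F.presheaf.germ (U.ι ''ᵁ U') (genericPoint X) hηW (show Γ(F, U.ι ''ᵁ U') from e), ?_⟩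
  intro t
  obtain ⟨V, hηV, m, rfl⟩ := TopCat.Presheaf.exists_germ_eq F.presheaf t
  let V' : (U : Scheme.{u}).Opens := U.ι ⁻¹ᵁ V ⊓ U'
  have hV'U' : V' ≤ U' := inf_le_right
  have hηV' : (⟨genericPoint X, hη⟩ : (U : Scheme.{u})) ∈ V' := ⟨hηV, hηU'⟩
  have hηWV' : genericPoint X ∈ U.ι ''ᵁ V' := ⟨⟨genericPoint X, hη⟩, hηV', rfl⟩
  have hWV'V : U.ι ''ᵁ V' ≤ V :=
    (U.ι.image_mono (inf_le_left : V' ≤ U.ι ⁻¹ᵁ V)).trans (U.ι.image_preimage_le V)
  have hgen := isGenAt_of_restrict F U V' (res (F.restrict U.ι) hV'U' e) (hg V' hV'U')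
  obtain ⟨a, ha⟩ := hgen.2 (res F hWV'V m)
  refine ⟨X.presheaf.germ (U.ι ''ᵁ V') (genericPoint X) hηWV' a, ?_⟩
  have e1 : F.presheaf.germ V (genericPoint X) hηV m =
      F.presheaf.germ (U.ι ''ᵁ V') (genericPoint X) hηWV' (res F hWV'V m) :=
    (TopCat.Presheaf.germ_res_apply F.presheaf (homOfLE hWV'V) _ hηWV' m).symm
  have e2 : F.presheaf.germ (U.ι ''ᵁ U') (genericPoint X) hηW (show Γ(F, U.ι ''ᵁ U') from e) =
      F.presheaf.germ (U.ι ''ᵁ V') (genericPoint X) hηWV'
        (show Γ(F, U.ι ''ᵁ V') from res (F.restrict U.ι) hV'U' e) :=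
    (TopCat.Presheaf.germ_res_apply F.presheaf (homOfLE (U.ι.image_mono hV'U')) _ hηWV'
      (show Γ(F, U.ι ''ᵁ U') from e)).symm
  rw [e1, e2, ← ha, Mero.germ_smul]

/-- At the generic point of an integral scheme, a nonzero global section of a torsion-free rank one
module generates the stalk freely. -/
theorem bijective_smul_germ_genericPoint [IsIntegral X] (F : X.Modules) [F.IsQuasicoherent]
    (htf : TorSh.IsTorsionFree F) (hgi : RefHull.GenInvertible F) (s : Γ(F, ⊤)) (hs : s ≠ 0) :
    Function.Bijective (fun a : X.presheaf.stalk (genericPoint X) =>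
      a • F.presheaf.germ ⊤ (genericPoint X) trivial s) := by
  have hfield : IsField (X.presheaf.stalk (genericPoint X)) :=
    isField_stalk_of_closure_mem_irreducibleComponents X _
      (by simp [irreducibleComponents_eq_singleton])
  have hs0 := germ_ne_zero_of_torsionFree F htf s hs (genericPoint X) trivial
  obtain ⟨v, hv⟩ := exists_generator_stalk_genericPoint F hgi
  obtain ⟨c, hc⟩ := hv (F.presheaf.germ ⊤ (genericPoint X) trivial s)
  have hc0 : c ≠ 0 := by
    rintro rfl
    rw [zero_smul] at hc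
    exact hs0 hc.symm
  obtain ⟨d, hd⟩ := hfield.mul_inv_cancel hc0
  constructor
  · intro a b hab
    have h1 : (a - b) • F.presheaf.germ ⊤ (genericPoint X) trivial s = 0 := by
      rw [sub_smul]
      exact sub_eq_zero.mpr hab
    by_contra hne
    have hab0 : a - b ≠ 0 := sub_ne_zero.mpr hne
    obtain ⟨w, hw⟩ := hfield.mul_inv_cancel hab0
    apply hs0
    have h2 : (w * (a - b)) • F.presheaf.germ ⊤ (genericPoint X) trivial s = 0 := by
      rw [mul_smul, h1, smul_zero]
    rw [mul_comm, hw, one_smul] at h2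
    exact h2
  · intro t
    obtain ⟨b, hb⟩ := hv t
    refine ⟨b * d, ?_⟩
    change (b * d) • F.presheaf.germ ⊤ (genericPoint X) trivial s = t
    rw [← hc, smul_smul, mul_assoc, mul_comm d c, hd, mul_one, hb]

end Groth.Agent.Lib.Helper26.RefSh
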