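import Groth.Agent.Lib.Helper26.RefShH
import Groth.Agent.Lib.Helper11.WDivOrd
import Groth.Agent.Lib.Helper3.AssPoints
import Groth.Prelude.Def_C1

/-!
# Orders of rational sections of rank one reflexive modules (helper26)
-/

set_option autoImplicit false
set_option linter.style.haveILetI false
set_option linter.unusedSectionVars false
universe u
open CategoryTheory CategoryTheory.Limits AlgebraicGeometry TopologicalSpace Opposite

namespace Groth.Agent.Lib.Helper26.RefSh

open Groth.Agent.Lib.Helper3 Groth.Agent.Lib.Helper3.QCSec Groth.Agent.Lib.Helper17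

section algebra

/-- A normal Noetherian local domain of dimension one is a discrete valuation ring. -/
theorem isDiscreteValuationRing_of_normal_of_dim_one (B : Type u) [CommRing B] [IsDomain B]
    [IsNoetherianRing B] [IsLocalRing B] [IsIntegrallyClosed B] (h : ringKrullDim B = 1) :
    IsDiscreteValuationRing B := by
  have hht : ((IsLocalRing.maximalIdeal B).height : WithBot ℕ∞) = 1 := by
    rw [IsLocalRing.maximalIdeal_height_eq_ringKrullDim, h]
  have h3 : (IsLocalRing.maximalIdeal B).height = 1 := by exact_mod_cast hht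
  have hprimes : ∀ P : Ideal B, P ≠ ⊥ → P.IsPrime → P = IsLocalRing.maximalIdeal B := by
    intro P hP0 hPp
    by_contra hne
    have hlt : P < IsLocalRing.maximalIdeal B :=
      lt_of_le_of_ne (IsLocalRing.le_maximalIdeal hPp.ne_top) hne
    have hbot : (⊥ : Ideal B) < P := bot_lt_iff_ne_bot.mpr hP0
    haveI : (⊥ : Ideal B).IsPrime := Ideal.isPrime_bot
    have h1 : (⊥ : Ideal B).height < P.height := Ideal.height_strict_mono_of_isPrime hbot
    have h2 : P.height < (IsLocalRing.maximalIdeal B).height :=
      Ideal.height_strict_mono_of_isPrime hlt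
    rw [h3] at h2
    have h5 : P.height = 0 := Order.lt_one_iff.mp h2
    rw [h5] at h1
    exact not_lt_zero h1
  have h30 : (IsIntegrallyClosed B ∧
      ∀ P : Ideal B, P ≠ ⊥ → P.IsPrime → P = IsLocalRing.maximalIdeal B) →
      IsPrincipalIdealRing B :=
    ((tfae_of_isNoetherianRing_of_isLocalRing_of_isDomain B).out 3 0).mp
  haveI : IsPrincipalIdealRing B := h30 ⟨inferInstance, hprimes⟩
  have hnf : IsLocalRing.maximalIdeal B ≠ ⊥ := by
    intro hbot
    rw [hbot, Ideal.height_bot] at h3
    exact zero_ne_one h3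
  exact { (inferInstance : IsPrincipalIdealRing B) with not_a_field' := hnf }

/-- The prelude's order function on a quotient by the zero ideal, compared with Mathlib's. -/
theorem cycAlg_ordFrac_quot (R : Type u) [CommRing R] [IsNoetherianRing R]
    [Ring.KrullDimLE 1 R] [Nontrivial R] (K : Type u) [Field K] [Algebra R K]
    [IsFractionRing R K] (I : Ideal R) (hI : I = ⊥) (K' : Type u) [Field K']
    [Algebra (R ⧸ I) K'] (ρ : K →+* K') (hρ : Function.Surjective ρ)
    (hcomp : ∀ r : R, ρ (algebraMap R K r) = algebraMap (R ⧸ I) K' (Ideal.Quotient.mk I r))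
    (φ : K) :
    CycAlg.ordFrac (R ⧸ I) K' (ρ φ) =
      WithZero.recZeroCoe (motive := fun _ => ℤ) 0 (fun z => Multiplicative.toAdd z)
        (Ring.ordFrac R φ) := by
  have hmk_inj : Function.Injective (Ideal.Quotient.mk I) := by
    rw [RingHom.injective_iff_ker_eq_bot, Ideal.mk_ker]
    exact hI
  let e : R ≃+* R ⧸ I :=
    RingEquiv.ofBijective (Ideal.Quotient.mk I) ⟨hmk_inj, Ideal.Quotient.mk_surjective⟩
  haveI : Nontrivial (R ⧸ I) := hmk_inj.nontrivial
  haveI : Ring.KrullDimLE 1 (R ⧸ I) := by
    rw [Ring.krullDimLE_iff, ← ringKrullDim_eq_of_ringEquiv e]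
    exact Ring.krullDimLE_iff.mp inferInstance
  have hinjK : Function.Injective (algebraMap (R ⧸ I) K') := by
    intro a b hab
    obtain ⟨a, rfl⟩ := Ideal.Quotient.mk_surjective a
    obtain ⟨b, rfl⟩ := Ideal.Quotient.mk_surjective b
    rw [← hcomp, ← hcomp] at hab
    have h1 := ρ.injective hab
    rw [IsFractionRing.injective R K h1]
  haveI : FaithfulSMul (R ⧸ I) K' := (faithfulSMul_iff_algebraMap_injective _ _).mpr hinjK
  haveI : IsFractionRing (R ⧸ I) K' := by
    refine IsFractionRing.of_field _ _ (fun z => ?_)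
    obtain ⟨w, rfl⟩ := hρ z
    obtain ⟨a, b, -, rfl⟩ := IsFractionRing.div_surjective (A := R) w
    exact ⟨Ideal.Quotient.mk I a, Ideal.Quotient.mk I b, by rw [map_div₀, hcomp, hcomp]⟩
  have h1 : Ring.ordFrac (R ⧸ I) (ρ φ) = Ring.ordFrac R φ :=
    Groth.Agent.Lib.Helper11.WDivOrd.ordFrac_ringEquiv e ρ (fun r => hcomp r) φ
  unfold CycAlg.ordFrac
  rw [dif_pos ⟨inferInstance, inferInstance, inferInstance, inferInstance⟩]
  exact congrArg (WithZero.recZeroCoe (motive := fun _ => ℤ) 0
    (fun z => Multiplicative.toAdd z)) h1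

/-- A generator of a torsion-free module gives linear maps with prescribed value. -/
theorem exists_linearMap_of_generator {R M N : Type*} [CommRing R] [IsDomain R] [AddCommGroup M]
    [Module R M] [Module.IsTorsionFree R M] [AddCommGroup N] [Module R N] (w : M) (hw : w ≠ 0)
    (hgen : ∀ m : M, ∃ a : R, a • w = m) (n : N) :
    ∃ T : M →ₗ[R] N, T w = n := by
  have hbij : Function.Bijective (LinearMap.toSpanSingleton R M w) :=
    ⟨smul_left_injective R hw, fun m => hgen m⟩
  let e : R ≃ₗ[R] M := LinearEquiv.ofBijective (LinearMap.toSpanSingleton R M w) hbij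
  refine ⟨(LinearMap.toSpanSingleton R N n).comp e.symm.toLinearMap, ?_⟩
  have h1 : e 1 = w := one_smul R w
  have h2 : e.symm w = 1 := by rw [← h1, LinearEquiv.symm_apply_apply]
  show (LinearMap.toSpanSingleton R N n) (e.symm w) = n
  rw [h2]
  exact one_smul R n

theorem linearMap_eq_of_generator {R M N : Type*} [CommRing R] [AddCommGroup M]
    [Module R M] [AddCommGroup N] [Module R N] (w : M)
    (hgen : ∀ m : M, ∃ a : R, a • w = m) (A B : M →ₗ[R] N) (h : A w = B w) (m : M) :
    A m = B m := by
  obtain ⟨a, rfl⟩ := hgen m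
  rw [map_smul, map_smul, h]

end algebra

variable {X : Scheme.{u}}

/-! ### the generic point -/

theorem isField_stalk_genericPoint [IsIntegral X] :
    IsField (X.presheaf.stalk (genericPoint X)) :=
  isField_stalk_of_closure_mem_irreducibleComponents X _
    (by simp [irreducibleComponents_eq_singleton])

theorem maximalIdeal_genericPoint_eq_bot [IsIntegral X] :
    IsLocalRing.maximalIdeal (X.presheaf.stalk (genericPoint X)) = ⊥ :=
  IsLocalRing.isField_iff_maximalIdeal_eq.mp isField_stalk_genericPoint

theorem mk_secFibre_injective [IsIntegral X] (L : X.Modules) :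
    Function.Injective (Submodule.Quotient.mk :
      L.presheaf.stalk (genericPoint X) → Cyc.secFibre L (genericPoint X)) := by
  intro a b hab
  have h := (Submodule.Quotient.eq _).mp hab
  rw [maximalIdeal_genericPoint_eq_bot, Submodule.bot_smul, Submodule.mem_bot] at h
  exact sub_eq_zero.mp h

theorem ringKrullDim_eq_one_of_coheight [IsIntegral X] (x : X) (hx : Order.coheight x = 1) :
    ringKrullDim (X.presheaf.stalk x) = 1 := by
  rw [ringKrullDim_stalk_eq_coheight, hx]
  rfl

theorem coheight_eq_one_of_ringKrullDim (x : X) (h : ringKrullDim (X.presheaf.stalk x) = 1) :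
    Order.coheight x = 1 := by
  have h1 := ringKrullDim_stalk_eq_coheight x
  rw [h] at h1
  exact WithBot.coe_eq_one.mp h1.symm

/-- Every element of the generic stalk is a fraction of an element coming from the stalk at `x`. -/
theorem exists_unit_smul_eq_spec [IsIntegral X] (L : X.Modules) [L.IsQuasicoherent] (x : X)
    (hsp : genericPoint X ⤳ x) (w : L.presheaf.stalk (genericPoint X)) :
    ∃ (b : X.presheaf.stalk (genericPoint X)) (_ : IsUnit b) (m : L.presheaf.stalk x),
      b • w = (L.presheaf.stalkSpecializes hsp).hom m := by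
  obtain ⟨W, hW, hxW⟩ := QCProps.exists_affine_nbhd x
  have hηW : genericPoint X ∈ W := hsp.mem_open W.2 hxW
  obtain ⟨c, m, hc, hcm⟩ := QS.exists_smul_eq_germ hW L (genericPoint X) hηW w
  refine ⟨X.presheaf.germ W (genericPoint X) hηW c, ?_, L.presheaf.germ W x hxW m, ?_⟩
  · have h1 : X.presheaf.germ W (genericPoint X) hηW c ∉
        IsLocalRing.maximalIdeal (X.presheaf.stalk (genericPoint X)) := by
      rw [Hartogs.germ_mem_maximalIdeal_iff hW (genericPoint X) hηW]
      exact hc
    exact IsLocalRing.notMem_maximalIdeal.mp h1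
  · rw [hcm, specHom_germ]

/-! ### comparison of the two order functions -/

theorem ordAt_residue_eq_ord [IsIntegral X] [IsLocallyNoetherian X] (x : X)
    (hx : Order.coheight x = 1) (hsp : genericPoint X ⤳ x) (φ : X.functionField) (hφ : φ ≠ 0) :
    Cyc.ordAt x (genericPoint X) hsp (X.residue (genericPoint X) φ) = Scheme.ord φ x := by
  haveI : Ring.KrullDimLE 1 (X.presheaf.stalk x) := krullDimLE_of_coheight_le hx.le
  have hker : RingHom.ker (Cyc.specMap x (genericPoint X) hsp) = ⊥ := by
    rw [← RingHom.injective_iff_ker_eq_bot]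
    intro a b hab
    have h1 : (X.residue (genericPoint X)).hom ((X.presheaf.stalkSpecializes hsp).hom a) =
        (X.residue (genericPoint X)).hom ((X.presheaf.stalkSpecializes hsp).hom b) := hab
    have hres : Function.Injective (X.residue (genericPoint X)).hom := by
      rw [RingHom.injective_iff_ker_eq_bot]
      exact (IsLocalRing.ker_residue (R := X.presheaf.stalk (genericPoint X))).trans
        maximalIdeal_genericPoint_eq_bot
    exact IsFractionRing.injective (X.presheaf.stalk x) X.functionField (hres h1)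
  have h1 := cycAlg_ordFrac_quot (X.presheaf.stalk x) X.functionField
    (RingHom.ker (Cyc.specMap x (genericPoint X) hsp)) hker (X.residueField (genericPoint X))
    (X.residue (genericPoint X)).hom (X.residue_surjective (genericPoint X)) (fun r => rfl) φ
  have h2 : Cyc.ordAt x (genericPoint X) hsp (X.residue (genericPoint X) φ) =
      WithZero.recZeroCoe (motive := fun _ => ℤ) 0 (fun z => Multiplicative.toAdd z)
        (Ring.ordFrac (X.presheaf.stalk x) φ) := h1
  rw [h2, Scheme.ord_eq_ordHom_of_coheight_eq_one hx]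
  have hne : Ring.ordFrac (X.presheaf.stalk x) φ ≠ 0 := (map_ne_zero _).mpr hφ
  obtain ⟨z, hz⟩ := WithZero.ne_zero_iff_exists.mp hne
  have h3 : X.ordHom x hx φ = Ring.ordFrac (X.presheaf.stalk x) φ := rfl
  rw [h3, ← hz]
  rfl

theorem ord_spec_unit [IsIntegral X] [IsLocallyNoetherian X] (x : X)
    (hx : Order.coheight x = 1) (hsp : genericPoint X ⤳ x) (u : X.presheaf.stalk x)
    (hu : IsUnit u) :
    Scheme.ord ((X.presheaf.stalkSpecializes hsp).hom u : X.functionField) x = 0 := by
  haveI : Ring.KrullDimLE 1 (X.presheaf.stalk x) := krullDimLE_of_coheight_le hx.le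
  have h1 : Ring.ordFrac (X.presheaf.stalk x)
      (algebraMap (X.presheaf.stalk x) X.functionField u) = 1 := Ring.ordFrac_of_isUnit hu
  have hne : algebraMap (X.presheaf.stalk x) X.functionField u ≠ 0 := by
    intro h0
    rw [h0, map_zero] at h1
    exact zero_ne_one h1
  have h2 : Scheme.ord (algebraMap (X.presheaf.stalk x) X.functionField u) x = 0 := by
    rw [Scheme.ord_eq_iff hx hne, ofAdd_zero, WithZero.coe_one]
    exact h1
  exact h2

theorem exists_unit_of_ord_eq [IsIntegral X] [IsLocallyNoetherian X] (hX : Pi1.IsNormalScheme X)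
    (x : X) (hx : Order.coheight x = 1) (hsp : genericPoint X ⤳ x) (a b : X.functionField)
    (ha : a ≠ 0) (hb : b ≠ 0) (h : Scheme.ord a x = Scheme.ord b x) :
    ∃ u : (X.presheaf.stalk x)ˣ,
      ((X.presheaf.stalkSpecializes hsp).hom (u : X.presheaf.stalk x) : X.functionField) * a
        = b := by
  haveI : Ring.KrullDimLE 1 (X.presheaf.stalk x) := krullDimLE_of_coheight_le hx.le
  haveI := (hX x).2
  haveI : IsDiscreteValuationRing (X.presheaf.stalk x) :=
    isDiscreteValuationRing_of_normal_of_dim_one _ (ringKrullDim_eq_one_of_coheight x hx)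
  have h1 : X.ordHom x hx a = X.ordHom x hx b := by
    rw [(Scheme.ord_eq_iff hx ha).mp rfl, (Scheme.ord_eq_iff hx hb).mp rfl, h]
  obtain ⟨u, hu⟩ := Ring.associated_of_ordFrac_eq (R := X.presheaf.stalk x) a b h1
  refine ⟨u, ?_⟩
  rw [← hu, Units.smul_def, Algebra.smul_def]
  rfl

/-! ### generators of stalks at codimension one points -/

theorem exists_generator_of_dvr [IsIntegral X] [IsLocallyNoetherian X]
    (hX : Pi1.IsNormalScheme X) (L : X.Modules) (hL : RefHull.IsRef1 L) (x : X)
    (hdim : ringKrullDim (X.presheaf.stalk x) = 1) :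
    ∃ t : L.presheaf.stalk x, Submodule.span (X.presheaf.stalk x) {t} = ⊤ := by
  classical
  obtain ⟨hcoh, hrefl, hgi⟩ := hL
  haveI : L.IsQuasicoherent := hcoh.1
  haveI : L.IsFiniteType := hcoh.2
  have hst := (isReflexive_iff_forall hcoh).mp hrefl
  have htf : TorSh.IsTorsionFree L := fun y => by
    haveI : Module.IsReflexive (X.presheaf.stalk y) (L.presheaf.stalk y) := hst y
    infer_instance
  haveI := (hX x).2
  haveI : IsDiscreteValuationRing (X.presheaf.stalk x) :=
    isDiscreteValuationRing_of_normal_of_dim_one _ hdim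
  haveI : Module.Finite (X.presheaf.stalk x) (L.presheaf.stalk x) := CohStalk.finite_stalk L x
  haveI : Module.IsTorsionFree (X.presheaf.stalk x) (L.presheaf.stalk x) := htf x
  have hdim2 : ¬ (2 : WithBot ℕ∞) ≤ ringKrullDim (X.presheaf.stalk x) := by
    rw [hdim]
    decide
  haveI : Module.Free (X.presheaf.stalk x) (L.presheaf.stalk x) :=
    free_of_torsionFree_normal_dim_le_one _ hdim2 _
  let b := Module.Free.chooseBasis (X.presheaf.stalk x) (L.presheaf.stalk x)
  have hsp : genericPoint X ⤳ x := (genericPoint_spec X).specializes (Set.mem_univ x)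
  have hinj := specHom_injective_of_torsionFree L htf x hsp
  obtain ⟨v, hv⟩ := exists_generator_stalk_genericPoint L hgi
  have aux : ∀ i j : Module.Free.ChooseBasisIndex (X.presheaf.stalk x) (L.presheaf.stalk x),
      i ≠ j → ∀ c : X.presheaf.stalk x, b i = c • b j → False := by
    intro i j hij c h
    have h1 : b.repr (b i) i = b.repr (c • b j) i := by rw [← h]
    rw [map_smul, b.repr_self, b.repr_self, Finsupp.smul_apply, Finsupp.single_eq_same,
      Finsupp.single_eq_of_ne hij, smul_zero] at h1
    exact one_ne_zero h1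
  have hcoef : ∀ i, ∃ α : X.presheaf.stalk (genericPoint X), α ≠ 0 ∧
      α • v = (L.presheaf.stalkSpecializes hsp).hom (b i) := by
    intro i
    obtain ⟨α, hα⟩ := hv ((L.presheaf.stalkSpecializes hsp).hom (b i))
    refine ⟨α, ?_, hα⟩
    rintro rfl
    rw [zero_smul] at hα
    have h0 : b i = 0 := hinj (hα.symm.trans (map_zero _).symm)
    exact b.ne_zero i h0
  have hone : ∀ i j : Module.Free.ChooseBasisIndex (X.presheaf.stalk x) (L.presheaf.stalk x),
      i = j := by
    intro i j
    by_contra hij
    obtain ⟨α, hα0, hα⟩ := hcoef i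
    obtain ⟨β, hβ0, hβ⟩ := hcoef j
    rcases ValuationRing.isInteger_or_isInteger (X.presheaf.stalk x)
      (α / β) with ⟨c, hc⟩ | ⟨c, hc⟩
    · apply aux i j hij c
      apply hinj
      have e : α = (X.presheaf.stalkSpecializes hsp).hom c * β := by
        have h1 : α / β * β = α := div_mul_cancel₀ α hβ0
        have hc' : algebraMap (X.presheaf.stalk x) X.functionField c = α / β := hc
        rw [← hc'] at h1
        exact h1.symm
      rw [specHom_smul, ← hα, ← hβ, smul_smul, ← e]
    · apply aux j i (Ne.symm hij) c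
      apply hinj
      have e : β = (X.presheaf.stalkSpecializes hsp).hom c * α := by
        have h1 : (α / β)⁻¹ * α = β := by
          rw [inv_div]
          exact div_mul_cancel₀ β hα0
        have hc' : algebraMap (X.presheaf.stalk x) X.functionField c = (α / β)⁻¹ := hc
        rw [← hc'] at h1
        exact h1.symm
      rw [specHom_smul, ← hα, ← hβ, smul_smul, ← e]
  by_cases hne : Nonempty (Module.Free.ChooseBasisIndex (X.presheaf.stalk x)
      (L.presheaf.stalk x))
  · obtain ⟨i0⟩ := hne
    refine ⟨b i0, ?_⟩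
    rw [← b.span_eq]
    congr 1
    ext m
    constructor
    · intro hm
      rw [Set.mem_singleton_iff] at hm
      rw [hm]
      exact Set.mem_range_self i0
    · rintro ⟨j, rfl⟩
      rw [hone j i0]
      exact Set.mem_singleton _
  · refine ⟨0, ?_⟩
    haveI : IsEmpty (Module.Free.ChooseBasisIndex (X.presheaf.stalk x)
      (L.presheaf.stalk x)) := not_nonempty_iff.mp hne
    rw [Submodule.span_zero_singleton, ← b.span_eq, Set.range_eq_empty, Submodule.span_empty]

/-! ### unfolding the order of a rational section -/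

theorem secOrdAt_pos (L : X.Modules) (ξ x : X) (h : ξ ⤳ x) (s : Cyc.secFibre L ξ)
    (ht : ∃ t : L.presheaf.stalk x, Submodule.span (X.presheaf.stalk x) {t} = ⊤)
    (hφ : ∃ φ : X.presheaf.stalk ξ,
        s = φ • (Submodule.Quotient.mk ((L.presheaf.stalkSpecializes h) (Classical.choose ht)) :
          Cyc.secFibre L ξ)) :
    Cyc.secOrdAt L ξ x h s = Cyc.ordAt x ξ h (X.residue ξ (Classical.choose hφ)) := by
  unfold Cyc.secOrdAt
  rw [dif_pos ht, dif_pos hφ]

/-- The order of a nonzero rational section of a rank one reflexive module at a point of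
codimension one, computed by a generator of the stalk. -/
theorem secOrdAt_spec [IsIntegral X] [IsLocallyNoetherian X] (hX : Pi1.IsNormalScheme X)
    (L : X.Modules) (hL : RefHull.IsRef1 L) (x : X) (hx : Order.coheight x = 1)
    (hsp : genericPoint X ⤳ x) (w : L.presheaf.stalk (genericPoint X)) (hw : w ≠ 0) :
    ∃ (t0 : L.presheaf.stalk x) (φ : X.functionField),
      Submodule.span (X.presheaf.stalk x) {t0} = ⊤ ∧ φ ≠ 0 ∧
      w = φ • (L.presheaf.stalkSpecializes hsp).hom t0 ∧
      Cyc.secOrdAt L (genericPoint X) x hsp (Submodule.Quotient.mk w) = Scheme.ord φ x := by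
  haveI : L.IsQuasicoherent := hL.1.1
  have ht := exists_generator_of_dvr hX L hL x (ringKrullDim_eq_one_of_coheight x hx)
  have hφ0 : ∃ φ : X.presheaf.stalk (genericPoint X),
      w = φ • (L.presheaf.stalkSpecializes hsp).hom (Classical.choose ht) := by
    obtain ⟨b, hb, m, hbm⟩ := exists_unit_smul_eq_spec L x hsp w
    have hm : m ∈ Submodule.span (X.presheaf.stalk x) {Classical.choose ht} := by
      rw [Classical.choose_spec ht]
      trivial
    obtain ⟨a, rfl⟩ := Submodule.mem_span_singleton.mp hm
    refine ⟨↑(hb.unit⁻¹) * (X.presheaf.stalkSpecializes hsp).hom a, ?_⟩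
    rw [mul_smul, ← specHom_smul, ← hbm, smul_smul, IsUnit.val_inv_mul, one_smul]
  have hφ : ∃ φ : X.presheaf.stalk (genericPoint X),
      (Submodule.Quotient.mk w : Cyc.secFibre L (genericPoint X)) =
        φ • (Submodule.Quotient.mk ((L.presheaf.stalkSpecializes hsp) (Classical.choose ht)) :
          Cyc.secFibre L (genericPoint X)) := by
    obtain ⟨φ, hφ⟩ := hφ0
    refine ⟨φ, ?_⟩
    rw [← Submodule.Quotient.mk_smul]
    exact congrArg _ hφ
  have hspec := Classical.choose_spec hφ
  have hw' : w = Classical.choose hφ •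
      (L.presheaf.stalkSpecializes hsp).hom (Classical.choose ht) := by
    apply mk_secFibre_injective L
    rw [Submodule.Quotient.mk_smul]
    exact hspec
  have hne : (Classical.choose hφ : X.functionField) ≠ 0 := by
    intro h0
    apply hw
    rw [hw', h0, zero_smul]
  refine ⟨Classical.choose ht, Classical.choose hφ, Classical.choose_spec ht, hne, hw', ?_⟩
  rw [secOrdAt_pos L (genericPoint X) x hsp _ ht hφ]
  exact ordAt_residue_eq_ord x hx hsp (Classical.choose hφ) hne

end Groth.Agent.Lib.Helper26.RefSh
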