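import Groth.Agent.Lib.Helper26.RefShI

/-!
# Rank one reflexive modules and linear equivalence of their divisors (helper26)
-/

set_option autoImplicit false
set_option linter.style.haveILetI false
set_option linter.unusedSectionVars false
universe u
open CategoryTheory CategoryTheory.Limits AlgebraicGeometry TopologicalSpace Opposite

namespace Groth.Agent.Lib.Helper26.RefSh

open Groth.Agent.Lib.Helper3 Groth.Agent.Lib.Helper3.QCSec Groth.Agent.Lib.Helper17

section algebra

theorem extend_cond {R K : Type*} [CommRing R] [CommRing K] (σ : R →+* K)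
    {M N MK NK : Type*} [AddCommGroup M] [Module R M] [AddCommGroup N] [Module R N]
    [AddCommGroup MK] [Module K MK] [AddCommGroup NK] [Module K NK]
    (sM : M →+ MK) (sN : N →+ NK) (hsM : ∀ a m, sM (a • m) = σ a • sM m)
    (hsN : ∀ a n, sN (a • n) = σ a • sN n)
    (T : MK →ₗ[K] NK) (wM : MK) (wN : NK) (f φM φN : K) (tM : M) (tN : N) (u : R)
    (hspan : ∀ m : M, ∃ a : R, a • tM = m)
    (hwM : wM = φM • sM tM) (hwN : wN = φN • sN tN) (hT : T wM = f • wN)
    (hu : σ u * φM = f * φN) (hreg : IsSMulRegular NK φM) :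
    ∀ g : M, ∃ n : N, sN n = T (sM g) := by
  have hTt : T (sM tM) = sN (u • tN) := by
    apply hreg
    show φM • T (sM tM) = φM • sN (u • tN)
    rw [← T.map_smul, ← hwM, hT, hsN, smul_smul, mul_comm φM, hu, mul_smul, ← hwN]
  intro g
  obtain ⟨a, rfl⟩ := hspan g
  refine ⟨a • u • tN, ?_⟩
  rw [hsN, ← hTt, hsM, T.map_smul]

theorem unit_relation {R K : Type*} [CommRing R] [CommRing K] (σ : R →+* K)
    {M N MK NK : Type*} [AddCommGroup M] [Module R M] [AddCommGroup N] [Module R N]
    [AddCommGroup MK] [Module K MK] [AddCommGroup NK] [Module K NK]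
    (sM : M →+ MK) (sN : N →+ NK)
    (hsN : ∀ a n, sN (a • n) = σ a • sN n)
    (αx : M →ₗ[R] N) (hαx : Function.Surjective αx) (αη : MK →ₗ[K] NK)
    (hcompat : ∀ m, sN (αx m) = αη (sM m))
    (wM : MK) (wN : NK) (f φM φN : K) (tM : M) (tN : N)
    (hspanM : ∀ m : M, ∃ a : R, a • tM = m) (hspanN : ∀ n : N, ∃ a : R, a • tN = n)
    (hwM : wM = φM • sM tM) (hwN : wN = φN • sN tN) (hf : f • wN = αη wM)
    (hinjK : ∀ a b : K, a • sN tN = b • sN tN → a = b)
    (hinjR : ∀ a b : R, a • tN = b • tN → a = b) :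
    ∃ u : R, IsUnit u ∧ φM * σ u = f * φN := by
  obtain ⟨u, hu⟩ := hspanN (αx tM)
  obtain ⟨m, hm⟩ := hαx tN
  obtain ⟨u', hu'⟩ := hspanM m
  have huu : u' * u = 1 := by
    apply hinjR
    rw [mul_smul, hu, ← αx.map_smul, hu', hm, one_smul]
  refine ⟨u, IsUnit.of_mul_eq_one_right u' huu, ?_⟩
  apply hinjK
  rw [mul_smul, ← hsN, hu, hcompat, ← αη.map_smul, ← hwM, ← hf, mul_smul, ← hwN]

end algebra

variable {X : Scheme.{u}}

theorem isReflexiveAt_of_isRef1 [IsLocallyNoetherian X] {L : X.Modules} (hL : RefHull.IsRef1 L)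
    (x : X) : RefHull.IsReflexiveAt L x :=
  (isReflexive_iff_forall hL.1).mp hL.2.1 x

theorem isTorsionFree_of_isRef1 [IsLocallyNoetherian X] {L : X.Modules} (hL : RefHull.IsRef1 L) :
    TorSh.IsTorsionFree L := fun x => by
  haveI : Module.IsReflexive (X.presheaf.stalk x) (L.presheaf.stalk x) :=
    isReflexiveAt_of_isRef1 hL x
  infer_instance

/-- Any nonzero element of the generic stalk of a generically invertible module generates it. -/
theorem generator_of_ne_zero [IsIntegral X] (L : X.Modules) (hgi : RefHull.GenInvertible L)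
    (w : L.presheaf.stalk (genericPoint X)) (hw : w ≠ 0) :
    ∀ m : L.presheaf.stalk (genericPoint X),
      ∃ a : X.presheaf.stalk (genericPoint X), a • w = m := by
  obtain ⟨v, hv⟩ := exists_generator_stalk_genericPoint L hgi
  obtain ⟨c, hc⟩ := hv w
  have hc0 : c ≠ 0 := by
    rintro rfl
    rw [zero_smul] at hc
    exact hw hc.symm
  obtain ⟨d, hd⟩ := isField_stalk_genericPoint.mul_inv_cancel hc0
  intro m
  obtain ⟨a, ha⟩ := hv m
  refine ⟨a * d, ?_⟩
  rw [← hc, smul_smul, mul_assoc, mul_comm d c, hd, mul_one, ha]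

theorem ord_one [IsIntegral X] [IsLocallyNoetherian X] (x : X) (hx : Order.coheight x = 1) :
    Scheme.ord (1 : X.functionField) x = 0 := by
  have h := ord_spec_unit x hx ((genericPoint_spec X).specializes (Set.mem_univ x)) 1 isUnit_one
  rw [map_one] at h
  exact h

/-- The condition for extending a generic map at a point of codimension one, from the relation
between the orders of the sections. -/
theorem extension_condition [IsIntegral X] [IsLocallyNoetherian X] (hX : Pi1.IsNormalScheme X)
    (F G : X.Modules) (hF : RefHull.IsRef1 F) (hG : RefHull.IsRef1 G)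
    (wF : F.presheaf.stalk (genericPoint X)) (hwF : wF ≠ 0)
    (wG : G.presheaf.stalk (genericPoint X)) (hwG : wG ≠ 0)
    (f : X.functionField) (hf0 : f ≠ 0)
    (T : RefHull.StalkHom F G (genericPoint X)) (hT : T wF = f • wG)
    (x : X) (hx : Order.coheight x = 1) (hsp : genericPoint X ⤳ x)
    (hord : Cyc.secOrdAt F (genericPoint X) x hsp (Submodule.Quotient.mk wF) =
      Cyc.secOrdAt G (genericPoint X) x hsp (Submodule.Quotient.mk wG) + Scheme.ord f x) :
    ∀ g : F.presheaf.stalk x, ∃ n : G.presheaf.stalk x,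
      (G.presheaf.stalkSpecializes hsp).hom n = T ((F.presheaf.stalkSpecializes hsp).hom g) := by
  obtain ⟨tF, φF, hspanF, hφF, hwFeq, hordF⟩ := secOrdAt_spec hX F hF x hx hsp wF hwF
  obtain ⟨tG, φG, hspanG, hφG, hwGeq, hordG⟩ := secOrdAt_spec hX G hG x hx hsp wG hwG
  have hordx : Scheme.ord φF x = Scheme.ord φG x + Scheme.ord f x :=
    hordF.symm.trans (hord.trans (congrArg (fun z => z + Scheme.ord f x) hordG))
  have h2 := Scheme.ord_mul (x := x) hf0 hφG
  have h3 : Scheme.ord φF x = Scheme.ord (f * φG) x :=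
    hordx.trans ((add_comm _ _).trans h2.symm)
  obtain ⟨u, hu⟩ := exists_unit_of_ord_eq hX x hx hsp φF (f * φG) hφF (mul_ne_zero hf0 hφG) h3
  haveI : Module.IsTorsionFree (X.presheaf.stalk (genericPoint X))
      (G.presheaf.stalk (genericPoint X)) := isTorsionFree_of_isRef1 hG (genericPoint X)
  have hreg : IsSMulRegular (G.presheaf.stalk (genericPoint X)) φF :=
    Module.IsTorsionFree.isSMulRegular (isRegular_of_ne_zero hφF)
  exact extend_cond (X.presheaf.stalkSpecializes hsp).hom (F.presheaf.stalkSpecializes hsp).hom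
    (G.presheaf.stalkSpecializes hsp).hom (fun a m => specHom_smul F hsp a m)
    (fun a n => specHom_smul G hsp a n) T wF wG f φF φG tF tG (u : X.presheaf.stalk x)
    (fun m => Submodule.mem_span_singleton.mp (by rw [hspanF]; trivial)) hwFeq hwGeq hT hu hreg

end Groth.Agent.Lib.Helper26.RefSh
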