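import Groth.Agent.Lib.Helper26.RefShJ
import Groth.Agent.Lib.Helper3.InvTensor
import Groth.Agent.Lib.Helper17.TensorSec
import Groth.Agent.Lib.Helper17.SuppTensor

/-!
# The tensor map on stalks, and orders of sections of reflexive products (helper26)
-/

set_option autoImplicit false
set_option linter.style.haveILetI false
set_option linter.unusedSectionVars false
universe u
open CategoryTheory CategoryTheory.Limits AlgebraicGeometry TopologicalSpace Opposite

namespace Groth.Agent.Lib.Helper26.RefSh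

open Groth.Agent.Lib.Helper3 Groth.Agent.Lib.Helper3.QCSec Groth.Agent.Lib.Helper17
open Groth.Agent.Lib.Helper3.InvTensor

variable {X : Scheme.{u}}

/-! ### representatives of germs -/

noncomputable def repOpen (L : X.Modules) {x : X} (f : L.presheaf.stalk x) : X.Opens :=
  (TopCat.Presheaf.exists_germ_eq L.presheaf f).choose

theorem mem_repOpen (L : X.Modules) {x : X} (f : L.presheaf.stalk x) : x ∈ repOpen L f :=
  (TopCat.Presheaf.exists_germ_eq L.presheaf f).choose_spec.choose

noncomputable def repSec (L : X.Modules) {x : X} (f : L.presheaf.stalk x) :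
    Γ(L, repOpen L f) :=
  (TopCat.Presheaf.exists_germ_eq L.presheaf f).choose_spec.choose_spec.choose

theorem germ_repSec (L : X.Modules) {x : X} (f : L.presheaf.stalk x) :
    L.presheaf.germ (repOpen L f) x (mem_repOpen L f) (repSec L f) = f :=
  (TopCat.Presheaf.exists_germ_eq L.presheaf f).choose_spec.choose_spec.choose_spec

variable (F G : X.Modules)

/-- The germ of a pure tensor of sections only depends on the germs of the factors. -/
theorem germ_tm_congr {U U' : X.Opens} (x : X) (hx : x ∈ U) (hx' : x ∈ U')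
    (a : Γ(F, U)) (a' : Γ(F, U')) (b : Γ(G, U)) (b' : Γ(G, U'))
    (ha : F.presheaf.germ U x hx a = F.presheaf.germ U' x hx' a')
    (hb : G.presheaf.germ U x hx b = G.presheaf.germ U' x hx' b') :
    (CohB1.tensorMod F G).presheaf.germ U x hx (tm F G U a b) =
      (CohB1.tensorMod F G).presheaf.germ U' x hx' (tm F G U' a' b') := by
  obtain ⟨W1, hxW1, i1, i1', h1⟩ := TopCat.Presheaf.germ_eq F.presheaf x hx hx' a a' ha
  obtain ⟨W2, hxW2, i2, i2', h2⟩ := TopCat.Presheaf.germ_eq G.presheaf x hx hx' b b' hb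
  have hxW : x ∈ W1 ⊓ W2 := ⟨hxW1, hxW2⟩
  have hWU : W1 ⊓ W2 ≤ U := inf_le_left.trans i1.le
  have hWU' : W1 ⊓ W2 ≤ U' := inf_le_left.trans i1'.le
  have ea : res F hWU a = res F hWU' a' := by
    have h := congrArg (res F (inf_le_left : W1 ⊓ W2 ≤ W1)) h1
    exact (res_res F inf_le_left i1.le a).symm.trans (h.trans (res_res F inf_le_left i1'.le a'))
  have eb : res G hWU b = res G hWU' b' := by
    have h := congrArg (res G (inf_le_right : W1 ⊓ W2 ≤ W2)) h2
    exact (res_res G inf_le_right i2.le b).symm.trans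
      (h.trans (res_res G inf_le_right i2'.le b'))
  apply TopCat.Presheaf.germ_ext (CohB1.tensorMod F G).presheaf (W1 ⊓ W2) hxW (homOfLE hWU)
    (homOfLE hWU')
  show res (CohB1.tensorMod F G) hWU (tm F G U a b) =
    res (CohB1.tensorMod F G) hWU' (tm F G U' a' b')
  rw [tm_res, tm_res, ea, eb]

/-- The tensor map on stalks `F_x × G_x → (F ⊗ G)_x`. -/
noncomputable def stalkTensor (x : X) (f : F.presheaf.stalk x) (g : G.presheaf.stalk x) :
    (CohB1.tensorMod F G).presheaf.stalk x :=
  (CohB1.tensorMod F G).presheaf.germ (repOpen F f ⊓ repOpen G g) x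
    ⟨mem_repOpen F f, mem_repOpen G g⟩
    (tm F G (repOpen F f ⊓ repOpen G g) (res F inf_le_left (repSec F f))
      (res G inf_le_right (repSec G g)))

theorem stalkTensor_germ {U : X.Opens} (x : X) (hx : x ∈ U) (a : Γ(F, U)) (b : Γ(G, U)) :
    stalkTensor F G x (F.presheaf.germ U x hx a) (G.presheaf.germ U x hx b) =
      (CohB1.tensorMod F G).presheaf.germ U x hx (tm F G U a b) := by
  unfold stalkTensor
  apply germ_tm_congr
  · exact (TopCat.Presheaf.germ_res_apply F.presheaf (homOfLE inf_le_left) x _ _).trans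
      (germ_repSec F _)
  · exact (TopCat.Presheaf.germ_res_apply G.presheaf (homOfLE inf_le_right) x _ _).trans
      (germ_repSec G _)

/-- common representatives -/
theorem exists_common_rep (x : X) (α : X.presheaf.stalk x) (f : F.presheaf.stalk x)
    (g : G.presheaf.stalk x) :
    ∃ (W : X.Opens) (hx : x ∈ W) (r : Γ(X, W)) (a : Γ(F, W)) (b : Γ(G, W)),
      X.presheaf.germ W x hx r = α ∧ F.presheaf.germ W x hx a = f ∧
        G.presheaf.germ W x hx b = g := by
  obtain ⟨U1, h1, r, rfl⟩ := TopCat.Presheaf.exists_germ_eq X.presheaf α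
  obtain ⟨U2, h2, a, rfl⟩ := TopCat.Presheaf.exists_germ_eq F.presheaf f
  obtain ⟨U3, h3, b, rfl⟩ := TopCat.Presheaf.exists_germ_eq G.presheaf g
  have hxW : x ∈ U1 ⊓ U2 ⊓ U3 := ⟨⟨h1, h2⟩, h3⟩
  have l1 : U1 ⊓ U2 ⊓ U3 ≤ U1 := inf_le_left.trans inf_le_left
  have l2 : U1 ⊓ U2 ⊓ U3 ≤ U2 := inf_le_left.trans inf_le_right
  have l3 : U1 ⊓ U2 ⊓ U3 ≤ U3 := inf_le_right
  exact ⟨U1 ⊓ U2 ⊓ U3, hxW, rres X l1 r, res F l2 a, res G l3 b,
    TopCat.Presheaf.germ_res_apply X.presheaf (homOfLE l1) x hxW r,
    TopCat.Presheaf.germ_res_apply F.presheaf (homOfLE l2) x hxW a,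
    TopCat.Presheaf.germ_res_apply G.presheaf (homOfLE l3) x hxW b⟩

theorem stalkTensor_smul_left (x : X) (α : X.presheaf.stalk x) (f : F.presheaf.stalk x)
    (g : G.presheaf.stalk x) :
    stalkTensor F G x (α • f) g = α • stalkTensor F G x f g := by
  obtain ⟨W, hx, r, a, b, rfl, rfl, rfl⟩ := exists_common_rep F G x α f g
  rw [← Mero.germ_smul, stalkTensor_germ, stalkTensor_germ, tm_smul_left, Mero.germ_smul]

theorem stalkTensor_smul_right (x : X) (α : X.presheaf.stalk x) (f : F.presheaf.stalk x)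
    (g : G.presheaf.stalk x) :
    stalkTensor F G x f (α • g) = α • stalkTensor F G x f g := by
  obtain ⟨W, hx, r, a, b, rfl, rfl, rfl⟩ := exists_common_rep F G x α f g
  rw [← Mero.germ_smul, stalkTensor_germ, stalkTensor_germ, tm_smul_right, Mero.germ_smul]

theorem spec_stalkTensor {ξ x : X} (hsp : ξ ⤳ x) (f : F.presheaf.stalk x)
    (g : G.presheaf.stalk x) :
    ((CohB1.tensorMod F G).presheaf.stalkSpecializes hsp).hom (stalkTensor F G x f g) =
      stalkTensor F G ξ ((F.presheaf.stalkSpecializes hsp).hom f)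
        ((G.presheaf.stalkSpecializes hsp).hom g) := by
  obtain ⟨W, hx, r, a, b, -, rfl, rfl⟩ := exists_common_rep F G x 0 f g
  rw [stalkTensor_germ, specHom_germ, specHom_germ, specHom_germ, stalkTensor_germ]

/-- If `F_x` and `G_x` are generated by one element each, so is `(F ⊗ G)_x`. -/
theorem exists_smul_stalkTensor (x : X) (tF : F.presheaf.stalk x)
    (hF : ∀ f : F.presheaf.stalk x, ∃ α : X.presheaf.stalk x, α • tF = f)
    (tG : G.presheaf.stalk x)
    (hG : ∀ g : G.presheaf.stalk x, ∃ α : X.presheaf.stalk x, α • tG = g)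
    (p : (CohB1.tensorMod F G).presheaf.stalk x) :
    ∃ r : X.presheaf.stalk x, r • stalkTensor F G x tF tG = p := by
  obtain ⟨U, hxU, σ, rfl⟩ := TopCat.Presheaf.exists_germ_eq (CohB1.tensorMod F G).presheaf p
  obtain ⟨V, hVU, hxV, y, hy⟩ := TensorSec.et_local_rep F G U σ x hxU
  have e0 : (CohB1.tensorMod F G).presheaf.germ U x hxU σ =
      (CohB1.tensorMod F G).presheaf.germ V x hxV (TensorSec.et F G V y) := by
    rw [hy]
    exact (TopCat.Presheaf.germ_res_apply (CohB1.tensorMod F G).presheaf (homOfLE hVU) x hxV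
      σ).symm
  rw [e0]
  clear hy e0
  induction y using TensorProduct.induction_on with
  | zero =>
    refine ⟨0, ?_⟩
    rw [zero_smul, map_zero, map_zero]
  | tmul m n =>
    obtain ⟨α, hα⟩ := hF (F.presheaf.germ V x hxV m)
    obtain ⟨β, hβ⟩ := hG (G.presheaf.germ V x hxV n)
    refine ⟨α * β, ?_⟩
    have e1 : (CohB1.tensorMod F G).presheaf.germ V x hxV (tm F G V m n) =
        stalkTensor F G x (F.presheaf.germ V x hxV m) (G.presheaf.germ V x hxV n) :=
      (stalkTensor_germ F G x hxV m n).symm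
    have e2 : TensorSec.et F G V (m ⊗ₜ[InvTensor.Rg X V] n) = tm F G V m n := rfl
    rw [e2, e1, ← hα, ← hβ, stalkTensor_smul_left, stalkTensor_smul_right, smul_smul]
  | add y1 y2 h1 h2 =>
    obtain ⟨r1, hr1⟩ := h1
    obtain ⟨r2, hr2⟩ := h2
    refine ⟨r1 + r2, ?_⟩
    rw [add_smul, hr1, hr2, map_add, map_add]

/-- Nonvanishing of the tensor of generators of the generic stalks. -/
theorem stalkTensor_ne_zero [F.IsQuasicoherent] [G.IsQuasicoherent] [F.IsFiniteType]
    [G.IsFiniteType] (x : X) (tF : F.presheaf.stalk x)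
    (hF : ∀ f : F.presheaf.stalk x, ∃ α : X.presheaf.stalk x, α • tF = f)
    (tG : G.presheaf.stalk x)
    (hG : ∀ g : G.presheaf.stalk x, ∃ α : X.presheaf.stalk x, α • tG = g)
    (hF0 : tF ≠ 0) (hG0 : tG ≠ 0) : stalkTensor F G x tF tG ≠ 0 := by
  intro h0
  have hx : x ∈ CohB1.support (CohB1.tensorMod F G) := by
    rw [SuppTensor.support_tensorMod]
    constructor
    · intro hsub
      exact hF0 (Subsingleton.elim _ _)
    · intro hsub
      exact hG0 (Subsingleton.elim _ _)
  apply hx
  refine ⟨fun p q => ?_⟩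
  obtain ⟨r, rfl⟩ := exists_smul_stalkTensor F G x tF hF tG hG p
  obtain ⟨r', rfl⟩ := exists_smul_stalkTensor F G x tF hF tG hG q
  rw [h0, smul_zero, smul_zero]

/-! ### the order computed with an arbitrary generator -/

theorem secOrdAt_eq_of_generator [IsIntegral X] [IsLocallyNoetherian X] (L : X.Modules)
    [L.IsQuasicoherent] (hLtf : TorSh.IsTorsionFree L) (x : X) (hx : Order.coheight x = 1)
    (hsp : genericPoint X ⤳ x) (t0 : L.presheaf.stalk x)
    (hspan : Submodule.span (X.presheaf.stalk x) {t0} = ⊤)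
    (φ : X.functionField) (hφ : φ ≠ 0) (w : L.presheaf.stalk (genericPoint X)) (hw : w ≠ 0)
    (hweq : w = φ • (L.presheaf.stalkSpecializes hsp).hom t0) :
    Cyc.secOrdAt L (genericPoint X) x hsp (Submodule.Quotient.mk w) = Scheme.ord φ x := by
  haveI : Module.IsTorsionFree (X.presheaf.stalk x) (L.presheaf.stalk x) := hLtf x
  haveI : Module.IsTorsionFree (X.presheaf.stalk (genericPoint X))
      (L.presheaf.stalk (genericPoint X)) := hLtf _
  have ht : ∃ t : L.presheaf.stalk x, Submodule.span (X.presheaf.stalk x) {t} = ⊤ :=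
    ⟨t0, hspan⟩
  have h1 := Classical.choose_spec ht
  obtain ⟨u, hu⟩ : ∃ u : X.presheaf.stalk x, u • Classical.choose ht = t0 :=
    Submodule.mem_span_singleton.mp (by rw [h1]; trivial)
  obtain ⟨u', hu'⟩ : ∃ u' : X.presheaf.stalk x, u' • t0 = Classical.choose ht :=
    Submodule.mem_span_singleton.mp (by rw [hspan]; trivial)
  have hspec0 : (L.presheaf.stalkSpecializes hsp).hom t0 ≠ 0 := by
    intro h0
    apply hw
    rw [hweq, h0, smul_zero]
  have ht0 : t0 ≠ 0 := by
    rintro rfl
    exact hspec0 (map_zero _)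
  have huu : u * u' = 1 := by
    apply smul_left_injective (X.presheaf.stalk x) ht0
    show (u * u') • t0 = (1 : X.presheaf.stalk x) • t0
    rw [mul_smul, hu', hu, one_smul]
  have hunit : IsUnit u := IsUnit.of_mul_eq_one u' huu
  have hw1 : w = (φ * (X.presheaf.stalkSpecializes hsp).hom u) •
      (L.presheaf.stalkSpecializes hsp).hom (Classical.choose ht) := by
    rw [mul_smul, ← specHom_smul, hu]
    exact hweq
  have hφ' : ∃ φ' : X.presheaf.stalk (genericPoint X),
      (Submodule.Quotient.mk w : Cyc.secFibre L (genericPoint X)) =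
        φ' • (Submodule.Quotient.mk ((L.presheaf.stalkSpecializes hsp) (Classical.choose ht)) :
          Cyc.secFibre L (genericPoint X)) := by
    refine ⟨φ * (X.presheaf.stalkSpecializes hsp).hom u, ?_⟩
    rw [← Submodule.Quotient.mk_smul]
    exact congrArg _ hw1
  have hspec := Classical.choose_spec hφ'
  have hw2 : w = Classical.choose hφ' •
      (L.presheaf.stalkSpecializes hsp).hom (Classical.choose ht) := by
    apply mk_secFibre_injective L
    rw [Submodule.Quotient.mk_smul]
    exact hspec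
  have hspec1 : (L.presheaf.stalkSpecializes hsp).hom (Classical.choose ht) ≠ 0 := by
    intro h0
    apply hw
    have h3 : Classical.choose hφ' •
        (L.presheaf.stalkSpecializes hsp).hom (Classical.choose ht) = 0 :=
      (congrArg (fun z => Classical.choose hφ' • z) h0).trans (smul_zero _)
    exact hw2.trans h3
  have hφeq : Classical.choose hφ' = φ * (X.presheaf.stalkSpecializes hsp).hom u :=
    smul_left_injective (X.presheaf.stalk (genericPoint X)) hspec1 (hw2.symm.trans hw1)
  have hu0 : (X.presheaf.stalkSpecializes hsp).hom u ≠ 0 :=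
    (hunit.map (X.presheaf.stalkSpecializes hsp).hom).ne_zero
  have hne : (Classical.choose hφ' : X.functionField) ≠ 0 := by
    rw [hφeq]
    exact mul_ne_zero hφ hu0
  rw [secOrdAt_pos L (genericPoint X) x hsp _ ht hφ']
  have e1 := ordAt_residue_eq_ord x hx hsp (Classical.choose hφ') hne
  have e2 : Scheme.ord (Classical.choose hφ' : X.functionField) x =
      Scheme.ord (φ * (X.presheaf.stalkSpecializes hsp).hom u) x :=
    congrArg (fun z => Scheme.ord z x) hφeq
  have e3 := Scheme.ord_mul (x := x) hφ hu0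
  have e4 := ord_spec_unit x hx hsp u hunit
  exact e1.trans (e2.trans (e3.trans
    ((congrArg (fun z => Scheme.ord φ x + z) e4).trans (add_zero _))))

end Groth.Agent.Lib.Helper26.RefSh
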