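import Groth.Agent.Lib.Helper26.RefShL
import Groth.Agent.S16086
import Groth.Agent.S16090

/-!
# The divisor class of a rank one reflexive module and the group law (helper26)
-/

set_option autoImplicit false
set_option linter.style.haveILetI false
set_option linter.unusedSectionVars false
universe u
open CategoryTheory CategoryTheory.Limits AlgebraicGeometry TopologicalSpace Opposite

namespace Groth.Agent.Lib.Helper26.RefSh

section classgroup

variable (X : Scheme.{u}) [IsIntegral X] [IsLocallyNoetherian X]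

/-- codimension one points -/
abbrev P1 : Type u := {x : X // Order.coheight x = 1}

/-- principal divisors (as functions on the codimension one points) -/
noncomputable def prin : AddSubgroup (P1 X → ℤ) where
  carrier := {d | ∃ f : X.functionField, f ≠ 0 ∧ ∀ p : P1 X, d p = Scheme.ord f p.1}
  zero_mem' := ⟨1, one_ne_zero, fun p => (ord_one p.1 p.2).symm⟩
  add_mem' := by
    rintro a b ⟨f, hf, ha⟩ ⟨g, hg, hb⟩
    refine ⟨f * g, mul_ne_zero hf hg, fun p => ?_⟩
    have h := Scheme.ord_mul (x := p.1) hf hg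
    have h1 : (a + b) p = a p + b p := rfl
    rw [h1, ha, hb]
    exact h.symm
  neg_mem' := by
    rintro a ⟨f, hf, ha⟩
    obtain ⟨f', hff'⟩ := isField_stalk_genericPoint.mul_inv_cancel hf
    have hf'0 : f' ≠ 0 := by
      rintro rfl
      rw [mul_zero] at hff'
      exact zero_ne_one hff'
    refine ⟨f', hf'0, fun p => ?_⟩
    have h1 := Scheme.ord_mul (x := p.1) hf hf'0
    have h2 : Scheme.ord (f * f') p.1 = Scheme.ord (1 : X.functionField) p.1 :=
      congrArg (fun z => Scheme.ord z p.1) hff'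
    have h3 := ord_one p.1 p.2
    have hsum : Scheme.ord f p.1 + Scheme.ord f' p.1 = 0 := h1.symm.trans (h2.trans h3)
    have h4 : (-a) p = - a p := rfl
    have h5 := ha p
    omega

theorem mem_prin {d : P1 X → ℤ} :
    d ∈ prin X ↔ ∃ f : X.functionField, f ≠ 0 ∧ ∀ p : P1 X, d p = Scheme.ord f p.1 :=
  Iff.rfl

/-- Weil divisor classes (supported on all codimension one points, no finiteness imposed) -/
abbrev ClQ : Type u := (P1 X → ℤ) ⧸ prin X

variable {X}

/-- the divisor of a rational section -/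
noncomputable def dv (F : X.Modules) (s : Cyc.secFibre F (genericPoint X)) : P1 X → ℤ :=
  fun p => Cyc.secOrdAt F (genericPoint X) p.1
    ((genericPoint_spec X).specializes (Set.mem_univ p.1)) s

/-- `q` is the divisor class of `F` -/
def HasCl (F : X.Modules) (q : ClQ X) : Prop :=
  ∃ s : Cyc.secFibre F (genericPoint X), s ≠ 0 ∧ (QuotientAddGroup.mk (dv F s) : ClQ X) = q

theorem iso_iff_cl (hX : Pi1.IsNormalScheme X) {F G : X.Modules} (hF : RefHull.IsRef1 F)
    (hG : RefHull.IsRef1 G) {q q' : ClQ X} (h : HasCl F q) (h' : HasCl G q') :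
    Nonempty (F ≅ G) ↔ q = q' := by
  obtain ⟨s, hs, rfl⟩ := h
  obtain ⟨t, ht, rfl⟩ := h'
  rw [Groth.Agent.S16086.result X hX F G hF hG s hs t ht, QuotientAddGroup.eq_iff_sub_mem,
    mem_prin]
  constructor
  · rintro ⟨f, hf, hord⟩
    refine ⟨f, hf, fun p => ?_⟩
    have e : (dv F s - dv G t) p =
        Cyc.secOrdAt F (genericPoint X) p.1
          ((genericPoint_spec X).specializes (Set.mem_univ p.1)) s -
        Cyc.secOrdAt G (genericPoint X) p.1
          ((genericPoint_spec X).specializes (Set.mem_univ p.1)) t := rfl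
    rw [e]
    have := hord p.1 p.2
    omega
  · rintro ⟨f, hf, hord⟩
    refine ⟨f, hf, fun x hx => ?_⟩
    have e : (dv F s - dv G t) ⟨x, hx⟩ =
        Cyc.secOrdAt F (genericPoint X) x
          ((genericPoint_spec X).specializes (Set.mem_univ x)) s -
        Cyc.secOrdAt G (genericPoint X) x
          ((genericPoint_spec X).specializes (Set.mem_univ x)) t := rfl
    have h0 : (dv F s - dv G t) ⟨x, hx⟩ = Scheme.ord f x := hord ⟨x, hx⟩
    rw [e] at h0
    omega

theorem hasCl_exists {F : X.Modules} (hF : RefHull.IsRef1 F) : ∃ q : ClQ X, HasCl F q := by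
  obtain ⟨v, hv⟩ := exists_ne_zero_of_isRef1 hF
  exact ⟨_, Submodule.Quotient.mk v,
    fun h => hv (mk_secFibre_injective F (h.trans (Submodule.Quotient.mk_zero _).symm)), rfl⟩

theorem hasCl_tensor (hX : Pi1.IsNormalScheme X) {F G : X.Modules} (hF : RefHull.IsRef1 F)
    (hG : RefHull.IsRef1 G) {q q' : ClQ X} (h : HasCl F q) (h' : HasCl G q') :
    HasCl (RefHull.ddual (CohB1.tensorMod F G)) (q + q') := by
  obtain ⟨s, hs, rfl⟩ := h
  obtain ⟨t, ht, rfl⟩ := h'
  obtain ⟨w, hw, hord⟩ := Groth.Agent.S16090.result X hX F G hF hG s hs t ht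
  refine ⟨w, hw, ?_⟩
  rw [← QuotientAddGroup.mk_add]
  exact congrArg _ (funext fun p => hord p.1 p.2)

theorem hasCl_one : HasCl (Coh.structureModule X) (0 : ClQ X) := by
  refine ⟨Submodule.Quotient.mk ((unitEquiv (genericPoint X)).symm 1), fun h => ?_, ?_⟩
  · have h1 := mk_secFibre_injective (Coh.structureModule X)
      (h.trans (Submodule.Quotient.mk_zero _).symm)
    have h2 := congrArg (unitEquiv (genericPoint X)) h1
    rw [LinearEquiv.apply_symm_apply, map_zero] at h2
    exact one_ne_zero h2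
  · rw [← QuotientAddGroup.mk_zero]
    exact congrArg _ (funext fun p => secOrdAt_one p.1 p.2 _)

theorem hasCl_dual (hX : Pi1.IsNormalScheme X) {F : X.Modules} (hF : RefHull.IsRef1 F)
    {q : ClQ X} (h : HasCl F q) : HasCl (RefHull.dual F) (-q) := by
  obtain ⟨s, hs, rfl⟩ := h
  obtain ⟨wF, rfl⟩ := Submodule.Quotient.mk_surjective _ s
  have hwF : wF ≠ 0 := by
    rintro rfl
    exact hs (Submodule.Quotient.mk_zero _)
  obtain ⟨wD, hval, hbij⟩ := exists_dual_generator hF wF hwF
  have hwD : wD ≠ 0 := by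
    rintro rfl
    have h1 : (1 : X.presheaf.stalk (genericPoint X)) = 0 := hbij.1 (by
      show (1 : X.presheaf.stalk (genericPoint X)) •
          (0 : (RefHull.dual F).presheaf.stalk (genericPoint X)) =
        (0 : X.presheaf.stalk (genericPoint X)) • (0 : (RefHull.dual F).presheaf.stalk (genericPoint X))
      rw [smul_zero, smul_zero])
    exact one_ne_zero h1
  have hD := isRef1_dual hF
  refine ⟨Submodule.Quotient.mk wD,
    fun h => hwD (mk_secFibre_injective _ (h.trans (Submodule.Quotient.mk_zero _).symm)), ?_⟩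
  rw [← QuotientAddGroup.mk_neg]
  refine congrArg _ (funext fun p => ?_)
  have h1 := ord_eval hX F hF hD wF hwF wD hwD p.1 p.2
    ((genericPoint_spec X).specializes (Set.mem_univ p.1))
  rw [hval, LinearEquiv.apply_symm_apply] at h1
  have h2 := ord_one p.1 p.2
  have h3 : (0 : ℤ) =
      Cyc.secOrdAt (RefHull.dual F) (genericPoint X) p.1
        ((genericPoint_spec X).specializes (Set.mem_univ p.1)) (Submodule.Quotient.mk wD) +
      Cyc.secOrdAt F (genericPoint X) p.1
        ((genericPoint_spec X).specializes (Set.mem_univ p.1)) (Submodule.Quotient.mk wF) :=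
    h2.symm.trans h1
  have e : (-dv F (Submodule.Quotient.mk wF)) p =
      - Cyc.secOrdAt F (genericPoint X) p.1
        ((genericPoint_spec X).specializes (Set.mem_univ p.1)) (Submodule.Quotient.mk wF) := rfl
  have e' : dv (RefHull.dual F) (Submodule.Quotient.mk wD) p =
      Cyc.secOrdAt (RefHull.dual F) (genericPoint X) p.1
        ((genericPoint_spec X).specializes (Set.mem_univ p.1)) (Submodule.Quotient.mk wD) := rfl
  rw [e, e']
  omega

theorem iso_of_cl_eq {F G : X.Modules} (h : PicF.cl F = PicF.cl G) : Nonempty (F ≅ G) := by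
  have h1 := Quot.eqvGen_exact h
  clear h
  induction h1 with
  | rel _ _ h => exact h
  | refl _ => exact ⟨Iso.refl _⟩
  | symm _ _ _ ih => exact ⟨ih.some.symm⟩
  | trans _ _ _ _ _ ih1 ih2 => exact ⟨ih1.some ≪≫ ih2.some⟩

end classgroup

section group

variable (X : Scheme.{u})

/-- isomorphism classes of rank one coherent reflexive modules -/
abbrev R1 : Type (u + 1) :=
  {c : PicF.Cl X // ∃ F : X.Modules, PicF.cl F = c ∧ RefHull.IsRef1 F}

variable {X}

noncomputable def R1.rep (a : R1 X) : X.Modules := Classical.choose a.2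

theorem R1.rep_cl (a : R1 X) : PicF.cl a.rep = a.1 := (Classical.choose_spec a.2).1

theorem R1.rep_ref (a : R1 X) : RefHull.IsRef1 a.rep := (Classical.choose_spec a.2).2

variable [IsIntegral X] [IsLocallyNoetherian X]

noncomputable def R1.kappa (a : R1 X) : ClQ X := Classical.choose (hasCl_exists a.rep_ref)

theorem R1.hasCl_kappa (a : R1 X) : HasCl a.rep a.kappa :=
  Classical.choose_spec (hasCl_exists a.rep_ref)

theorem R1.kappa_injective (hX : Pi1.IsNormalScheme X) (a b : R1 X) (h : a.kappa = b.kappa) :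
    a = b := by
  obtain ⟨e⟩ := (iso_iff_cl hX a.rep_ref b.rep_ref a.hasCl_kappa b.hasCl_kappa).mpr h
  apply Subtype.ext
  rw [← a.rep_cl, ← b.rep_cl]
  exact Quot.sound ⟨e⟩

theorem R1.kappa_mk (hX : Pi1.IsNormalScheme X) (F : X.Modules) (hF : RefHull.IsRef1 F)
    (q : ClQ X) (hq : HasCl F q) : R1.kappa (⟨PicF.cl F, F, rfl, hF⟩ : R1 X) = q := by
  have h1 : PicF.cl (R1.rep (⟨PicF.cl F, F, rfl, hF⟩ : R1 X)) = PicF.cl F := R1.rep_cl _
  exact (iso_iff_cl hX (R1.rep_ref _) hF (R1.hasCl_kappa _) hq).mp (iso_of_cl_eq h1)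

noncomputable def R1.mul (hX : Pi1.IsNormalScheme X) (a b : R1 X) : R1 X :=
  ⟨PicF.cl (RefHull.ddual (CohB1.tensorMod a.rep b.rep)), _, rfl,
    isRef1_ddual_tensorMod hX a.rep_ref b.rep_ref⟩

noncomputable def R1.one : R1 X :=
  ⟨PicF.cl (Coh.structureModule X), _, rfl, isRef1_structureModule X⟩

noncomputable def R1.inv (a : R1 X) : R1 X :=
  ⟨PicF.cl (RefHull.dual a.rep), _, rfl, isRef1_dual a.rep_ref⟩

theorem R1.kappa_mul (hX : Pi1.IsNormalScheme X) (a b : R1 X) :
    (R1.mul hX a b).kappa = a.kappa + b.kappa :=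
  R1.kappa_mk hX _ (isRef1_ddual_tensorMod hX a.rep_ref b.rep_ref) _
    (hasCl_tensor hX a.rep_ref b.rep_ref a.hasCl_kappa b.hasCl_kappa)

theorem R1.kappa_one (hX : Pi1.IsNormalScheme X) : (R1.one : R1 X).kappa = 0 :=
  R1.kappa_mk hX _ (isRef1_structureModule X) _ hasCl_one

theorem R1.kappa_inv (hX : Pi1.IsNormalScheme X) (a : R1 X) : (R1.inv a).kappa = -a.kappa :=
  R1.kappa_mk hX _ (isRef1_dual a.rep_ref) _ (hasCl_dual hX a.rep_ref a.hasCl_kappa)

theorem R1.mul_mk (hX : Pi1.IsNormalScheme X) (F G : X.Modules) (hF : RefHull.IsRef1 F)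
    (hG : RefHull.IsRef1 G) :
    (R1.mul hX (⟨PicF.cl F, F, rfl, hF⟩ : R1 X) (⟨PicF.cl G, G, rfl, hG⟩ : R1 X)).1 =
      PicF.cl (RefHull.ddual (CohB1.tensorMod F G)) := by
  obtain ⟨qF, hqF⟩ := hasCl_exists hF
  obtain ⟨qG, hqG⟩ := hasCl_exists hG
  have ha := R1.kappa_mk hX F hF qF hqF
  have hb := R1.kappa_mk hX G hG qG hqG
  obtain ⟨e⟩ := (iso_iff_cl hX
    (isRef1_ddual_tensorMod hX (R1.rep_ref (⟨PicF.cl F, F, rfl, hF⟩ : R1 X))
      (R1.rep_ref (⟨PicF.cl G, G, rfl, hG⟩ : R1 X)))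
    (isRef1_ddual_tensorMod hX hF hG)
    (hasCl_tensor hX (R1.rep_ref _) (R1.rep_ref _) (R1.hasCl_kappa _) (R1.hasCl_kappa _))
    (hasCl_tensor hX hF hG hqF hqG)).mpr (by rw [ha, hb])
  exact Quot.sound ⟨e⟩

theorem R1.inv_mk (hX : Pi1.IsNormalScheme X) (F : X.Modules) (hF : RefHull.IsRef1 F) :
    (R1.inv (⟨PicF.cl F, F, rfl, hF⟩ : R1 X)).1 = PicF.cl (RefHull.dual F) := by
  obtain ⟨qF, hqF⟩ := hasCl_exists hF
  have ha := R1.kappa_mk hX F hF qF hqF
  obtain ⟨e⟩ := (iso_iff_cl hX
    (isRef1_dual (R1.rep_ref (⟨PicF.cl F, F, rfl, hF⟩ : R1 X))) (isRef1_dual hF)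
    (hasCl_dual hX (R1.rep_ref _) (R1.hasCl_kappa _)) (hasCl_dual hX hF hqF)).mpr (by rw [ha])
  exact Quot.sound ⟨e⟩

end group

end Groth.Agent.Lib.Helper26.RefSh
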