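import Groth.Agent.Lib.Helper26.RefShL
import Groth.Agent.Lib.Helper16.Mero.ZeroScheme
import Groth.Agent.Lib.Helper3.InvCoh

/-!
# Orders of rational sections of invertible modules (helper26)
-/

set_option autoImplicit false
set_option linter.style.haveILetI false
set_option linter.unusedSectionVars false
universe u
open CategoryTheory CategoryTheory.Limits AlgebraicGeometry TopologicalSpace Opposite

namespace Groth.Agent.Lib.Helper26.RefSh

open Groth.Agent.Lib.Helper3 Groth.Agent.Lib.Helper3.QCSec Groth.Agent.Lib.Helper17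
open Groth.Agent.Lib.Helper3.InvGen

variable {X : Scheme.{u}}

/-- the order of a rational section in terms of any generator of the stalk -/
theorem secOrdAt_of_span [IsIntegral X] [IsLocallyNoetherian X] (L : X.Modules)
    [L.IsQuasicoherent] (hLtf : TorSh.IsTorsionFree L) (x : X) (hx : Order.coheight x = 1)
    (hsp : genericPoint X ⤳ x) (t0 : L.presheaf.stalk x)
    (hspan : Submodule.span (X.presheaf.stalk x) {t0} = ⊤)
    (w : L.presheaf.stalk (genericPoint X)) (hw : w ≠ 0) :
    ∃ φ : X.functionField, φ ≠ 0 ∧ w = φ • (L.presheaf.stalkSpecializes hsp).hom t0 ∧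
      Cyc.secOrdAt L (genericPoint X) x hsp (Submodule.Quotient.mk w) = Scheme.ord φ x := by
  obtain ⟨b, hb, m, hbm⟩ := exists_unit_smul_eq_spec L x hsp w
  have hm : m ∈ Submodule.span (X.presheaf.stalk x) {t0} := by
    rw [hspan]
    trivial
  obtain ⟨a, rfl⟩ := Submodule.mem_span_singleton.mp hm
  have hweq : w = (↑(hb.unit⁻¹) * (X.presheaf.stalkSpecializes hsp).hom a : X.functionField) •
      (L.presheaf.stalkSpecializes hsp).hom t0 := by
    rw [mul_smul, ← specHom_smul, ← hbm, smul_smul, IsUnit.val_inv_mul, one_smul]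
  have hφ : (↑(hb.unit⁻¹) * (X.presheaf.stalkSpecializes hsp).hom a : X.functionField) ≠ 0 := by
    intro h0
    apply hw
    rw [hweq, h0, zero_smul]
  exact ⟨_, hφ, hweq, secOrdAt_eq_of_generator L hLtf x hx hsp t0 hspan _ hφ w hw hweq⟩

theorem isTorsionFree_of_isInvertible [IsIntegral X] {L : X.Modules}
    (hL : PicF.IsInvertible L) : TorSh.IsTorsionFree L := fun y =>
  ⟨fun r hr m1 m2 h => by
    have h' : r • (m1 - m2) = 0 := by
      rw [smul_sub]
      exact sub_eq_zero.mpr h
    rcases H16Mero.stalk_smul_eq_zero hL r (m1 - m2) h' with h0 | h0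
    · exact absurd h0 hr.ne_zero
    · exact sub_eq_zero.mp h0⟩

theorem exists_span_of_isInvertible {L : X.Modules} (hL : PicF.IsInvertible L) (x : X) :
    ∃ t : L.presheaf.stalk x, Submodule.span (X.presheaf.stalk x) {t} = ⊤ := by
  obtain ⟨W, ε, hxW, hg⟩ := exists_isGen hL x
  refine ⟨L.presheaf.germ W x hxW ε, ?_⟩
  rw [eq_top_iff]
  intro m _
  rw [Submodule.mem_span_singleton]
  exact H16Mero.exists_smul_germ_eq hg hxW m

theorem genInvertible_of_isInvertible [IsIntegral X] {L : X.Modules}
    (hL : PicF.IsInvertible L) : RefHull.GenInvertible L := by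
  refine ⟨⊤, ?_, Groth.Agent.Lib.Helper5.isInvertible_restrict hL _⟩
  rw [Opens.coe_top]
  exact dense_univ

end Groth.Agent.Lib.Helper26.RefSh
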