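import Groth.Agent.Lib.Helper26.RefShN

/-!
# Invertible modules are rank one reflexive (helper26)
-/

set_option autoImplicit false
set_option linter.style.haveILetI false
set_option linter.unusedSectionVars false
universe u
open CategoryTheory CategoryTheory.Limits AlgebraicGeometry TopologicalSpace Opposite

namespace Groth.Agent.Lib.Helper26.RefSh

open Groth.Agent.Lib.Helper3 Groth.Agent.Lib.Helper3.QCSec Groth.Agent.Lib.Helper17
open Groth.Agent.Lib.Helper3.InvGen

variable {X : Scheme.{u}}

/-- the stalks of an invertible module are free of rank one -/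
theorem exists_bijective_smul_of_isInvertible {L : X.Modules} (hL : PicF.IsInvertible L) (x : X) :
    ∃ t : L.presheaf.stalk x, Function.Bijective (fun a : X.presheaf.stalk x => a • t) := by
  obtain ⟨W, ε, hxW, hg⟩ := exists_isGen hL x
  refine ⟨L.presheaf.germ W x hxW ε, ?_, fun m => H16Mero.exists_smul_germ_eq hg hxW m⟩
  intro a b hab
  have h1 : (a - b) • L.presheaf.germ W x hxW ε = 0 := by
    rw [sub_smul]
    exact sub_eq_zero.mpr hab
  exact sub_eq_zero.mp (H16Mero.germ_smul_eq_zero hg hxW _ h1)

theorem isRef1_of_isInvertible [IsIntegral X] [IsLocallyNoetherian X] {L : X.Modules}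
    (hL : PicF.IsInvertible L) : RefHull.IsRef1 L := by
  have hcoh : Coh.IsCoh L := ⟨InvCoh.isQuasicoherent_of_isInvertible hL,
    InvCoh.isFiniteType_of_isInvertible hL⟩
  refine ⟨hcoh, (isReflexive_iff_forall hcoh).mpr (fun x => ?_),
    genInvertible_of_isInvertible hL⟩
  obtain ⟨t, hbij⟩ := exists_bijective_smul_of_isInvertible hL x
  let T : X.presheaf.stalk x →ₗ[X.presheaf.stalk x] L.presheaf.stalk x :=
    { toFun := fun a => a • t
      map_add' := fun a b => add_smul a b t
      map_smul' := fun a b => mul_smul a b t }
  show Module.IsReflexive (X.presheaf.stalk x) (L.presheaf.stalk x)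
  exact Module.equiv (LinearEquiv.ofBijective T hbij)

end Groth.Agent.Lib.Helper26.RefSh
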