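import Groth.Agent.Lib.Helper26.RefShM
import Groth.Agent.Lib.Helper26.RefShO
import Groth.Agent.Lib.Helper3.InvRestrict

/-!
# Weil divisors of rank one reflexive modules: general lemmas (helper26)
-/

set_option autoImplicit false
set_option linter.style.haveILetI false
set_option linter.unusedSectionVars false
universe u
open CategoryTheory CategoryTheory.Limits AlgebraicGeometry TopologicalSpace Opposite

namespace Groth.Agent.Lib.Helper26.RefSh

open Groth.Agent.Lib.Helper3 Groth.Agent.Lib.Helper3.QCSec Groth.Agent.Lib.Helper17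
open Groth.Agent.Lib.Helper3.InvGen

variable {X : Scheme.{u}}

/-! ### points of codimension one -/

theorem eq_of_specializes_of_coheight_eq_one {z x : X} (h : z ⤳ x) (hz : Order.coheight z = 1)
    (hx : Order.coheight x = 1) : z = x := by
  by_contra hne
  have hnot : ¬ x ⤳ z := fun h' => hne (h.antisymm h').eq
  have hlt : x < z := ⟨h, hnot⟩
  have h1 := Order.coheight_add_one_le hlt
  rw [hz, hx] at h1
  exact absurd h1 (by decide)

theorem coheight_genericPoint_ne_one [IsIntegral X] : Order.coheight (genericPoint X) ≠ 1 := by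
  intro h
  have h1 := ringKrullDim_eq_one_of_coheight (genericPoint X) h
  rw [ringKrullDim_stalk_genericPoint] at h1
  exact zero_ne_one h1

/-- a neighbourhood of `x` in which the only points of the support are generizations of `x` -/
theorem exists_open_isolating (E : X → ℕ) (hE : LocallyFiniteSupport E) (x : X) :
    ∃ V : X.Opens, x ∈ V ∧ ∀ z ∈ V, E z ≠ 0 → z ⤳ x := by
  obtain ⟨t, ht, hfin⟩ := hE x
  let S : Set X := {z | z ∈ t ∩ Function.support E ∧ ¬ z ⤳ x}
  have hSfin : S.Finite := hfin.subset (fun z hz => hz.1)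
  let B : Set X := ⋃ z ∈ S, closure {z}
  have hBc : IsClosed B := hSfin.isClosed_biUnion (fun z _ => isClosed_closure)
  obtain ⟨O, hOt, hOo, hxO⟩ := mem_nhds_iff.mp ht
  refine ⟨⟨O ∩ Bᶜ, hOo.inter hBc.isOpen_compl⟩, ?_, ?_⟩
  · refine ⟨hxO, ?_⟩
    intro hxB
    obtain ⟨z, hz, hxz⟩ := Set.mem_iUnion₂.mp hxB
    exact hz.2 (specializes_iff_mem_closure.mpr hxz)
  · intro z hz hEz
    by_contra hns
    apply hz.2
    exact Set.mem_iUnion₂.mpr ⟨z, ⟨⟨hOt hz.1, hEz⟩, hns⟩, subset_closure rfl⟩

/-! ### orders of vanishing -/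

theorem ord_spec_irreducible [IsIntegral X] [IsLocallyNoetherian X] (hX : Pi1.IsNormalScheme X)
    (x : X) (hx : Order.coheight x = 1) (hsp : genericPoint X ⤳ x) (ϖ : X.presheaf.stalk x)
    (hϖ : Irreducible ϖ) :
    Scheme.ord ((X.presheaf.stalkSpecializes hsp).hom ϖ : X.functionField) x = 1 := by
  haveI : Ring.KrullDimLE 1 (X.presheaf.stalk x) := krullDimLE_of_coheight_le hx.le
  haveI := (hX x).2
  haveI : IsDiscreteValuationRing (X.presheaf.stalk x) :=
    isDiscreteValuationRing_of_normal_of_dim_one _ (ringKrullDim_eq_one_of_coheight x hx)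
  have h1 : Ring.ordFrac (X.presheaf.stalk x)
      (algebraMap (X.presheaf.stalk x) X.functionField ϖ) = WithZero.exp 1 :=
    Ring.ordFrac_irreducible hϖ
  have hne : algebraMap (X.presheaf.stalk x) X.functionField ϖ ≠ 0 :=
    (map_ne_zero_iff _ (IsFractionRing.injective (X.presheaf.stalk x) X.functionField)).mpr
      hϖ.ne_zero
  have h2 : Scheme.ord (algebraMap (X.presheaf.stalk x) X.functionField ϖ) x = 1 := by
    rw [Scheme.ord_eq_iff hx hne]
    exact h1
  exact h2

theorem ord_pow_eq [IsIntegral X] [IsLocallyNoetherian X] (x : X) (hx : Order.coheight x = 1)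
    (f : X.functionField) (hf : f ≠ 0) (n : ℕ) :
    Scheme.ord (f ^ n) x = (n : ℤ) * Scheme.ord f x := by
  induction n with
  | zero =>
    have h0 : f ^ 0 = (1 : X.functionField) := pow_zero f
    have h1 : Scheme.ord (f ^ 0) x = Scheme.ord (1 : X.functionField) x :=
      congrArg (fun z : X.functionField => Scheme.ord z x) h0
    rw [h1, ord_one x hx]
    simp
  | succ k ih =>
    have h0 : f ^ (k + 1) = f ^ k * f := pow_succ f k
    have h1 : Scheme.ord (f ^ (k + 1)) x = Scheme.ord (f ^ k * f) x :=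
      congrArg (fun z : X.functionField => Scheme.ord z x) h0
    have h2 := Scheme.ord_mul (x := x) (pow_ne_zero k hf) hf
    refine (h1.trans h2).trans ?_
    rw [ih]
    push_cast
    ring

theorem ord_of_mul_eq_one [IsIntegral X] [IsLocallyNoetherian X] (x : X)
    (hx : Order.coheight x = 1) (f f' : X.functionField) (h : f * f' = 1) :
    Scheme.ord f' x = - Scheme.ord f x := by
  have hf : f ≠ 0 := by
    rintro rfl
    rw [zero_mul] at h
    exact zero_ne_one h
  have hf' : f' ≠ 0 := by
    rintro rfl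
    rw [mul_zero] at h
    exact zero_ne_one h
  have h1 := Scheme.ord_mul (x := x) hf hf'
  have h2 : Scheme.ord (f * f') x = Scheme.ord (1 : X.functionField) x :=
    congrArg (fun z : X.functionField => Scheme.ord z x) h
  have h3 := ord_one x hx
  have hsum : Scheme.ord f x + Scheme.ord f' x = 0 := h1.symm.trans (h2.trans h3)
  omega

/-! ### the dual section with the opposite divisor -/

theorem exists_dual_section [IsIntegral X] [IsLocallyNoetherian X] (hX : Pi1.IsNormalScheme X)
    {F : X.Modules} (hF : RefHull.IsRef1 F) (s : Cyc.secFibre F (genericPoint X)) (hs : s ≠ 0) :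
    ∃ t : Cyc.secFibre (RefHull.dual F) (genericPoint X), t ≠ 0 ∧
      ∀ (x : X) (_ : Order.coheight x = 1),
        Cyc.secOrdAt (RefHull.dual F) (genericPoint X) x
          ((genericPoint_spec X).specializes (Set.mem_univ x)) t =
        - Cyc.secOrdAt F (genericPoint X) x
          ((genericPoint_spec X).specializes (Set.mem_univ x)) s := by
  obtain ⟨wF, rfl⟩ := Submodule.Quotient.mk_surjective _ s
  have hwF : wF ≠ 0 := by
    rintro rfl
    exact hs (Submodule.Quotient.mk_zero _)
  obtain ⟨wD, hval, hbij⟩ := exists_dual_generator hF wF hwF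
  have hwD : wD ≠ 0 := by
    rintro rfl
    have h1 : (1 : X.presheaf.stalk (genericPoint X)) = 0 := hbij.1 (by
      show (1 : X.presheaf.stalk (genericPoint X)) •
          (0 : (RefHull.dual F).presheaf.stalk (genericPoint X)) =
        (0 : X.presheaf.stalk (genericPoint X)) • (0 : (RefHull.dual F).presheaf.stalk (genericPoint X))
      rw [smul_zero, smul_zero])
    exact one_ne_zero h1
  have hD := isRef1_dual hF
  refine ⟨Submodule.Quotient.mk wD,
    fun h => hwD (mk_secFibre_injective _ (h.trans (Submodule.Quotient.mk_zero _).symm)),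
    fun x hx => ?_⟩
  have h1 := ord_eval hX F hF hD wF hwF wD hwD x hx
    ((genericPoint_spec X).specializes (Set.mem_univ x))
  rw [hval, LinearEquiv.apply_symm_apply] at h1
  have h2 := ord_one x hx
  have h3 : (0 : ℤ) =
      Cyc.secOrdAt (RefHull.dual F) (genericPoint X) x
        ((genericPoint_spec X).specializes (Set.mem_univ x)) (Submodule.Quotient.mk wD) +
      Cyc.secOrdAt F (genericPoint X) x
        ((genericPoint_spec X).specializes (Set.mem_univ x)) (Submodule.Quotient.mk wF) :=
    h2.symm.trans h1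
  omega

/-! ### the reflexive hull of a coherent module of rank one -/

section ddual

variable [IsIntegral X] [IsLocallyNoetherian X]

theorem isRef1_ddual_of_generator (hX : Pi1.IsNormalScheme X) {N : X.Modules}
    (hN : Coh.IsCoh N) (w : N.presheaf.stalk (genericPoint X)) (hw : w ≠ 0)
    (hgen : ∀ m : N.presheaf.stalk (genericPoint X),
      ∃ a : X.presheaf.stalk (genericPoint X), a • w = m) :
    RefHull.IsRef1 (RefHull.ddual N) ∧
      RefHull.stalkMapₗ (RefHull.bidualMap N) (genericPoint X) w ≠ 0 := by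
  have hMcoh := isCoh_ddual hN
  haveI : (RefHull.ddual N).IsQuasicoherent := hMcoh.1
  haveI : (RefHull.ddual N).IsFiniteType := hMcoh.2
  have hMr : ∀ x : X, RefHull.IsReflexiveAt (RefHull.ddual N) x := fun x =>
    isReflexiveAt_dual (isCoh_dual hN) x
  have hbijη := (stalkMap_bidual_bijective_iff hN (genericPoint X)).mpr
    (isReflexiveAt_genericPoint hX hN)
  have hwM : RefHull.stalkMapₗ (RefHull.bidualMap N) (genericPoint X) w ≠ 0 :=
    fun h => hw (hbijη.1 (h.trans (map_zero _).symm))
  refine ⟨⟨hMcoh, (isReflexive_iff_forall hMcoh).mpr hMr, ?_⟩, hwM⟩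
  haveI : Module.IsTorsionFree (X.presheaf.stalk (genericPoint X))
      ((RefHull.ddual N).presheaf.stalk (genericPoint X)) := by
    haveI : Module.IsReflexive (X.presheaf.stalk (genericPoint X))
      ((RefHull.ddual N).presheaf.stalk (genericPoint X)) := hMr _
    infer_instance
  apply genInvertible_of_generator _
    (RefHull.stalkMapₗ (RefHull.bidualMap N) (genericPoint X) w)
  constructor
  · intro a b hab
    exact smul_left_injective (X.presheaf.stalk (genericPoint X)) hwM hab
  · intro m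
    obtain ⟨p, rfl⟩ := hbijη.2 m
    obtain ⟨r, rfl⟩ := hgen p
    exact ⟨r, (map_smul _ r _).symm⟩

theorem secOrdAt_ddual (hX : Pi1.IsNormalScheme X) {N : X.Modules} (hN : Coh.IsCoh N)
    (w : N.presheaf.stalk (genericPoint X)) (hw : w ≠ 0)
    (x : X) (hx : Order.coheight x = 1) (hsp : genericPoint X ⤳ x) (t0 : N.presheaf.stalk x)
    (hspan : Submodule.span (X.presheaf.stalk x) {t0} = ⊤) (φ : X.functionField) (hφ : φ ≠ 0)
    (hweq : w = φ • (N.presheaf.stalkSpecializes hsp).hom t0) :
    Cyc.secOrdAt (RefHull.ddual N) (genericPoint X) x hsp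
      (Submodule.Quotient.mk (RefHull.stalkMapₗ (RefHull.bidualMap N) (genericPoint X) w)) =
      Scheme.ord φ x := by
  have hMcoh := isCoh_ddual hN
  haveI : (RefHull.ddual N).IsQuasicoherent := hMcoh.1
  have hMr : ∀ y : X, RefHull.IsReflexiveAt (RefHull.ddual N) y := fun y =>
    isReflexiveAt_dual (isCoh_dual hN) y
  have hMtf : TorSh.IsTorsionFree (RefHull.ddual N) := fun y => by
    haveI : Module.IsReflexive (X.presheaf.stalk y) ((RefHull.ddual N).presheaf.stalk y) := hMr y
    infer_instance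
  have hcη : Function.Injective (RefHull.stalkMapₗ (RefHull.bidualMap N) (genericPoint X)) :=
    ((stalkMap_bidual_bijective_iff hN (genericPoint X)).mpr
      (isReflexiveAt_genericPoint hX hN)).1
  have hwM : RefHull.stalkMapₗ (RefHull.bidualMap N) (genericPoint X) w ≠ 0 :=
    fun h => hw (hcη (h.trans (map_zero _).symm))
  have hdim1 := ringKrullDim_eq_one_of_coheight x hx
  have hdim : ¬ (2 : WithBot ℕ∞) ≤ ringKrullDim (X.presheaf.stalk x) := by
    rw [hdim1]
    decide
  have hsurj := surjective_stalkMap_bidual hX hN x hdim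
  have hspanM : Submodule.span (X.presheaf.stalk x)
      {RefHull.stalkMapₗ (RefHull.bidualMap N) x t0} = ⊤ := by
    rw [eq_top_iff]
    intro m _
    obtain ⟨p, rfl⟩ := hsurj m
    obtain ⟨r, rfl⟩ := Submodule.mem_span_singleton.mp
      (show p ∈ Submodule.span (X.presheaf.stalk x) {t0} by rw [hspan]; trivial)
    rw [map_smul]
    exact Submodule.smul_mem _ _ (Submodule.mem_span_singleton_self _)
  have hwMeq : RefHull.stalkMapₗ (RefHull.bidualMap N) (genericPoint X) w =
      φ • ((RefHull.ddual N).presheaf.stalkSpecializes hsp).hom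
        (RefHull.stalkMapₗ (RefHull.bidualMap N) x t0) := by
    rw [hweq, map_smul, spec_stalkMap]
  exact secOrdAt_eq_of_generator (RefHull.ddual N) hMtf x hx hsp _ hspanM φ hφ _ hwM hwMeq

end ddual

/-! ### generators on opens -/

theorem stalk_surj_of_isGen {L : X.Modules} {U : X.Opens} {e : Γ(L, U)} (hg : IsGen L U e)
    (x : X) (hx : x ∈ U) (m : L.presheaf.stalk x) :
    ∃ a : X.presheaf.stalk x, a • L.presheaf.germ U x hx e = m := by
  obtain ⟨V, hxV, s, rfl⟩ := TopCat.Presheaf.exists_germ_eq L.presheaf m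
  have hW : V ⊓ U ≤ U := inf_le_right
  have hxW : x ∈ V ⊓ U := ⟨hxV, hx⟩
  obtain ⟨a, ha⟩ := (hg (V ⊓ U) hW).2 (res L (inf_le_left : V ⊓ U ≤ V) s)
  refine ⟨X.presheaf.germ (V ⊓ U) x hxW a, ?_⟩
  have e1 : L.presheaf.germ U x hx e = L.presheaf.germ (V ⊓ U) x hxW (res L hW e) :=
    (TopCat.Presheaf.germ_res_apply L.presheaf (homOfLE hW) x hxW e).symm
  have e2 : L.presheaf.germ V x hxV s =
      L.presheaf.germ (V ⊓ U) x hxW (res L (inf_le_left : V ⊓ U ≤ V) s) :=
    (TopCat.Presheaf.germ_res_apply L.presheaf (homOfLE (inf_le_left : V ⊓ U ≤ V)) x hxW s).symm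
  rw [e1, e2, ← Mero.germ_smul]
  exact congrArg _ ha

/-- near the generic point, a nonzero rational section of a rank one reflexive module has order
zero at all points of codimension one -/
theorem exists_open_secOrdAt_eq_zero [IsIntegral X] [IsLocallyNoetherian X]
    {F : X.Modules} (hF : RefHull.IsRef1 F) (s : Cyc.secFibre F (genericPoint X)) (hs : s ≠ 0) :
    ∃ U₀ : X.Opens, genericPoint X ∈ U₀ ∧ ∀ x ∈ U₀, Order.coheight x = 1 →
      Cyc.secOrdAt F (genericPoint X) x
        ((genericPoint_spec X).specializes (Set.mem_univ x)) s = 0 := by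
  haveI : F.IsQuasicoherent := hF.1.1
  have htf := isTorsionFree_of_isRef1 hF
  obtain ⟨w, rfl⟩ := Submodule.Quotient.mk_surjective _ s
  have hw : w ≠ 0 := by
    rintro rfl
    exact hs (Submodule.Quotient.mk_zero _)
  obtain ⟨U₁, hdense, hL⟩ := hF.2.2
  have hη : genericPoint X ∈ U₁ := genericPoint_mem_of_nonempty U₁ hdense.nonempty
  obtain ⟨U', e, hηU', hg⟩ := InvGen.exists_isGen hL ⟨genericPoint X, hη⟩
  have hg' : IsGen F (U₁.ι ''ᵁ U') (show Γ(F, U₁.ι ''ᵁ U') from e) :=
    (InvRestrict.isGen_restrict_iff U₁.ι F U' e).mp hg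
  have hηW : genericPoint X ∈ U₁.ι ''ᵁ U' := ⟨⟨genericPoint X, hη⟩, hηU', rfl⟩
  obtain ⟨ψ, hψ⟩ := stalk_surj_of_isGen hg' (genericPoint X) hηW w
  have hψ0 : (ψ : X.functionField) ≠ 0 := by
    rintro rfl
    rw [zero_smul] at hψ
    exact hw hψ.symm
  obtain ⟨U₂, -, f', hne, hf', hunit⟩ := exists_isUnit_germ_eq X (ψ : X.functionField) hψ0
  have hηU₂ : genericPoint X ∈ U₂ := by
    obtain ⟨⟨u, hu⟩⟩ := hne
    exact genericPoint_mem_of_nonempty U₂ ⟨u, hu⟩
  refine ⟨U₁.ι ''ᵁ U' ⊓ U₂, ⟨hηW, hηU₂⟩, fun x hxU hx => ?_⟩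
  have hsp : genericPoint X ⤳ x := (genericPoint_spec X).specializes (Set.mem_univ x)
  have hspan : Submodule.span (X.presheaf.stalk x)
      {F.presheaf.germ (U₁.ι ''ᵁ U') x hxU.1 (show Γ(F, U₁.ι ''ᵁ U') from e)} = ⊤ := by
    rw [eq_top_iff]
    intro m _
    obtain ⟨a, rfl⟩ := stalk_surj_of_isGen hg' x hxU.1 m
    exact Submodule.smul_mem _ _ (Submodule.mem_span_singleton_self _)
  have hweq : w = (ψ : X.functionField) • (F.presheaf.stalkSpecializes hsp).hom
      (F.presheaf.germ (U₁.ι ''ᵁ U') x hxU.1 (show Γ(F, U₁.ι ''ᵁ U') from e)) := by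
    rw [specHom_germ]
    exact hψ.symm
  have h1 := secOrdAt_eq_of_generator F htf x hx hsp _ hspan (ψ : X.functionField) hψ0 w hw hweq
  rw [h1, ← hf']
  exact Scheme.ord_of_isUnit hunit hxU.2

end Groth.Agent.Lib.Helper26.RefSh
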