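import Groth.Agent.Lib.Helper26.RefShQ

/-!
# The rank one reflexive module of an effective Weil divisor (helper26)
-/

set_option autoImplicit false
set_option linter.style.haveILetI false
set_option linter.unusedSectionVars false
universe u
open CategoryTheory CategoryTheory.Limits AlgebraicGeometry TopologicalSpace Opposite

namespace Groth.Agent.Lib.Helper26.RefSh

open Groth.Agent.Lib.Helper3 Groth.Agent.Lib.Helper3.QCSec Groth.Agent.Lib.Helper3.InvGen

variable {X : Scheme.{u}} [IsIntegral X] [IsLocallyNoetherian X]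

/-- a generator of the stalk of the ideal sheaf at a point of codimension one -/
theorem exists_stalk_generator (hX : Pi1.IsNormalScheme X) {E : X → ℕ}
    (hE : LocallyFiniteSupport E) (x : X) (hx : Order.coheight x = 1) :
    ∃ (V : X.Opens) (hxV : x ∈ V) (β : Γ(ClSub.idealMod (divSheaf hE), V)),
      Submodule.span (X.presheaf.stalk x)
        {(ClSub.idealMod (divSheaf hE)).presheaf.germ V x hxV β} = ⊤ ∧
      ∀ hη : genericPoint X ∈ V,
        (X.presheaf.germ V (genericPoint X) hη (IdealMod.val (divSheaf hE) β) :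
          X.functionField) ≠ 0 ∧
        Scheme.ord (X.presheaf.germ V (genericPoint X) hη (IdealMod.val (divSheaf hE) β) :
          X.functionField) x = (E x : ℤ) := by
  classical
  have hsp : genericPoint X ⤳ x := (genericPoint_spec X).specializes (Set.mem_univ x)
  haveI := (hX x).2
  haveI : IsDiscreteValuationRing (X.presheaf.stalk x) :=
    isDiscreteValuationRing_of_normal_of_dim_one _ (ringKrullDim_eq_one_of_coheight x hx)
  obtain ⟨ϖ, hϖ⟩ := IsDiscreteValuationRing.exists_irreducible (X.presheaf.stalk x)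
  have hmax : IsLocalRing.maximalIdeal (X.presheaf.stalk x) = Ideal.span {ϖ} :=
    hϖ.maximalIdeal_eq
  obtain ⟨V₁, hxV₁, hiso⟩ := exists_open_isolating E hE x
  obtain ⟨V₂, hxV₂, p, hp⟩ := TopCat.Presheaf.exists_germ_eq X.presheaf ϖ
  obtain ⟨V, hV, hxV, hVle⟩ := Opens.isBasis_iff_nbhd.mp X.isBasis_affineOpens
    (show x ∈ V₁ ⊓ V₂ from ⟨hxV₁, hxV₂⟩)
  have hVV₂ : V ≤ V₂ := hVle.trans inf_le_right
  have hp' : X.presheaf.germ V x hxV (rres X hVV₂ p) = ϖ :=
    (TopCat.Presheaf.germ_res_apply X.presheaf (homOfLE hVV₂) x hxV p).trans hp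
  have hb : (rres X hVV₂ p) ^ E x ∈ (divSheaf hE).ideal ⟨V, hV⟩ := by
    refine (mem_divIdeal E (U := ⟨V, hV⟩)).mpr ?_
    intro z hz hc
    by_cases h0 : E z = 0
    · rw [h0, pow_zero, Ideal.one_eq_top]
      trivial
    · have hzx : x = z :=
        (eq_of_specializes_of_coheight_eq_one (hiso z (hVle hz).1 h0) hc hx).symm
      subst hzx
      rw [map_pow, hp']
      apply Ideal.pow_mem_pow
      rw [hmax]
      exact Ideal.mem_span_singleton_self ϖ
  obtain ⟨β, hβ⟩ := exists_val_eq_of_mem' (divSheaf hE) hV _ hb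
  refine ⟨V, hxV, β, ?_, ?_⟩
  · rw [eq_top_iff]
    intro m _
    rw [Submodule.mem_span_singleton]
    obtain ⟨W, hxW, c, rfl⟩ :=
      TopCat.Presheaf.exists_germ_eq (ClSub.idealMod (divSheaf hE)).presheaf m
    obtain ⟨W', hW', hxW', hW'le⟩ := Opens.isBasis_iff_nbhd.mp X.isBasis_affineOpens
      (show x ∈ W ⊓ V from ⟨hxW, hxV⟩)
    have hW'W : W' ≤ W := hW'le.trans inf_le_left
    have hW'V : W' ≤ V := hW'le.trans inf_le_right
    have hc' := val_mem_ideal' (divSheaf hE) hW' (res (ClSub.idealMod (divSheaf hE)) hW'W c)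
    have h1 := (mem_divIdeal E (U := ⟨W', hW'⟩)).mp hc' x hxW' hx
    rw [hmax, Ideal.span_singleton_pow, Ideal.mem_span_singleton'] at h1
    obtain ⟨r, hr⟩ := h1
    obtain ⟨W₂, hxW₂, r', rfl⟩ := TopCat.Presheaf.exists_germ_eq X.presheaf r
    have hxW'' : x ∈ W' ⊓ W₂ := ⟨hxW', hxW₂⟩
    haveI : Nonempty ↥(W' ⊓ W₂) := ⟨⟨x, hxW''⟩⟩
    have hAW : W' ⊓ W₂ ≤ W := inf_le_left.trans hW'W
    have hAV : W' ⊓ W₂ ≤ V := inf_le_left.trans hW'V
    have hAW₂ : W' ⊓ W₂ ≤ W₂ := inf_le_right
    have ea : X.presheaf.germ (W' ⊓ W₂) x hxW''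
        (rres X hAW (IdealMod.val (divSheaf hE) c)) =
        X.presheaf.germ W x hxW (IdealMod.val (divSheaf hE) c) :=
      TopCat.Presheaf.germ_res_apply X.presheaf (homOfLE hAW) x hxW'' _
    have eb : X.presheaf.germ W' x hxW'
        (IdealMod.val (divSheaf hE) (res (ClSub.idealMod (divSheaf hE)) hW'W c)) =
        X.presheaf.germ W x hxW (IdealMod.val (divSheaf hE) c) := by
      rw [IdealMod.val_res]
      exact TopCat.Presheaf.germ_res_apply X.presheaf (homOfLE hW'W) x hxW' _
    have ec : X.presheaf.germ (W' ⊓ W₂) x hxW'' (rres X hAW₂ r') =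
        X.presheaf.germ W₂ x hxW₂ r' :=
      TopCat.Presheaf.germ_res_apply X.presheaf (homOfLE hAW₂) x hxW'' _
    have ed : X.presheaf.germ (W' ⊓ W₂) x hxW'' (rres X hAV ((rres X hVV₂ p) ^ E x)) =
        ϖ ^ E x :=
      (TopCat.Presheaf.germ_res_apply X.presheaf (homOfLE hAV) x hxW'' _).trans
        (by rw [map_pow, hp'])
    have key : res (ClSub.idealMod (divSheaf hE)) hAW c =
        rres X hAW₂ r' • res (ClSub.idealMod (divSheaf hE)) hAV β := by
      apply IdealMod.val_injective
      rw [IdealMod.val_smul, IdealMod.val_res, IdealMod.val_res, hβ]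
      apply germ_injective_of_isIntegral X x hxW''
      rw [map_mul, ea, ec, ed, ← eb, ← hr]
    refine ⟨X.presheaf.germ W₂ x hxW₂ r', ?_⟩
    have e1 : (ClSub.idealMod (divSheaf hE)).presheaf.germ W x hxW c =
        (ClSub.idealMod (divSheaf hE)).presheaf.germ (W' ⊓ W₂) x hxW''
          (res (ClSub.idealMod (divSheaf hE)) hAW c) :=
      (TopCat.Presheaf.germ_res_apply (ClSub.idealMod (divSheaf hE)).presheaf
        (homOfLE hAW) x hxW'' c).symm
    have e2 : (ClSub.idealMod (divSheaf hE)).presheaf.germ V x hxV β =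
        (ClSub.idealMod (divSheaf hE)).presheaf.germ (W' ⊓ W₂) x hxW''
          (res (ClSub.idealMod (divSheaf hE)) hAV β) :=
      (TopCat.Presheaf.germ_res_apply (ClSub.idealMod (divSheaf hE)).presheaf
        (homOfLE hAV) x hxW'' β).symm
    rw [e1, e2, ← ec, key, Mero.germ_smul]
  · intro hη
    have e1 : X.presheaf.germ V (genericPoint X) hη (IdealMod.val (divSheaf hE) β) =
        ((X.presheaf.stalkSpecializes hsp).hom ϖ) ^ E x := by
      rw [hβ, map_pow, ← hp', specHom_germ_ring]
    have hne : ((X.presheaf.stalkSpecializes hsp).hom ϖ : X.functionField) ≠ 0 :=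
      (map_ne_zero_iff _ (IsFractionRing.injective (X.presheaf.stalk x) X.functionField)).mpr
        hϖ.ne_zero
    have h2 := ord_pow_eq x hx ((X.presheaf.stalkSpecializes hsp).hom ϖ : X.functionField)
      hne (E x)
    have h3 := ord_spec_irreducible hX x hx hsp ϖ hϖ
    rw [h3, mul_one] at h2
    refine ⟨?_, (congrArg (fun z : X.functionField => Scheme.ord z x) e1).trans h2⟩
    intro h0
    exact pow_ne_zero (E x) hne (e1.symm.trans h0)

/-- near the generic point the ideal sheaf is trivial -/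
theorem exists_generic_one {E : X → ℕ} (hE : LocallyFiniteSupport E) :
    ∃ (V₀ : X.Opens) (_ : genericPoint X ∈ V₀) (a₀ : Γ(ClSub.idealMod (divSheaf hE), V₀)),
      IdealMod.val (divSheaf hE) a₀ = 1 := by
  obtain ⟨V₁, hηV₁, hiso⟩ := exists_open_isolating E hE (genericPoint X)
  obtain ⟨V₀, hV₀, hηV₀, hle⟩ := Opens.isBasis_iff_nbhd.mp X.isBasis_affineOpens hηV₁
  have h1 : (1 : Γ(X, V₀)) ∈ (divSheaf hE).ideal ⟨V₀, hV₀⟩ := by
    refine (mem_divIdeal E (U := ⟨V₀, hV₀⟩)).mpr ?_
    intro z hz hc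
    by_cases h0 : E z = 0
    · rw [h0, pow_zero, Ideal.one_eq_top]
      trivial
    · exfalso
      have hzη : z ⤳ genericPoint X := hiso z (hle hz) h0
      have hηz : genericPoint X ⤳ z := (genericPoint_spec X).specializes (Set.mem_univ z)
      have hz' : z = genericPoint X := (hzη.antisymm hηz).eq
      rw [hz'] at hc
      exact coheight_genericPoint_ne_one hc
  obtain ⟨a₀, ha₀⟩ := exists_val_eq_of_mem' (divSheaf hE) hV₀ 1 h1
  exact ⟨V₀, hηV₀, a₀, ha₀⟩

/-- the rank one reflexive module `O_X(-E)` of an effective Weil divisor `E`, with its canonical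
rational section -/
theorem exists_ref1_neg (hX : Pi1.IsNormalScheme X) {E : X → ℕ} (hE : LocallyFiniteSupport E) :
    ∃ (F : X.Modules) (_ : RefHull.IsRef1 F) (s : Cyc.secFibre F (genericPoint X)), s ≠ 0 ∧
      ∀ (x : X) (_ : Order.coheight x = 1),
        Cyc.secOrdAt F (genericPoint X) x
          ((genericPoint_spec X).specializes (Set.mem_univ x)) s = -(E x : ℤ) := by
  have hN := isCoh_idealMod (divSheaf hE)
  obtain ⟨V₀, hηV₀, a₀, ha₀⟩ := exists_generic_one hE
  have hgerm1 : X.presheaf.germ V₀ (genericPoint X) hηV₀ (IdealMod.val (divSheaf hE) a₀) = 1 := by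
    rw [ha₀, map_one]
  have hw : (ClSub.idealMod (divSheaf hE)).presheaf.germ V₀ (genericPoint X) hηV₀ a₀ ≠ 0 := by
    intro h0
    obtain ⟨W, hWV, hηW, h2⟩ :=
      exists_res_eq_zero_of_germ_eq_zero (divSheaf hE) (genericPoint X) hηV₀ a₀ h0
    have h3 := congrArg (IdealMod.val (divSheaf hE)) h2
    rw [IdealMod.val_res, ha₀, val_zero'] at h3
    haveI : Nonempty W := ⟨⟨_, hηW⟩⟩
    have h4 : (1 : Γ(X, W)) = 0 := (map_one _).symm.trans h3
    exact one_ne_zero h4
  have hgen : ∀ m : (ClSub.idealMod (divSheaf hE)).presheaf.stalk (genericPoint X),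
      ∃ a : X.presheaf.stalk (genericPoint X),
        a • (ClSub.idealMod (divSheaf hE)).presheaf.germ V₀ (genericPoint X) hηV₀ a₀ = m := by
    intro m
    obtain ⟨W, hηW, c, rfl⟩ :=
      TopCat.Presheaf.exists_germ_eq (ClSub.idealMod (divSheaf hE)).presheaf m
    refine ⟨X.presheaf.germ W (genericPoint X) hηW (IdealMod.val (divSheaf hE) c), ?_⟩
    have h := germ_val_smul_comm (divSheaf hE) (genericPoint X) hηV₀ hηW a₀ c
    rw [hgerm1, one_smul] at h
    exact h
  obtain ⟨hR, hwM⟩ := isRef1_ddual_of_generator hX hN _ hw hgen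
  refine ⟨RefHull.ddual (ClSub.idealMod (divSheaf hE)), hR, Submodule.Quotient.mk
    (RefHull.stalkMapₗ (RefHull.bidualMap (ClSub.idealMod (divSheaf hE))) (genericPoint X)
      ((ClSub.idealMod (divSheaf hE)).presheaf.germ V₀ (genericPoint X) hηV₀ a₀)), ?_, ?_⟩
  · intro h0
    exact hwM (mk_secFibre_injective _ (h0.trans (Submodule.Quotient.mk_zero _).symm))
  · intro x hx
    have hsp : genericPoint X ⤳ x := (genericPoint_spec X).specializes (Set.mem_univ x)
    obtain ⟨V, hxV, β, hspan, hord⟩ := exists_stalk_generator hX hE x hx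
    have hηV : genericPoint X ∈ V := hsp.mem_open V.2 hxV
    obtain ⟨hν0, hordβ⟩ := hord hηV
    obtain ⟨ν', hνν'⟩ := isField_stalk_genericPoint.mul_inv_cancel hν0
    have hν'0 : (ν' : X.functionField) ≠ 0 := by
      rintro rfl
      rw [mul_zero] at hνν'
      exact zero_ne_one hνν'
    have hrel := germ_val_smul_comm (divSheaf hE) (genericPoint X) hηV₀ hηV a₀ β
    rw [hgerm1, one_smul] at hrel
    have hspec : ((ClSub.idealMod (divSheaf hE)).presheaf.stalkSpecializes hsp).hom
        ((ClSub.idealMod (divSheaf hE)).presheaf.germ V x hxV β) =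
        (ClSub.idealMod (divSheaf hE)).presheaf.germ V (genericPoint X) hηV β :=
      specHom_germ _ hsp V hxV β
    have hweq : (ClSub.idealMod (divSheaf hE)).presheaf.germ V₀ (genericPoint X) hηV₀ a₀ =
        (ν' : X.functionField) •
          ((ClSub.idealMod (divSheaf hE)).presheaf.stalkSpecializes hsp).hom
            ((ClSub.idealMod (divSheaf hE)).presheaf.germ V x hxV β) := by
      rw [hspec, ← hrel, smul_smul, mul_comm, hνν', one_smul]
    have h1 := secOrdAt_ddual hX hN _ hw x hx hsp _ hspan (ν' : X.functionField) hν'0 hweq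
    have h2 := ord_of_mul_eq_one x hx _ (ν' : X.functionField) hνν'
    rw [h1, h2, hordβ]

end Groth.Agent.Lib.Helper26.RefSh
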