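import Mathlib

/-!
# Finite reflexive modules of rank one over a factorial domain are free (helper26)
-/

set_option autoImplicit false

namespace Groth.Agent.Lib.Helper26.RefSh

section ufdalg

variable {R K : Type*} [CommRing R] [IsDomain R] [UniqueFactorizationMonoid R] [Field K]
  [Algebra R K] [IsFractionRing R K]

/-- the intersection of two nonzero principal fractional ideals of a factorial domain is
principal -/
theorem exists_inter_principal (c1 c2 : K) (h1 : c1 ≠ 0) (h2 : c2 ≠ 0) :
    ∃ c0 : K, c0 ≠ 0 ∧ ∀ c : K,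
      ((∃ r : R, c = algebraMap R K r * c1) ∧ (∃ r : R, c = algebraMap R K r * c2)) ↔
        ∃ r : R, c = algebraMap R K r * c0 := by
  obtain ⟨p, q, hrel, hpq⟩ := IsFractionRing.exists_reduced_fraction R (c1 / c2)
  rw [IsFractionRing.mk'_eq_div] at hpq
  have hq0 : algebraMap R K (q : R) ≠ 0 :=
    IsFractionRing.to_map_ne_zero_of_mem_nonZeroDivisors q.2
  have hcross : algebraMap R K p * c2 = c1 * algebraMap R K (q : R) :=
    (div_eq_div_iff hq0 h2).mp hpq
  refine ⟨algebraMap R K (q : R) * c1, mul_ne_zero hq0 h1, fun c => ⟨?_, ?_⟩⟩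
  · rintro ⟨⟨r1, hr1⟩, ⟨r2, hr2⟩⟩
    have h12 : algebraMap R K r1 * c1 = algebraMap R K r2 * c2 := hr1.symm.trans hr2
    have h3 : algebraMap R K (r1 * p) = algebraMap R K (r2 * (q : R)) := by
      rw [map_mul, map_mul]
      apply mul_right_cancel₀ h2
      linear_combination (algebraMap R K r1) * hcross + (algebraMap R K (q : R)) * h12
    have h4 : r1 * p = r2 * (q : R) := IsFractionRing.injective R K h3
    have h5 : (q : R) ∣ r1 * p := ⟨r2, by rw [h4, mul_comm]⟩
    obtain ⟨s, hs⟩ := hrel.symm.dvd_of_dvd_mul_right h5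
    refine ⟨s, ?_⟩
    rw [hr1, hs, map_mul]
    ring
  · rintro ⟨r, rfl⟩
    refine ⟨⟨r * (q : R), by rw [map_mul]; ring⟩, ⟨r * p, ?_⟩⟩
    rw [map_mul]
    linear_combination (-(algebraMap R K r)) * hcross

/-- the inverse of a nonzero finitely generated fractional ideal of a factorial domain is
principal -/
theorem exists_inv_principal (N : Submodule R K) (hfg : N.FG) :
    N = ⊥ ∨ ∃ c0 : K, c0 ≠ 0 ∧ ∀ c : K,
      (∀ n ∈ N, c * n ∈ Set.range (algebraMap R K)) ↔ ∃ r : R, c = algebraMap R K r * c0 := by
  refine Submodule.fg_induction (motive := fun N _ => N = ⊥ ∨ ∃ c0 : K, c0 ≠ 0 ∧ ∀ c : K,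
      (∀ n ∈ N, c * n ∈ Set.range (algebraMap R K)) ↔ ∃ r : R, c = algebraMap R K r * c0)
    ?_ ?_ N hfg
  · intro x
    by_cases hx : x = 0
    · left
      rw [hx]
      exact Submodule.span_zero_singleton R
    · right
      refine ⟨x⁻¹, inv_ne_zero hx, fun c => ⟨fun h => ?_, ?_⟩⟩
      · obtain ⟨r, hr⟩ := h x (Submodule.mem_span_singleton_self x)
        exact ⟨r, by rw [hr, mul_inv_cancel_right₀ hx]⟩
      · rintro ⟨r, rfl⟩ n hn
        obtain ⟨a, rfl⟩ := Submodule.mem_span_singleton.mp hn
        refine ⟨r * a, ?_⟩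
        rw [map_mul, Algebra.smul_def]
        field_simp
  · intro N1 N2 _ _ h1 h2
    rcases h1 with rfl | ⟨c1, hc1, H1⟩
    · rw [bot_sup_eq]
      exact h2
    rcases h2 with rfl | ⟨c2, hc2, H2⟩
    · rw [sup_bot_eq]
      exact Or.inr ⟨c1, hc1, H1⟩
    right
    obtain ⟨c0, hc0, H0⟩ := exists_inter_principal (R := R) c1 c2 hc1 hc2
    refine ⟨c0, hc0, fun c => ?_⟩
    rw [← H0 c, ← H1 c, ← H2 c]
    constructor
    · intro h
      exact ⟨fun n hn => h n (Submodule.mem_sup_left hn),
        fun n hn => h n (Submodule.mem_sup_right hn)⟩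
    · rintro ⟨ha, hb⟩ n hn
      obtain ⟨n1, hn1, n2, hn2, rfl⟩ := Submodule.mem_sup.mp hn
      obtain ⟨r1, hr1⟩ := ha n1 hn1
      obtain ⟨r2, hr2⟩ := hb n2 hn2
      exact ⟨r1 + r2, by rw [map_add, hr1, hr2, mul_add]⟩

/-- **A finite reflexive module of rank one over a factorial domain is free of rank one.** The
rank one condition is expressed by an injective semilinear map to the fraction field. -/
theorem exists_generator_of_reflexive_ufd {M : Type*} [AddCommGroup M] [Module R M]
    [Module.Finite R M] [Module.IsReflexive R M]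
    (j : M → K) (hadd : ∀ m m' : M, j (m + m') = j m + j m')
    (hsmul : ∀ (r : R) (m : M), j (r • m) = algebraMap R K r * j m)
    (hinj : Function.Injective j) (hne : ∃ m : M, m ≠ 0) :
    ∃ t : M, Function.Bijective (fun a : R => a • t) := by
  classical
  let jl : M →ₗ[R] K :=
    { toFun := j
      map_add' := hadd
      map_smul' := fun r m => by rw [hsmul, Algebra.smul_def]; rfl }
  obtain ⟨m0, hm0⟩ := hne
  have hj0 : j 0 = 0 := jl.map_zero
  have hk0 : j m0 ≠ 0 := fun h => hm0 (hinj (h.trans hj0.symm))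
  have hinjK := IsFractionRing.injective R K
  have hfg : (LinearMap.range jl).FG := by
    rw [LinearMap.range_eq_map]
    exact (Module.Finite.fg_top).map jl
  rcases exists_inv_principal (LinearMap.range jl) hfg with hbot | ⟨c0, hc0, H⟩
  · exfalso
    have hmem : jl m0 ∈ LinearMap.range jl := LinearMap.mem_range_self jl m0
    rw [hbot, Submodule.mem_bot] at hmem
    exact hk0 hmem
  -- the generator of the dual
  have hc0mem : ∀ m : M, ∃ r : R, algebraMap R K r = c0 * j m := by
    intro m
    exact (H c0).mpr ⟨1, by rw [map_one, one_mul]⟩ (jl m) (LinearMap.mem_range_self jl m)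
  choose ℓ hℓ using hc0mem
  let lam0 : M →ₗ[R] R :=
    { toFun := ℓ
      map_add' := fun m m' => hinjK (by rw [map_add, hℓ, hℓ, hℓ, hadd, mul_add])
      map_smul' := fun r m => hinjK (by
        rw [hℓ, hsmul, RingHom.id_apply, smul_eq_mul, map_mul, hℓ]
        ring) }
  have hlam0 : ∀ m, algebraMap R K (lam0 m) = c0 * j m := hℓ
  have hl0 : lam0 m0 ≠ 0 := by
    intro h
    have h1 := hlam0 m0
    rw [h, map_zero] at h1
    exact (mul_ne_zero hc0 hk0) h1.symm
  -- every functional is a multiple of `lam0`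
  have hmult : ∀ lam : M →ₗ[R] R, ∃ r : R, lam = r • lam0 := by
    intro lam
    have hc : ∀ m, algebraMap R K (lam m) = algebraMap R K (lam m0) / j m0 * j m := by
      intro m
      obtain ⟨a, b, hb, hab⟩ := IsFractionRing.div_surjective (A := R) (j m / j m0)
      have hb0 : algebraMap R K b ≠ 0 := IsFractionRing.to_map_ne_zero_of_mem_nonZeroDivisors hb
      have hcross : algebraMap R K a * j m0 = j m * algebraMap R K b :=
        (div_eq_div_iff hb0 hk0).mp hab
      have h1 : j (b • m) = j (a • m0) := by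
        rw [hsmul, hsmul]
        linear_combination (-1 : K) * hcross
      have h2 : b • m = a • m0 := hinj h1
      have h3 : b * lam m = a * lam m0 := by
        have h := congrArg lam h2
        rwa [map_smul, map_smul, smul_eq_mul, smul_eq_mul] at h
      have h4 : algebraMap R K b * algebraMap R K (lam m) =
          algebraMap R K a * algebraMap R K (lam m0) := by
        rw [← map_mul, ← map_mul, h3]
      have hmain : algebraMap R K (lam m) * j m0 = algebraMap R K (lam m0) * j m := by
        apply mul_left_cancel₀ hb0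
        linear_combination (j m0) * h4 + (algebraMap R K (lam m0)) * hcross
      rw [div_mul_eq_mul_div, ← hmain, mul_div_cancel_right₀ _ hk0]
    obtain ⟨r, hr⟩ := (H (algebraMap R K (lam m0) / j m0)).mp (by
      rintro n ⟨m, rfl⟩
      exact ⟨lam m, hc m⟩)
    refine ⟨r, LinearMap.ext fun m => hinjK ?_⟩
    rw [hc m, hr, LinearMap.smul_apply, smul_eq_mul, map_mul, hlam0]
    ring
  have hbij : Function.Bijective (LinearMap.toSpanSingleton R (M →ₗ[R] R) lam0) := by
    constructor
    · intro a b hab
      have h := congrArg (fun f : M →ₗ[R] R => f m0) hab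
      simp only [LinearMap.toSpanSingleton_apply, LinearMap.smul_apply, smul_eq_mul] at h
      exact mul_right_cancel₀ hl0 h
    · intro lam
      obtain ⟨r, hr⟩ := hmult lam
      exact ⟨r, by rw [LinearMap.toSpanSingleton_apply]; exact hr.symm⟩
  let E0 : R ≃ₗ[R] Module.Dual R M := LinearEquiv.ofBijective _ hbij
  let ε : M ≃ₗ[R] R :=
    (Module.evalEquiv R M).trans (E0.dualMap.trans (LinearMap.ringLmapEquivSelf R R R))
  refine ⟨ε.symm 1, ?_⟩
  have h : (fun a : R => a • ε.symm 1) = ε.symm := by
    funext a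
    rw [← map_smul, smul_eq_mul, mul_one]
  rw [h]
  exact ε.symm.bijective

end ufdalg

end Groth.Agent.Lib.Helper26.RefSh
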