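import Groth.Agent.Lib.Helper26.RefShS
import Groth.Agent.Lib.Helper26.RefShR
import Groth.Agent.Lib.Helper3.SecLocGen
import Groth.Agent.Lib.Helper17.StalkKit
import Groth.Agent.Lib.Helper17.CohStalk
import Groth.Agent.Lib.Helper17.CohBijLocus

/-!
# Rank one reflexive modules on a locally factorial scheme are invertible (helper26)
-/

set_option autoImplicit false
set_option linter.style.haveILetI false
set_option linter.unusedSectionVars false
universe u
open CategoryTheory CategoryTheory.Limits AlgebraicGeometry TopologicalSpace Opposite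

namespace Groth.Agent.Lib.Helper26.RefSh

open Groth.Agent.Lib.Helper3 Groth.Agent.Lib.Helper3.QCSec Groth.Agent.Lib.Helper3.InvGen
open Groth.Agent.Lib.Helper17

variable {X : Scheme.{u}} [IsIntegral X] [IsLocallyNoetherian X]

/-- spreading out a generator of a stalk of a torsion-free coherent module -/
theorem exists_isGen_of_stalk_generator (F : X.Modules) [F.IsQuasicoherent] [F.IsFiniteType]
    (hFtf : TorSh.IsTorsionFree F) (x : X) (t : F.presheaf.stalk x) (ht0 : t ≠ 0)
    (hsurj : ∀ m : F.presheaf.stalk x, ∃ a : X.presheaf.stalk x, a • t = m) :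
    ∃ (U : X.Opens) (e : Γ(F, U)), x ∈ U ∧ IsGen F U e := by
  obtain ⟨W, hW, hxW⟩ := QCProps.exists_affine_nbhd x
  haveI : Module.Finite Γ(X, W) Γ(F, W) := QCProps.finite_sections F hW
  obtain ⟨s0, hs0, e0, he0⟩ := StalkKit.exists_germ_smul_eq hW x hxW F t
  have hus0 : IsUnit (X.presheaf.germ W x hxW s0) := StalkKit.isUnit_germ hW x hxW s0 hs0
  have hsurj' : ∀ m : F.presheaf.stalk x,
      ∃ a : X.presheaf.stalk x, a • F.presheaf.germ W x hxW e0 = m := by
    intro m
    obtain ⟨a, ha⟩ := hsurj m
    obtain ⟨u, hu⟩ := hus0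
    refine ⟨a * ↑u⁻¹, ?_⟩
    rw [← he0, ← hu, smul_smul, mul_assoc, Units.inv_mul, mul_one, ha]
  have hge0 : F.presheaf.germ W x hxW e0 ≠ 0 := by
    intro h0
    obtain ⟨a, ha⟩ := hsurj' t
    rw [h0, smul_zero] at ha
    exact ht0 ha.symm
  -- the multiplier
  obtain ⟨f, hf, hfm⟩ := CohBijLocus.exists_common_multiplier_quot
    (hW.primeIdealOf ⟨x, hxW⟩).asIdeal (Submodule.span Γ(X, W) {e0}) (by
      intro n
      obtain ⟨α, hα⟩ := hsurj' (F.presheaf.germ W x hxW n)
      letI algA : Algebra Γ(X, W) (X.presheaf.stalk x) :=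
        TopCat.Presheaf.algebra_section_stalk X.presheaf (U := W) ⟨x, hxW⟩
      haveI locA : IsLocalization.AtPrime (X.presheaf.stalk x)
          (hW.primeIdealOf ⟨x, hxW⟩).asIdeal := hW.isLocalization_stalk ⟨x, hxW⟩
      obtain ⟨⟨a, s1⟩, has⟩ := IsLocalization.surj (hW.primeIdealOf ⟨x, hxW⟩).asIdeal.primeCompl α
      have has' : X.presheaf.germ W x hxW (s1 : Γ(X, W)) * α = X.presheaf.germ W x hxW a := by
        rw [mul_comm]
        exact has
      have hgerm0 : F.presheaf.germ W x hxW ((s1 : Γ(X, W)) • n - a • e0) = 0 := by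
        rw [map_sub, QS.germ_smul, QS.germ_smul, ← hα, smul_smul, has', sub_self]
      obtain ⟨s2, hs2, h2⟩ := StalkKit.exists_smul_eq_zero_of_germ_eq_zero hW x hxW F _ hgerm0
      refine ⟨s2 * (s1 : Γ(X, W)), ?_, ?_⟩
      · exact fun h => ((hW.primeIdealOf ⟨x, hxW⟩).isPrime.mem_or_mem h).elim hs2 s1.2
      · rw [smul_sub, sub_eq_zero] at h2
        rw [mul_smul, h2, smul_smul]
        exact Submodule.smul_mem _ _ (Submodule.subset_span rfl))
  have hUW : X.basicOpen f ≤ W := X.basicOpen_le f
  have hxU : x ∈ X.basicOpen f :=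
    (Scheme.mem_basicOpen X f x hxW).mpr (StalkKit.isUnit_germ hW x hxW f hf)
  have hUaff : IsAffineOpen (X.basicOpen f) := hW.basicOpen f
  refine ⟨X.basicOpen f, res F hUW e0, hxU,
    SecLocGen.isGen_of_isGenAt_affine F hUaff ?_⟩
  have hloc := isLocSec_of_isQuasicoherent F hW f (X.basicOpen f) rfl hUW
  have hfu : IsUnit (rres X hUW f) := X.toRingedSpace.isUnit_res_basicOpen f
  have hηU : genericPoint X ∈ X.basicOpen f :=
    (genericPoint_specializes x).mem_open (X.basicOpen f).2 hxU
  have hgη : F.presheaf.germ (X.basicOpen f) (genericPoint X) hηU (res F hUW e0) ≠ 0 := by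
    have h1 : F.presheaf.germ (X.basicOpen f) (genericPoint X) hηU (res F hUW e0) =
        (F.presheaf.stalkSpecializes (genericPoint_specializes x)).hom
          (F.presheaf.germ W x hxW e0) := by
      rw [specHom_germ]
      exact TopCat.Presheaf.germ_res_apply F.presheaf (homOfLE hUW) _ hηU e0
    rw [h1]
    intro h0
    exact hge0 (specHom_injective_of_torsionFree F hFtf x _ (h0.trans (map_zero _).symm))
  constructor
  · intro a b hab
    have h0 : (a - b) • res F hUW e0 = 0 := by
      rw [sub_smul]
      exact sub_eq_zero.mpr hab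
    have h1 := congrArg (F.presheaf.germ (X.basicOpen f) (genericPoint X) hηU) h0
    rw [Mero.germ_smul, map_zero] at h1
    haveI : Module.IsTorsionFree (X.presheaf.stalk (genericPoint X))
        (F.presheaf.stalk (genericPoint X)) := hFtf _
    have h2 : X.presheaf.germ (X.basicOpen f) (genericPoint X) hηU (a - b) = 0 := by
      rcases smul_eq_zero.mp h1 with h | h
      · exact h
      · exact absurd h hgη
    have h3 : a - b = 0 :=
      germ_injective_of_isIntegral X (genericPoint X) hηU (h2.trans (map_zero _).symm)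
    exact sub_eq_zero.mp h3
  · intro yy
    obtain ⟨n, m, hm⟩ := hloc.surj yy
    obtain ⟨c, hc⟩ := Submodule.mem_span_singleton.mp (hfm m)
    obtain ⟨u, hu⟩ := hfu.pow (n + 1)
    have key : rres X hUW c • res F hUW e0 = (u : Γ(X, X.basicOpen f)) • yy := by
      rw [← res_smul, hc, res_smul, hm, smul_smul, ← pow_succ', hu]
    refine ⟨↑u⁻¹ * rres X hUW c, ?_⟩
    show (↑u⁻¹ * rres X hUW c) • res F hUW e0 = yy
    rw [mul_smul, key, smul_smul, Units.inv_mul, one_smul]

/-- **On a locally factorial integral locally Noetherian scheme, rank one reflexive modules are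
invertible.** -/
theorem isInvertible_of_isRef1_of_ufd {F : X.Modules} (hF : RefHull.IsRef1 F)
    (hufd : ∀ x : X, UniqueFactorizationMonoid (X.presheaf.stalk x)) : PicF.IsInvertible F := by
  haveI : F.IsQuasicoherent := hF.1.1
  haveI : F.IsFiniteType := hF.1.2
  have hFtf := isTorsionFree_of_isRef1 hF
  obtain ⟨w0, hw0⟩ := exists_ne_zero_of_isRef1 hF
  have hgen := generator_of_ne_zero F hF.2.2 w0 hw0
  haveI : Module.IsTorsionFree (X.presheaf.stalk (genericPoint X))
      (F.presheaf.stalk (genericPoint X)) := hFtf _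
  have hinj0 : Function.Injective (fun a : X.presheaf.stalk (genericPoint X) => a • w0) :=
    smul_left_injective _ hw0
  choose coord hcoord using hgen
  apply isInvertible_of_isGen
  intro x
  have hsp := genericPoint_specializes x
  haveI := hufd x
  haveI : Module.Finite (X.presheaf.stalk x) (F.presheaf.stalk x) := CohStalk.finite_stalk F x
  haveI : Module.IsReflexive (X.presheaf.stalk x) (F.presheaf.stalk x) :=
    isReflexiveAt_of_isRef1 hF x
  let j : F.presheaf.stalk x → X.functionField :=
    fun m => coord ((F.presheaf.stalkSpecializes hsp).hom m)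
  have hj : ∀ m : F.presheaf.stalk x,
      (j m : X.presheaf.stalk (genericPoint X)) • w0 = (F.presheaf.stalkSpecializes hsp).hom m :=
    fun m => hcoord _
  have hadd : ∀ m m' : F.presheaf.stalk x, j (m + m') = j m + j m' := by
    intro m m'
    apply hinj0
    show (j (m + m') : X.presheaf.stalk (genericPoint X)) • w0 =
      ((j m + j m' : X.functionField) : X.presheaf.stalk (genericPoint X)) • w0
    rw [add_smul, hj, hj, hj, map_add]
  have hsmul : ∀ (r : X.presheaf.stalk x) (m : F.presheaf.stalk x),
      j (r • m) = algebraMap (X.presheaf.stalk x) X.functionField r * j m := by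
    intro r m
    apply hinj0
    have h1 : (F.presheaf.stalkSpecializes hsp).hom (r • m) =
        (algebraMap (X.presheaf.stalk x) X.functionField r : X.presheaf.stalk (genericPoint X)) •
          (F.presheaf.stalkSpecializes hsp).hom m := specHom_smul F hsp r m
    show (j (r • m) : X.presheaf.stalk (genericPoint X)) • w0 =
      ((algebraMap (X.presheaf.stalk x) X.functionField r * j m : X.functionField) :
        X.presheaf.stalk (genericPoint X)) • w0
    rw [mul_smul, hj, hj, h1]
  have hinjj : Function.Injective j := by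
    intro m m' h
    apply specHom_injective_of_torsionFree F hFtf x hsp
    rw [← hj, ← hj, h]
  have hne : ∃ m : F.presheaf.stalk x, m ≠ 0 := by
    obtain ⟨b, hb, m, hbm⟩ := exists_unit_smul_eq_spec F x hsp w0
    refine ⟨m, ?_⟩
    rintro rfl
    rw [map_zero] at hbm
    exact hw0 (hb.smul_eq_zero.mp hbm)
  obtain ⟨t, ht⟩ := exists_generator_of_reflexive_ufd (R := X.presheaf.stalk x)
    (K := X.functionField) j hadd hsmul hinjj hne
  have ht0 : t ≠ 0 := by
    rintro rfl
    have h1 : (1 : X.presheaf.stalk x) = 0 := ht.1 (by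
      show (1 : X.presheaf.stalk x) • (0 : F.presheaf.stalk x) =
        (0 : X.presheaf.stalk x) • (0 : F.presheaf.stalk x)
      rw [smul_zero, smul_zero])
    exact one_ne_zero h1
  exact exists_isGen_of_stalk_generator F hFtf x t ht0 (fun m => ht.2 m)

end Groth.Agent.Lib.Helper26.RefSh
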