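import Groth.Agent.Lib.Helper26.RefShR
import Groth.Agent.Lib.Helper5.CodimOne

/-!
# Orders of vanishing and divisibility in the local rings of a normal scheme (helper26)
-/

set_option autoImplicit false
set_option linter.style.haveILetI false
set_option linter.unusedSectionVars false
universe u
open CategoryTheory CategoryTheory.Limits AlgebraicGeometry TopologicalSpace Opposite

namespace Groth.Agent.Lib.Helper26.RefSh

open Groth.Agent.Lib.Helper3 Groth.Agent.Lib.Helper3.QCSec Groth.Agent.Lib.Helper3.InvGen
open Groth.Agent.Lib.Helper5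

variable {X : Scheme.{u}} [IsIntegral X] [IsLocallyNoetherian X]

theorem algebraMap_ne_zero' {x : X} {b : X.presheaf.stalk x} (hb : b ≠ 0) :
    algebraMap (X.presheaf.stalk x) X.functionField b ≠ 0 := fun h =>
  hb (IsFractionRing.injective (X.presheaf.stalk x) X.functionField (h.trans (map_zero _).symm))

/-- elements of the local ring have nonnegative order at generizations of codimension one -/
theorem ord_algebraMap_nonneg (hX : Pi1.IsNormalScheme X) {x z : X} (hzx : z ⤳ x)
    (hz : Order.coheight z = 1) (b : X.presheaf.stalk x) (hb : b ≠ 0) :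
    0 ≤ Scheme.ord (algebraMap (X.presheaf.stalk x) X.functionField b) z := by
  rw [CodimOne.zero_le_ord_iff hX hz (algebraMap_ne_zero' hb)]
  exact CodimOne.mem_range_of_specializes hzx ⟨b, rfl⟩

/-- Hartogs in terms of orders -/
theorem mem_range_of_ord_nonneg (hX : Pi1.IsNormalScheme X) (x : X) (g : X.functionField)
    (hg : g ≠ 0)
    (h : ∀ z : X, z ⤳ x → Order.coheight z = 1 → 0 ≤ Scheme.ord g z) :
    g ∈ Set.range (algebraMap (X.presheaf.stalk x) X.functionField) :=
  CodimOne.mem_range_of_forall_codim_one hX x g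
    (fun z hzx hz => (CodimOne.zero_le_ord_iff hX hz hg).mp (h z hzx hz))

/-- divisibility in the local ring read off from the orders -/
theorem dvd_of_ord_le (hX : Pi1.IsNormalScheme X) (x : X) (a b : X.presheaf.stalk x)
    (ha : a ≠ 0) (hb : b ≠ 0)
    (h : ∀ z : X, z ⤳ x → Order.coheight z = 1 →
      Scheme.ord (algebraMap (X.presheaf.stalk x) X.functionField a) z ≤
        Scheme.ord (algebraMap (X.presheaf.stalk x) X.functionField b) z) : a ∣ b := by
  have ha' := algebraMap_ne_zero' ha
  have hb' := algebraMap_ne_zero' hb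
  have hg : algebraMap (X.presheaf.stalk x) X.functionField b *
      (algebraMap (X.presheaf.stalk x) X.functionField a)⁻¹ ≠ 0 :=
    mul_ne_zero hb' (inv_ne_zero ha')
  obtain ⟨r, hr⟩ := mem_range_of_ord_nonneg hX x _ hg (fun z hzx hz => by
    rw [Scheme.ord_mul hb' (inv_ne_zero ha'), CodimOne.ord_inv z ha']
    have := h z hzx hz
    omega)
  refine ⟨r, ?_⟩
  apply IsFractionRing.injective (X.presheaf.stalk x) X.functionField
  rw [map_mul, hr, mul_comm (algebraMap (X.presheaf.stalk x) X.functionField b), ← mul_assoc,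
    mul_inv_cancel₀ ha', one_mul]

/-- an element all of whose orders vanish is a unit -/
theorem isUnit_of_ord_eq_zero (hX : Pi1.IsNormalScheme X) (x : X) (a : X.presheaf.stalk x)
    (ha : a ≠ 0)
    (h : ∀ z : X, z ⤳ x → Order.coheight z = 1 →
      Scheme.ord (algebraMap (X.presheaf.stalk x) X.functionField a) z = 0) : IsUnit a := by
  obtain ⟨r, hr⟩ := dvd_of_ord_le hX x a 1 ha one_ne_zero (fun z hzx hz => by
    rw [h z hzx hz, map_one, CodimOne.ord_one])
  exact IsUnit.of_mul_eq_one r hr.symm

/-- units of the local ring have order zero at generizations of codimension one -/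
theorem ord_algebraMap_unit {x z : X} (hzx : z ⤳ x) (hz : Order.coheight z = 1)
    (u : X.presheaf.stalk x) (hu : IsUnit u) :
    Scheme.ord (algebraMap (X.presheaf.stalk x) X.functionField u) z = 0 := by
  have h1 : Scheme.ord (algebraMap (X.presheaf.stalk z) X.functionField
      (X.presheaf.stalkSpecializes hzx u)) z = 0 :=
    ord_spec_unit z hz (genericPoint_specializes z) _ (hu.map (X.presheaf.stalkSpecializes hzx).hom)
  rwa [CodimOne.algebraMap_stalkSpecializes] at h1

/-- **The prime element of a prime divisor that is cut out by a section of an invertible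
module.** -/
theorem exists_prime_of_indicator (hX : Pi1.IsNormalScheme X)
    {L : X.Modules} (hL : PicF.IsInvertible L) (s : Cyc.secFibre L (genericPoint X)) (hs : s ≠ 0)
    (y : X) (hy : Order.coheight y = 1)
    (hy1 : Cyc.secOrdAt L (genericPoint X) y (genericPoint_specializes y) s = 1)
    (hz0 : ∀ z : X, Order.coheight z = 1 → z ≠ y →
      Cyc.secOrdAt L (genericPoint X) z (genericPoint_specializes z) s = 0)
    (x : X) (hyx : y ⤳ x) :
    ∃ π : X.presheaf.stalk x, Prime π ∧
      ∀ b : X.presheaf.stalk x, b ≠ 0 →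
        1 ≤ Scheme.ord (algebraMap (X.presheaf.stalk x) X.functionField b) y → π ∣ b := by
  haveI : L.IsQuasicoherent := (isRef1_of_isInvertible hL).1.1
  have hLtf := isTorsionFree_of_isInvertible hL
  obtain ⟨U, e, hxU, hg⟩ := exists_isGen hL x
  obtain ⟨w, rfl⟩ := Submodule.Quotient.mk_surjective _ s
  have hw : w ≠ 0 := by
    rintro rfl
    exact hs (Submodule.Quotient.mk_zero _)
  have hηU : genericPoint X ∈ U := genericPoint_mem_of_nonempty U ⟨x, hxU⟩
  obtain ⟨φ, hφw⟩ := stalk_surj_of_isGen hg (genericPoint X) hηU w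
  have hφ : (φ : X.functionField) ≠ 0 := by
    rintro rfl
    exact hw (by rw [← hφw, zero_smul])
  -- the orders of `φ`
  have hordφ : ∀ z : X, z ∈ U → Order.coheight z = 1 →
      Cyc.secOrdAt L (genericPoint X) z (genericPoint_specializes z) (Submodule.Quotient.mk w) =
        Scheme.ord (φ : X.functionField) z := by
    intro z hzU hz
    have hspan : Submodule.span (X.presheaf.stalk z) {L.presheaf.germ U z hzU e} = ⊤ := by
      rw [eq_top_iff]
      intro m _
      obtain ⟨a, rfl⟩ := stalk_surj_of_isGen hg z hzU m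
      exact Submodule.smul_mem _ _ (Submodule.subset_span rfl)
    exact secOrdAt_eq_of_generator L hLtf z hz (genericPoint_specializes z)
      (L.presheaf.germ U z hzU e) hspan φ hφ w hw (by
        rw [specHom_germ]
        exact hφw.symm)
  have hxz : ∀ z : X, z ⤳ x → z ∈ U := fun z hzx => hzx.mem_open U.2 hxU
  have hφy : Scheme.ord (φ : X.functionField) y = 1 := by
    rw [← hordφ y (hxz y hyx) hy]
    exact hy1
  have hφz : ∀ z : X, z ⤳ x → Order.coheight z = 1 → z ≠ y →
      Scheme.ord (φ : X.functionField) z = 0 := by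
    intro z hzx hz hzy
    rw [← hordφ z (hxz z hzx) hz]
    exact hz0 z hz hzy
  obtain ⟨π, hπ⟩ := mem_range_of_ord_nonneg hX x φ hφ (fun z hzx hz => by
    by_cases hzy : z = y
    · rw [hzy, hφy]
      omega
    · rw [hφz z hzx hz hzy])
  have hπ0 : π ≠ 0 := by
    rintro rfl
    exact hφ (by rw [← hπ, map_zero])
  have key : ∀ b : X.presheaf.stalk x, b ≠ 0 →
      1 ≤ Scheme.ord (algebraMap (X.presheaf.stalk x) X.functionField b) y → π ∣ b := by
    intro b hb hby
    apply dvd_of_ord_le hX x π b hπ0 hb
    intro z hzx hz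
    rw [hπ]
    by_cases hzy : z = y
    · rw [hzy, hφy]
      exact hby
    · rw [hφz z hzx hz hzy]
      exact ord_algebraMap_nonneg hX hzx hz b hb
  refine ⟨π, ⟨hπ0, ?_, ?_⟩, key⟩
  · intro hu
    have h0 := ord_algebraMap_unit hyx hy π hu
    rw [hπ, hφy] at h0
    exact one_ne_zero h0
  · intro b c hbc
    by_cases hb : b = 0
    · left
      rw [hb]
      exact dvd_zero π
    by_cases hc : c = 0
    · right
      rw [hc]
      exact dvd_zero π
    obtain ⟨d, hd⟩ := hbc
    have hd0 : d ≠ 0 := by
      rintro rfl
      rw [mul_zero] at hd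
      exact (mul_ne_zero hb hc) hd
    have e1 : Scheme.ord (algebraMap (X.presheaf.stalk x) X.functionField b) y +
        Scheme.ord (algebraMap (X.presheaf.stalk x) X.functionField c) y =
        1 + Scheme.ord (algebraMap (X.presheaf.stalk x) X.functionField d) y := by
      rw [← Scheme.ord_mul (algebraMap_ne_zero' hb) (algebraMap_ne_zero' hc), ← map_mul, hd,
        map_mul, Scheme.ord_mul (algebraMap_ne_zero' hπ0) (algebraMap_ne_zero' hd0), hπ, hφy]
    have hdn := ord_algebraMap_nonneg hX hyx hy d hd0
    have hbn := ord_algebraMap_nonneg hX hyx hy b hb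
    have hcn := ord_algebraMap_nonneg hX hyx hy c hc
    rcases (by omega : 1 ≤ Scheme.ord (algebraMap (X.presheaf.stalk x) X.functionField b) y ∨
        1 ≤ Scheme.ord (algebraMap (X.presheaf.stalk x) X.functionField c) y) with h | h
    · exact Or.inl (key b hb h)
    · exact Or.inr (key c hc h)

end Groth.Agent.Lib.Helper26.RefSh
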