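import Groth.Agent.Lib.Helper26.RefShU
import Groth.Agent.Lib.Helper17.StalkExact
import Groth.Agent.Lib.Helper17.PbFlat
import Groth.Agent.S16087
import Groth.Prelude.Def_ChowK

/-!
# The class of a rank one reflexive module modulo smaller support (helper26)
-/

set_option autoImplicit false
set_option linter.style.haveILetI false
set_option linter.unusedSectionVars false
universe u
open CategoryTheory CategoryTheory.Limits AlgebraicGeometry TopologicalSpace Opposite

namespace Groth.Agent.Lib.Helper26.RefSh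

open Groth.Agent.Lib.Helper3 Groth.Agent.Lib.Helper3.QCSec Groth.Agent.Lib.Helper3.InvGen
open Groth.Agent.Lib.Helper17 Groth.Agent.Lib.Helper5

section k0

/-- additivity of classes in `K₀` of a subcategory on short exact sequences -/
theorem clSub_eq_add {A : Type*} [Category A] [Abelian A] (P : ObjectProperty A)
    (S : ShortComplex A) (hS : S.ShortExact) (h₁ : P S.X₁) (h₂ : P S.X₂) (h₃ : P S.X₃) :
    KZero.clSub P S.X₂ = KZero.clSub P S.X₁ + KZero.clSub P S.X₃ := by
  have hrel : (FreeAbelianGroup.of ⟨S.X₂, h₂⟩ - FreeAbelianGroup.of ⟨S.X₁, h₁⟩ -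
      FreeAbelianGroup.of ⟨S.X₃, h₃⟩ : FreeAbelianGroup (Subtype P)) ∈ KZero.relSub P :=
    AddSubgroup.subset_closure ⟨S, h₁, h₂, h₃, hS, rfl⟩
  have h0 := (QuotientAddGroup.eq_zero_iff _).mpr hrel
  rw [QuotientAddGroup.mk_sub, QuotientAddGroup.mk_sub, sub_sub, sub_eq_zero] at h0
  unfold KZero.clSub
  rw [dif_pos h₁, dif_pos h₂, dif_pos h₃]
  exact h0

end k0

variable {X : Scheme.{u}} [IsIntegral X] [IsLocallyNoetherian X]

theorem stalkLin_eq_stalkMapₗ {F G : X.Modules} (φ : F ⟶ G) (x : X) (m : F.presheaf.stalk x) :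
    StalkExact.stalkLin φ x m = RefHull.stalkMapₗ φ x m := by
  obtain ⟨U, hx, s, rfl⟩ := TopCat.Presheaf.exists_germ_eq F.presheaf m
  rw [StalkExact.stalkLin_apply, QS.stalkMap_germ, RefHull.stalkMapₗ_germ]

/-- a monomorphism of coherent modules which is surjective at the generic point does not change
the class modulo modules of smaller support -/
theorem toK0CohQuot_eq_of_mono (δ : X → ℤ) (a b : ℤ) (ha : ∀ x : X, δ x ≤ a)
    (hb : ∀ x : X, x ≠ genericPoint X → δ x ≤ b) {G N : X.Modules} (hG : Coh.IsCoh G)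
    (hN : Coh.IsCoh N) (f : G ⟶ N) [Mono f]
    (hsurj : Function.Surjective (RefHull.stalkMapₗ f (genericPoint X))) :
    Cyc.toK0CohQuot δ a b N = Cyc.toK0CohQuot δ a b G := by
  haveI := hN.1
  haveI := hN.2
  haveI := hG.1
  have hC : Coh.IsCoh (cokernel f) :=
    ⟨QCProps.isQuasicoherent_cokernel f, QCProps.isFiniteType_of_epi (cokernel.π f)⟩
  let S : ShortComplex X.Modules := ShortComplex.mk f (cokernel.π f) (cokernel.condition f)
  have hSe : S.Exact := ShortComplex.exact_cokernel f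
  have hS : S.ShortExact :=
    { exact := hSe
      mono_f := inferInstanceAs (Mono f)
      epi_g := inferInstanceAs (Epi (cokernel.π f)) }
  haveI : Mono S.f := inferInstanceAs (Mono f)
  have hsub : Subsingleton ((cokernel f).presheaf.stalk (genericPoint X)) := by
    have hex := StalkExact.stalkLin_exact S hSe (genericPoint X)
    have hsur := StalkExact.stalkLin_surjective (cokernel.π f) (genericPoint X)
    have key : ∀ c : (cokernel f).presheaf.stalk (genericPoint X), c = 0 := by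
      intro c
      obtain ⟨n, rfl⟩ := hsur c
      obtain ⟨m, rfl⟩ := hsurj n
      rw [← stalkLin_eq_stalkMapₗ]
      exact (hex _).mpr ⟨m, rfl⟩
    exact ⟨fun c c' => (key c).trans (key c').symm⟩
  have hGa : Cyc.CohLe δ a G := ⟨hG, fun x _ => ha x⟩
  have hNa : Cyc.CohLe δ a N := ⟨hN, fun x _ => ha x⟩
  have hCa : Cyc.CohLe δ a (cokernel f) := ⟨hC, fun x _ => ha x⟩
  have hCb : Cyc.CohLe δ b (cokernel f) := ⟨hC, fun x hnt => hb x (by
    rintro rfl
    haveI := hnt
    exact not_subsingleton _ hsub)⟩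
  have hadd : KZero.clSub (Cyc.CohLe δ a) N =
      KZero.clSub (Cyc.CohLe δ a) G + KZero.clSub (Cyc.CohLe δ a) (cokernel f) :=
    clSub_eq_add (Cyc.CohLe δ a) S hS hGa hNa hCa
  have h0 : (QuotientAddGroup.mk (KZero.clSub (Cyc.CohLe δ a) (cokernel f)) :
      Cyc.K0CohQuot δ a b) = 0 :=
    (QuotientAddGroup.eq_zero_iff _).mpr (AddSubgroup.subset_closure ⟨cokernel f, hCb, rfl⟩)
  show (QuotientAddGroup.mk (KZero.clSub (Cyc.CohLe δ a) N) : Cyc.K0CohQuot δ a b) =
    QuotientAddGroup.mk (KZero.clSub (Cyc.CohLe δ a) G)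
  rw [hadd, QuotientAddGroup.mk_add, h0, add_zero]

/-- **The classes of `O_X` and of a rank one reflexive module agree modulo modules supported in
smaller dimension.** -/
theorem toK0CohQuot_structure_eq_of_isRef1 (hX : Pi1.IsNormalScheme X) (δ : X → ℤ) (a b : ℤ)
    (ha : ∀ x : X, δ x ≤ a) (hb : ∀ x : X, x ≠ genericPoint X → δ x ≤ b)
    {ℒ : X.Modules} (hℒ : RefHull.IsRef1 ℒ) :
    Cyc.toK0CohQuot δ a b (Coh.structureModule X) = Cyc.toK0CohQuot δ a b ℒ := by
  classical
  haveI : ℒ.IsQuasicoherent := hℒ.1.1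
  have hLtf := isTorsionFree_of_isRef1 hℒ
  have hspec : ∀ x : X, genericPoint X ⤳ x := fun x => genericPoint_specializes x
  obtain ⟨w, hw⟩ := exists_ne_zero_of_isRef1 hℒ
  have hsw : (Submodule.Quotient.mk w : Cyc.secFibre ℒ (genericPoint X)) ≠ 0 := fun h =>
    hw (mk_secFibre_injective ℒ (h.trans (Submodule.Quotient.mk_zero _).symm))
  obtain ⟨D, hD0, hD1⟩ := (Groth.Agent.S16087.result X hX).1 ℒ hℒ _ hsw
  have hE : LocallyFiniteSupport (fun x : X => (-D x).toNat) := by
    intro z
    obtain ⟨t, ht, hfin⟩ := D.supportLocallyFiniteWithinDomain' z (Set.mem_univ z)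
    refine ⟨t, ht, hfin.subset ?_⟩
    rintro y ⟨hyt, hy⟩
    refine ⟨hyt, fun h0 => hy ?_⟩
    have h1 : D y = 0 := h0
    show (-D y).toNat = 0
    rw [h1]
    rfl
  have hGcoh := isCoh_idealMod (divSheaf hE)
  have hGtf := isTorsionFree_idealMod (divSheaf hE)
  obtain ⟨V₀, hηV₀, a₀, ha₀⟩ := exists_generic_one hE
  have hgerm1 : X.presheaf.germ V₀ (genericPoint X) hηV₀ (IdealMod.val (divSheaf hE) a₀) = 1 := by
    rw [ha₀, map_one]
  have hg0 : (ClSub.idealMod (divSheaf hE)).presheaf.germ V₀ (genericPoint X) hηV₀ a₀ ≠ 0 := by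
    intro h0
    obtain ⟨W, hWV, hηW, h2⟩ :=
      exists_res_eq_zero_of_germ_eq_zero (divSheaf hE) (genericPoint X) hηV₀ a₀ h0
    have h3 := congrArg (IdealMod.val (divSheaf hE)) h2
    rw [IdealMod.val_res, ha₀, val_zero'] at h3
    haveI : Nonempty W := ⟨⟨_, hηW⟩⟩
    have h4 : (1 : Γ(X, W)) = 0 := (map_one _).symm.trans h3
    exact one_ne_zero h4
  have hgen : ∀ m : (ClSub.idealMod (divSheaf hE)).presheaf.stalk (genericPoint X),
      ∃ a : X.presheaf.stalk (genericPoint X),
        a • (ClSub.idealMod (divSheaf hE)).presheaf.germ V₀ (genericPoint X) hηV₀ a₀ = m := by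
    intro m
    obtain ⟨W, hηW, c, rfl⟩ :=
      TopCat.Presheaf.exists_germ_eq (ClSub.idealMod (divSheaf hE)).presheaf m
    refine ⟨X.presheaf.germ W (genericPoint X) hηW (IdealMod.val (divSheaf hE) c), ?_⟩
    have h := germ_val_smul_comm (divSheaf hE) (genericPoint X) hηV₀ hηW a₀ c
    rw [hgerm1, one_smul] at h
    exact h
  haveI : Module.IsTorsionFree (X.presheaf.stalk (genericPoint X))
      ((ClSub.idealMod (divSheaf hE)).presheaf.stalk (genericPoint X)) := hGtf _
  haveI : Module.IsTorsionFree (X.presheaf.stalk (genericPoint X))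
      (ℒ.presheaf.stalk (genericPoint X)) := hLtf _
  obtain ⟨T', hT'⟩ := exists_linearMap_of_generator (R := X.presheaf.stalk (genericPoint X))
    (N := ℒ.presheaf.stalk (genericPoint X)) _ hg0 hgen w
  have hT'germ : ∀ (V : X.Opens) (hη : genericPoint X ∈ V)
      (c : Γ(ClSub.idealMod (divSheaf hE), V)),
      T' ((ClSub.idealMod (divSheaf hE)).presheaf.germ V (genericPoint X) hη c) =
        X.presheaf.germ V (genericPoint X) hη (IdealMod.val (divSheaf hE) c) • w := by
    intro V hη c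
    have h := germ_val_smul_comm (divSheaf hE) (genericPoint X) hηV₀ hη a₀ c
    rw [hgerm1, one_smul] at h
    rw [← h, map_smul, hT']
  have hT'inj : ∀ m, T' m = 0 → m = 0 := by
    intro m hm
    obtain ⟨a, rfl⟩ := hgen m
    rw [map_smul, hT'] at hm
    rcases smul_eq_zero.mp hm with h | h
    · rw [h, zero_smul]
    · exact absurd h hw
  -- the condition at the points of codimension one
  have hTcond : ∀ x : X, ringKrullDim (X.presheaf.stalk x) = 1 → ∀ hsp : genericPoint X ⤳ x,
      ∀ g : (ClSub.idealMod (divSheaf hE)).presheaf.stalk x, ∃ n : ℒ.presheaf.stalk x,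
        (ℒ.presheaf.stalkSpecializes hsp).hom n =
          T' (((ClSub.idealMod (divSheaf hE)).presheaf.stalkSpecializes hsp).hom g) := by
    intro x hdim hsp g
    have hx : Order.coheight x = 1 := coheight_eq_one_of_ringKrullDim x hdim
    obtain ⟨V, hxV, β, hspan, hord⟩ := exists_stalk_generator hX hE x hx
    obtain ⟨hν0, hordβ⟩ := hord (hsp.mem_open V.2 hxV)
    obtain ⟨t0, φ, -, hφ0, hwφ, hsec⟩ := secOrdAt_spec hX ℒ hℒ x hx hsp w hw
    obtain ⟨α, rfl⟩ := Submodule.mem_span_singleton.mp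
      (show g ∈ Submodule.span (X.presheaf.stalk x)
        {(ClSub.idealMod (divSheaf hE)).presheaf.germ V x hxV β} by rw [hspan]; trivial)
    obtain ⟨ν, hνdef⟩ : ∃ ν : X.functionField, ν = X.presheaf.germ V (genericPoint X)
        (hsp.mem_open V.2 hxV) (IdealMod.val (divSheaf hE) β) := ⟨_, rfl⟩
    rw [← hνdef] at hν0 hordβ
    have h1 : Scheme.ord φ x = D x := hsec.symm.trans (hD1 x hx).symm
    have hord0 : 0 ≤ Scheme.ord (ν * φ) x := by
      rw [Scheme.ord_mul hν0 hφ0, hordβ, h1]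
      show 0 ≤ (((-D x).toNat : ℕ) : ℤ) + D x
      omega
    obtain ⟨c, hc⟩ := (CodimOne.zero_le_ord_iff hX hx (mul_ne_zero hν0 hφ0)).mp hord0
    have hc' : (X.presheaf.stalkSpecializes hsp).hom c = ν * φ := hc
    refine ⟨(α * c) • t0, ?_⟩
    have e1 : (ℒ.presheaf.stalkSpecializes hsp).hom ((α * c) • t0) =
        ((X.presheaf.stalkSpecializes hsp).hom α * (ν * φ)) •
          (ℒ.presheaf.stalkSpecializes hsp).hom t0 := by
      rw [specHom_smul, map_mul, hc']
    have e2 : T' (((ClSub.idealMod (divSheaf hE)).presheaf.stalkSpecializes hsp).hom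
        (α • (ClSub.idealMod (divSheaf hE)).presheaf.germ V x hxV β)) =
        ((X.presheaf.stalkSpecializes hsp).hom α * (ν * φ)) •
          (ℒ.presheaf.stalkSpecializes hsp).hom t0 := by
      rw [specHom_smul, specHom_germ, map_smul, hT'germ, ← hνdef]
      conv_lhs => rw [hwφ]
      rw [smul_smul, smul_smul, mul_assoc]
    rw [e1, e2]
  obtain ⟨ψ, hψ⟩ := exists_hom_extending hX (ClSub.idealMod (divSheaf hE)) ℒ hGcoh hℒ.1
    (fun x => isReflexiveAt_of_isRef1 hℒ x) T' hTcond
  haveI : Mono ψ := by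
    apply PbFlat.mono_of_injective_on_basis
    intro W x hxW
    refine ⟨W, hxW, le_rfl, ?_⟩
    intro c c' hcc
    have hηW : genericPoint X ∈ W := (hspec x).mem_open W.2 hxW
    by_contra hne
    have hd : c - c' ≠ 0 := sub_ne_zero.mpr hne
    apply germ_ne_zero_of_torsionFree (ClSub.idealMod (divSheaf hE)) hGtf (c - c') hd
      (genericPoint X) hηW
    apply hT'inj
    rw [← hψ, RefHull.stalkMapₗ_germ, map_sub, hcc, sub_self, map_zero]
  have hsurjψ : Function.Surjective (RefHull.stalkMapₗ ψ (genericPoint X)) := by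
    rw [hψ]
    intro v
    obtain ⟨a, ha'⟩ := generator_of_ne_zero ℒ hℒ.2.2 w hw v
    exact ⟨a • (ClSub.idealMod (divSheaf hE)).presheaf.germ V₀ (genericPoint X) hηV₀ a₀, by
      rw [map_smul, hT', ha']⟩
  have hsurjι : Function.Surjective
      (RefHull.stalkMapₗ (ClSub.idealModι (divSheaf hE)) (genericPoint X)) := by
    intro n
    refine ⟨unitEquiv (genericPoint X) n •
      (ClSub.idealMod (divSheaf hE)).presheaf.germ V₀ (genericPoint X) hηV₀ a₀, ?_⟩
    apply (unitEquiv (genericPoint X)).injective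
    have h2 : unitEquiv (genericPoint X) ((Coh.structureModule X).presheaf.germ V₀
        (genericPoint X) hηV₀ ((ClSub.idealModι (divSheaf hE)).app V₀ a₀)) =
        X.presheaf.germ V₀ (genericPoint X) hηV₀ (IdealMod.val (divSheaf hE) a₀) :=
      Groth.Agent.Lib.Helper9.StalkUnit.unitStalkHom_germ (genericPoint X) V₀ hηV₀ _
    rw [map_smul, map_smul, RefHull.stalkMapₗ_germ, h2, hgerm1, smul_eq_mul, mul_one]
  have hA := toK0CohQuot_eq_of_mono δ a b ha hb hGcoh (isCoh_structureModule X)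
    (ClSub.idealModι (divSheaf hE)) hsurjι
  have hB := toK0CohQuot_eq_of_mono δ a b ha hb hGcoh hℒ.1 ψ hsurjψ
  exact hA.trans hB.symm

end Groth.Agent.Lib.Helper26.RefSh
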