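import Groth.Agent.Lib.Helper26.RegularAB
import Groth.Agent.Lib.Helper9.ProjDim
import Groth.Agent.Lib.Helper4.Depth
import Mathlib

/-!
# Projective dimension over regular local rings via `Ext^i(M, A)`.
-/

set_option autoImplicit false
universe u

open CategoryTheory IsLocalRing

namespace Groth.Agent.Lib.Helper26.RegularExt

open Groth.Agent.Lib.Helper26.SerreReg

/-- If `pd M < r + 2` and `Ext^{r+1}(M, A) = 0` then `pd M < r + 1` (finite `M`, Noetherian `A`). -/
lemma pd_pred (A : Type u) [CommRing A] [IsNoetherianRing A] (M : Type u) [AddCommGroup M]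
    [Module A M] [Module.Finite A M] (r : ℕ)
    (h : HasProjectiveDimensionLT (ModuleCat.of A M) (r + 2))
    (hE : Subsingleton (Abelian.Ext (ModuleCat.of A M) (ModuleCat.of A A) (r + 1))) :
    HasProjectiveDimensionLT (ModuleCat.of A M) (r + 1) := by
  apply Groth.Agent.Lib.Helper9.hasProjectiveDimensionLT_of_cyclic r M
  intro I
  let S : ShortComplex (ModuleCat.{u} A) :=
    ModuleCat.shortComplexOfCompEqZero I.subtype I.mkQ
      (LinearMap.exact_subtype_mkQ I).linearMap_comp_eq_zero
  have hS : S.ShortExact := ModuleCat.shortComplex_shortExact S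
    (LinearMap.exact_subtype_mkQ I) I.injective_subtype (Submodule.mkQ_surjective _)
  exact Groth.Agent.Lib.Helper4.subsingleton_ext_X₃ hS (ModuleCat.of A M) (r + 1) hE
    (HasProjectiveDimensionLT.subsingleton (ModuleCat.of A M) (r + 2) (r + 1 + 1) le_rfl _)

/-- Descending: from `pd M < q + k + 1` and vanishing of `Ext^i(M, A)` for `i > q`, get
`pd M < q + 1`. -/
lemma pd_descend (A : Type u) [CommRing A] [IsNoetherianRing A] (M : Type u) [AddCommGroup M]
    [Module A M] [Module.Finite A M] (q : ℕ)
    (hE : ∀ i : ℕ, q < i → Subsingleton (Abelian.Ext (ModuleCat.of A M) (ModuleCat.of A A) i)) :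
    ∀ k : ℕ, HasProjectiveDimensionLT (ModuleCat.of A M) (q + k + 1) →
      HasProjectiveDimensionLT (ModuleCat.of A M) (q + 1) := by
  intro k
  induction k with
  | zero => exact fun h => h
  | succ k ih =>
    intro h
    exact ih (pd_pred A M (q + k) h (hE (q + k + 1) (by omega)))

/-- Over a regular local ring, `pd M ≤ q` iff `Ext^i(M, A) = 0` for all `i > q`. -/
theorem hasProjectiveDimensionLT_iff_ext_self (A : Type u) [CommRing A] [IsRegularLocalRing A]
    (M : Type u) [AddCommGroup M] [Module A M] [Module.Finite A M] (q : ℕ) :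
    HasProjectiveDimensionLT (ModuleCat.of A M) (q + 1) ↔
      ∀ i : ℕ, q < i → Subsingleton (Abelian.Ext (ModuleCat.of A M) (ModuleCat.of A A) i) := by
  constructor
  · intro h i hi
    exact HasProjectiveDimensionLT.subsingleton (ModuleCat.of A M) (q + 1) i (by omega) _
  · intro hE
    obtain ⟨n, hn⟩ := exists_nat_ringKrullDim A
    have h0 := Groth.Agent.S0563.result A n hn M
    apply pd_descend A M q hE n
    exact hasProjectiveDimensionLT_of_ge _ (n + 1) (q + n + 1) (by omega)

end Groth.Agent.Lib.Helper26.RegularExt
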