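import Mathlib
import Groth.Prelude

/-!
# The base change of a coproduct inclusion (helper7's request Q3)
-/

set_option autoImplicit false
universe u
open CategoryTheory CategoryTheory.Limits AlgebraicGeometry

namespace Groth.Agent.Lib.Helper26.RelFpqcQ3

/-- (Q3) -/
theorem exists_openImmersion_of_isPullback {X Y : Scheme.{u}} (f : X ⟶ Y) {ι : Type u} [Finite ι]
    (T : ι → Scheme.{u}) (t : ∀ i, T i ⟶ Y) (i : ι) {P : Scheme.{u}} (a : P ⟶ X) (b : P ⟶ T i)
    (h : IsPullback a b f (t i)) :
    ∃ k : P ⟶ pullback f (Sigma.desc t), IsOpenImmersion k ∧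
      k ≫ pullback.fst f (Sigma.desc t) = a ∧
      Set.range k.base = (pullback.snd f (Sigma.desc t)).base ⁻¹' Set.range (Sigma.ι T i).base := by
  have hw : a ≫ f = (b ≫ Sigma.ι T i) ≫ Sigma.desc t := by
    rw [Category.assoc, Sigma.ι_desc, h.w]
  let k : P ⟶ pullback f (Sigma.desc t) := pullback.lift a (b ≫ Sigma.ι T i) hw
  have hk1 : k ≫ pullback.fst f (Sigma.desc t) = a := pullback.lift_fst _ _ _
  have hk2 : k ≫ pullback.snd f (Sigma.desc t) = b ≫ Sigma.ι T i := pullback.lift_snd _ _ _
  have big : IsPullback (k ≫ pullback.fst f (Sigma.desc t)) b f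
      (Sigma.ι T i ≫ Sigma.desc t) := by
    rw [hk1, Sigma.ι_desc]
    exact h
  have sq : IsPullback k b (pullback.snd f (Sigma.desc t)) (Sigma.ι T i) :=
    IsPullback.of_right big hk2 (IsPullback.of_hasPullback f (Sigma.desc t))
  have hopen : IsOpenImmersion k :=
    MorphismProperty.of_isPullback (P := @IsOpenImmersion) sq.flip inferInstance
  refine ⟨k, hopen, hk1, ?_⟩
  have hk : k = sq.isoPullback.hom ≫
      pullback.fst (pullback.snd f (Sigma.desc t)) (Sigma.ι T i) := sq.isoPullback_hom_fst.symm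
  have hsurj : Function.Surjective sq.isoPullback.hom.base :=
    sq.isoPullback.hom.homeomorph.surjective
  have hr : Set.range k.base =
      Set.range (pullback.fst (pullback.snd f (Sigma.desc t)) (Sigma.ι T i)).base := by
    rw [hk, Scheme.Hom.comp_base, TopCat.coe_comp, Set.range_comp, Set.range_eq_univ.mpr hsurj,
      Set.image_univ]
  rw [hr]
  exact Scheme.Pullback.range_fst _ _

end Groth.Agent.Lib.Helper26.RelFpqcQ3
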