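import Mathlib
import Groth.Prelude

/-!
# Pullback of a restricted module along a compatible map of open subschemes (helper7's request Q6)
-/

set_option autoImplicit false
universe u
open CategoryTheory CategoryTheory.Limits AlgebraicGeometry

namespace Groth.Agent.Lib.Helper26.RelFpqcQ6

/-- (Q6) -/
theorem nonempty_iso_pullback_restrict {X X' U U' : Scheme.{u}} (p : X' ⟶ X) (j : U ⟶ X)
    (j' : U' ⟶ X') [IsOpenImmersion j] [IsOpenImmersion j'] (a : U' ⟶ U) (h : a ≫ j = j' ≫ p)
    (L : X.Modules) :
    Nonempty ((Scheme.Modules.pullback a).obj (L.restrict j) ≅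
      ((Scheme.Modules.pullback p).obj L).restrict j') := by
  refine ⟨?_⟩
  exact (Scheme.Modules.pullback a).mapIso ((Scheme.Modules.restrictFunctorIsoPullback j).app L) ≪≫
    (Scheme.Modules.pullbackComp a j).app L ≪≫
    (Scheme.Modules.pullbackCongr h).app L ≪≫
    ((Scheme.Modules.pullbackComp j' p).app L).symm ≪≫
    ((Scheme.Modules.restrictFunctorIsoPullback j').app ((Scheme.Modules.pullback p).obj L)).symm

end Groth.Agent.Lib.Helper26.RelFpqcQ6
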