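import Mathlib
import Groth.Prelude

/-!
# Points of the scheme-theoretic fibre `(fibIdeal f m).subscheme` (for S19496, lemma H):
a point of `X` lying over the point `m` of `Spec A` is in the range of the closed immersion of
the fibre subscheme. (`fibIdeal f m = (Spec.map (ofHom (Ideal.Quotient.mk m))).ker.comap f`.)
-/

set_option autoImplicit false
universe u
open CategoryTheory CategoryTheory.Limits AlgebraicGeometry

namespace Groth.Agent.Lib.Helper26.RelNefFibPt

theorem range_subschemeι_fibIdeal {A : Type u} [CommRing A] {X : Scheme.{u}}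
    (f : X ⟶ Spec (CommRingCat.of A)) (m : Ideal A) :
    Set.range ((Spec.map (CommRingCat.ofHom (Ideal.Quotient.mk m))).ker.comap f).subschemeι =
      f ⁻¹' (PrimeSpectrum.zeroLocus (m : Set A)) := by
  haveI : IsClosedImmersion (Spec.map (CommRingCat.ofHom (Ideal.Quotient.mk m))) :=
    IsClosedImmersion.spec_of_surjective _ Ideal.Quotient.mk_surjective
  rw [Scheme.IdealSheafData.range_subschemeι, Scheme.IdealSheafData.support_comap,
    TopologicalSpace.Closeds.coe_preimage, Scheme.Hom.support_ker]
  have h1 : Set.range (Spec.map (CommRingCat.ofHom (Ideal.Quotient.mk m))) =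
      PrimeSpectrum.zeroLocus (m : Set A) := by
    have := range_comap_of_surjective _ (Ideal.Quotient.mk m)
      Ideal.Quotient.mk_surjective
    rw [Ideal.mk_ker] at this
    exact this
  rw [(Spec.map (CommRingCat.ofHom (Ideal.Quotient.mk m))).isClosedEmbedding.isClosed_range.closure_eq,
    h1]

/-- a point over a (maximal) ideal `m` comes from the fibre subscheme -/
theorem exists_subschemeι_eq {A : Type u} [CommRing A] {X : Scheme.{u}}
    (f : X ⟶ Spec (CommRingCat.of A)) (m : Ideal A) (hm : m.IsPrime) (x : X)
    (hx : f.base x = (⟨m, hm⟩ : PrimeSpectrum A)) :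
    ∃ z : ((Spec.map (CommRingCat.ofHom (Ideal.Quotient.mk m))).ker.comap f).subscheme,
      ((Spec.map (CommRingCat.ofHom (Ideal.Quotient.mk m))).ker.comap f).subschemeι.base z = x := by
  have hmem : x ∈ Set.range
      ((Spec.map (CommRingCat.ofHom (Ideal.Quotient.mk m))).ker.comap f).subschemeι := by
    rw [range_subschemeι_fibIdeal]
    show f.base x ∈ PrimeSpectrum.zeroLocus (m : Set A)
    rw [hx]
    exact fun a ha => ha
  exact hmem

end Groth.Agent.Lib.Helper26.RelNefFibPt
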