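import Groth.Agent.Lib.Helper3.IdealMod
import Groth.Agent.Lib.Helper3.FreeBasis
import Groth.Agent.Lib.Helper3.LocFreeCrit
import Groth.Agent.Lib.Helper3.QCExact
import Groth.Prelude.Def_PerfAux

/-!
# The resolution property implies affine diagonal (intersection of affine opens is affine)
-/

set_option autoImplicit false
universe u
open CategoryTheory CategoryTheory.Limits AlgebraicGeometry TopologicalSpace Opposite
open Scheme.Modules

namespace Groth.Agent.Lib.Helper26.ResAffDiag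

open Groth.Agent.Lib.Helper3 Groth.Agent.Lib.Helper3.QCSec Groth.Agent.Lib.Helper3.InvGen
  Groth.Agent.Lib.Helper3.IdealMod Groth.Agent.Lib.Helper3.FreeBasis

variable {X : Scheme.{u}}

theorem valOf_add {J : X.Modules} (j : J ⟶ Coh.structureModule X) {W : X.Opens} (s t : Γ(J, W)) :
    valOf j (s + t) = valOf j s + valOf j t := by
  change toFun W (j.app W (s + t)) = _
  rw [map_add]
  rfl

theorem valOf_zero {J : X.Modules} (j : J ⟶ Coh.structureModule X) {W : X.Opens} :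
    valOf j (0 : Γ(J, W)) = 0 := by
  change toFun W (j.app W 0) = _
  rw [map_zero]
  rfl

theorem valOf_sum {J : X.Modules} (j : J ⟶ Coh.structureModule X) {W : X.Opens} {ι : Type*}
    (s : Finset ι) (f : ι → Γ(J, W)) :
    valOf j (∑ i ∈ s, f i) = ∑ i ∈ s, valOf j (f i) := by
  classical
  induction s using Finset.induction_on with
  | empty => simp only [Finset.sum_empty]; exact valOf_zero j
  | insert a s ha ih => rw [Finset.sum_insert ha, Finset.sum_insert ha, valOf_add, ih]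

/-- the localisation step: if `1` is a combination of functions on `D(f)` which, up to powers of
`f`, come from the ideal `𝔞`, then a power of `f` lies in `𝔞` -/
theorem exists_pow_mem {W : X.Opens} (hWc : IsCompact (W : Set X))
    (hWqs : IsQuasiSeparated (W : Set X)) (f : Γ(X, W)) (𝔞 : Ideal Γ(X, W)) {n : ℕ}
    (c v : Fin n → Γ(X, X.basicOpen f))
    (h1 : ∑ i, c i * v i = 1)
    (h2 : ∀ i, ∃ (m : ℕ) (a : Γ(X, W)), a ∈ 𝔞 ∧
      (rres X (X.basicOpen_le f) f) ^ m * v i = rres X (X.basicOpen_le f) a) :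
    ∃ k : ℕ, f ^ k ∈ 𝔞 := by
  haveI := isLocalization_basicOpen_of_qcqs hWc hWqs f
  have hmap : 𝔞.map (algebraMap Γ(X, W) Γ(X, X.basicOpen f)) = ⊤ := by
    rw [Ideal.eq_top_iff_one, ← h1]
    refine Ideal.sum_mem _ fun i _ => Ideal.mul_mem_left _ _ ?_
    obtain ⟨m, a, ha, hm⟩ := h2 i
    have hu : IsUnit ((rres X (X.basicOpen_le f) f) ^ m) :=
      (RingedSpace.isUnit_res_basicOpen _ f).pow m
    rw [← Ideal.unit_mul_mem_iff_mem _ hu, hm]
    exact Ideal.mem_map_of_mem _ ha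
  by_contra hcon
  push Not at hcon
  have hd : Disjoint ((Submonoid.powers f : Submonoid Γ(X, W)) : Set Γ(X, W))
      (𝔞 : Set Γ(X, W)) := by
    rw [Set.disjoint_left]
    rintro _ ⟨k, rfl⟩ hk
    exact hcon k hk
  exact (IsLocalization.map_algebraMap_ne_top_iff_disjoint (Submonoid.powers f)
    Γ(X, X.basicOpen f) 𝔞).mpr hd hmap

/-- the local step: near a point of `V` where `E` is free, a power of the basic function lies in
the ideal generated by the values of sections over `V` -/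
theorem exists_pow_mem_of_basis {E : X.Modules} [E.IsQuasicoherent]
    (φ : E ⟶ Coh.structureModule X) {U V : X.Opens} (hV : IsAffineOpen V)
    (hWc : IsCompact ((U ⊓ V : X.Opens) : Set X))
    (hWqs : IsQuasiSeparated ((U ⊓ V : X.Opens) : Set X))
    (t : Γ(E, U)) (ht : valOf φ t = 1)
    (b₀ : Γ(X, V)) {U₁ : X.Opens} (hDU₁ : X.basicOpen b₀ ≤ U₁) {n : ℕ}
    (ē : Fin n → Γ(E, U₁)) (hē : IsBasis E U₁ ē)
    (𝔞 : Ideal Γ(X, U ⊓ V))
    (h𝔞 : ∀ p : Γ(E, V), rres X (inf_le_right : U ⊓ V ≤ V) (valOf φ p) ∈ 𝔞) :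
    ∃ k : ℕ, (rres X (inf_le_right : U ⊓ V ≤ V) b₀) ^ k ∈ 𝔞 := by
  have hWV : U ⊓ V ≤ V := inf_le_right
  have hDV : X.basicOpen b₀ ≤ V := X.basicOpen_le b₀
  have hloc : IsLocSec E V (X.basicOpen b₀) hDV b₀ :=
    isLocSec_of_isQuasicoherent E hV b₀ _ rfl hDV
  have hW₀W : X.basicOpen (rres X hWV b₀) ≤ U ⊓ V := X.basicOpen_le _
  have hW₀D : X.basicOpen (rres X hWV b₀) ≤ X.basicOpen b₀ := by
    have h : X.basicOpen (rres X hWV b₀) = (U ⊓ V) ⊓ X.basicOpen b₀ := Scheme.basicOpen_res _ _ _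
    rw [h]; exact inf_le_right
  have hW₀U₁ : X.basicOpen (rres X hWV b₀) ≤ U₁ := hW₀D.trans hDU₁
  have hW₀U : X.basicOpen (rres X hWV b₀) ≤ U := hW₀W.trans inf_le_left
  obtain ⟨c, hc⟩ := (hē _ hW₀U₁).2 (res E hW₀U t)
  have hc' : ∑ i, c i • res E hW₀U₁ (ē i) = res E hW₀U t := hc
  refine exists_pow_mem hWc hWqs (rres X hWV b₀) 𝔞 c
    (fun i => valOf φ (res E hW₀U₁ (ē i))) ?_ ?_
  · have h3 := congrArg (valOf φ) hc'
    rw [valOf_sum, valOf_res, ht, rres_one] at h3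
    refine Eq.trans ?_ h3
    refine Finset.sum_congr rfl fun i _ => ?_
    exact (valOf_smul φ _ _).symm
  · intro i
    obtain ⟨m, p, hp⟩ := hloc.surj (res E hDU₁ (ē i))
    refine ⟨m, rres X hWV (valOf φ p), h𝔞 p, ?_⟩
    have h2 := congrArg (fun s => valOf φ (res E hW₀D s)) hp
    beta_reduce at h2
    rw [res_res, valOf_res, res_smul, valOf_smul, res_res, rres_pow, rres_rres] at h2
    beta_reduce
    rw [rres_rres, rres_rres]
    exact h2.symm

/-- a quasi-compact quasi-separated scheme with the resolution property has affine diagonal -/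
theorem isAffineOpen_inf [CompactSpace ↥X] [QuasiSeparatedSpace ↥X]
    (hX : PerfAux.HasResolutionProperty X)
    (U V : X.Opens) (hU : IsAffineOpen U) (hV : IsAffineOpen V) : IsAffineOpen (U ⊓ V) := by
  obtain ⟨J, j, hjm, hJq, hJf, ⟨e, he⟩, hdis⟩ := IdealMod.exists_finiteType_ideal hU
  obtain ⟨E, π, hE, hπ⟩ := hX J hJq hJf
  haveI : E.IsQuasicoherent := LocFreeCrit.isQuasicoherent_of_isFinLocFree hE
  haveI : J.IsQuasicoherent := hJq
  obtain ⟨t, ht⟩ := (QCExact.epi_iff_surjective_on_affines π).mp hπ U hU e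
  obtain ⟨φ, hφ⟩ : ∃ φ : E ⟶ Coh.structureModule X, φ = π ≫ j := ⟨_, rfl⟩
  have hval : ∀ (A : X.Opens) (s : Γ(E, A)), valOf φ s = valOf j (π.app A s) := by
    subst hφ; intro A s; rfl
  have hφt : valOf φ t = 1 := by rw [hval, ht, he]
  have hφle : ∀ (A : X.Opens) (s : Γ(E, A)), X.basicOpen (valOf φ s) ≤ U := by
    intro A s x hx
    rw [hval] at hx
    by_contra hxU
    exact Set.disjoint_left.mp (hdis A (π.app A s)) hx hxU
  have hWV : U ⊓ V ≤ V := inf_le_right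
  have hWc : IsCompact ((U ⊓ V : X.Opens) : Set X) := by
    rw [Opens.coe_inf]
    exact QuasiSeparatedSpace.inter_isCompact _ _ U.2 hU.isCompact V.2 hV.isCompact
  have hWqs : IsQuasiSeparated ((U ⊓ V : X.Opens) : Set X) :=
    IsQuasiSeparated.of_quasiSeparatedSpace _
  let S : Set Γ(X, U ⊓ V) := {a | ∃ p : Γ(E, V), a = rres X hWV (valOf φ p)}
  let ρ : Γ(X, V) →+* Γ(X, U ⊓ V) := (X.presheaf.map (homOfLE hWV).op).hom
  apply isAffineOpen_of_isAffineOpen_basicOpen (U ⊓ V) S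
  · have hc : Ideal.span (((Ideal.span S).comap ρ : Ideal Γ(X, V)) : Set Γ(X, V)) = ⊤ := by
      rw [← hV.self_le_iSup_basicOpen_iff]
      intro v hvV
      obtain ⟨U₁, n, hvU₁, ⟨iso⟩⟩ := hE v
      obtain ⟨b₀, hb₀le, hvb₀⟩ := hV.exists_basicOpen_le (V := U₁ ⊓ V) ⟨v, ⟨hvU₁, hvV⟩⟩ hvV
      have hDU₁ : X.basicOpen b₀ ≤ U₁ := hb₀le.trans inf_le_left
      obtain ⟨ē, hē⟩ := FreeBasis.exists_isBasis_of_iso iso
      obtain ⟨k, hk⟩ := exists_pow_mem_of_basis φ hV hWc hWqs t hφt b₀ hDU₁ ē hē (Ideal.span S)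
        (fun p => Ideal.subset_span ⟨p, rfl⟩)
      have hmem : b₀ ^ k ∈ (((Ideal.span S).comap ρ : Ideal Γ(X, V)) : Set Γ(X, V)) := by
        change ρ (b₀ ^ k) ∈ Ideal.span S
        rw [map_pow]
        exact hk
      refine Opens.mem_iSup.mpr ⟨⟨b₀ ^ k, hmem⟩, ?_⟩
      rw [Scheme.mem_basicOpen _ _ _ hvV, map_pow]
      exact ((Scheme.mem_basicOpen _ _ _ hvV).mp hvb₀).pow k
    rw [Ideal.span_eq] at hc
    have h1 : ρ 1 ∈ Ideal.span S := by
      have : (1 : Γ(X, V)) ∈ (Ideal.span S).comap ρ := by rw [hc]; trivial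
      exact this
    rw [map_one] at h1
    exact (Ideal.eq_top_iff_one _).mpr h1
  · rintro a ⟨p, rfl⟩
    have h2 : X.basicOpen (rres X hWV (valOf φ p)) = (U ⊓ V) ⊓ X.basicOpen (valOf φ p) :=
      Scheme.basicOpen_res _ _ _
    have h3 : (U ⊓ V) ⊓ X.basicOpen (valOf φ p) = X.basicOpen (valOf φ p) :=
      inf_eq_right.mpr (le_inf (hφle V p) (X.basicOpen_le _))
    rw [h2, h3]
    exact hV.basicOpen _

end Groth.Agent.Lib.Helper26.ResAffDiag
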