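import Groth.Agent.Lib.Helper3.IdealMod
import Groth.Agent.Lib.Helper3.QCLim
import Groth.Agent.Lib.Helper3.QCPush
import Groth.Agent.Lib.Helper26.TorsionFreeQuot
import Groth.Agent.Lib.Helper26.ResAffDiag

/-!
# Relative form of Serre's criterion: `f_*` exact on quasi-coherent modules implies `f` affine
-/

set_option autoImplicit false
universe u
open CategoryTheory CategoryTheory.Limits AlgebraicGeometry TopologicalSpace Opposite
open Scheme.Modules

namespace Groth.Agent.Lib.Helper26.RelSerre

open Groth.Agent.Lib.Helper3 Groth.Agent.Lib.Helper3.QCSec Groth.Agent.Lib.Helper3.InvGen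
  Groth.Agent.Lib.Helper3.IdealMod Groth.Agent.Lib.Helper3.FreeBasis

variable {X Y : Scheme.{u}}

/-- the core: a compact open `W` of `X` such that the sections over `W` of every epimorphism of
quasi-coherent modules on `X` are surjective is affine -/
theorem isAffineOpen_of_surjective_sections (W : X.Opens) (hWc : IsCompact (W : Set X))
    (h : ∀ (F F'' : X.Modules) (p : F ⟶ F''), F.IsQuasicoherent → F''.IsQuasicoherent → Epi p →
      Function.Surjective (p.app W)) : IsAffineOpen W := by
  classical
  obtain ⟨ι, hι, U, hUa, hUle, hcov⟩ := QCSec.exists_finite_affine_cover W hWc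
  haveI := hι
  haveI := Fintype.ofFinite ι
  let Z : ι → TopologicalSpace.Closeds X :=
    fun i => ⟨(U i : Set X)ᶜ, (U i).isOpen.isClosed_compl⟩
  let I : ι → X.IdealSheafData := fun i => Scheme.IdealSheafData.vanishingIdeal (Z i)
  have hsupp : ∀ i, ((I i).support : Set X) = (U i : Set X)ᶜ := fun i =>
    Scheme.IdealSheafData.coe_support_vanishingIdeal (Z i)
  let P : ι → X.Modules := fun i => ClSub.idealMod (I i)
  haveI : ∀ i, (P i).IsQuasicoherent := fun i => IdealMod.isQuasicoherent_idealMod (I i)
  haveI hPq : (⨁ P : X.Modules).IsQuasicoherent := TorsionFreeQuot.isQuasicoherent_biproduct P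
  obtain ⟨p, hp⟩ : ∃ p : (⨁ P : X.Modules) ⟶ Coh.structureModule X,
      ∀ i, biproduct.ι P i ≫ p = ClSub.idealModι (I i) :=
    ⟨biproduct.desc (fun i => ClSub.idealModι (I i)), fun i => biproduct.ι_desc _ _⟩
  haveI hQq : (Abelian.image p : X.Modules).IsQuasicoherent := QCLim.isQuasicoherent_image p
  obtain ⟨e, m, hem, he, hm⟩ : ∃ (e : (⨁ P : X.Modules) ⟶ Abelian.image p)
      (m : Abelian.image p ⟶ Coh.structureModule X), e ≫ m = p ∧ Epi e ∧ Mono m :=
    ⟨Abelian.factorThruImage p, Abelian.image.ι p, Abelian.image.fac p, inferInstance,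
      inferInstance⟩
  haveI := he
  haveI := hm
  have hσ : ∀ i, ∃ σ : Γ(P i, U i), IdealMod.val (I i) σ = 1 := fun i =>
    IdealMod.exists_val_eq_one (I i) (by rw [hsupp i]; exact disjoint_compl_right)
  choose σ hσ1 using hσ
  have hval : ∀ (i : ι) (A : X.Opens) (y : Γ(P i, A)),
      valOf p ((biproduct.ι P i).app A y) = IdealMod.val (I i) y := by
    intro i A y
    change valOf (biproduct.ι P i ≫ p) y = _
    rw [hp i]
    rfl
  have hvm : ∀ (A : X.Opens) (y : Γ((⨁ P : X.Modules), A)),
      valOf m (e.app A y) = valOf p y := by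
    intro A y
    change valOf (e ≫ m) y = _
    rw [hem]
  let τ : ∀ i, Γ(Abelian.image p, U i) :=
    fun i => e.app (U i) ((biproduct.ι P i).app (U i) (σ i))
  have hmτ : ∀ i, valOf m (τ i) = 1 := by
    intro i
    rw [hvm, hval, hσ1]
  have hcompat : ∀ i j, res (Abelian.image p) (inf_le_left : U i ⊓ U j ≤ U i) (τ i) =
      res (Abelian.image p) (inf_le_right : U i ⊓ U j ≤ U j) (τ j) := by
    intro i j
    apply valOf_injective m (U i ⊓ U j)
    rw [valOf_res, valOf_res, hmτ i, hmτ j, rres_one, rres_one]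
  obtain ⟨t, ht⟩ := InvGen.sec_glue (Abelian.image p) U W hUle hcov τ hcompat
  have hmt : valOf m t = 1 := by
    have h1 : (valOf m t : Γ(X, W)) = (1 : Γ(X, W)) := by
      apply InvGen.fun_eq_of_locally_eq U W hUle hcov
      intro i
      have h2 := valOf_res m (hUle i) t
      rw [ht i, hmτ i] at h2
      rw [rres_one]
      exact h2.symm
    exact h1
  obtain ⟨s, hs⟩ := h _ _ e hPq hQq he t
  have hps : valOf p s = 1 := by rw [← hvm, hs, hmt]
  have htot : ∑ i, biproduct.π P i ≫ biproduct.ι P i = 𝟙 (⨁ P : X.Modules) :=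
    Limits.IsBilimit.total (biproduct.isBilimit P)
  have hs2 : s = ∑ i, (biproduct.ι P i).app W ((biproduct.π P i).app W s) := by
    have h2 : s = (∑ i, biproduct.π P i ≫ biproduct.ι P i).app W s := by
      rw [htot]
      rfl
    rw [FreeBasis.sum_app] at h2
    exact h2
  have hsum : ∑ i, IdealMod.val (I i) ((biproduct.π P i).app W s) = 1 := by
    rw [← hps]
    conv_rhs => rw [hs2]
    rw [ResAffDiag.valOf_sum]
    refine Finset.sum_congr rfl fun i _ => ?_
    rw [hval]
  let S : Set Γ(X, W) := {g | ∃ (i : ι) (y : Γ(P i, W)), g = IdealMod.val (I i) y}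
  apply isAffineOpen_of_isAffineOpen_basicOpen W S
  · rw [Ideal.eq_top_iff_one, ← hsum]
    exact Ideal.sum_mem _ fun i _ => Ideal.subset_span ⟨i, _, rfl⟩
  · rintro g ⟨i, y, rfl⟩
    have hdisj := IdealMod.disjoint_basicOpen_val (I i) y
    have hle : X.basicOpen (IdealMod.val (I i) y) ≤ U i := by
      intro x hx
      by_contra hxU
      exact Set.disjoint_left.mp hdisj hx (by rw [hsupp i]; exact hxU)
    have h2 : X.basicOpen (rres X (hUle i) (IdealMod.val (I i) y)) =
        U i ⊓ X.basicOpen (IdealMod.val (I i) y) := Scheme.basicOpen_res _ _ _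
    have h3 : U i ⊓ X.basicOpen (IdealMod.val (I i) y) = X.basicOpen (IdealMod.val (I i) y) :=
      inf_eq_right.mpr hle
    rw [← h3, ← h2]
    exact (hUa i).basicOpen _

/-- relative Serre criterion: if `f` is quasi-compact and quasi-separated and `f_*` preserves
epimorphisms of quasi-coherent modules, then `f` is affine -/
theorem isAffineHom_of_push_epi (f : X ⟶ Y) [QuasiCompact f] [QuasiSeparated f]
    (h : ∀ (F F'' : X.Modules) (p : F ⟶ F''), Coh.IsQCoh F → Coh.IsQCoh F'' → Epi p →
      Epi ((Coh.push f).map p)) : IsAffineHom f := by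
  constructor
  intro V hV
  apply isAffineOpen_of_surjective_sections (f ⁻¹ᵁ V) (f.isCompact_preimage hV.isCompact)
  intro F F'' p hF hF'' hp
  haveI := hF
  haveI := hF''
  have hepi : Epi ((Coh.push f).map p) := h F F'' p hF hF'' hp
  haveI : ((Coh.push f).obj F).IsQuasicoherent := QCSec.isQuasicoherent_pushforward f F
  haveI : ((Coh.push f).obj F'').IsQuasicoherent := QCSec.isQuasicoherent_pushforward f F''
  exact (QCExact.epi_iff_surjective_on_affines ((Coh.push f).map p)).mp hepi V hV

end Groth.Agent.Lib.Helper26.RelSerre
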