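import Groth.Agent.Lib.Helper26.RelSerre
import Groth.Agent.Lib.Helper13.SerreCrit1
import Groth.Agent.Lib.Helper13.R1Edge
import Groth.Agent.Lib.Helper2.RpushCompare
import Groth.Agent.S16463

/-!
# Relative Serre criterion, cohomological form: `R¹f_*` vanishing on quasi-coherent ideals implies
`f` affine (for `f` quasi-compact and quasi-separated, no hypothesis on the target)
-/

set_option autoImplicit false
universe u
open CategoryTheory CategoryTheory.Limits AlgebraicGeometry TopologicalSpace Opposite
open Scheme.Modules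

namespace Groth.Agent.Lib.Helper26.RelSerre2

open Groth.Agent.Lib.Helper3 Groth.Agent.Lib.Helper3.QCSec Groth.Agent.Lib.Helper3.InvGen
  Groth.Agent.Lib.Helper3.IdealMod Groth.Agent.Lib.Helper3.FreeBasis
open Groth.Agent.Lib.Helper13 Groth.Agent.Lib.Helper2.RpushCompare

variable {X Y : Scheme.{u}}

/-- the core, refined: only epimorphisms whose kernel admits a jointly monomorphic finite family
of maps to `O_X` are needed -/
theorem isAffineOpen_of_surjective_sections' (W : X.Opens) (hWc : IsCompact (W : Set X))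
    (h : ∀ (F F'' : X.Modules) (p : F ⟶ F'') (n : ℕ)
      (g : Fin n → ((kernel p : X.Modules) ⟶ Coh.structureModule X)),
      (∀ (T : X.Modules) (t : T ⟶ kernel p), (∀ k, t ≫ g k = 0) → t = 0) →
      F.IsQuasicoherent → F''.IsQuasicoherent → Epi p →
      Function.Surjective (p.app W)) : IsAffineOpen W := by
  classical
  obtain ⟨ι, hι, U, hUa, hUle, hcov⟩ := QCSec.exists_finite_affine_cover W hWc
  haveI := hι
  haveI := Fintype.ofFinite ι
  let Z : ι → TopologicalSpace.Closeds X :=
    fun i => ⟨(U i : Set X)ᶜ, (U i).isOpen.isClosed_compl⟩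
  let I : ι → X.IdealSheafData := fun i => Scheme.IdealSheafData.vanishingIdeal (Z i)
  have hsupp : ∀ i, ((I i).support : Set X) = (U i : Set X)ᶜ := fun i =>
    Scheme.IdealSheafData.coe_support_vanishingIdeal (Z i)
  let P : ι → X.Modules := fun i => ClSub.idealMod (I i)
  haveI : ∀ i, (P i).IsQuasicoherent := fun i => IdealMod.isQuasicoherent_idealMod (I i)
  haveI hPq : (⨁ P : X.Modules).IsQuasicoherent := TorsionFreeQuot.isQuasicoherent_biproduct P
  obtain ⟨p, hp⟩ : ∃ p : (⨁ P : X.Modules) ⟶ Coh.structureModule X,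
      ∀ i, biproduct.ι P i ≫ p = ClSub.idealModι (I i) :=
    ⟨biproduct.desc (fun i => ClSub.idealModι (I i)), fun i => biproduct.ι_desc _ _⟩
  haveI hQq : (Abelian.image p : X.Modules).IsQuasicoherent := QCLim.isQuasicoherent_image p
  obtain ⟨e, m, hem, he, hm⟩ : ∃ (e : (⨁ P : X.Modules) ⟶ Abelian.image p)
      (m : Abelian.image p ⟶ Coh.structureModule X), e ≫ m = p ∧ Epi e ∧ Mono m :=
    ⟨Abelian.factorThruImage p, Abelian.image.ι p, Abelian.image.fac p, inferInstance,
      inferInstance⟩
  haveI := he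
  haveI := hm
  have hσ : ∀ i, ∃ σ : Γ(P i, U i), IdealMod.val (I i) σ = 1 := fun i =>
    IdealMod.exists_val_eq_one (I i) (by rw [hsupp i]; exact disjoint_compl_right)
  choose σ hσ1 using hσ
  have hval : ∀ (i : ι) (A : X.Opens) (y : Γ(P i, A)),
      valOf p ((biproduct.ι P i).app A y) = IdealMod.val (I i) y := by
    intro i A y
    change valOf (biproduct.ι P i ≫ p) y = _
    rw [hp i]
    rfl
  have hvm : ∀ (A : X.Opens) (y : Γ((⨁ P : X.Modules), A)),
      valOf m (e.app A y) = valOf p y := by
    intro A y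
    change valOf (e ≫ m) y = _
    rw [hem]
  let τ : ∀ i, Γ(Abelian.image p, U i) :=
    fun i => e.app (U i) ((biproduct.ι P i).app (U i) (σ i))
  have hmτ : ∀ i, valOf m (τ i) = 1 := by
    intro i
    rw [hvm, hval, hσ1]
  have hcompat : ∀ i j, res (Abelian.image p) (inf_le_left : U i ⊓ U j ≤ U i) (τ i) =
      res (Abelian.image p) (inf_le_right : U i ⊓ U j ≤ U j) (τ j) := by
    intro i j
    apply valOf_injective m (U i ⊓ U j)
    rw [valOf_res, valOf_res, hmτ i, hmτ j, rres_one, rres_one]
  obtain ⟨t, ht⟩ := InvGen.sec_glue (Abelian.image p) U W hUle hcov τ hcompat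
  have hmt : valOf m t = 1 := by
    have h1 : (valOf m t : Γ(X, W)) = (1 : Γ(X, W)) := by
      apply InvGen.fun_eq_of_locally_eq U W hUle hcov
      intro i
      have h2 := valOf_res m (hUle i) t
      rw [ht i, hmτ i] at h2
      rw [rres_one]
      exact h2.symm
    exact h1
  let eq : ι ≃ Fin (Fintype.card ι) := Fintype.equivFin ι
  have hjm : ∀ (T : X.Modules) (t : T ⟶ (kernel e : X.Modules)),
      (∀ k : Fin (Fintype.card ι), t ≫ (kernel.ι e ≫ biproduct.π P (eq.symm k) ≫
        ClSub.idealModι (I (eq.symm k))) = 0) → t = 0 := by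
    intro T t ht
    have h1 : t ≫ kernel.ι e = 0 := by
      apply biproduct.hom_ext
      intro i
      have h2 := ht (eq i)
      rw [Equiv.symm_apply_apply] at h2
      rw [zero_comp, ← cancel_mono (ClSub.idealModι (I i)), zero_comp, Category.assoc,
        Category.assoc]
      exact h2
    exact (cancel_mono (kernel.ι e)).1 (h1.trans zero_comp.symm)
  obtain ⟨s, hs⟩ := h _ _ e (Fintype.card ι)
    (fun k => kernel.ι e ≫ biproduct.π P (eq.symm k) ≫ ClSub.idealModι (I (eq.symm k)))
    hjm hPq hQq he t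
  have hps : valOf p s = 1 := by rw [← hvm, hs, hmt]
  have htot : ∑ i, biproduct.π P i ≫ biproduct.ι P i = 𝟙 (⨁ P : X.Modules) :=
    Limits.IsBilimit.total (biproduct.isBilimit P)
  have hs2 : s = ∑ i, (biproduct.ι P i).app W ((biproduct.π P i).app W s) := by
    have h2 : s = (∑ i, biproduct.π P i ≫ biproduct.ι P i).app W s := by
      rw [htot]
      rfl
    rw [FreeBasis.sum_app] at h2
    exact h2
  have hsum : ∑ i, IdealMod.val (I i) ((biproduct.π P i).app W s) = 1 := by
    rw [← hps]
    conv_rhs => rw [hs2]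
    rw [ResAffDiag.valOf_sum]
    refine Finset.sum_congr rfl fun i _ => ?_
    rw [hval]
  let S : Set Γ(X, W) := {g | ∃ (i : ι) (y : Γ(P i, W)), g = IdealMod.val (I i) y}
  apply isAffineOpen_of_isAffineOpen_basicOpen W S
  · rw [Ideal.eq_top_iff_one, ← hsum]
    exact Ideal.sum_mem _ fun i _ => Ideal.subset_span ⟨i, _, rfl⟩
  · rintro g ⟨i, y, rfl⟩
    have hdisj := IdealMod.disjoint_basicOpen_val (I i) y
    have hle : X.basicOpen (IdealMod.val (I i) y) ≤ U i := by
      intro x hx
      by_contra hxU
      exact Set.disjoint_left.mp hdisj hx (by rw [hsupp i]; exact hxU)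
    have h2 : X.basicOpen (rres X (hUle i) (IdealMod.val (I i) y)) =
        U i ⊓ X.basicOpen (IdealMod.val (I i) y) := Scheme.basicOpen_res _ _ _
    have h3 : U i ⊓ X.basicOpen (IdealMod.val (I i) y) = X.basicOpen (IdealMod.val (I i) y) :=
      inf_eq_right.mpr hle
    rw [← h3, ← h2]
    exact (hUa i).basicOpen _


/-- vanishing of `R¹f_*` of the underlying abelian sheaf -/
def R1Z (f : X ⟶ Y) (M : X.Modules) : Prop :=
  IsZero ((Coh.RpushAb f 1).obj (Coh.toAb M))

theorem r1z_middle (f : X ⟶ Y) (S : ShortComplex X.Modules) (hS : S.ShortExact)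
    (h1 : R1Z f S.X₁) (h3 : R1Z f S.X₃) : R1Z f S.X₂ := by
  obtain ⟨Δ⟩ := Groth.Agent.S16463.result (Coh.pushAb f)
  have hS' : (S.map (TT X)).ShortExact := hS.map_of_exact (TT X)
  have e2 := Δ.exact₂ (S.map (TT X)) hS' 1
  exact e2.isZero_of_both_isZero h1 h3

theorem r1z_of_jointly_mono (f : X ⟶ Y)
    (h : ∀ (I : X.Modules) (i : I ⟶ Coh.structureModule X), Mono i → Coh.IsQCoh I → R1Z f I) :
    ∀ (n : ℕ) (F : X.Modules) (g : Fin n → (F ⟶ Coh.structureModule X)), F.IsQuasicoherent →
      (∀ (T : X.Modules) (t : T ⟶ F), (∀ k, t ≫ g k = 0) → t = 0) → R1Z f F := by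
  intro n
  induction n with
  | zero =>
    intro F g hF hg
    have h0 : 𝟙 F = 0 := hg F (𝟙 F) (fun k => k.elim0)
    have hz : IsZero F := (IsZero.iff_id_eq_zero F).2 h0
    have hz' : IsZero (Coh.toAb F) := (TT X).map_isZero hz
    exact (Coh.RpushAb f 1).map_isZero hz'
  | succ n ih =>
    intro F g hF hg
    have := hF
    let β : F ⟶ Coh.structureModule X := g (Fin.last n)
    have hK : (kernel β : X.Modules).IsQuasicoherent := QCProps.isQuasicoherent_kernel β
    have hI : (Abelian.image β : X.Modules).IsQuasicoherent := QCLim.isQuasicoherent_image β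
    have h1 : R1Z f (kernel β) := by
      refine ih (kernel β) (fun k => kernel.ι β ≫ g k.castSucc) hK ?_
      intro T t ht
      have h2 : t ≫ kernel.ι β = 0 := by
        refine hg T (t ≫ kernel.ι β) fun k => ?_
        refine Fin.lastCases ?_ (fun k' => ?_) k
        · rw [Category.assoc]
          exact (congrArg (t ≫ ·) (kernel.condition β)).trans comp_zero
        · rw [Category.assoc]
          exact ht k'
      exact (cancel_mono (kernel.ι β)).1 (h2.trans zero_comp.symm)
    have h3 : R1Z f (Abelian.image β) :=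
      h (Abelian.image β) (Abelian.image.ι β) inferInstance hI
    exact r1z_middle f (SerreCrit1.kerIm β) (SerreCrit1.shortExact_kerIm β) h1 h3

/-- relative Serre criterion, cohomological form -/
theorem isAffineHom_of_R1 (f : X ⟶ Y) [QuasiCompact f] [QuasiSeparated f]
    (h : ∀ (J : X.Modules) (i : J ⟶ Coh.structureModule X), Mono i → Coh.IsQCoh J →
      Limits.IsZero ((Coh.RpushAb f 1).obj (Coh.toAb J))) : IsAffineHom f := by
  constructor
  intro V hV
  apply isAffineOpen_of_surjective_sections' (f ⁻¹ᵁ V) (f.isCompact_preimage hV.isCompact)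
  intro F F'' p n g hg hF hF'' hp
  haveI := hF
  haveI := hF''
  haveI := hp
  have hKq : (kernel p : X.Modules).IsQuasicoherent := QCProps.isQuasicoherent_kernel p
  have hK : R1Z f (kernel p) := r1z_of_jointly_mono f h n (kernel p) g hKq hg
  let S : ShortComplex X.Modules := ShortComplex.mk (kernel.ι p) p (kernel.condition p)
  have hS : S.ShortExact :=
    { exact := ShortComplex.exact_kernel p
      mono_f := inferInstanceAs (Mono (kernel.ι p))
      epi_g := hp }
  have hS' : (S.map (TT X)).ShortExact := hS.map_of_exact (TT X)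
  haveI : PreservesFiniteLimits (Coh.pushAb f) := by
    have : PreservesLimitsOfSize.{0, 0} (Coh.pushAb f) :=
      (TopCat.Sheaf.pullbackPushforwardAdjunction AddCommGrpCat.{u}
        f.base).rightAdjoint_preservesLimits
    exact PreservesLimitsOfSize.preservesFiniteLimits _
  have hepi : Epi ((Coh.pushAb f).map (S.map (TT X)).g) :=
    R1Edge.epi_map_of_isZero_R1 (Coh.pushAb f) (S.map (TT X)) hS' hK
  have hepi1 : Epi ((TT X ⋙ Coh.pushAb f).map p) := hepi
  have hnat := (pushToAbIso f).hom.naturality p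
  have hepi2 : Epi ((TT Y).map ((Coh.push f).map p)) := by
    have h2 : Epi ((Scheme.Modules.pushforward f ⋙ TT Y).map p ≫ (pushToAbIso f).hom.app F'') := by
      rw [hnat]
      exact epi_comp _ _
    have h3 : (Scheme.Modules.pushforward f ⋙ TT Y).map p =
        ((Scheme.Modules.pushforward f ⋙ TT Y).map p ≫ (pushToAbIso f).hom.app F'') ≫
          (pushToAbIso f).inv.app F'' := by
      rw [Category.assoc, Iso.hom_inv_id_app, Category.comp_id]
    change Epi ((Scheme.Modules.pushforward f ⋙ TT Y).map p)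
    rw [h3]
    exact epi_comp _ _
  have hepi3 : Epi ((Coh.push f).map p) := (TT Y).epi_of_epi_map hepi2
  haveI : ((Coh.push f).obj F).IsQuasicoherent := QCSec.isQuasicoherent_pushforward f F
  haveI : ((Coh.push f).obj F'').IsQuasicoherent := QCSec.isQuasicoherent_pushforward f F''
  exact (QCExact.epi_iff_surjective_on_affines ((Coh.push f).map p)).mp hepi3 V hV

end Groth.Agent.Lib.Helper26.RelSerre2
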