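import Mathlib

/-!
# Basic facts on the normalisation of a reduced Noetherian ring in its total ring of fractions
(helper9's request G3)
-/

set_option autoImplicit false
universe u
open nonZeroDivisors

namespace Groth.Agent.Lib.Helper26.SNormG3

/-- an intermediate ring `A ⊆ B ⊆ Frac A` has the same total ring of fractions. -/
theorem isFractionRing_of_le (A : Type u) [CommRing A] (B : Subalgebra A (FractionRing A)) :
    IsFractionRing B (FractionRing A) := by
  set K := FractionRing A with hK
  have hinjAK : Function.Injective (algebraMap A K) := IsFractionRing.injective A K
  have hinjBK : Function.Injective (algebraMap B K) := Subtype.val_injective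
  have hABK : ∀ a : A, algebraMap B K (algebraMap A B a) = algebraMap A K a := fun a => rfl
  have hinjAB : Function.Injective (algebraMap A B) := by
    intro x y h
    apply hinjAK
    rw [← hABK, ← hABK, h]
  refine (isLocalization_iff _ _).mpr ⟨?_, ?_, ?_⟩
  · rintro ⟨b, hb⟩
    obtain ⟨⟨x, s⟩, hxs⟩ := IsLocalization.surj (nonZeroDivisors A) (algebraMap B K b)
    have hx : x ∈ nonZeroDivisors A := by
      rw [mem_nonZeroDivisors_iff_right]
      intro y hy
      have h1 : algebraMap A B (y * s) * b = 0 := by
        apply hinjBK
        rw [map_mul, map_zero, hABK, map_mul, mul_assoc, mul_comm (algebraMap A K s), hxs,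
          ← map_mul, hy, map_zero]
      have h2 : algebraMap A B (y * s) = 0 :=
        (mul_right_mem_nonZeroDivisors_eq_zero_iff hb).mp h1
      have h3 : y * (s : A) = 0 := hinjAB (by rw [h2, map_zero])
      exact (mul_right_mem_nonZeroDivisors_eq_zero_iff s.2).mp h3
    have hux : IsUnit (algebraMap A K x) := IsLocalization.map_units K ⟨x, hx⟩
    have hprod : IsUnit (algebraMap B K b * algebraMap A K s) := by rw [hxs]; exact hux
    exact isUnit_of_mul_isUnit_left hprod
  · intro z
    obtain ⟨⟨x, s⟩, hxs⟩ := IsLocalization.surj (nonZeroDivisors A) z
    have hs : algebraMap A B s ∈ nonZeroDivisors B := by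
      rw [mem_nonZeroDivisors_iff_right]
      intro w hw
      apply hinjBK
      rw [map_zero]
      have hus : IsUnit (algebraMap A K s) := IsLocalization.map_units K s
      have := congrArg (algebraMap B K) hw
      rw [map_mul, map_zero, hABK] at this
      exact hus.mul_left_eq_zero.mp this
    exact ⟨(algebraMap A B x, ⟨algebraMap A B s, hs⟩), by simpa [hABK] using hxs⟩
  · intro x y hxy
    exact ⟨1, by rw [hinjBK hxy]⟩

/-- (G3) -/
theorem integralClosure_fractionRing_facts (A : Type u) [CommRing A] [IsNoetherianRing A]
    [IsReduced A] (hfin : Module.Finite A (integralClosure A (FractionRing A))) :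
    IsReduced (integralClosure A (FractionRing A)) ∧
      IsNoetherianRing (integralClosure A (FractionRing A)) ∧
      IsIntegrallyClosed (integralClosure A (FractionRing A)) ∧
      Function.Injective (algebraMap A (integralClosure A (FractionRing A))) := by
  have hinjAK : Function.Injective (algebraMap A (FractionRing A)) :=
    IsFractionRing.injective A (FractionRing A)
  have hinjBK : Function.Injective
      (algebraMap (integralClosure A (FractionRing A)) (FractionRing A)) := Subtype.val_injective
  have hinjAB : Function.Injective (algebraMap A (integralClosure A (FractionRing A))) := by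
    intro x y h
    apply hinjAK
    have := congrArg (algebraMap (integralClosure A (FractionRing A)) (FractionRing A)) h
    exact this
  have : IsReduced (FractionRing A) := inferInstance
  have hred : IsReduced (integralClosure A (FractionRing A)) :=
    isReduced_of_injective (algebraMap (integralClosure A (FractionRing A)) (FractionRing A)) hinjBK
  have hnoeth : IsNoetherianRing (integralClosure A (FractionRing A)) := by
    have := hfin
    have h1 : IsNoetherian A (integralClosure A (FractionRing A)) :=
      isNoetherian_of_isNoetherianRing_of_finite A _
    exact isNoetherian_of_tower A h1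
  have hfrac : IsFractionRing (integralClosure A (FractionRing A)) (FractionRing A) :=
    isFractionRing_of_le A _
  have hic : IsIntegrallyClosed (integralClosure A (FractionRing A)) :=
    (isIntegrallyClosed_iff_isIntegrallyClosedIn (FractionRing A)).mpr inferInstance
  exact ⟨hred, hnoeth, hic, hinjAB⟩

end Groth.Agent.Lib.Helper26.SNormG3
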