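import Mathlib

/-!
# `Spec` of a finite injective ring map is finite and surjective (helper9's request G4)
-/

set_option autoImplicit false
universe u
open CategoryTheory CategoryTheory.Limits AlgebraicGeometry TopologicalSpace

namespace Groth.Agent.Lib.Helper26.SNormG4

/-- (G4) -/
theorem isFinite_surjective_SpecMap_of_finite_injective {A B : Type u} [CommRing A] [CommRing B]
    [Algebra A B] [Module.Finite A B] (hinj : Function.Injective (algebraMap A B)) :
    IsFinite (Spec.map (CommRingCat.ofHom (algebraMap A B))) ∧
      Surjective (Spec.map (CommRingCat.ofHom (algebraMap A B))) := by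
  have hfin : (algebraMap A B).Finite := RingHom.finite_algebraMap.mpr inferInstance
  refine ⟨(IsFinite.SpecMap_iff _).mpr hfin, ⟨?_⟩⟩
  have hint : (algebraMap A B).IsIntegral := hfin.to_isIntegral
  exact hint.comap_surjective hinj

end Groth.Agent.Lib.Helper26.SNormG4
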