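import Mathlib
import Groth.Agent.Lib.Helper3.VAChart
import Groth.Agent.Lib.Helper12.RatPoint

set_option autoImplicit false
set_option linter.style.haveILetI false
set_option linter.unusedSectionVars false
universe u
open CategoryTheory CategoryTheory.Limits AlgebraicGeometry TopologicalSpace Opposite
open Scheme.Modules

namespace Groth.Agent.Lib.Helper26.SecAvoid

open Groth.Agent.Lib.Helper3 Groth.Agent.Lib.Helper3.QCSec Groth.Agent.Lib.Helper3.SecCoord
  Groth.Agent.Lib.Helper3.InvAmple Groth.Agent.Lib.Helper3.VAChart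

section Val

variable {X : Scheme.{u}} {F : Type u} [Field F]

/-- The value of a function on `U` at a field-valued point landing in `U`. -/
noncomputable def val (a : Spec (CommRingCat.of F) ⟶ X) (U : X.Opens) (e : ⊤ ≤ a ⁻¹ᵁ U) :
    Γ(X, U) →+* Γ(Spec (CommRingCat.of F), ⊤) :=
  (a.appLE U ⊤ e).hom

theorem isUnit_of_ne_zero (z : Γ(Spec (CommRingCat.of F), ⊤)) (hz : z ≠ 0) : IsUnit z := by
  let E : Γ(Spec (CommRingCat.of F), ⊤) ≃+* F :=
    (Scheme.ΓSpecIso (CommRingCat.of F)).commRingCatIsoToRingEquiv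
  have h1 : E z ≠ 0 := fun h => hz (by simpa using h)
  have h2 : IsUnit (E z) := isUnit_iff_ne_zero.mpr h1
  exact (MulEquiv.isUnit_map (E : _ ≃* F)).mp h2

theorem val_eq_zero_iff (a : Spec (CommRingCat.of F) ⟶ X) (U : X.Opens) (e : ⊤ ≤ a ⁻¹ᵁ U)
    (g : Γ(X, U)) (p : Spec (CommRingCat.of F)) :
    val a U e g = 0 ↔ a p ∉ X.basicOpen g := by
  have h1 : a ⁻¹ᵁ X.basicOpen g = (Spec (CommRingCat.of F)).basicOpen (a.app U g) :=
    Scheme.preimage_basicOpen a g
  have h2 : (Spec (CommRingCat.of F)).basicOpen (val a U e g) =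
      ⊤ ⊓ (Spec (CommRingCat.of F)).basicOpen (a.app U g) :=
    Scheme.basicOpen_res _ _ _
  have h3 : a p ∈ X.basicOpen g ↔ p ∈ (Spec (CommRingCat.of F)).basicOpen (val a U e g) := by
    rw [h2, ← h1]
    exact ⟨fun h => ⟨trivial, h⟩, fun h => h.2⟩
  rw [h3]
  constructor
  · intro h
    rw [h, Scheme.basicOpen_zero]
    exact fun h => h
  · intro h
    by_contra hne
    apply h
    rw [Scheme.basicOpen_of_isUnit _ (isUnit_of_ne_zero _ hne)]
    trivial

end Val

section Comb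

variable {X : Scheme.{u}} (L : X.Modules) {κ : Type u} [Fintype κ] (t : κ → Γ(L, ⊤))
variable {k : Type u} [Field k] (τ : k →+* Γ(X, ⊤))

/-- Linear combination of the sections `t j` with coefficients from `k`. -/
noncomputable def comb (a : κ → k) : Γ(L, ⊤) := ∑ j, τ (a j) • t j

theorem comb_add (a b : κ → k) : comb L t τ (a + b) = comb L t τ a + comb L t τ b := by
  simp only [comb, Pi.add_apply, map_add, add_smul, Finset.sum_add_distrib]

theorem comb_smul (c : k) (a : κ → k) : comb L t τ (c • a) = τ c • comb L t τ a := by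
  simp only [comb, Pi.smul_apply, smul_eq_mul, map_mul, mul_smul, Finset.smul_sum]

theorem comb_zero : comb L t τ (0 : κ → k) = 0 := by
  simp only [comb, Pi.zero_apply, map_zero, zero_smul, Finset.sum_const_zero]

theorem ratio_sum (s : Γ(L, ⊤)) {ι : Type*} (S : Finset ι) (m : ι → Γ(L, ⊤)) :
    ratio L s (∑ i ∈ S, m i) = ∑ i ∈ S, ratio L s (m i) := by
  classical
  induction S using Finset.induction_on with
  | empty => simp only [Finset.sum_empty]; exact ratio_zero L s
  | insert i S hi ih =>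
    rw [Finset.sum_insert hi, Finset.sum_insert hi, ratio_add, ih]

theorem ratio_comb (k₁ : κ) (a : κ → k) :
    ratio L (t k₁) (comb L t τ a) =
      ∑ j, rres X (le_top : locus L (t k₁) ≤ ⊤) (τ (a j)) * ratio L (t k₁) (t j) := by
  unfold comb
  rw [ratio_sum]
  exact Finset.sum_congr rfl (fun j _ => ratio_smul_right L (t k₁) (t j) (τ (a j)))

end Comb

section Const

variable {k : Type u} [Field k] {X : Scheme.{u}} (f : X ⟶ Spec (CommRingCat.of k))

/-- The structure map `k → Γ(X, O_X)` of a `k`-scheme. -/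
noncomputable def τ : k →+* Γ(X, ⊤) :=
  f.appTop.hom.comp (Scheme.ΓSpecIso (CommRingCat.of k)).inv.hom

theorem val_const {F : Type u} [Field F] (a : Spec (CommRingCat.of F) ⟶ X) (U : X.Opens)
    (e : ⊤ ≤ a ⁻¹ᵁ U) (c : k) :
    val a U e (rres X (le_top : U ≤ ⊤) (τ f c)) =
      (a ≫ f).appTop.hom ((Scheme.ΓSpecIso (CommRingCat.of k)).inv.hom c) := by
  have h1 := Scheme.Hom.map_appLE a e (homOfLE (le_top : U ≤ ⊤)).op
  have h2 : a.appLE ⊤ ⊤ (e.trans ((Opens.map a.base).map (homOfLE (le_top : U ≤ ⊤))).le) =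
      a.appTop := by
    rw [Scheme.Hom.appLE]
    have : (homOfLE (e.trans ((Opens.map a.base).map (homOfLE (le_top : U ≤ ⊤))).le)).op =
        𝟙 (op (⊤ : (Spec (CommRingCat.of F)).Opens)) := Subsingleton.elim _ _
    rw [this]
    exact (congrArg (fun m => a.app ⊤ ≫ m)
      ((Spec (CommRingCat.of F)).presheaf.map_id _)).trans (Category.comp_id _)
  rw [h2] at h1
  have h3 := congrArg (fun φ => φ.hom (τ f c)) h1
  simp only [CommRingCat.hom_comp, RingHom.comp_apply] at h3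
  rw [Scheme.Hom.comp_appTop]
  exact h3

end Const

section Sep

variable {X S : Scheme.{u}} (f : X ⟶ S) (L : X.Modules) {κ : Type u} (t : κ → Γ(L, ⊤))

theorem eq_of_val_eq (k₀ : κ) [IsImmersion (chart f L t k₀)] {F : Type u} [Field F]
    (a b : Spec (CommRingCat.of F) ⟶ X)
    (ea : ⊤ ≤ a ⁻¹ᵁ locus L (t k₀)) (eb : ⊤ ≤ b ⁻¹ᵁ locus L (t k₀))
    (hf : a ≫ f = b ≫ f)
    (hv : ∀ j, val a _ ea (ratio L (t k₀) (t j)) = val b _ eb (ratio L (t k₀) (t j))) :
    a = b := by
  let a' : Spec (CommRingCat.of F) ⟶ (locus L (t k₀)).toScheme :=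
    (Spec (CommRingCat.of F)).topIso.inv ≫ a.resLE (locus L (t k₀)) ⊤ ea
  let b' : Spec (CommRingCat.of F) ⟶ (locus L (t k₀)).toScheme :=
    (Spec (CommRingCat.of F)).topIso.inv ≫ b.resLE (locus L (t k₀)) ⊤ eb
  have ha' : a' ≫ (locus L (t k₀)).ι = a := by
    simp only [a', Category.assoc, Scheme.Hom.resLE_comp_ι]
    rw [← Category.assoc, Scheme.toIso_inv_ι, Category.id_comp]
  have hb' : b' ≫ (locus L (t k₀)).ι = b := by
    simp only [b', Category.assoc, Scheme.Hom.resLE_comp_ι]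
    rw [← Category.assoc, Scheme.toIso_inv_ι, Category.id_comp]
  have hψ : (val a _ ea).comp (chartHom L t k₀) = (val b _ eb).comp (chartHom L t k₀) := by
    apply MvPolynomial.ringHom_ext
    · intro c
      exact congrArg (fun φ => φ c) (ulift_int_hom_ext
        (((val a _ ea).comp (chartHom L t k₀)).comp MvPolynomial.C)
        (((val b _ eb).comp (chartHom L t k₀)).comp MvPolynomial.C))
    · intro j
      simp only [RingHom.comp_apply, chartHom, MvPolynomial.eval₂Hom_X']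
      exact hv j
  have h1 : a' ≫ toSpecOfHom (locus L (t k₀)) (chartHom L t k₀) =
      b' ≫ toSpecOfHom (locus L (t k₀)) (chartHom L t k₀) := by
    simp only [a', b', Category.assoc]
    rw [resLE_toSpecOfHom, resLE_toSpecOfHom]
    show _ ≫ toSpecOfHom ⊤ ((val a _ ea).comp _) = _ ≫ toSpecOfHom ⊤ ((val b _ eb).comp _)
    rw [hψ]
  have h2 : a' ≫ chart f L t k₀ = b' ≫ chart f L t k₀ := by
    apply pullback.hom_ext
    · simp only [Category.assoc, chart, pullback.lift_fst]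
      exact h1
    · simp only [Category.assoc, chart, pullback.lift_snd]
      rw [← Category.assoc, ha', ← Category.assoc, hb', hf]
  have h3 : a' = b' := (cancel_mono (chart f L t k₀)).mp h2
  rw [← ha', ← hb', h3]

end Sep

section Main

variable {k : Type u} [Field k] {X : Scheme.{u}} (f : X ⟶ Spec (CommRingCat.of k))
variable (L : X.Modules) {κ : Type u} [Fintype κ] (t : κ → Γ(L, ⊤))

/-- Constants at a field-valued point. -/
noncomputable def cst {F : Type u} [Field F] (b : Spec (CommRingCat.of F) ⟶ X) :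
    k →+* Γ(Spec (CommRingCat.of F), ⊤) :=
  (b ≫ f).appTop.hom.comp (Scheme.ΓSpecIso (CommRingCat.of k)).inv.hom

/-- The value at a field-valued point of the combination with coefficients `a`, in the chart
`k₁`. -/
noncomputable def Λ {F : Type u} [Field F] (b : Spec (CommRingCat.of F) ⟶ X) (k₁ : κ)
    (e : ⊤ ≤ b ⁻¹ᵁ locus L (t k₁)) (a : κ → k) : Γ(Spec (CommRingCat.of F), ⊤) :=
  ∑ j, cst f b (a j) * val b _ e (ratio L (t k₁) (t j))

theorem val_ratio_comb {F : Type u} [Field F] (b : Spec (CommRingCat.of F) ⟶ X) (k₁ : κ)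
    (e : ⊤ ≤ b ⁻¹ᵁ locus L (t k₁)) (a : κ → k) :
    val b _ e (ratio L (t k₁) (comb L t (τ f) a)) = Λ f L t b k₁ e a := by
  rw [ratio_comb, map_sum]
  refine Finset.sum_congr rfl (fun j _ => ?_)
  rw [map_mul, val_const]
  rfl

theorem mem_locus_comb_iff {F : Type u} [Field F] (b : Spec (CommRingCat.of F) ⟶ X)
    (p : Spec (CommRingCat.of F)) (k₁ : κ)
    (e : ⊤ ≤ b ⁻¹ᵁ locus L (t k₁)) (a : κ → k) :
    b p ∈ locus L (comb L t (τ f) a) ↔ Λ f L t b k₁ e a ≠ 0 := by
  have hp : b p ∈ locus L (t k₁) := e (show p ∈ (⊤ : (Spec (CommRingCat.of F)).Opens) from trivial)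
  rw [← val_ratio_comb, Ne, val_eq_zero_iff _ _ _ _ p, not_not, basicOpen_ratio]
  exact ⟨fun h => ⟨hp, h⟩, fun h => h.2⟩

theorem Λ_add {F : Type u} [Field F] (b : Spec (CommRingCat.of F) ⟶ X) (k₁ : κ)
    (e : ⊤ ≤ b ⁻¹ᵁ locus L (t k₁)) (a a' : κ → k) :
    Λ f L t b k₁ e (a + a') = Λ f L t b k₁ e a + Λ f L t b k₁ e a' := by
  simp only [Λ, Pi.add_apply, map_add, add_mul, Finset.sum_add_distrib]

theorem Λ_smul {F : Type u} [Field F] (b : Spec (CommRingCat.of F) ⟶ X) (k₁ : κ)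
    (e : ⊤ ≤ b ⁻¹ᵁ locus L (t k₁)) (c : k) (a : κ → k) :
    Λ f L t b k₁ e (c • a) = cst f b c * Λ f L t b k₁ e a := by
  simp only [Λ, Pi.smul_apply, smul_eq_mul, map_mul, mul_assoc, Finset.mul_sum]

theorem Λ_zero {F : Type u} [Field F] (b : Spec (CommRingCat.of F) ⟶ X) (k₁ : κ)
    (e : ⊤ ≤ b ⁻¹ᵁ locus L (t k₁)) : Λ f L t b k₁ e 0 = 0 := by
  simp only [Λ, Pi.zero_apply, map_zero, zero_mul, Finset.sum_const_zero]

theorem Λ_single [DecidableEq κ] {F : Type u} [Field F] (b : Spec (CommRingCat.of F) ⟶ X)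
    (k₁ : κ) (e : ⊤ ≤ b ⁻¹ᵁ locus L (t k₁)) (j : κ) :
    Λ f L t b k₁ e (Pi.single j 1) = val b _ e (ratio L (t k₁) (t j)) := by
  unfold Λ
  rw [Finset.sum_eq_single j]
  · rw [Pi.single_eq_same, map_one, one_mul]
  · intro i _ hij
    rw [Pi.single_eq_of_ne hij, map_zero, zero_mul]
  · intro h
    exact absurd (Finset.mem_univ j) h

/-- A point of the spectrum of a field. -/
noncomputable def pt (F : Type u) [Field F] : Spec (CommRingCat.of F) := ⟨⊥, Ideal.isPrime_bot⟩

instance nontrivial_Γ (F : Type u) [Field F] : Nontrivial Γ(Spec (CommRingCat.of F), ⊤) :=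
  (Scheme.ΓSpecIso (CommRingCat.of F)).commRingCatIsoToRingEquiv.symm.injective.nontrivial

theorem mem_pre {F : Type u} [Field F] (b : Spec (CommRingCat.of F) ⟶ X) (y : X)
    (hb : ∀ p, b p = y) (k₁ : κ) (hy : y ∈ locus L (t k₁)) : ⊤ ≤ b ⁻¹ᵁ locus L (t k₁) := by
  intro p _
  show b p ∈ locus L (t k₁)
  rw [hb]
  exact hy

theorem notMem_iff {F : Type u} [Field F] (b : Spec (CommRingCat.of F) ⟶ X) (y : X)
    (hb : ∀ p, b p = y) (k₁ : κ) (hy : y ∈ locus L (t k₁)) (a : κ → k) :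
    y ∉ locus L (comb L t (τ f) a) ↔ Λ f L t b k₁ (mem_pre L t b y hb k₁ hy) a = 0 := by
  have h := mem_locus_comb_iff f L t b (pt F) k₁ (mem_pre L t b y hb k₁ hy) a
  rw [hb (pt F)] at h
  rw [h, not_not]

variable (hcov : ∀ x : X, ∃ j, x ∈ locus L (t j))

/-- The coefficient vectors whose combination vanishes at `y`. -/
noncomputable def W (y : X) : Submodule k (κ → k) where
  carrier := {a | y ∉ locus L (comb L t (τ f) a)}
  add_mem' := by
    intro a a' ha ha'
    obtain ⟨k₁, hk₁⟩ := hcov y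
    have hb : ∀ p, (X.fromSpecResidueField y) p = y :=
      fun p => Scheme.fromSpecResidueField_apply y p
    have ha1 := (notMem_iff f L t _ y hb k₁ hk₁ a).mp ha
    have ha2 := (notMem_iff f L t _ y hb k₁ hk₁ a').mp ha'
    refine (notMem_iff f L t _ y hb k₁ hk₁ (a + a')).mpr ?_
    have h3 := Λ_add f L t (X.fromSpecResidueField y) k₁ (mem_pre L t _ y hb k₁ hk₁) a a'
    rw [h3, ha1, ha2, add_zero]
  zero_mem' := by
    obtain ⟨k₁, hk₁⟩ := hcov y
    have hb : ∀ p, (X.fromSpecResidueField y) p = y :=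
      fun p => Scheme.fromSpecResidueField_apply y p
    refine (notMem_iff f L t _ y hb k₁ hk₁ 0).mpr ?_
    exact Λ_zero f L t (X.fromSpecResidueField y) k₁ (mem_pre L t _ y hb k₁ hk₁)
  smul_mem' := by
    intro c a ha
    obtain ⟨k₁, hk₁⟩ := hcov y
    have hb : ∀ p, (X.fromSpecResidueField y) p = y :=
      fun p => Scheme.fromSpecResidueField_apply y p
    have ha1 := (notMem_iff f L t _ y hb k₁ hk₁ a).mp ha
    refine (notMem_iff f L t _ y hb k₁ hk₁ (c • a)).mpr ?_
    have h3 := Λ_smul f L t (X.fromSpecResidueField y) k₁ (mem_pre L t _ y hb k₁ hk₁) c a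
    rw [h3, ha1, mul_zero]

theorem mem_W_iff (y : X) (a : κ → k) :
    a ∈ W f L t hcov y ↔ y ∉ locus L (comb L t (τ f) a) := Iff.rfl

theorem appLE_top_top {T Y : Scheme.{u}} (g : T ⟶ Y) (e : (⊤ : T.Opens) ≤ g ⁻¹ᵁ ⊤) :
    g.appLE ⊤ ⊤ e = g.appTop := by
  rw [Scheme.Hom.appLE]
  have : (homOfLE e).op = 𝟙 (op (⊤ : T.Opens)) := Subsingleton.elim _ _
  rw [this]
  exact (congrArg (fun m => g.app ⊤ ≫ m) (T.presheaf.map_id _)).trans (Category.comp_id _)

end Main

end Groth.Agent.Lib.Helper26.SecAvoid
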