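import Mathlib
import Groth.Agent.Lib.Helper26.SecAvoid

set_option autoImplicit false
set_option linter.style.haveILetI false
set_option linter.unusedSectionVars false
universe u
open CategoryTheory CategoryTheory.Limits AlgebraicGeometry TopologicalSpace Opposite
open Scheme.Modules

namespace Groth.Agent.Lib.Helper26.SecAvoid

open Groth.Agent.Lib.Helper3 Groth.Agent.Lib.Helper3.QCSec Groth.Agent.Lib.Helper3.SecCoord
  Groth.Agent.Lib.Helper3.InvAmple Groth.Agent.Lib.Helper3.VAChart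

section Main

variable {k : Type u} [Field k] {X : Scheme.{u}} (f : X ⟶ Spec (CommRingCat.of k))
variable (L : X.Modules) {κ : Type u} [Fintype κ] (t : κ → Γ(L, ⊤))
variable (hcov : ∀ x : X, ∃ j, x ∈ locus L (t j))

theorem mem_basicOpen_of_val_ne_zero {F : Type u} [Field F] (b : Spec (CommRingCat.of F) ⟶ X)
    (y : X) (hb : ∀ p, b p = y) (U : X.Opens) (e : ⊤ ≤ b ⁻¹ᵁ U) (g : Γ(X, U))
    (h : val b U e g ≠ 0) : y ∈ X.basicOpen g := by
  have h5 := (val_eq_zero_iff b U e g (pt F)).not.mp h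
  rw [not_not, hb (pt F)] at h5
  exact h5

theorem cst_eq_of_section (σ : Spec (CommRingCat.of k) ⟶ X) (hσ : σ ≫ f = 𝟙 _) (z : k) :
    cst f σ z = (Scheme.ΓSpecIso (CommRingCat.of k)).inv.hom z := by
  unfold cst
  rw [hσ, Scheme.Hom.id_appTop]
  rfl

theorem eq_of_W_le [DecidableEq κ] (K : Set κ)
    (hcovK : ∀ x : X, ∃ j ∈ K, x ∈ locus L (t j))
    (himm : ∀ j ∈ K, IsImmersion (chart f L t j))
    (σ : Spec (CommRingCat.of k) ⟶ X) (hσ : σ ≫ f = 𝟙 _) (x : X) (hσx : ∀ p, σ p = x)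
    (y : X) (hW : W f L t hcov x ≤ W f L t hcov y) : y = x := by
  obtain ⟨k₀, hk₀K, hk₀⟩ := hcovK x
  haveI : IsImmersion (chart f L t k₀) := himm k₀ hk₀K
  have ex := mem_pre L t σ x hσx k₀ hk₀
  let c : κ → k := fun j => (Scheme.ΓSpecIso (CommRingCat.of k)).hom.hom
    (val σ _ ex (ratio L (t k₀) (t j)))
  have hc : ∀ j, cst f σ (c j) = val σ _ ex (ratio L (t k₀) (t j)) := by
    intro j
    rw [cst_eq_of_section f σ hσ]
    show ((Scheme.ΓSpecIso (CommRingCat.of k)).hom ≫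
      (Scheme.ΓSpecIso (CommRingCat.of k)).inv).hom _ = _
    rw [Iso.hom_inv_id]
    rfl
  have hmem : ∀ j, (Pi.single j 1 + (-(c j)) • Pi.single k₀ 1 : κ → k) ∈ W f L t hcov x := by
    intro j
    refine (notMem_iff f L t σ x hσx k₀ hk₀ _).mpr ?_
    have h1 := Λ_add f L t σ k₀ ex (Pi.single j 1) ((-(c j)) • Pi.single k₀ 1)
    have h2 := Λ_smul f L t σ k₀ ex (-(c j)) (Pi.single k₀ 1)
    have h3 := Λ_single f L t σ k₀ ex j
    have h4 := Λ_single f L t σ k₀ ex k₀
    rw [h1, h2, h3, h4, ratio_self, map_one, mul_one, map_neg, hc, add_neg_cancel]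
  obtain ⟨k₁, hk₁K, hk₁⟩ := hcovK y
  have hb : ∀ p, (X.fromSpecResidueField y) p = y :=
    fun p => Scheme.fromSpecResidueField_apply y p
  have ey1 := mem_pre L t (X.fromSpecResidueField y) y hb k₁ hk₁
  have hy0 : y ∈ locus L (t k₀) := by
    have hm := hW (hmem k₁)
    have h0 := (notMem_iff f L t (X.fromSpecResidueField y) y hb k₁ hk₁ _).mp hm
    have h1 := Λ_add f L t (X.fromSpecResidueField y) k₁ ey1 (Pi.single k₁ 1)
      ((-(c k₁)) • Pi.single k₀ 1)
    have h2 := Λ_smul f L t (X.fromSpecResidueField y) k₁ ey1 (-(c k₁)) (Pi.single k₀ 1)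
    have h3 := Λ_single f L t (X.fromSpecResidueField y) k₁ ey1 k₁
    have h4 := Λ_single f L t (X.fromSpecResidueField y) k₁ ey1 k₀
    rw [h1, h2, h3, h4, ratio_self, map_one] at h0
    have hne : val (X.fromSpecResidueField y) _ ey1 (ratio L (t k₁) (t k₀)) ≠ 0 := by
      intro hz
      rw [hz, mul_zero, add_zero] at h0
      exact one_ne_zero h0
    have h5 := mem_basicOpen_of_val_ne_zero (X.fromSpecResidueField y) y hb _ ey1
      (ratio L (t k₁) (t k₀)) hne
    rw [basicOpen_ratio] at h5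
    exact h5.2
  have ey0 := mem_pre L t (X.fromSpecResidueField y) y hb k₀ hy0
  have hvb : ∀ j, val (X.fromSpecResidueField y) _ ey0 (ratio L (t k₀) (t j)) =
      cst f (X.fromSpecResidueField y) (c j) := by
    intro j
    have hm := hW (hmem j)
    have h0 := (notMem_iff f L t (X.fromSpecResidueField y) y hb k₀ hy0 _).mp hm
    have h1 := Λ_add f L t (X.fromSpecResidueField y) k₀ ey0 (Pi.single j 1)
      ((-(c j)) • Pi.single k₀ 1)
    have h2 := Λ_smul f L t (X.fromSpecResidueField y) k₀ ey0 (-(c j)) (Pi.single k₀ 1)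
    have h3 := Λ_single f L t (X.fromSpecResidueField y) k₀ ey0 j
    have h4 := Λ_single f L t (X.fromSpecResidueField y) k₀ ey0 k₀
    rw [h1, h2, h3, h4, ratio_self, map_one, mul_one, map_neg] at h0
    exact add_neg_eq_zero.mp h0
  let α : Spec (X.residueField y) ⟶ X := (X.fromSpecResidueField y ≫ f) ≫ σ
  have hαf : α ≫ f = X.fromSpecResidueField y ≫ f := by
    simp only [α, Category.assoc, hσ, Category.comp_id]
  have hα : ∀ p, α p = x := fun p => by
    show ((X.fromSpecResidueField y ≫ f) ≫ σ) p = x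
    rw [Scheme.Hom.comp_apply]
    exact hσx _
  have eα := mem_pre L t α x hα k₀ hk₀
  have hvα : ∀ g, val α _ eα g =
      (X.fromSpecResidueField y ≫ f).appTop.hom (val σ _ ex g) := by
    intro g
    have h1 := Scheme.Hom.appLE_comp_appLE (X.fromSpecResidueField y ≫ f) σ
      (locus L (t k₀)) ⊤ ⊤ ex le_top
    have h2 := appLE_top_top (X.fromSpecResidueField y ≫ f) le_top
    rw [h2] at h1
    exact (congrArg (fun φ => φ.hom g) h1).symm
  have hαb : α = X.fromSpecResidueField y :=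
    eq_of_val_eq f L t k₀ α (X.fromSpecResidueField y) eα ey0 hαf (fun j => by
      rw [hvα, ← hc, cst_eq_of_section f σ hσ, hvb]
      rfl)
  rw [← hb (pt _), ← hαb]
  exact hα _

theorem exists_comb [Infinite k] [DecidableEq κ] (K : Set κ)
    (hcovK : ∀ x : X, ∃ j ∈ K, x ∈ locus L (t j))
    (himm : ∀ j ∈ K, IsImmersion (chart f L t j))
    (σ : Spec (CommRingCat.of k) ⟶ X) (hσ : σ ≫ f = 𝟙 _) (x : X) (hσx : ∀ p, σ p = x)
    {n : ℕ} (pts : Fin n → X) (hne : ∀ i, pts i ≠ x) :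
    ∃ a : κ → k, x ∉ locus L (comb L t (τ f) a) ∧
      ∀ i, pts i ∈ locus L (comb L t (τ f) a) := by
  have hcov : ∀ x : X, ∃ j, x ∈ locus L (t j) := fun x =>
    let ⟨j, _, h⟩ := hcovK x
    ⟨j, h⟩
  by_contra hcon
  push Not at hcon
  let p : Fin n → Submodule k (W f L t hcov x) := fun i =>
    (W f L t hcov (pts i)).comap (W f L t hcov x).subtype
  have hcovers : ⋃ i, (p i : Set (W f L t hcov x)) = Set.univ := by
    apply Set.eq_univ_of_forall
    rintro ⟨a, ha⟩
    obtain ⟨i, hi⟩ := hcon a ha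
    exact Set.mem_iUnion.mpr ⟨i, hi⟩
  obtain ⟨i, hi⟩ := Subspace.exists_eq_top_of_iUnion_eq_univ hcovers
  apply hne i
  apply eq_of_W_le f L t hcov K hcovK himm σ hσ x hσx (pts i)
  intro a ha
  have hmem : (⟨a, ha⟩ : W f L t hcov x) ∈ p i := by
    rw [hi]
    trivial
  exact hmem

end Main

end Groth.Agent.Lib.Helper26.SecAvoid
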