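import Mathlib
import Groth.Prelude
import Groth.Agent.Lib.Helper3.FreeSec

/-!
# A section of a globally generated invertible module avoiding finitely many points, over an
infinite field (helper26, sub-lemma R4 for helper11 / S16302)
-/

set_option autoImplicit false
universe u

open CategoryTheory CategoryTheory.Limits AlgebraicGeometry TopologicalSpace Opposite
open Groth.Agent.Lib.Helper3 Groth.Agent.Lib.Helper3.QCSec Groth.Agent.Lib.Helper3.InvGen
  Groth.Agent.Lib.Helper3.InvAmple Groth.Agent.Lib.Helper3.FreeSec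

namespace Groth.Agent.Lib.Helper26.SecAvoidGG

variable {X : Scheme.{u}}

theorem res_add' (M : X.Modules) {A B : X.Opens} (h : A ≤ B) (a b : Γ(M, B)) :
    res M h (a + b) = res M h a + res M h b := _root_.map_add _ a b

/-- sections whose coordinate with respect to the basis `e` is not a unit at `x` -/
def nonGen (M : X.Modules) {W : X.Opens} (e : Γ(M, W)) (hg : IsGenAt M W e) (x : X)
    (hxW : x ∈ W) : Submodule Γ(X, W) Γ(M, W) where
  carrier := {m | ∀ a : Γ(X, W), a • e = m →
    X.presheaf.germ W x hxW a ∈ IsLocalRing.maximalIdeal (X.presheaf.stalk x)}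
  add_mem' := by
    intro m₁ m₂ h₁ h₂ a ha
    obtain ⟨a₁, ha₁⟩ := hg.exists_coord m₁
    obtain ⟨a₂, ha₂⟩ := hg.exists_coord m₂
    have : a = a₁ + a₂ := hg.smul_inj (by rw [ha, add_smul, ha₁, ha₂])
    rw [this, map_add]
    exact Ideal.add_mem _ (h₁ a₁ ha₁) (h₂ a₂ ha₂)
  zero_mem' := by
    intro a ha
    rw [hg.eq_zero ha, map_zero]
    exact Ideal.zero_mem _
  smul_mem' := by
    intro r m hm a ha
    obtain ⟨a₁, ha₁⟩ := hg.exists_coord m
    have : a = r * a₁ := hg.smul_inj (by rw [ha, mul_smul, ha₁])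
    rw [this, map_mul]
    exact Ideal.mul_mem_left _ _ (hm a₁ ha₁)

lemma mem_genLocus_of_notMem_nonGen {M : X.Modules} {W : X.Opens} {e : Γ(M, W)}
    (hg : IsGen M W e) (x : X) (hxW : x ∈ W) (m : Γ(M, ⊤))
    (h : res M (le_top : W ≤ ⊤) m ∉ nonGen M e hg.self x hxW) :
    x ∈ CohB1.genLocus M (globalHom M m) := by
  obtain ⟨a, ha⟩ := hg.self.exists_coord (res M (le_top : W ≤ ⊤) m)
  have hu : IsUnit (X.presheaf.germ W x hxW a) := by
    by_contra hnu
    apply h
    intro a' ha'
    have : a' = a := hg.self.smul_inj (by rw [ha', ha])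
    rw [this]
    exact (IsLocalRing.mem_maximalIdeal _).2 hnu
  have h1 : CohB1.genLocus M (globalHom M m) ⊓ W = X.basicOpen a := by
    apply genLocus_inf_eq_basicOpen _ hg a
    rw [sec_globalHom, ha]
  have h2 : x ∈ X.basicOpen a := (Scheme.mem_basicOpen _ _ _ hxW).mpr hu
  rw [← h1] at h2
  exact h2.1

lemma notMem_nonGen_of_mem_genLocus {M : X.Modules} {W : X.Opens} {e : Γ(M, W)}
    (hg : IsGen M W e) (x : X) (hxW : x ∈ W) (m : Γ(M, ⊤))
    (h : x ∈ CohB1.genLocus M (globalHom M m)) :
    res M (le_top : W ≤ ⊤) m ∉ nonGen M e hg.self x hxW := by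
  intro hmem
  obtain ⟨a, ha⟩ := hg.self.exists_coord (res M (le_top : W ≤ ⊤) m)
  have h1 : CohB1.genLocus M (globalHom M m) ⊓ W = X.basicOpen a := by
    apply genLocus_inf_eq_basicOpen _ hg a
    rw [sec_globalHom, ha]
  have h2 : x ∈ X.basicOpen a := by
    rw [← h1]
    exact ⟨h, hxW⟩
  have hu : IsUnit (X.presheaf.germ W x hxW a) := (Scheme.mem_basicOpen _ _ _ hxW).mp h2
  exact (IsLocalRing.mem_maximalIdeal _).1 (hmem a ha) hu

/-- general form: any ring homomorphism from an infinite field to the global functions. -/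
theorem exists_section_avoiding_aux {k : Type u} [Field k] [Infinite k] (ι : k →+* Γ(X, ⊤))
    {L : X.Modules} (hL : PicF.IsInvertible L) (hgg : Curv2.IsGloballyGenerated L) (T : Set X)
    (hT : T.Finite) : ∃ s : Coh.structureModule X ⟶ L, ∀ t ∈ T, t ∈ CohB1.genLocus L s := by
  classical
  obtain ⟨I, σ, hσ⟩ := exists_isLocSpannedBy_of_isGloballyGenerated hgg
  haveI : Fintype T := hT.fintype
  choose i hi using fun t : T => hσ.exists_mem_genLocus hL (t : X)
  choose V e hxV hg using fun t : T => exists_isGen hL (t : X)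
  let S : (T → k) → Γ(L, ⊤) := fun c => ∑ t : T, ι (c t) • σ (i t)
  have hSadd : ∀ c c' : T → k, S (c + c') = S c + S c' := by
    intro c c'
    change ∑ t : T, ι ((c + c') t) • σ (i t) = _
    simp only [Pi.add_apply, map_add, add_smul, Finset.sum_add_distrib]
    rfl
  have hSzero : S 0 = 0 := by
    change ∑ t : T, ι ((0 : T → k) t) • σ (i t) = 0
    simp only [Pi.zero_apply, map_zero, zero_smul, Finset.sum_const_zero]
  have hSsmul : ∀ (r : k) (c : T → k), S (r • c) = ι r • S c := by
    intro r c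
    change ∑ t : T, ι ((r • c) t) • σ (i t) = ι r • ∑ t : T, ι (c t) • σ (i t)
    simp only [Pi.smul_apply, smul_eq_mul, map_mul, mul_smul, Finset.smul_sum]
  have hSsingle : ∀ t : T, S (Pi.single t 1) = σ (i t) := by
    intro t
    change ∑ t' : T, ι ((Pi.single t (1 : k) : T → k) t') • σ (i t') = _
    rw [Finset.sum_eq_single t]
    · rw [Pi.single_eq_same, map_one, one_smul]
    · intro t' _ hne
      rw [Pi.single_eq_of_ne hne, map_zero, zero_smul]
    · intro h
      exact absurd (Finset.mem_univ t) h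
  let N : T → Submodule k (T → k) := fun t =>
    { carrier := {c | res L (le_top : V t ≤ ⊤) (S c) ∈ nonGen L (e t) (hg t).self t (hxV t)}
      add_mem' := by
        intro c c' hc hc'
        show res L (le_top : V t ≤ ⊤) (S (c + c')) ∈ nonGen L (e t) (hg t).self t (hxV t)
        rw [hSadd, res_add']
        exact Submodule.add_mem _ hc hc'
      zero_mem' := by
        show res L (le_top : V t ≤ ⊤) (S 0) ∈ nonGen L (e t) (hg t).self t (hxV t)
        rw [hSzero, res_zero]
        exact Submodule.zero_mem _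
      smul_mem' := by
        intro r c hc
        show res L (le_top : V t ≤ ⊤) (S (r • c)) ∈ nonGen L (e t) (hg t).self t (hxV t)
        rw [hSsmul, res_smul]
        exact Submodule.smul_mem _ _ hc }
  have hN : ∀ t, N t ≠ ⊤ := by
    intro t htop
    have hmem : (Pi.single t 1 : T → k) ∈ N t := by rw [htop]; trivial
    have hmem' : res L (le_top : V t ≤ ⊤) (S (Pi.single t 1)) ∈
        nonGen L (e t) (hg t).self t (hxV t) := hmem
    rw [hSsingle] at hmem'
    exact notMem_nonGen_of_mem_genLocus (hg t) t (hxV t) (σ (i t)) (hi t) hmem'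
  have hex : ∃ c : T → k, ∀ t, c ∉ N t := by
    by_contra hcon
    push Not at hcon
    have hcov : ⋃ t, ((N t : Submodule k (T → k)) : Set (T → k)) = Set.univ := by
      rw [Set.eq_univ_iff_forall]
      intro c
      obtain ⟨t, ht⟩ := hcon c
      exact Set.mem_iUnion.2 ⟨t, ht⟩
    obtain ⟨t, ht⟩ := Subspace.exists_eq_top_of_iUnion_eq_univ hcov
    exact hN t ht
  obtain ⟨c, hc⟩ := hex
  refine ⟨globalHom L (S c), fun t ht => ?_⟩
  exact mem_genLocus_of_notMem_nonGen (hg ⟨t, ht⟩) t (hxV ⟨t, ht⟩) (S c) (hc ⟨t, ht⟩)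

/-- (R4) -/
theorem exists_section_avoiding (k : Type u) [Field k] {X : Scheme.{u}}
    [X.Over (Spec (CommRingCat.of k))] [Infinite k] {L : X.Modules} (hL : PicF.IsInvertible L)
    (hgg : Curv2.IsGloballyGenerated L) (T : Set X) (hT : T.Finite) :
    ∃ s : Coh.structureModule X ⟶ L, ∀ t ∈ T, t ∈ CohB1.genLocus L s :=
  exists_section_avoiding_aux
    (((X ↘ Spec (CommRingCat.of k)).appTop.hom).comp
      (Scheme.ΓSpecIso (CommRingCat.of k)).inv.hom) hL hgg T hT

end Groth.Agent.Lib.Helper26.SecAvoidGG
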