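import Mathlib
import Groth.Prelude.Def_FSch2
import Groth.Prelude.Def_FSch3
import Groth.Agent.Lib.Helper15.AdicLimitRing
import Groth.Agent.Lib.Helper15.ComplNoeth
import Groth.Agent.Lib.Helper28.Thick.Affine

/-!
# An adic system of thickenings of an affine Noetherian scheme is a formal spectrum
-/

set_option autoImplicit false

universe u

open CategoryTheory AlgebraicGeometry

namespace Groth.Agent.Lib.Helper26.SpfOfAffine

section Ring

variable (B : ℕ → Type u) [∀ n, CommRing (B n)] (u : ∀ n, B (n + 1) →+* B n)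

/-- the inverse limit ring -/
def limRing : Subring (∀ n, B n) where
  carrier := {x | ∀ n, u n (x (n + 1)) = x n}
  mul_mem' := by
    intro x y hx hy n
    show u n (x (n + 1) * y (n + 1)) = x n * y n
    rw [map_mul, hx n, hy n]
  one_mem' := fun n => map_one _
  add_mem' := by
    intro x y hx hy n
    show u n (x (n + 1) + y (n + 1)) = x n + y n
    rw [map_add, hx n, hy n]
  zero_mem' := fun n => map_zero _
  neg_mem' := by
    intro x hx n
    show u n (-x (n + 1)) = -x n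
    rw [map_neg, hx n]

/-- projections of the limit ring -/
def pLim (n : ℕ) : ↥(limRing B u) →+* B n :=
  (Pi.evalRingHom B n).comp (limRing B u).subtype

theorem exists_ring_limit (hu : ∀ n, Function.Surjective (u n))
    (v : ∀ n, B n →+* B 0) (hv0 : v 0 = RingHom.id (B 0))
    (hv : ∀ n, (v n).comp (u n) = v (n + 1))
    (hker : ∀ n, RingHom.ker (u n) = RingHom.ker (v (n + 1)) ^ (n + 1))
    (hfg : (RingHom.ker (v 1)).FG) [IsNoetherianRing (B 0)] :
    ∃ (A : Type u) (_ : CommRing A) (J : Ideal A) (ρ : ∀ n, A ⧸ J ^ (n + 1) →+* B n),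
      IsNoetherianRing A ∧ IsAdicComplete J A ∧ (∀ n, Function.Bijective (ρ n)) ∧
      ∀ (n : ℕ) (x : A ⧸ J ^ (n + 1 + 1)),
        ρ n (Ideal.Quotient.factor (Ideal.pow_le_pow_right (Nat.le_succ (n + 1))) x) =
          u n (ρ (n + 1) x) := by
  have hp : ∀ n, (u n).comp (pLim B u (n + 1)) = pLim B u n :=
    fun n => RingHom.ext fun x => x.2 n
  have hinj : ∀ x : ↥(limRing B u), (∀ n, pLim B u n x = 0) → x = 0 :=
    fun x h => Subtype.ext (funext h)
  have hlift : ∀ y : (∀ n, B n), (∀ n, u n (y (n + 1)) = y n) →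
      ∃ x : ↥(limRing B u), ∀ n, pLim B u n x = y n := fun y hy => ⟨⟨y, hy⟩, fun _ => rfl⟩
  obtain ⟨hc, hpn, hJ⟩ := Groth.Agent.Lib.Helper15.AL.ring_limit_main B u hu v hv0 hv hker hfg
    ↥(limRing B u) (pLim B u) hp hinj hlift
  haveI := hc
  have hzero : ∀ n, ∀ a ∈ RingHom.ker (pLim B u 0) ^ (n + 1), pLim B u n a = 0 := by
    intro n a ha
    rw [← (hpn n).2] at ha
    exact ha
  let ρ : ∀ n, (↥(limRing B u) ⧸ RingHom.ker (pLim B u 0) ^ (n + 1)) →+* B n :=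
    fun n => Ideal.Quotient.lift _ (pLim B u n) (hzero n)
  have hρ : ∀ n a, ρ n (Ideal.Quotient.mk _ a) = pLim B u n a := fun n a => rfl
  refine ⟨↥(limRing B u), inferInstance, RingHom.ker (pLim B u 0), ρ, ?_, hc, ?_, ?_⟩
  · haveI : IsNoetherianRing (↥(limRing B u) ⧸ RingHom.ker (pLim B u 0)) :=
      isNoetherianRing_of_ringEquiv (B 0)
        (RingHom.quotientKerEquivOfSurjective (hpn 0).1).symm
    exact Groth.Agent.Lib.Helper15.CN.isNoetherianRing_of_fg_of_complete _ hJ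
  · intro n
    constructor
    · rw [injective_iff_map_eq_zero]
      intro x hx
      obtain ⟨a, rfl⟩ := Ideal.Quotient.mk_surjective x
      rw [hρ] at hx
      rw [Ideal.Quotient.eq_zero_iff_mem, ← (hpn n).2]
      exact hx
    · intro b
      obtain ⟨a, ha⟩ := (hpn n).1 b
      exact ⟨Ideal.Quotient.mk _ a, ha⟩
  · intro n x
    obtain ⟨a, rfl⟩ := Ideal.Quotient.mk_surjective x
    rw [Ideal.Quotient.factor_mk, hρ, hρ]
    exact (RingHom.congr_fun (hp n) a).symm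

end Ring

section Sys

/-- an isomorphism of systems from levelwise isomorphisms. -/
def isoOfLevelIsos {𝔛 𝔜 : FSch.Sys.{u}} (e : ∀ n, 𝔛.X n ≅ 𝔜.X n)
    (comm : ∀ n, (e n).hom ≫ 𝔜.ι n = 𝔛.ι n ≫ (e (n + 1)).hom) : 𝔛 ≅ 𝔜 where
  hom := FSch.Hom.mk (fun n => (e n).hom) comm
  inv := FSch.Hom.mk (fun n => (e n).inv) (fun n => by
    rw [Iso.inv_comp_eq, ← Category.assoc, comm, Category.assoc, Iso.hom_inv_id,
      Category.comp_id])
  hom_inv_id := FSch.Hom.ext (funext fun n => (e n).hom_inv_id)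
  inv_hom_id := FSch.Hom.ext (funext fun n => (e n).inv_hom_id)

variable (𝔛 : FSch.Sys.{u})

theorem toX_succ (n : ℕ) : 𝔛.toX (n + 1) = 𝔛.toX n ≫ 𝔛.ι n := rfl

theorem toX_zero : 𝔛.toX 0 = 𝟙 _ := rfl

theorem toX_props (hF : 𝔛.IsFormal) (n : ℕ) :
    IsClosedImmersion (𝔛.toX n) ∧ Function.Surjective (𝔛.toX n).base := by
  induction n with
  | zero =>
    rw [toX_zero]
    exact ⟨inferInstance, fun x => ⟨x, rfl⟩⟩
  | succ n ih =>
    obtain ⟨h1, h2⟩ := ih
    obtain ⟨h3, h4⟩ := hF n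
    rw [toX_succ]
    haveI := h1
    haveI := h3
    refine ⟨inferInstance, fun y => ?_⟩
    obtain ⟨x, hx⟩ := h4 y
    obtain ⟨w, hw⟩ := h2 x
    refine ⟨w, ?_⟩
    show (𝔛.ι n).base ((𝔛.toX n).base w) = y
    rw [hw, hx]

/-- global sections of the levels -/
abbrev Bn (n : ℕ) : Type u := ↑Γ(𝔛.X n, ⊤)

/-- transition maps on global sections -/
noncomputable abbrev un (n : ℕ) : Bn 𝔛 (n + 1) →+* Bn 𝔛 n := (𝔛.ι n).appTop.hom

/-- restriction to level `0` on global sections -/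
noncomputable abbrev vn (n : ℕ) : Bn 𝔛 n →+* Bn 𝔛 0 := (𝔛.toX n).appTop.hom

theorem main (hF : 𝔛.IsFormal) (hA : 𝔛.IsAdic)
    [IsAffine (𝔛.X 0)] [IsLocallyNoetherian (𝔛.X 0)] (hft : FSch.IdealFT (𝔛.ι 0).ker) :
    ∃ (A : Type u) (_ : CommRing A) (J : Ideal A),
      IsNoetherianRing A ∧ IsAdicComplete J A ∧ Nonempty (𝔛 ≅ FSch.spf A J) := by
  have hci : ∀ n, IsClosedImmersion (𝔛.toX n) := fun n => (toX_props 𝔛 hF n).1
  have hι : ∀ n, IsClosedImmersion (𝔛.ι n) := fun n => (hF n).1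
  haveI haff : ∀ n, IsAffine (𝔛.X n) := fun n =>
    haveI := hci n
    Groth.Agent.Lib.Helper28.Thick.isAffine_of_thickening (𝔛.toX n) (toX_props 𝔛 hF n).2
  have hu : ∀ n, Function.Surjective (un 𝔛 n) := fun n =>
    haveI := hι n
    (IsClosedImmersion.isAffine_surjective_of_isAffine (𝔛.ι n)).2
  have hv0 : vn 𝔛 0 = RingHom.id (Bn 𝔛 0) := rfl
  have hv : ∀ n, (vn 𝔛 n).comp (un 𝔛 n) = vn 𝔛 (n + 1) := fun n => rfl
  have hker : ∀ n, RingHom.ker (un 𝔛 n) = RingHom.ker (vn 𝔛 (n + 1)) ^ (n + 1) := by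
    intro n
    haveI := hι n
    haveI := hci (n + 1)
    have h1 := congrArg (fun K => K.ideal ⟨⊤, isAffineOpen_top (𝔛.X (n + 1))⟩) (hA n)
    simp only [Scheme.IdealSheafData.ideal_pow, Pi.pow_apply, Scheme.Hom.ker_apply] at h1
    exact h1
  have hfg : (RingHom.ker (vn 𝔛 1)).FG := by
    haveI := hι 0
    have h1 := hft ⟨⊤, isAffineOpen_top (𝔛.X 1)⟩
    rw [Scheme.Hom.ker_apply] at h1
    have h2 : 𝔛.toX 1 = 𝔛.ι 0 := Category.id_comp _
    show (RingHom.ker (𝔛.toX 1).appTop.hom).FG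
    rw [h2]
    exact h1
  haveI : IsNoetherianRing (Bn 𝔛 0) :=
    IsLocallyNoetherian.component_noetherian ⟨⊤, isAffineOpen_top (𝔛.X 0)⟩
  obtain ⟨A, instA, J, ρ, hN, hc, hbij, hcomp⟩ :=
    exists_ring_limit (Bn 𝔛) (un 𝔛) hu (vn 𝔛) hv0 hv hker hfg
  haveI hisoρ : ∀ n, IsIso (CommRingCat.ofHom (ρ n)) := fun n =>
    (ConcreteCategory.isIso_iff_bijective (CommRingCat.ofHom (ρ n))).mpr (hbij n)
  let app : ∀ n, 𝔛.X n ⟶ (FSch.spf A J).X n := fun n =>
    (𝔛.X n).isoSpec.hom ≫ Spec.map (CommRingCat.ofHom (ρ n))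
  haveI happ : ∀ n, IsIso (app n) := fun n => by
    show IsIso ((𝔛.X n).isoSpec.hom ≫ Spec.map (CommRingCat.ofHom (ρ n)))
    infer_instance
  have hcomm : ∀ n, app n ≫ (FSch.spf A J).ι n = 𝔛.ι n ≫ app (n + 1) := by
    intro n
    have key : CommRingCat.ofHom
          (Ideal.Quotient.factor (Ideal.pow_le_pow_right (I := J) (Nat.le_succ (n + 1)))) ≫
        CommRingCat.ofHom (ρ n) = CommRingCat.ofHom (ρ (n + 1)) ≫ (𝔛.ι n).appTop := by
      ext x
      exact hcomp n x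
    have nat := Scheme.isoSpec_hom_naturality (𝔛.ι n)
    have e1 : ((𝔛.X n).isoSpec.hom ≫ Spec.map (CommRingCat.ofHom (ρ n))) ≫
          Spec.map (CommRingCat.ofHom (Ideal.Quotient.factor
            (Ideal.pow_le_pow_right (I := J) (Nat.le_succ (n + 1))))) =
        (𝔛.X n).isoSpec.hom ≫ Spec.map (𝔛.ι n).appTop ≫
          Spec.map (CommRingCat.ofHom (ρ (n + 1))) := by
      rw [Category.assoc, ← Spec.map_comp, key, Spec.map_comp]
    have e2 : 𝔛.ι n ≫ ((𝔛.X (n + 1)).isoSpec.hom ≫ Spec.map (CommRingCat.ofHom (ρ (n + 1)))) =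
        (𝔛.X n).isoSpec.hom ≫ Spec.map (𝔛.ι n).appTop ≫
          Spec.map (CommRingCat.ofHom (ρ (n + 1))) := by
      rw [← Category.assoc, ← nat, Category.assoc]
    exact e1.trans e2.symm
  exact ⟨A, instA, J, hN, hc, ⟨isoOfLevelIsos (fun n => asIso (app n)) hcomm⟩⟩

end Sys

end Groth.Agent.Lib.Helper26.SpfOfAffine
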