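import Groth.Prelude.Def_W4c5adicflatcomplDec
import Groth.Agent.Lib.Helper26.AdicFree

/-!
# Inverse limits of flat adic systems are adically free (helper26)

* `ker_inf_smul_top_le_sup` : variant of `NilNak.ker_inf_smul_top_le` for a target which is flat
  over a quotient `A ⧸ J`: `ker φ ⊓ I • ⊤ ≤ I • ker φ ⊔ J • ⊤`.
* `isAdicComplete_of_pow_smul_top_eq_bot` : a module killed by a power of `I` is `I`-adically
  complete.
* `sysLim_main` : for an `I`-adic system `(M n, ψ n)` with `M n` flat over `A ⧸ I ^ (n+1)` and a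
  family `f0 : Z → M 0` which is a basis mod `I`, the limit is isomorphic to `decaying I Z Â` and
  the projections are surjective with kernel `I ^ (n+1) • ⊤`.
-/

namespace Groth.Agent.Lib.Helper26.SysLim

open W4c5adicflatcompl Groth.Agent.Lib.Helper26.Decaying Groth.Agent.Lib.Helper26.DecSum
  Groth.Agent.Lib.Helper26.AdicFree

section general

variable {A : Type*} [CommRing A] (I J : Ideal A) {D N : Type*} [AddCommGroup D] [Module A D]
  [AddCommGroup N] [Module A N]

lemma ker_inf_smul_top_le_sup [Module (A ⧸ J) N] [IsScalarTower A (A ⧸ J) N]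
    [Module.Flat (A ⧸ J) N] (φ : D →ₗ[A] N) (hφ : Function.Surjective φ) :
    LinearMap.ker φ ⊓ I • (⊤ : Submodule A D) ≤ I • LinearMap.ker φ ⊔ J • (⊤ : Submodule A D) := by
  classical
  rintro x ⟨hxK, hxI⟩
  have hx' : x ∈ I • Submodule.span A (Set.range (id : D → D)) := by simpa using hxI
  obtain ⟨a, ha, rfl⟩ := (Submodule.mem_ideal_smul_span_iff_exists_sum I id x).mp hx'
  rw [Finsupp.sum] at hxK ⊢
  simp only [id_eq] at hxK ⊢
  have hmk : ∀ (r : A) (y : N), Ideal.Quotient.mk J r • y = r • y := by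
    intro r y
    rw [← Ideal.Quotient.algebraMap_eq, algebraMap_smul]
  have hrel : ∑ m : a.support, Ideal.Quotient.mk J (a m) • φ m = 0 := by
    simp only [hmk]
    rw [Finset.sum_coe_sort a.support (fun m => a m • φ m)]
    have := (LinearMap.mem_ker).mp hxK
    simpa [map_sum] using this
  obtain ⟨k, b', z, hz, hb'⟩ := Module.Flat.isTrivialRelation_of_sum_smul_eq_zero hrel
  choose b hb using fun (m : a.support) (j : Fin k) => Ideal.Quotient.mk_surjective (b' m j)
  choose w hw using fun j => hφ (z j)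
  have hJ : ∀ j, ∑ m : a.support, a m * b m j ∈ J := by
    intro j
    rw [← Ideal.Quotient.eq_zero_iff_mem, map_sum]
    rw [← hb' j]
    apply Finset.sum_congr rfl
    intro m _
    rw [map_mul, hb]
  have hsecond : ∑ m : a.support, a m • ∑ j, b m j • w j ∈ J • (⊤ : Submodule A D) := by
    simp only [Finset.smul_sum, smul_smul]
    rw [Finset.sum_comm]
    apply Submodule.sum_mem
    intro j _
    rw [← Finset.sum_smul]
    exact Submodule.smul_mem_smul (hJ j) Submodule.mem_top
  have hx : ∑ m ∈ a.support, a m • m =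
      ∑ m : a.support, a m • ((m : D) - ∑ j, b m j • w j) +
        ∑ m : a.support, a m • ∑ j, b m j • w j := by
    rw [← Finset.sum_coe_sort a.support (fun m => a m • m)]
    simp only [smul_sub, Finset.sum_sub_distrib]
    abel
  rw [hx]
  refine Submodule.add_mem _ (Submodule.mem_sup_left ?_) (Submodule.mem_sup_right hsecond)
  refine Submodule.sum_mem _ fun m _ => Submodule.smul_mem_smul (ha m) ?_
  have hzm : φ (m : D) = ∑ j, b' m j • z j := hz m
  rw [LinearMap.mem_ker, map_sub, map_sum, hzm, sub_eq_zero]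
  apply Finset.sum_congr rfl
  intro j _
  rw [map_smul, hw, ← hb, hmk]

/-- if `K ≤ I • ⊤` is the kernel of a surjection onto a module flat over `A ⧸ I ^ k`, then
`K ≤ I ^ k • ⊤`. -/
lemma ker_le_pow_smul_top (k : ℕ) [Module (A ⧸ I ^ k) N] [IsScalarTower A (A ⧸ I ^ k) N]
    [Module.Flat (A ⧸ I ^ k) N] (φ : D →ₗ[A] N) (hφ : Function.Surjective φ)
    (hker : LinearMap.ker φ ≤ I • (⊤ : Submodule A D)) :
    LinearMap.ker φ ≤ I ^ k • (⊤ : Submodule A D) := by
  have h1 : LinearMap.ker φ ≤ I • LinearMap.ker φ ⊔ I ^ k • (⊤ : Submodule A D) :=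
    fun x hx => ker_inf_smul_top_le_sup I (I ^ k) φ hφ ⟨hx, hker hx⟩
  have key : ∀ j : ℕ, LinearMap.ker φ ≤ I ^ j • LinearMap.ker φ ⊔ I ^ k • (⊤ : Submodule A D) := by
    intro j
    induction j with
    | zero => simp
    | succ j ih =>
      calc LinearMap.ker φ ≤ I • LinearMap.ker φ ⊔ I ^ k • (⊤ : Submodule A D) := h1
        _ ≤ I • (I ^ j • LinearMap.ker φ ⊔ I ^ k • (⊤ : Submodule A D)) ⊔
              I ^ k • (⊤ : Submodule A D) :=
            sup_le_sup_right (Submodule.smul_mono le_rfl ih) _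
        _ ≤ I ^ (j + 1) • LinearMap.ker φ ⊔ I ^ k • (⊤ : Submodule A D) := by
            rw [Submodule.smul_sup, ← Submodule.mul_smul, ← pow_succ']
            refine sup_le (sup_le le_sup_left ?_) le_sup_right
            refine le_sup_of_le_right ?_
            rw [← Submodule.mul_smul]
            exact Submodule.smul_mono Ideal.mul_le_right le_rfl
  refine (key k).trans (sup_le ?_ le_rfl)
  exact Submodule.smul_mono le_rfl le_top

lemma isAdicComplete_of_pow_smul_top_eq_bot (k : ℕ)
    (h : (I ^ k • ⊤ : Submodule A N) = ⊥) : IsAdicComplete I N := by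
  refine { haus' := ?_, prec' := ?_ }
  · intro x hx
    have := hx k
    rw [SModEq.zero, h, Submodule.mem_bot] at this
    exact this
  · intro f hf
    refine ⟨f k, fun n => ?_⟩
    rcases le_total n k with hnk | hkn
    · exact hf hnk
    · have := hf hkn
      rw [SModEq.sub_mem, h, Submodule.mem_bot, sub_eq_zero] at this
      rw [this]

end general

section sys

variable {A : Type*} [CommRing A] (I : Ideal A)
  (M : ℕ → Type*) [∀ n, AddCommGroup (M n)] [∀ n, Module A (M n)]
  [∀ n, Module (A ⧸ I ^ (n + 1)) (M n)]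
  [∀ n, IsScalarTower A (A ⧸ I ^ (n + 1)) (M n)]
  (ψ : ∀ n, M (n + 1) →ₗ[A] M n)

omit [∀ n, Module (A ⧸ I ^ (n + 1)) (M n)] [∀ n, IsScalarTower A (A ⧸ I ^ (n + 1)) (M n)] in
variable {M} in
/-- a compatible family of lifts -/
noncomputable def fam (hψ : ∀ n, Function.Surjective (ψ n)) {Z : Type*} (f0 : Z → M 0) :
    ∀ n, Z → M n
  | 0 => f0
  | (n + 1) => fun z => Function.surjInv (hψ n) (fam hψ f0 n z)

omit [∀ n, Module (A ⧸ I ^ (n + 1)) (M n)] [∀ n, IsScalarTower A (A ⧸ I ^ (n + 1)) (M n)] in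
lemma fam_succ (hψ : ∀ n, Function.Surjective (ψ n)) {Z : Type*} (f0 : Z → M 0) (n : ℕ) (z : Z) :
    ψ n (fam ψ hψ f0 (n + 1) z) = fam ψ hψ f0 n z :=
  Function.surjInv_eq (hψ n) _

lemma pow_smul_top_eq_bot (n : ℕ) : (I ^ (n + 1) • ⊤ : Submodule A (M n)) = ⊥ := by
  rw [eq_bot_iff, Submodule.smul_le]
  intro r hr x _
  rw [Submodule.mem_bot, ← algebraMap_smul (A ⧸ I ^ (n + 1)) r x, Ideal.Quotient.algebraMap_eq,
    Ideal.Quotient.eq_zero_iff_mem.mpr hr, zero_smul]

theorem sysLim_main (hfg : ∀ k, (I ^ k).FG)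
    [∀ n, Module.Flat (A ⧸ I ^ (n + 1)) (M n)]
    (hψ : ∀ n, Function.Surjective (ψ n))
    (hker : ∀ n, LinearMap.ker (ψ n) = (I ^ (n + 1) • ⊤ : Submodule A (M (n + 1))))
    {Z : Type*} (f0 : Z → M 0)
    (hspan : (⊤ : Submodule A (M 0)) ≤ Submodule.span A (Set.range f0) ⊔ I • ⊤)
    (hli : ∀ (S : Finset Z) (a : Z → A),
      ∑ z ∈ S, a z • f0 z ∈ (I • ⊤ : Submodule A (M 0)) → ∀ z ∈ S, a z ∈ I) :
    ∃ Φ : decaying I Z (AdicCompletion I A) ≃ₗ[A] sysLim M ψ,
      ∀ n, Function.Surjective (sysProj M ψ n) ∧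
        LinearMap.ker (sysProj M ψ n) = (I ^ (n + 1) • ⊤ : Submodule A (sysLim M ψ)) := by
  classical
  have hI : I.FG := by simpa using hfg 1
  haveI : IsAdicComplete I (AdicCompletion I A) := AdicCompletion.isAdicComplete hI
  haveI : IsAdicComplete I (decaying I Z (AdicCompletion I A)) :=
    isAdicComplete_decaying I Z (AdicCompletion I A) hfg
  haveI hcompl : ∀ n, IsAdicComplete I (M n) := fun n =>
    isAdicComplete_of_pow_smul_top_eq_bot I (n + 1) (pow_smul_top_eq_bot I M n)
  -- the compatible family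
  let f := fam ψ hψ f0
  have hf : ∀ n z, ψ n (f (n + 1) z) = f n z := fam_succ M ψ hψ f0
  -- spanning mod I
  have hP : ∀ n, (⊤ : Submodule A (M n)) ≤ Submodule.span A (Set.range (f n)) ⊔ I • ⊤ := by
    intro n
    induction n with
    | zero => exact hspan
    | succ n ih =>
      intro y _
      obtain ⟨s, hs, t, ht, hst⟩ := Submodule.mem_sup.mp (ih (Submodule.mem_top (x := ψ n y)))
      have h1 : Submodule.span A (Set.range (f n)) =
          Submodule.map (ψ n) (Submodule.span A (Set.range (f (n + 1)))) := by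
        rw [Submodule.map_span, ← Set.range_comp]
        congr 2
        funext z
        exact (hf n z).symm
      have h2 : (I • ⊤ : Submodule A (M n)) =
          Submodule.map (ψ n) (I • ⊤ : Submodule A (M (n + 1))) := by
        rw [Submodule.map_smul'', Submodule.map_top, LinearMap.range_eq_top.mpr (hψ n)]
      rw [h1] at hs
      rw [h2] at ht
      obtain ⟨s', hs', rfl⟩ := hs
      obtain ⟨t', ht', rfl⟩ := ht
      have h3 : y - s' - t' ∈ (I • ⊤ : Submodule A (M (n + 1))) := by
        have : y - s' - t' ∈ LinearMap.ker (ψ n) := by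
          rw [LinearMap.mem_ker, map_sub, map_sub, ← hst]; abel
        rw [hker n] at this
        exact Submodule.smul_mono (Ideal.pow_le_self (Nat.succ_ne_zero n)) le_rfl this
      have h4 : y = s' + (t' + (y - s' - t')) := by abel
      rw [h4]
      exact Submodule.add_mem _ (Submodule.mem_sup_left hs')
        (Submodule.mem_sup_right (Submodule.add_mem _ ht' h3))
  -- independence mod I
  have hQ : ∀ n, ∀ (S : Finset Z) (a : Z → A),
      ∑ z ∈ S, a z • f n z ∈ (I • ⊤ : Submodule A (M n)) → ∀ z ∈ S, a z ∈ I := by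
    intro n
    induction n with
    | zero => exact hli
    | succ n ih =>
      intro S a ha
      apply ih S a
      have := map_mem_smul_top I (ψ n) 1 (by rwa [pow_one])
      rw [pow_one, map_sum] at this
      simpa only [map_smul, hf] using this
  -- the maps φ n
  have hex : ∀ n, ∃ φ : decaying I Z (AdicCompletion I A) →ₗ[A] M n,
      ∀ z, φ (single I z 1) = f n z := fun n =>
    (existsUnique_single_one I hfg (f n)).exists
  choose φ hφ using hex
  have hcompat : ∀ n, ψ n ∘ₗ φ (n + 1) = φ n := by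
    intro n
    apply ext_single_one I hfg
    intro z
    rw [LinearMap.comp_apply, hφ, hφ, hf]
  have hsurj : ∀ n, Function.Surjective (φ n) := by
    intro n
    apply surjective_of_mkQ_comp_surjective (I := I)
    rw [← LinearMap.range_eq_top, eq_top_iff]
    rintro y -
    obtain ⟨m, rfl⟩ := Submodule.mkQ_surjective _ y
    obtain ⟨m₁, hm₁, m₂, hm₂, rfl⟩ := Submodule.mem_sup.mp (hP n (Submodule.mem_top (x := m)))
    have hrange : Submodule.span A (Set.range (f n)) ≤ LinearMap.range (φ n) := by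
      rw [Submodule.span_le]
      rintro _ ⟨z, rfl⟩
      exact ⟨single I z 1, hφ n z⟩
    obtain ⟨d, rfl⟩ := hrange hm₁
    refine ⟨d, ?_⟩
    have h0 : (I • ⊤ : Submodule A (M n)).mkQ m₂ = 0 := by
      rw [Submodule.mkQ_apply, Submodule.Quotient.mk_eq_zero]; exact hm₂
    rw [LinearMap.comp_apply, map_add, h0, add_zero]
  have hkerφ : ∀ n, LinearMap.ker (φ n) =
      (I ^ (n + 1) • ⊤ : Submodule A (decaying I Z (AdicCompletion I A))) := by
    intro n
    apply le_antisymm
    · exact ker_le_pow_smul_top I (n + 1) (φ n) (hsurj n)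
        (ker_le_smul_top I hfg (f n) (φ n) (hφ n) (hQ n))
    · intro x hx
      have := map_mem_smul_top I (φ n) (n + 1) hx
      rwa [pow_smul_top_eq_bot I M n, Submodule.mem_bot] at this
  -- the map to the limit
  let Φ : decaying I Z (AdicCompletion I A) →ₗ[A] sysLim M ψ :=
    LinearMap.codRestrict (sysLim M ψ) (LinearMap.pi φ) (fun x n => by
      change ψ n (φ (n + 1) x) = φ n x
      rw [← hcompat n]; rfl)
  have hΦ : ∀ n x, sysProj M ψ n (Φ x) = φ n x := fun n x => rfl
  have hinj : Function.Injective Φ := by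
    rw [← LinearMap.ker_eq_bot, eq_bot_iff]
    intro x hx
    rw [LinearMap.mem_ker] at hx
    rw [Submodule.mem_bot]
    apply IsHausdorff.haus' (I := I)
    intro n
    rw [SModEq.zero]
    have h1 : x ∈ LinearMap.ker (φ n) := by
      rw [LinearMap.mem_ker, ← hΦ, hx, map_zero]
    rw [hkerφ n] at h1
    exact pow_smul_top_mono (Nat.le_succ n) h1
  have hsurjΦ : Function.Surjective Φ := by
    intro y
    choose x hx using fun n => hsurj n ((y : ∀ k, M k) n)
    have hstep : ∀ n, x (n + 1) - x n ∈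
        (I ^ (n + 1) • ⊤ : Submodule A (decaying I Z (AdicCompletion I A))) := by
      intro n
      rw [← hkerφ n, LinearMap.mem_ker, map_sub, hx n, ← hcompat n, LinearMap.comp_apply,
        hx (n + 1), y.2 n, sub_self]
    have hcauchy : ∀ {a b : ℕ}, a ≤ b → x a ≡ x b
        [SMOD (I ^ a • ⊤ : Submodule A (decaying I Z (AdicCompletion I A)))] := by
      intro a b hab
      induction b, hab using Nat.le_induction with
      | base => rfl
      | succ b hab ih =>
        refine ih.trans ?_
        rw [SModEq.sub_mem]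
        have := hstep b
        have h2 : x b - x (b + 1) = -(x (b + 1) - x b) := by abel
        rw [h2]
        exact Submodule.neg_mem _ (pow_smul_top_mono (le_trans hab (Nat.le_succ b)) this)
    obtain ⟨L, hL⟩ := IsPrecomplete.prec' (I := I) x hcauchy
    refine ⟨L, ?_⟩
    apply Subtype.ext
    funext n
    change φ n L = (y : ∀ k, M k) n
    rw [← hx n]
    have h1 : L - x n ∈ LinearMap.ker (φ n) := by
      rw [hkerφ n]
      have h2 := hL (n + 1)
      rw [SModEq.sub_mem] at h2
      have h3 : L - x n = -(x (n + 1) - L) + (x (n + 1) - x n) := by abel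
      rw [h3]
      exact Submodule.add_mem _ (Submodule.neg_mem _ h2) (hstep n)
    rw [LinearMap.mem_ker, map_sub, sub_eq_zero] at h1
    exact h1
  refine ⟨LinearEquiv.ofBijective Φ ⟨hinj, hsurjΦ⟩, fun n => ⟨?_, ?_⟩⟩
  · intro y
    obtain ⟨x, hx⟩ := hsurj n y
    exact ⟨Φ x, by rw [hΦ, hx]⟩
  · apply le_antisymm
    · intro y hy
      obtain ⟨x, rfl⟩ := hsurjΦ y
      rw [LinearMap.mem_ker, hΦ, ← LinearMap.mem_ker, hkerφ n] at hy
      exact map_mem_smul_top I Φ (n + 1) hy
    · intro y hy
      have := map_mem_smul_top I (sysProj M ψ n) (n + 1) hy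
      rwa [pow_smul_top_eq_bot I M n, Submodule.mem_bot] at this

end sys

end Groth.Agent.Lib.Helper26.SysLim
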