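import Groth.Agent.Lib.Helper26.QCFormalLim

/-!
# Torsion-free towers: a quasi-coherent system with `f = i ∘ tr` is the completion of its limit
-/

set_option autoImplicit false
universe u v
open CategoryTheory CategoryTheory.Limits AlgebraicGeometry TopologicalSpace Opposite

namespace Groth.Agent.Lib.Helper26.TFTower

section Algebra

/-- the algebraic tower. -/
structure Tower {R : Type u} [CommRing R] (r : R) (M : ℕ → Type v) [∀ n, AddCommGroup (M n)]
    [∀ n, Module R (M n)] where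
  T : ∀ {m k : ℕ}, m ≤ k → M k →ₗ[R] M m
  T_comp : ∀ {m k l : ℕ} (h1 : m ≤ k) (h2 : k ≤ l) (x : M l), T h1 (T h2 x) = T (h1.trans h2) x
  i : ∀ n, M n →ₗ[R] M (n + 1)
  i_inj : ∀ n, Function.Injective (i n)
  i_T : ∀ n (x : M (n + 1)), i n (T (Nat.le_succ n) x) = r • x
  ex : ∀ n (x : M (n + 1)), T (Nat.zero_le (n + 1)) x = 0 → ∃ y, i n y = x
  zero : ∀ n (y : M n), T (Nat.zero_le (n + 1)) (i n y) = 0
  surj0 : ∀ n, Function.Surjective (T (Nat.zero_le (n + 1)))

variable {R : Type u} [CommRing R] {r : R} {M : ℕ → Type v} [∀ n, AddCommGroup (M n)]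
  [∀ n, Module R (M n)] (D : Tower r M)

theorem Tower.T_i (n : ℕ) (y : M n) : D.T (Nat.le_succ n) (D.i n y) = r • y := by
  apply D.i_inj n
  rw [D.i_T, map_smul]

theorem Tower.surj (n : ℕ) : Function.Surjective (D.T (Nat.le_succ n)) := by
  induction n with
  | zero => exact D.surj0 0
  | succ n ih =>
    intro y
    obtain ⟨x', hx'⟩ := D.surj0 (n + 1) (D.T (Nat.zero_le (n + 1)) y)
    have h0 : D.T (Nat.zero_le (n + 1)) (y - D.T (Nat.le_succ (n + 1)) x') = 0 := by
      rw [map_sub, D.T_comp, hx', sub_self]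
    obtain ⟨z, hz⟩ := D.ex n _ h0
    obtain ⟨w, hw⟩ := ih z
    refine ⟨x' + D.i (n + 1) w, ?_⟩
    rw [map_add, D.T_i, ← D.i_T n w, hw, hz]
    abel

include D in
theorem Tower.pow_smul_eq_zero (n : ℕ) (x : M n) : r ^ (n + 1) • x = 0 := by
  induction n with
  | zero =>
    obtain ⟨x', rfl⟩ := D.surj0 0 x
    have e : r • D.T (Nat.zero_le (0 + 1)) x' = D.T (Nat.zero_le (0 + 1)) (r • x') :=
      (map_smul _ _ _).symm
    have e0 : r ^ (0 + 1) = r := by simp
    rw [e0, e, ← D.i_T 0 x', D.zero]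
  | succ n ih =>
    rw [pow_succ, mul_smul, ← D.i_T n x, ← map_smul, ih, map_zero]

theorem Tower.ker_le (n : ℕ) (x : M (n + 1)) (hx : D.T (Nat.le_succ n) x = 0) :
    ∃ w : M (n + 1), x = r ^ (n + 1) • w := by
  induction n with
  | zero =>
    obtain ⟨y, rfl⟩ := D.ex 0 x hx
    obtain ⟨w, rfl⟩ := D.surj0 0 y
    have e0 : r ^ (0 + 1) = r := by simp
    exact ⟨w, by rw [e0]; exact D.i_T 0 w⟩
  | succ n ih =>
    have h0 : D.T (Nat.zero_le (n + 1 + 1)) x = 0 := by
      rw [← D.T_comp (Nat.zero_le (n + 1)) (Nat.le_succ (n + 1)), hx, map_zero]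
    obtain ⟨y, rfl⟩ := D.ex (n + 1) x h0
    rw [D.T_i] at hx
    have h1 : D.T (Nat.le_succ n) y = 0 := by
      apply D.i_inj n
      rw [D.i_T, hx, map_zero]
    obtain ⟨z, rfl⟩ := ih y h1
    obtain ⟨w, rfl⟩ := D.surj (n + 1) z
    refine ⟨w, ?_⟩
    rw [map_smul, D.i_T, smul_smul, ← pow_succ]

end Algebra

open Scheme.Modules
open Groth.Agent.Lib.Helper3 Groth.Agent.Lib.Helper14.ProIsoAdic
open Groth.Agent.Lib.Helper26.QCFormalLim

variable {A : Type u} [CommRing A] {X : Scheme.{u}} [X.Over (Spec (CommRingCat.of A))]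

/-- A system receiving compatible maps `θ n : M ⟶ F_n` inducing isomorphisms
`M / I^(n+1) M ≅ F_n` is isomorphic to the completion of `M`. -/
theorem completion_iso_of_desc_isIso (I : Ideal A) (M : X.Modules) (F : ℕᵒᵖ ⥤ X.Modules)
    (θ : ∀ n, M ⟶ F.obj (op n))
    (h0 : ∀ n, Formal.smulFamily (I ^ (n + 1)) M ≫ θ n = 0)
    (hiso : ∀ n, IsIso (cokernel.desc _ (θ n) (h0 n)))
    (hcompat : ∀ n, θ (n + 1) ≫ F.map (homOfLE (n.le_add_right 1)).op = θ n) :
    Nonempty (Formal.completion I M ≅ F) := by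
  let e : ∀ n, Formal.modPow I (n + 1) M ⟶ F.obj (op n) := fun n => cokernel.desc _ (θ n) (h0 n)
  have he : ∀ n, Formal.modPowπ I (n + 1) M ≫ e n = θ n := fun n => cokernel.π_desc _ _ _
  let eT : Formal.completion I M ⟶ F := NatTrans.ofOpSequence (fun n => e n) (by
    intro n
    haveI : Epi (Formal.modPowπ I (n + 1 + 1) M) := coequalizer.π_epi
    have hmap : (Formal.completion I M).map (homOfLE (n.le_add_right 1)).op =
        Formal.modPowTrans I (n + 1) M := Functor.ofOpSequence_map_homOfLE_succ _ n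
    rw [hmap]
    change Formal.modPowTrans I (n + 1) M ≫ e n = e (n + 1) ≫ _
    rw [← cancel_epi (Formal.modPowπ I (n + 1 + 1) M), ← Category.assoc, Formal.modPowπ_trans, he,
      ← Category.assoc, he, hcompat])
  haveI : ∀ n : ℕᵒᵖ, IsIso (eT.app n) := fun n => hiso n.unop
  haveI := NatIso.isIso_of_isIso_app eT
  exact ⟨asIso eT⟩

section Sheaf

variable (f : A) (G : ℕᵒᵖ ⥤ X.Modules)

/-- the hypothesis on the tower. -/
def Hyp : Prop :=
  ∀ n : ℕ, ∃ i : G.obj (op n) ⟶ G.obj (op (n + 1)), Mono i ∧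
    G.map (homOfLE (Nat.le_succ n)).op ≫ i = Formal.smulMod A (G.obj (op (n + 1))) f ∧
    ∃ w : i ≫ G.map (homOfLE (Nat.zero_le (n + 1))).op = 0,
      (ShortComplex.mk i (G.map (homOfLE (Nat.zero_le (n + 1))).op) w).ShortExact

variable {f G} (h1 : Hyp f G)

/-- the chosen monomorphism. -/
noncomputable def iota (n : ℕ) : G.obj (op n) ⟶ G.obj (op (n + 1)) := (h1 n).choose

theorem iota_mono (n : ℕ) : Mono (iota h1 n) := (h1 n).choose_spec.1

theorem tr_iota (n : ℕ) : G.map (homOfLE (Nat.le_succ n)).op ≫ iota h1 n =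
    Formal.smulMod A (G.obj (op (n + 1))) f := (h1 n).choose_spec.2.1

theorem iota_tr0 (n : ℕ) : iota h1 n ≫ G.map (homOfLE (Nat.zero_le (n + 1))).op = 0 :=
  (h1 n).choose_spec.2.2.choose

theorem shortExact (n : ℕ) :
    (ShortComplex.mk (iota h1 n) (G.map (homOfLE (Nat.zero_le (n + 1))).op)
      (iota_tr0 h1 n)).ShortExact :=
  (h1 n).choose_spec.2.2.choose_spec

theorem iota_tr_app (n : ℕ) (W : X.Opens) (x : Γ(G.obj (op (n + 1)), W)) :
    (iota h1 n).app W ((G.map (homOfLE (Nat.le_succ n)).op).app W x) = rho (A := A) W f • x := by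
  rw [← smulMod_app, ← tr_iota h1 n]
  rfl

theorem iota_app_injective (n : ℕ) (W : X.Opens) : Function.Injective ((iota h1 n).app W) := by
  haveI := iota_mono h1 n
  exact (QCProps.mono_iff_app_injective (iota h1 n)).mp inferInstance W

/-- the tower of sections over an affine open. -/
noncomputable def towerV (hqc : ∀ n : ℕᵒᵖ, Coh.IsQCoh (G.obj n)) {V : X.Opens}
    (hV : IsAffineOpen V) :
    Tower (rho (A := A) V f) (fun m => Γ(G.obj (op m), V)) where
  T h := QCProps.appₗ (G.map (homOfLE h).op) V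
  T_comp {m k l} h1' h2 x := by
    show (G.map (homOfLE h1').op).app V ((G.map (homOfLE h2).op).app V x) =
      (G.map (homOfLE (h1'.trans h2)).op).app V x
    have e : (homOfLE (h1'.trans h2)).op = (homOfLE h2).op ≫ (homOfLE h1').op := rfl
    rw [e, G.map_comp]
    rfl
  i n := QCProps.appₗ (iota h1 n) V
  i_inj n := iota_app_injective h1 n V
  i_T n x := iota_tr_app h1 n V x
  ex n x hx := by
    haveI := (shortExact h1 n).mono_f
    exact QCExact.exact_sections _ (shortExact h1 n).exact V x hx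
  zero n y := by
    show (G.map (homOfLE (Nat.zero_le (n + 1))).op).app V ((iota h1 n).app V y) = 0
    have e : (iota h1 n ≫ G.map (homOfLE (Nat.zero_le (n + 1))).op).app V y = 0 := by
      rw [iota_tr0 h1 n]
      rfl
    exact e
  surj0 n := by
    haveI := hqc (op (n + 1))
    haveI := hqc (op 0)
    haveI : Epi (G.map (homOfLE (Nat.zero_le (n + 1))).op) := (shortExact h1 n).epi_g
    exact (QCExact.epi_iff_surjective_on_affines (G.map (homOfLE (Nat.zero_le (n + 1))).op)).mp
      inferInstance V hV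

include h1 in
theorem smulMod_pow_eq_zero (n : ℕ) : Formal.smulMod A (G.obj (op n)) (f ^ (n + 1)) = 0 := by
  induction n with
  | zero =>
    haveI : Epi (G.map (homOfLE (Nat.zero_le (0 + 1))).op) := (shortExact h1 0).epi_g
    have e0 : f ^ (0 + 1) = f := by simp
    rw [e0, ← cancel_epi (G.map (homOfLE (Nat.zero_le (0 + 1))).op), comp_zero,
      ← smulMod_naturality]
    have e : Formal.smulMod A (G.obj (op (0 + 1))) f =
        G.map (homOfLE (Nat.zero_le (0 + 1))).op ≫ iota h1 0 := (tr_iota h1 0).symm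
    rw [e, Category.assoc, iota_tr0 h1 0, comp_zero]
  | succ n ih =>
    rw [pow_succ', smulMod_mul, ← tr_iota h1 n, Category.assoc, ← smulMod_naturality, ih,
      zero_comp, comp_zero]

include h1 in
theorem killedBy (n : ℕ) :
    Formal.KilledBy ((Ideal.span ({f} : Set A)) ^ (n + 1)) (G.obj (op n)) := by
  intro a ha
  rw [Ideal.span_singleton_pow, Ideal.mem_span_singleton'] at ha
  obtain ⟨c, rfl⟩ := ha
  rw [smulMod_mul, smulMod_pow_eq_zero h1 n, comp_zero]

theorem exists_affine_basis (W : X.Opens) (x : X) (hx : x ∈ W) :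
    ∃ V : X.Opens, x ∈ V ∧ V ≤ W ∧ IsAffineOpen V := by
  obtain ⟨U, hU, hxU⟩ := QCProps.exists_affine_nbhd x
  obtain ⟨g, hgW, hxg⟩ := hU.exists_basicOpen_le (V := W ⊓ U) ⟨x, ⟨hx, hxU⟩⟩ hxU
  exact ⟨X.basicOpen g, hxg, hgW.trans inf_le_left, hU.basicOpen g⟩

include h1 in
theorem isQCohFormal (hqc : ∀ n : ℕᵒᵖ, Coh.IsQCoh (G.obj n)) :
    Formal2.IsQCohFormal (Ideal.span ({f} : Set A)) G := by
  refine ⟨fun n => hqc (op n), killedBy h1, fun n => ?_⟩
  have h : Formal.smulFamily ((Ideal.span ({f} : Set A)) ^ (n + 1)) (G.obj (op (n + 1))) ≫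
      G.map (homOfLE (Nat.le_succ n)).op = 0 :=
    (smulFamily_comp_eq_zero_iff _ _).mpr (kills_of_killedBy (killedBy h1 n) _)
  refine ⟨h, ?_⟩
  haveI := hqc (op (n + 1))
  haveI := hqc (op n)
  have hepi : Epi (G.map (homOfLE (Nat.le_succ n)).op) :=
    (QCExact.epi_iff_surjective_on_affines _).mpr
      (fun V hV => Tower.surj (towerV h1 hqc hV) n)
  let S0 : ShortComplex X.Modules := ShortComplex.mk _ _ h
  have hS0 : S0.Exact := by
    apply ModBasis.exact_of_exact_on_basis
    intro W x hx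
    obtain ⟨V, hxV, hVW, hV⟩ := exists_affine_basis W x hx
    refine ⟨V, hxV, hVW, ?_⟩
    intro s hs
    obtain ⟨w, hw⟩ := Tower.ker_le (towerV h1 hqc hV) n s hs
    have hmem : f ^ (n + 1) ∈ (Ideal.span ({f} : Set A)) ^ (n + 1) :=
      Ideal.pow_mem_pow (Ideal.subset_span (Set.mem_singleton f)) _
    refine ⟨(Sigma.ι (fun _ : ((Ideal.span ({f} : Set A)) ^ (n + 1) : Ideal A) =>
      G.obj (op (n + 1))) ⟨f ^ (n + 1), hmem⟩).app V w, ?_⟩
    have e : Sigma.ι (fun _ : ((Ideal.span ({f} : Set A)) ^ (n + 1) : Ideal A) =>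
        G.obj (op (n + 1))) ⟨f ^ (n + 1), hmem⟩ ≫
        Formal.smulFamily ((Ideal.span ({f} : Set A)) ^ (n + 1)) (G.obj (op (n + 1))) =
        Formal.smulMod A (G.obj (op (n + 1))) (f ^ (n + 1)) := by
      simp [Formal.smulFamily]
    rw [hw, ← map_pow, ← smulMod_app, ← e]
    rfl
  haveI : Mono (cokernel.desc _ _ h) := hS0.mono_cokernelDesc
  haveI : Epi (cokernel.desc _ _ h) := by
    have e : cokernel.π _ ≫ cokernel.desc _ _ h = G.map (homOfLE (Nat.le_succ n)).op :=
      cokernel.π_desc _ _ _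
    exact epi_of_epi_fac e
  exact isIso_of_mono_of_epi _

include h1 in
theorem mono_smulMod_limit : Mono (Formal.smulMod A (limit G) f) := by
  rw [QCProps.mono_iff_app_injective]
  intro W
  rw [injective_iff_map_eq_zero]
  intro x hx
  apply section_ext G W x
  intro m
  apply iota_app_injective h1 m W
  have e1 : (limit.π G (op m)).app W x =
      (G.map (homOfLE (Nat.le_succ m)).op).app W ((limit.π G (op (m + 1))).app W x) := by
    rw [← limit.w G (homOfLE (Nat.le_succ m)).op]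
    rfl
  rw [e1, iota_tr_app, map_zero, ← smulMod_app]
  have e2 : (Formal.smulMod A (G.obj (op (m + 1))) f).app W
      ((limit.π G (op (m + 1))).app W x) =
      (limit.π G (op (m + 1))).app W ((Formal.smulMod A (limit G) f).app W x) := by
    have := smulMod_naturality (limit.π G (op (m + 1))) f
    have e3 : (limit.π G (op (m + 1)) ≫ Formal.smulMod A (G.obj (op (m + 1))) f).app W x =
        (Formal.smulMod A (limit G) f ≫ limit.π G (op (m + 1))).app W x := by
      rw [this]
    exact e3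
  rw [e2, hx, map_zero]

include h1 in
theorem main (hqc : ∀ n : ℕᵒᵖ, Coh.IsQCoh (G.obj n)) :
    ∃ F : X.Modules, Mono (Formal.smulMod A F f) ∧
      Nonempty (Formal.completion (Ideal.span ({f} : Set A)) F ≅ G) := by
  have hG := isQCohFormal h1 hqc
  have hI : (Ideal.span ({f} : Set A)).FG := ⟨{f}, by rw [Finset.coe_singleton]⟩
  refine ⟨limit G, mono_smulMod_limit h1, ?_⟩
  apply completion_iso_of_desc_isIso (Ideal.span ({f} : Set A)) (limit G) G
    (fun n => limit.π G (op n))
    (fun n => (QCFormalLim.main _ hI G hG n).choose)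
    (fun n => (QCFormalLim.main _ hI G hG n).choose_spec)
  intro n
  exact limit.w G (homOfLE (n.le_add_right 1)).op

end Sheaf

end Groth.Agent.Lib.Helper26.TFTower
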