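import Mathlib
import Groth.Agent.Lib.Helper9.SepGen

/-!
# Multiplicities of components of `K ⊗[k] L` are powers of the characteristic exponent

* `length_self_of_ringEquiv`: length of a ring over itself is invariant under ring isomorphism.
* `length_mul_finrank_residue`: for a local algebra `W` over a field `F` and a `W`-module `M`
  finite over `F`: `dim_F M = length_W M * [κ(W) : F]`.
* `length_dvd_of_radicial`: `P → T` finite free, `P` reduced, every element of `T` has a `p`-power
  in the image of `P`; then the length of `T_q` at a minimal prime divides the rank.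
* `main`: length of `(K ⊗[k] L)_q` at a minimal prime is a power of the characteristic exponent.
-/

set_option linter.style.haveILetI false

namespace Groth.Agent.Lib.Helper26.TensorFieldLen

open TensorProduct

universe u

theorem length_self_of_ringEquiv {A B : Type*} [CommRing A] [CommRing B] (e : A ≃+* B) :
    Module.length A A = Module.length B B := by
  letI : Algebra A B := e.toRingHom.toAlgebra
  have h1 : Module.length A B = Module.length B B :=
    Module.length_eq_of_surjective (S := A) (R := B) (M := B) e.surjective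
  have h2 : Module.length A A = Module.length A B := by
    let f : A ≃ₗ[A] B :=
      { e.toAddEquiv with
        map_smul' := fun a x => by
          show e (a • x) = a • e x
          rw [smul_eq_mul, map_mul, Algebra.smul_def]
          rfl }
    exact f.length_eq
  exact h2.trans h1

theorem length_mul_finrank_residue (F W : Type*) [Field F] [CommRing W] [IsLocalRing W]
    [Algebra F W] (M : Type*) [AddCommGroup M] [Module W M] [Module F M] [IsScalarTower F W M]
    [Module.Finite F M] :
    ∃ m : ℕ, Module.length W M = m ∧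
      Module.finrank F M = m * Module.finrank F (W ⧸ IsLocalRing.maximalIdeal W) := by
  induction' hn : Module.finrank F M using Nat.strong_induction_on with n ih generalizing M
  rcases subsingleton_or_nontrivial M with hM | hM
  · refine ⟨0, ?_, ?_⟩
    · rw [Module.length_eq_zero]; rfl
    · have h0 : Module.finrank F M = 0 := Module.finrank_zero_of_subsingleton
      rw [zero_mul, ← hn, h0]
  · haveI : Module.Finite W M := Module.Finite.of_restrictScalars_finite F W M
    obtain h | ⟨N, hN, -⟩ := IsCoatomic.eq_top_or_exists_le_coatom (⊥ : Submodule W M)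
    · exact absurd h bot_ne_top
    · haveI hsimp : IsSimpleModule W (M ⧸ N) := isSimpleModule_iff_isCoatom.mpr hN
      obtain ⟨I, hI, ⟨e⟩⟩ := isSimpleModule_iff_quot_maximal.mp hsimp
      obtain rfl : I = IsLocalRing.maximalIdeal W := IsLocalRing.eq_maximalIdeal hI
      haveI : Module.Finite F N :=
        Module.Finite.of_injective (N.subtype.restrictScalars F) N.injective_subtype
      haveI : Module.Finite F (M ⧸ N) :=
        Module.Finite.of_surjective (N.mkQ.restrictScalars F) N.mkQ_surjective
      have hq : Module.finrank F (M ⧸ N) =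
          Module.finrank F (W ⧸ IsLocalRing.maximalIdeal W) := (e.restrictScalars F).finrank_eq
      have hadd : Module.finrank F M = Module.finrank F N + Module.finrank F (M ⧸ N) := by
        have h1 := Submodule.finrank_quotient_add_finrank (N.restrictScalars F)
        have h2 : Module.finrank F (M ⧸ N.restrictScalars F) = Module.finrank F (M ⧸ N) :=
          (Submodule.Quotient.restrictScalarsEquiv F N).finrank_eq
        let φ : ↥N ≃ₗ[F] ↥(N.restrictScalars F) :=
          { toFun := fun x => ⟨x.1, x.2⟩
            invFun := fun x => ⟨x.1, x.2⟩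
            map_add' := fun _ _ => rfl
            map_smul' := fun _ _ => rfl
            left_inv := fun _ => rfl
            right_inv := fun _ => rfl }
        have h3 : Module.finrank F ↥N = Module.finrank F ↥(N.restrictScalars F) := φ.finrank_eq
        omega
      have hrpos : 0 < Module.finrank F (M ⧸ N) := by
        haveI : Nontrivial (M ⧸ N) := IsSimpleModule.nontrivial W (M ⧸ N)
        exact Module.finrank_pos
      obtain ⟨m', hm1, hm2⟩ := ih (Module.finrank F N) (by omega) N rfl
      have hlen : Module.length W M = Module.length W N + Module.length W (M ⧸ N) :=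
        Module.length_eq_add_of_exact N.subtype N.mkQ N.injective_subtype N.mkQ_surjective
          (LinearMap.exact_subtype_mkQ N)
      refine ⟨m' + 1, ?_, ?_⟩
      · rw [hlen, hm1, Module.length_eq_one]; push_cast; rfl
      · rw [← hn, hadd, hm2, hq]; ring

theorem length_dvd_of_radicial (P T : Type*) [CommRing P] [CommRing T] [Algebra P T] [IsReduced P]
    [Module.Free P T] [Module.Finite P T] (p : ℕ) (hp : 0 < p)
    (H : ∀ t : T, ∃ N : ℕ, t ^ p ^ N ∈ (algebraMap P T).range)
    (q : Ideal T) [hqp : q.IsPrime] (hq : q ∈ minimalPrimes T) :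
    ∃ m : ℕ, Module.length (Localization.AtPrime q) (Localization.AtPrime q) = m ∧
      m ∣ Module.finrank P T := by
  haveI hq0p : (q.under P).IsPrime := inferInstance
  have hq0 : q.under P ∈ minimalPrimes P := by
    refine ⟨⟨hq0p, bot_le⟩, fun p0 hp0 hle => ?_⟩
    haveI := hp0.1
    obtain ⟨Q, hQle, hQp, hQo⟩ :=
      Ideal.exists_ideal_le_liesOver_of_le (p := p0) (q := q.under P) q hle
    have h1 : q ≤ Q := hq.2 ⟨hQp, bot_le⟩ hQle
    rw [hQo.over]
    exact Ideal.comap_mono h1
  haveI : Ring.KrullDimLE 0 (Localization.AtPrime (q.under P)) :=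
    Ring.KrullDimLE.of_isLocalization (q.under P) hq0 _
  have hfield : IsField (Localization.AtPrime (q.under P)) :=
    Ring.KrullDimLE.isField_of_isReduced
  have hle : Algebra.algebraMapSubmonoid T (q.under P).primeCompl ≤ q.primeCompl := by
    rintro _ ⟨a, ha, rfl⟩
    exact ha
  have hdvd : ∀ t ∈ q.primeCompl,
      ∃ m ∈ Algebra.algebraMapSubmonoid T (q.under P).primeCompl, t ∣ m := by
    intro t ht
    obtain ⟨N, b, hb⟩ := H t
    refine ⟨t ^ p ^ N, ⟨b, ?_, hb⟩, dvd_pow_self t (pow_ne_zero N hp.ne')⟩
    intro hbq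
    have h2 : t ^ p ^ N ∈ q := by rw [← hb]; exact hbq
    exact ht (hqp.mem_of_pow_mem _ h2)
  haveI hloc : IsLocalization q.primeCompl
      (Localization (Algebra.algebraMapSubmonoid T (q.under P).primeCompl)) :=
    IsLocalization.of_le_of_exists_dvd _ q.primeCompl hle hdvd
  haveI : IsLocalRing (Localization (Algebra.algebraMapSubmonoid T (q.under P).primeCompl)) :=
    IsLocalization.AtPrime.isLocalRing _ q
  have hfr : Module.finrank (Localization.AtPrime (q.under P))
      (Localization (Algebra.algebraMapSubmonoid T (q.under P).primeCompl)) =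
      Module.finrank P T :=
    Module.finrank_of_isLocalizedModule_of_free (Localization.AtPrime (q.under P))
      (q.under P).primeCompl
      (IsScalarTower.toAlgHom P T
        (Localization (Algebra.algebraMapSubmonoid T (q.under P).primeCompl))).toLinearMap
  letI : Field (Localization.AtPrime (q.under P)) := hfield.toField
  obtain ⟨m, hm1, hm2⟩ := length_mul_finrank_residue (Localization.AtPrime (q.under P))
    (Localization (Algebra.algebraMapSubmonoid T (q.under P).primeCompl))
    (Localization (Algebra.algebraMapSubmonoid T (q.under P).primeCompl))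
  let e : Localization.AtPrime q ≃ₐ[T]
      Localization (Algebra.algebraMapSubmonoid T (q.under P).primeCompl) :=
    IsLocalization.algEquiv q.primeCompl _ _
  refine ⟨m, ?_, ?_⟩
  · rw [length_self_of_ringEquiv e.toRingEquiv, hm1]
  · rw [← hfr, hm2]; exact dvd_mul_right m _

theorem main_aux (k E L K : Type u) [Field k] [Field E] [Field L] [Field K] [Algebra k E]
    [Algebra E L] [Algebra k L] [IsScalarTower k E L] [Algebra k K] [FiniteDimensional E L]
    [IsPurelyInseparable E L] [IsReduced (E ⊗[k] K)] (p : ℕ) [ExpChar k p]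
    (q : Ideal (K ⊗[k] L)) [hqp : q.IsPrime] (hq : q ∈ minimalPrimes (K ⊗[k] L)) :
    ∃ n : ℕ, Module.length (Localization.AtPrime q) (Localization.AtPrime q) = (p ^ n : ℕ) := by
  haveI : ExpChar E p := expChar_of_injective_algebraMap (algebraMap k E).injective p
  obtain ⟨a, ha⟩ := IsPurelyInseparable.finrank_eq_pow (F := E) L p
  have hpm : ∀ l : L, ∃ n : ℕ, l ^ p ^ n ∈ (algebraMap E L).range :=
    fun l => IsPurelyInseparable.pow_mem E p l
  haveI : Nontrivial (K ⊗[k] L) := by
    refine ⟨⟨0, 1, fun h => hqp.ne_top ?_⟩⟩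
    rw [Ideal.eq_top_iff_one, ← h]; exact q.zero_mem
  let Φ : (E ⊗[k] K) ⊗[E] L ≃+* K ⊗[k] L :=
    ((Algebra.TensorProduct.comm E (E ⊗[k] K) L).toRingEquiv.trans
      (Algebra.TensorProduct.cancelBaseChange k E E L K).toRingEquiv).trans
      (Algebra.TensorProduct.comm k L K).toRingEquiv
  letI algPT : Algebra (E ⊗[k] K) (K ⊗[k] L) :=
    (Φ.toRingHom.comp (algebraMap (E ⊗[k] K) ((E ⊗[k] K) ⊗[E] L))).toAlgebra
  have hform : ∀ (c : E) (x : K),
      algebraMap (E ⊗[k] K) (K ⊗[k] L) (c ⊗ₜ[k] x) = x ⊗ₜ[k] (algebraMap E L c) := by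
    intro c x
    show Φ ((c ⊗ₜ[k] x) ⊗ₜ[E] (1 : L)) = _
    simp [Φ, Algebra.smul_def]
  let Φl : ((E ⊗[k] K) ⊗[E] L) ≃ₗ[E ⊗[k] K] (K ⊗[k] L) :=
    { Φ.toAddEquiv with
      map_smul' := fun a x => by
        show Φ (a • x) = a • Φ x
        have h1 : a • x = algebraMap (E ⊗[k] K) ((E ⊗[k] K) ⊗[E] L) a * x :=
          Algebra.smul_def a x
        rw [h1, map_mul, Algebra.smul_def]
        rfl }
  haveI : Module.Free (E ⊗[k] K) (K ⊗[k] L) := Module.Free.of_equiv Φl
  haveI : Module.Finite (E ⊗[k] K) (K ⊗[k] L) := Module.Finite.equiv Φl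
  haveI : Nontrivial (E ⊗[k] K) :=
    RingHom.domain_nontrivial (algebraMap (E ⊗[k] K) (K ⊗[k] L))
  have hrank : Module.finrank (E ⊗[k] K) (K ⊗[k] L) = Module.finrank E L := by
    rw [← Φl.finrank_eq]; exact Module.finrank_baseChange
  haveI : ExpChar (K ⊗[k] L) p :=
    expChar_of_injective_algebraMap (algebraMap k (K ⊗[k] L)).injective p
  have H : ∀ t : K ⊗[k] L, ∃ N : ℕ, t ^ p ^ N ∈ (algebraMap (E ⊗[k] K) (K ⊗[k] L)).range := by
    intro t
    induction t using TensorProduct.induction_on with
    | zero => exact ⟨0, 0, by simp⟩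
    | tmul x l =>
      obtain ⟨N, c, hc⟩ := hpm l
      refine ⟨N, c ⊗ₜ[k] (x ^ p ^ N), ?_⟩
      rw [hform, Algebra.TensorProduct.tmul_pow, ← hc]
    | add t1 t2 h1 h2 =>
      obtain ⟨N1, a1, ha1⟩ := h1
      obtain ⟨N2, a2, ha2⟩ := h2
      have e1 : (t1 ^ p ^ N1) ^ p ^ N2 = t1 ^ p ^ (N1 + N2) := by rw [← pow_mul, ← pow_add]
      have e2 : (t2 ^ p ^ N2) ^ p ^ N1 = t2 ^ p ^ (N1 + N2) := by
        rw [← pow_mul, ← pow_add, Nat.add_comm]
      refine ⟨N1 + N2, a1 ^ p ^ N2 + a2 ^ p ^ N1, ?_⟩
      rw [add_pow_expChar_pow, map_add, map_pow, map_pow, ha1, ha2, e1, e2]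
  have hppos : 0 < p := expChar_pos k p
  obtain ⟨m, hm1, hm2⟩ := length_dvd_of_radicial (E ⊗[k] K) (K ⊗[k] L) p hppos H q hq
  rw [hrank, ha] at hm2
  rcases expChar_is_prime_or_one k p with hp | hp1
  · obtain ⟨j, -, rfl⟩ := (Nat.dvd_prime_pow hp).mp hm2
    exact ⟨j, hm1⟩
  · subst hp1
    rw [one_pow] at hm2
    have h1 : m = 1 := Nat.dvd_one.mp hm2
    exact ⟨0, by rw [hm1, h1]; simp⟩

theorem main (k K L : Type u) [Field k] [Field K] [Field L] [Algebra k K] [Algebra k L]
    (hL : (⊤ : IntermediateField k L).FG) (p : ℕ) [ExpChar k p] (q : Ideal (K ⊗[k] L))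
    [hqp : q.IsPrime] (hq : q ∈ minimalPrimes (K ⊗[k] L)) :
    ∃ n : ℕ, Module.length (Localization.AtPrime q) (Localization.AtPrime q) = (p ^ n : ℕ) := by
  obtain ⟨s, hs⟩ := exists_isTranscendenceBasis k L
  let F : IntermediateField k L := IntermediateField.adjoin k (Set.range ((↑) : s → L))
  haveI : Algebra.IsAlgebraic F L := hs.isAlgebraic_field
  let E : IntermediateField F L := separableClosure F L
  haveI : Algebra.IsSeparable F E := inferInstance
  haveI : IsPurelyInseparable E L := inferInstance
  haveI : IsScalarTower k F E := by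
    refine IsScalarTower.of_algebraMap_eq (fun x => ?_)
    apply Subtype.ext
    show ((algebraMap k ↥E) x : L) = ((algebraMap ↥F ↥E) ((algebraMap k ↥F) x) : L)
    simp
    rfl
  haveI : IsScalarTower k E L := IsScalarTower.of_algebraMap_eq (fun x => rfl)
  have e : FractionRing (MvPolynomial s k) ≃ₐ[k] F := hs.1.aevalEquivField
  have hD : IsDomain (F ⊗[k] K) := by
    haveI := Groth.Agent.Lib.Helper9.SepGen.isDomain_fractionRing_tensor k K s
    let g : F ⊗[k] K ≃ₐ[k] FractionRing (MvPolynomial s k) ⊗[k] K :=
      (Algebra.TensorProduct.congr e AlgEquiv.refl).symm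
    exact g.injective.isDomain g
  haveI : IsReduced (E ⊗[k] K) :=
    Groth.Agent.Lib.Helper9.SepGen.isReduced_tensor_of_tower k F E K hD
  haveI : FiniteDimensional F L := by
    obtain ⟨t, ht⟩ := hL
    have htop : IntermediateField.adjoin F (↑t : Set L) = ⊤ := by
      rw [eq_top_iff]
      intro x _
      have h1 : IntermediateField.adjoin k (↑t : Set L) ≤
          (IntermediateField.adjoin F (↑t : Set L)).restrictScalars k :=
        IntermediateField.adjoin_le_iff.mpr (fun y hy => IntermediateField.subset_adjoin F _ hy)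
      have h2 : x ∈ IntermediateField.adjoin k (↑t : Set L) := by rw [ht]; trivial
      exact h1 h2
    have h1 : FiniteDimensional F (IntermediateField.adjoin F (↑t : Set L)) :=
      IntermediateField.finiteDimensional_adjoin
        (fun x _ => (Algebra.IsAlgebraic.isAlgebraic x).isIntegral)
    rw [htop] at h1
    exact (IntermediateField.topEquiv (F := F) (E := L)).toLinearEquiv.finiteDimensional
  haveI : FiniteDimensional E L := inferInstance
  exact main_aux k E L K p q hq

end Groth.Agent.Lib.Helper26.TensorFieldLen
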