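import Groth.Agent.Lib.Helper26.ThickQA
import Groth.Agent.Lib.Helper26.AmpleLimRel

/-!
# Ampleness along thickenings

Let `t : Z ⟶ X` be a thickening (closed immersion, homeomorphism) and `L` an invertible module on
`X`.  If `t^*L` is ample then `L` is ample.  The proof lifts a power of a section `s'` of
`(t^*L)^d` with `Z_{s'}` affine to a section of a power of `L`, by induction over trivialising
affine charts, using the algebraic binomial trick of `ThickQA`.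
-/

set_option autoImplicit false
set_option linter.style.haveILetI false
universe u
open CategoryTheory CategoryTheory.Limits AlgebraicGeometry TopologicalSpace Opposite
open Scheme.Modules

namespace Groth.Agent.Lib.Helper26.ThickAmple

open Groth.Agent.Lib.Helper3 Groth.Agent.Lib.Helper3.QCSec Groth.Agent.Lib.Helper3.InvGen
  Groth.Agent.Lib.Helper3.InvTensor Groth.Agent.Lib.Helper3.InvMonoidal
  Groth.Agent.Lib.Helper3.InvAmple Groth.Agent.Lib.Helper3.PbBasic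
open Groth.Agent.Lib.Helper28 Groth.Agent.Lib.Helper26

section Glue

variable {X : Scheme.{u}}

/-- gluing of two sections of a module -/
theorem sec_glue₂ (M : X.Modules) {P U : X.Opens} (a : Γ(M, P)) (b : Γ(M, U))
    (h : res M (inf_le_left : P ⊓ U ≤ P) a = res M (inf_le_right : P ⊓ U ≤ U) b) :
    ∃ c : Γ(M, P ⊔ U), res M (le_sup_left : P ≤ P ⊔ U) c = a ∧
      res M (le_sup_right : U ≤ P ⊔ U) c = b := by
  let W : ULift.{u} Bool → X.Opens := fun i => cond i.down P U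
  have hW : ∀ i, W i ≤ P ⊔ U := by
    rintro ⟨_ | _⟩
    · exact le_sup_right
    · exact le_sup_left
  have hcov : P ⊔ U ≤ ⨆ i, W i :=
    sup_le (le_iSup W ⟨true⟩) (le_iSup W ⟨false⟩)
  let s : ∀ i, Γ(M, W i) := fun i => match i with
    | ⟨true⟩ => a
    | ⟨false⟩ => b
  obtain ⟨c, hc⟩ := sec_glue M W (P ⊔ U) hW hcov s (by
    rintro ⟨_ | _⟩ ⟨_ | _⟩
    · rfl
    · have h1 := congrArg (res M (le_of_eq (inf_comm U P))) h
      rw [res_res, res_res] at h1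
      exact h1.symm
    · exact h
    · rfl)
  exact ⟨c, hc ⟨true⟩, hc ⟨false⟩⟩

/-- `M`-th power of a section of `L^k`, as a section of `L^(k*M)` -/
noncomputable def pw (L : X.Modules) (k M : ℕ) {P : X.Opens} (ρ : Γ(CohB1.tensorPow L k, P)) :
    Γ(CohB1.tensorPow L (k * M), P) :=
  (powMul L k M).hom.app P (lpow (CohB1.tensorPow L k) ρ M)

theorem res_pw (L : X.Modules) (k M : ℕ) {U P : X.Opens} (h : U ≤ P)
    (ρ : Γ(CohB1.tensorPow L k, P)) :
    res _ h (pw L k M ρ) = pw L k M (res _ h ρ) := by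
  unfold pw
  rw [← QCExact.app_res', lpow_res]

theorem pw_smul_lpow (L : X.Modules) (k M : ℕ) {U : X.Opens} (a : Γ(X, U)) (e : Γ(L, U)) :
    pw L k M (a • lpow L e k) = a ^ M • lpow L e (k * M) := by
  unfold pw
  rw [lpow_smul, Scheme.Modules.Hom.app_smul, powMul_hom_lpow]

theorem resX (L : X.Modules) {k : ℕ} {U' U P : X.Opens} (hU'U : U' ≤ U) (hUP : U ≤ P)
    {ρ : Γ(CohB1.tensorPow L k, P)} {e : Γ(L, U)} {a : Γ(X, U)}
    (h : res _ hUP ρ = a • lpow L e k) :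
    res _ (hU'U.trans hUP) ρ = rres X hU'U a • lpow L (res L hU'U e) k := by
  rw [← res_res _ hU'U hUP, h, res_smul, lpow_res]

end Glue

section Main

variable {Z X : Scheme.{u}} (t : Z ⟶ X) (L : X.Modules) {d : ℕ}
  (s' : Coh.structureModule Z ⟶ CohB1.tensorPow ((Scheme.Modules.pullback t).obj L) d)

theorem resZ {U' U : X.Opens} (hU'U : U' ≤ U) {e : Γ(L, U)} {b : Γ(Z, t ⁻¹ᵁ U)}
    (h : sec s' (t ⁻¹ᵁ U) = b • lpow _ (pull t L U e) d) :
    sec s' (t ⁻¹ᵁ U') = rres Z (t.preimage_mono hU'U) b •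
      lpow _ (pull t L U' (res L hU'U e)) d := by
  rw [← res_sec s' (t.preimage_mono hU'U), h, res_smul, lpow_res, res_pull t L hU'U e]

/-- change of generator -/
theorem chart_change {U : X.Opens} {e₁ e₂ : Γ(L, U)} (h₁ : IsGen L U e₁) (h₂ : IsGen L U e₂)
    {k N : ℕ} (hk : k = d * N) {ρ : Γ(CohB1.tensorPow L k, U)} {a₁ a₂ : Γ(X, U)}
    (hρ₁ : ρ = a₁ • lpow L e₁ k) (hρ₂ : ρ = a₂ • lpow L e₂ k)
    {τ : Γ(CohB1.tensorPow ((Scheme.Modules.pullback t).obj L) d, t ⁻¹ᵁ U)}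
    {b₁ b₂ : Γ(Z, t ⁻¹ᵁ U)}
    (hτ₁ : τ = b₁ • lpow _ (pull t L U e₁) d) (hτ₂ : τ = b₂ • lpow _ (pull t L U e₂) d)
    (h : t.app U a₁ = b₁ ^ N) : t.app U a₂ = b₂ ^ N := by
  obtain ⟨u, hu, hue⟩ := h₁.self.exists_unit h₂.self
  have hl : lpow L e₂ k = u ^ k • lpow L e₁ k := by rw [hue, lpow_smul]
  have ha : a₁ = a₂ * u ^ k := (isGen_lpow h₁ k).self.smul_inj (by
    rw [← hρ₁, hρ₂, hl, mul_smul])
  have hp : pull t L U e₂ = t.app U u • pull t L U e₁ := by rw [hue, pull_smul]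
  have hl' : lpow _ (pull t L U e₂) d = (t.app U u) ^ d • lpow _ (pull t L U e₁) d := by
    rw [hp, lpow_smul]
  have hb : b₁ = b₂ * (t.app U u) ^ d := (isGen_lpow (isGen_pull t h₁) d).self.smul_inj (by
    rw [← hτ₁, hτ₂, hl', mul_smul])
  have hunit : IsUnit (t.app U u) := hu.map _
  have h1 : t.app U a₂ * (t.app U u) ^ k = b₂ ^ N * (t.app U u) ^ k := by
    calc t.app U a₂ * (t.app U u) ^ k = t.app U (a₂ * u ^ k) := by rw [map_mul, map_pow]
      _ = t.app U a₁ := by rw [ha]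
      _ = b₁ ^ N := h
      _ = (b₂ * (t.app U u) ^ d) ^ N := by rw [hb]
      _ = b₂ ^ N * (t.app U u) ^ k := by rw [mul_pow, ← pow_mul, hk]
  exact (hunit.pow k).mul_left_injective h1

/-- the local chart invariant -/
abbrev Inv (k N : ℕ) {P : X.Opens} (ρ : Γ(CohB1.tensorPow L k, P)) : Prop :=
  ∀ x ∈ P, ∃ (U : X.Opens) (hUP : U ≤ P) (e : Γ(L, U)) (a : Γ(X, U)) (b : Γ(Z, t ⁻¹ᵁ U)),
    x ∈ U ∧ IsGen L U e ∧ res _ hUP ρ = a • lpow L e k ∧
      sec s' (t ⁻¹ᵁ U) = b • lpow _ (pull t L U e) d ∧ t.app U a = b ^ N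

theorem inv_apply {k N : ℕ} (hk : k = d * N) {P : X.Opens} {ρ : Γ(CohB1.tensorPow L k, P)}
    (hInv : Inv t L s' k N ρ) {V : X.Opens} (hVP : V ≤ P) {e : Γ(L, V)} (hg : IsGen L V e)
    {a : Γ(X, V)} {b : Γ(Z, t ⁻¹ᵁ V)} (ha : res _ hVP ρ = a • lpow L e k)
    (hb : sec s' (t ⁻¹ᵁ V) = b • lpow _ (pull t L V e) d) : t.app V a = b ^ N := by
  choose U hUP e' a' b' hxU hg' ha' hb' hab' using hInv
  refine fun_eq_of_locally_eq (X := Z) (fun x : V => t ⁻¹ᵁ (U x.1 (hVP x.2) ⊓ V)) (t ⁻¹ᵁ V)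
    (fun x => t.preimage_mono inf_le_right) ?_ _ _ ?_
  · intro z hz
    exact Opens.mem_iSup.mpr ⟨⟨t z, hz⟩, ⟨hxU _ _, hz⟩⟩
  · intro x
    have h1 := resX L (inf_le_left : U x.1 (hVP x.2) ⊓ V ≤ U x.1 (hVP x.2))
      (hUP x.1 (hVP x.2)) (ha' x.1 (hVP x.2))
    have h2 := resX L (inf_le_right : U x.1 (hVP x.2) ⊓ V ≤ V) hVP ha
    have h3 := resZ t L s' (inf_le_left : U x.1 (hVP x.2) ⊓ V ≤ U x.1 (hVP x.2))
      (hb' x.1 (hVP x.2))
    have h4 := resZ t L s' (inf_le_right : U x.1 (hVP x.2) ⊓ V ≤ V) hb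
    have h5 : t.app _ (rres X (inf_le_left : U x.1 (hVP x.2) ⊓ V ≤ U x.1 (hVP x.2))
        (a' x.1 (hVP x.2))) =
        (rres Z (t.preimage_mono (inf_le_left : U x.1 (hVP x.2) ⊓ V ≤ U x.1 (hVP x.2)))
          (b' x.1 (hVP x.2))) ^ N := by
      rw [Thick.app_res t inf_le_left, hab', map_pow]
    have h6 := chart_change t L ((hg' x.1 (hVP x.2)).mono inf_le_left) (hg.mono inf_le_right)
      hk h1 h2 h3 h4 h5
    have h7 := Thick.app_res t (inf_le_right : U x.1 (hVP x.2) ⊓ V ≤ V) a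
    exact h7.symm.trans (h6.trans (map_pow _ _ _).symm)

/-- the statement carried through the induction -/
abbrev Q (P : X.Opens) : Prop :=
  ∃ (k N : ℕ) (ρ : Γ(CohB1.tensorPow L k, P)), 0 < N ∧ k = d * N ∧ Inv t L s' k N ρ

theorem Q_mono {P' P : X.Opens} (h : P' ≤ P) (hQ : Q t L s' P) : Q t L s' P' := by
  obtain ⟨k, N, ρ, hN, hk, hInv⟩ := hQ
  refine ⟨k, N, res _ h ρ, hN, hk, fun x hx => ?_⟩
  obtain ⟨U, hUP, e, a, b, hxU, hg, ha, hb, hab⟩ := hInv x (h hx)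
  refine ⟨U ⊓ P', inf_le_right, res L inf_le_left e, rres X inf_le_left a,
    rres Z (t.preimage_mono inf_le_left) b, ⟨hxU, hx⟩, hg.mono inf_le_left, ?_,
    resZ t L s' inf_le_left hb, ?_⟩
  · rw [res_res]
    exact resX L inf_le_left hUP ha
  · rw [Thick.app_res t inf_le_left, hab, map_pow]

theorem Q_base [IsClosedImmersion t] {W U₀ : X.Opens} (hWa : IsAffineOpen W) (hWU : W ≤ U₀)
    {e₀ : Γ(L, U₀)} (hg₀ : IsGen L U₀ e₀) : Q t L s' W := by
  have hgW := hg₀.mono hWU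
  obtain ⟨b₀, hb₀⟩ := (isGen_lpow (isGen_pull t hgW) d).self.exists_coord (sec s' (t ⁻¹ᵁ W))
  obtain ⟨a₀, ha₀⟩ := t.app_surjective W hWa b₀
  refine ⟨d, 1, a₀ • lpow L (res L hWU e₀) d, one_pos, (mul_one d).symm, fun x hx => ?_⟩
  exact ⟨W, le_rfl, res L hWU e₀, a₀, b₀, hx, hgW, res_self _ _ _, hb₀.symm, by
    rw [pow_one]; exact ha₀⟩

theorem Q_step [IsClosedImmersion t] [QuasiSeparatedSpace X] (ht : Function.Surjective t)
    {P U : X.Opens} (hP : IsCompact (P : Set X)) (hGP : CohB1.genLocus _ s' ≤ t ⁻¹ᵁ P)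
    (hU : IsAffineOpen U) {eU : Γ(L, U)} (hgU : IsGen L U eU) (hQ : Q t L s' P) :
    Q t L s' (P ⊔ U) := by
  obtain ⟨k, N, ρ, hN, hk, hInv⟩ := hQ
  obtain ⟨bU, hbU⟩ := (isGen_lpow (isGen_pull t hgU) d).self.exists_coord (sec s' (t ⁻¹ᵁ U))
  obtain ⟨h, hh⟩ := t.app_surjective U hU bU
  have hVU : P ⊓ U ≤ U := inf_le_right
  have hVP : P ⊓ U ≤ P := inf_le_left
  have hV : IsCompact ((P ⊓ U : X.Opens) : Set X) :=
    QuasiSeparatedSpace.inter_isCompact _ _ P.2 hP U.2 hU.isCompact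
  have hDP : X.basicOpen h ≤ P := by
    have h1 : t ⁻¹ᵁ X.basicOpen h ≤ t ⁻¹ᵁ P := by
      rw [Scheme.preimage_basicOpen, hh,
        ← genLocus_inf_eq_basicOpen s' (isGen_lpow (isGen_pull t hgU) d) bU hbU.symm]
      exact inf_le_left.trans hGP
    intro x hx
    obtain ⟨y, rfl⟩ := ht x
    exact h1 hx
  have hDV : X.basicOpen h ≤ P ⊓ U := le_inf hDP (X.basicOpen_le h)
  obtain ⟨φ, hφ⟩ := ((isGen_lpow hgU k).mono hVU).self.exists_coord (res _ hVP ρ)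
  rw [lpow_res] at hφ
  have hφN : t.app (P ⊓ U) φ = (rres Z (t.preimage_mono hVU) bU) ^ N :=
    inv_apply t L s' hk hInv hVP (hgU.mono hVU) hφ.symm (resZ t L s' hVU hbU.symm)
  have hε0 : t.app (P ⊓ U) (φ - (rres X hVU h) ^ N) = 0 := by
    rw [map_sub, map_pow, Thick.app_res t hVU h, hh, hφN, sub_self]
  have hnil := Thick.isNilpotent_of_app_eq_zero t ht hV _ hε0
  obtain ⟨M, c, hM, hcK, hc⟩ := ThickQA.exists_pow_lift (X.presheaf.map (homOfLE hVU).op).hom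
    (RingHom.ker (t.app U).hom) (RingHom.ker (t.app (P ⊓ U)).hom) h
    (fun s hs => by
      obtain ⟨m, β, hβ0, hβ⟩ := ThickQA.exists_ker_extend t hU hVU hV h hDV s hs
      exact ⟨m, β, hβ0, hβ⟩)
    _ hε0 hnil N hN
  have hc' : rres X hVU c = φ ^ M := by
    have e : (rres X hVU h) ^ N + (φ - (rres X hVU h) ^ N) = φ := add_sub_cancel _ _
    exact hc.trans (congrArg (· ^ M) e)
  have hcU : t.app U c = bU ^ (N * M) := by
    have h0 : t.app U (c - h ^ (N * M)) = 0 := hcK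
    rw [map_sub, sub_eq_zero, map_pow, hh] at h0
    exact h0
  have hglue : res _ hVP (pw L k M ρ) = res _ hVU (c • lpow L eU (k * M)) := by
    rw [res_pw, ← hφ, pw_smul_lpow, res_smul, lpow_res, hc']
  obtain ⟨ρ', hρ'P, hρ'U⟩ := sec_glue₂ _ (pw L k M ρ) (c • lpow L eU (k * M)) hglue
  refine ⟨k * M, N * M, ρ', Nat.mul_pos hN hM, by rw [hk, Nat.mul_assoc], fun x hx => ?_⟩
  rcases hx with hxP | hxU
  · obtain ⟨U₁, hU₁P, e, a, b, hxU₁, hg, ha, hb, hab⟩ := hInv x hxP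
    refine ⟨U₁, hU₁P.trans le_sup_left, e, a ^ M, b, hxU₁, hg, ?_, hb, ?_⟩
    · rw [← res_res _ hU₁P le_sup_left, hρ'P, res_pw, ha, pw_smul_lpow]
    · rw [map_pow, hab, ← pow_mul]
  · exact ⟨U, le_sup_right, eU, c, bU, hxU, hgU, hρ'U, hbU.symm, hcU⟩

/-- **Twisted lifting.**  A power of a section of `(t^*L)^d` with affine non-vanishing locus
(contained in a trivialising open) lifts to a section of a power of `L`. -/
theorem exists_section_lift [IsClosedImmersion t] [QuasiSeparatedSpace X] [CompactSpace X]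
    (ht : Function.Surjective t) (hL : PicF.IsInvertible L) (hd : 0 < d)
    (hG : IsAffineOpen (CohB1.genLocus _ s')) {U₀ : X.Opens} {e₀ : Γ(L, U₀)}
    (hg₀ : IsGen L U₀ e₀) (hGU : CohB1.genLocus _ s' ≤ t ⁻¹ᵁ U₀) :
    ∃ (k : ℕ) (σ : Coh.structureModule X ⟶ CohB1.tensorPow L k), 0 < k ∧
      t ⁻¹ᵁ (CohB1.genLocus _ σ) = CohB1.genLocus _ s' := by
  classical
  have hhom : IsHomeomorph t := by
    rw [isHomeomorph_iff_isEmbedding_surjective]
    exact ⟨t.isClosedEmbedding.isEmbedding, ht⟩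
  obtain ⟨W, hWc⟩ : ∃ W : X.Opens, (W : Set X) = t '' (CohB1.genLocus _ s' : Set Z) :=
    ⟨⟨_, hhom.isOpenMap _ (CohB1.genLocus _ s').isOpen⟩, rfl⟩
  have hW : t ⁻¹ᵁ W = CohB1.genLocus _ s' := by
    ext x
    change t x ∈ (W : Set X) ↔ _
    rw [hWc]
    exact ⟨fun ⟨x', hx', hxx'⟩ => by rwa [← t.isClosedEmbedding.injective hxx'],
      fun hx => ⟨x, hx, rfl⟩⟩
  have hWa : IsAffineOpen W := Thick.isAffineOpen_of_preimage t ht (by rw [hW]; exact hG)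
  have hWU : W ≤ U₀ := by
    intro x hx
    obtain ⟨y, rfl⟩ := ht x
    have hy : y ∈ t ⁻¹ᵁ W := hx
    rw [hW] at hy
    exact hGU hy
  choose U e hUa hxU hgU using fun x : X => exists_affine_isGen hL x
  obtain ⟨T, hT⟩ := CompactSpace.elim_nhds_subcover (fun x => (U x : Set X))
    (fun x => (U x).2.mem_nhds (hxU x))
  have key : ∀ S : Finset X, IsCompact ((W ⊔ ⨆ x ∈ S, U x : X.Opens) : Set X) ∧
      Q t L s' (W ⊔ ⨆ x ∈ S, U x) := by
    intro S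
    induction S using Finset.induction_on with
    | empty =>
      have e0 : (W ⊔ ⨆ x ∈ (∅ : Finset X), U x) = W := by simp
      rw [e0]
      exact ⟨hWa.isCompact, Q_base t L s' hWa hWU hg₀⟩
    | insert x S hx ih =>
      have e1 : (W ⊔ ⨆ y ∈ insert x S, U y) = (W ⊔ ⨆ y ∈ S, U y) ⊔ U x := by
        rw [Finset.iSup_insert, sup_comm (U x), sup_assoc]
      rw [e1]
      refine ⟨?_, Q_step t L s' ht ih.1 ?_ (hUa x) (hgU x) ih.2⟩
      · rw [Opens.coe_sup]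
        exact ih.1.union (hUa x).isCompact
      · rw [← hW]
        exact t.preimage_mono le_sup_left
  obtain ⟨-, hQ⟩ := key T
  have htop : (⊤ : X.Opens) ≤ W ⊔ ⨆ x ∈ T, U x := by
    intro x _
    have hx : x ∈ ⋃ y ∈ T, (U y : Set X) := by rw [hT]; trivial
    obtain ⟨y, hyT, hxy⟩ := Set.mem_iUnion₂.mp hx
    exact Or.inr (Opens.mem_iSup.mpr ⟨y, Opens.mem_iSup.mpr ⟨hyT, hxy⟩⟩)
  obtain ⟨k, N, ρ, hN, hk, hInv⟩ := Q_mono t L s' htop hQ
  refine ⟨k, globalHom _ ρ, by rw [hk]; exact Nat.mul_pos hd hN, ?_⟩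
  ext z
  obtain ⟨U₁, hU₁, e₁, a, b, hzU, hg, ha, hb, hab⟩ := hInv (t z) trivial
  have h1 : CohB1.genLocus _ (globalHom _ ρ) ⊓ U₁ = X.basicOpen a :=
    genLocus_inf_eq_basicOpen _ (isGen_lpow hg k) a (by rw [sec_globalHom]; exact ha)
  have h2 : CohB1.genLocus _ s' ⊓ t ⁻¹ᵁ U₁ = Z.basicOpen b :=
    genLocus_inf_eq_basicOpen s' (isGen_lpow (isGen_pull t hg) d) b hb
  have h3 : t ⁻¹ᵁ X.basicOpen a = Z.basicOpen b := by
    rw [Scheme.preimage_basicOpen, hab, Scheme.basicOpen_pow _ _ hN]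
  constructor
  · intro hz
    have h4 : t z ∈ CohB1.genLocus _ (globalHom _ ρ) ⊓ U₁ := ⟨hz, hzU⟩
    rw [h1] at h4
    have h5 : z ∈ Z.basicOpen b := by rw [← h3]; exact h4
    rw [← h2] at h5
    exact h5.1
  · intro hz
    have h4 : z ∈ CohB1.genLocus _ s' ⊓ t ⁻¹ᵁ U₁ := ⟨hz, hzU⟩
    rw [h2, ← h3] at h4
    have h5 : t z ∈ X.basicOpen a := h4
    rw [← h1] at h5
    exact h5.1

end Main

/-- **Ampleness ascends along thickenings.** -/
theorem isAmple_of_isAmple_pullback {Z X : Scheme.{u}} (i : Z ⟶ X) [IsClosedImmersion i]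
    (hi : IsHomeomorph i.base) (L : X.Modules) (hL : PicF.IsInvertible L)
    (hA : CohB1.IsAmple ((Scheme.Modules.pullback i).obj L)) : CohB1.IsAmple L := by
  have hs : Function.Surjective i := hi.surjective
  haveI : CompactSpace Z := hA.2.1
  haveI : QuasiSeparatedSpace Z := AmpleQA.quasiSeparatedSpace_of_secLocus_cover hA.1 (fun x => by
    obtain ⟨W, hW, hx, ha⟩ := exists_secLocus_of_isAmple hA x
    exact ⟨W, hW, hx, ha.isQuasiSeparated⟩)
  haveI : CompactSpace X := hi.homeomorph.compactSpace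
  haveI : QuasiSeparatedSpace X :=
    QuasiSeparatedSpace.of_isOpenEmbedding hi.homeomorph.symm.isOpenEmbedding
  refine ⟨hL, inferInstance, fun x => ?_⟩
  obtain ⟨z, rfl⟩ := hs x
  obtain ⟨U₀, e₀, -, hzU₀, hg₀⟩ := exists_affine_isGen hL (i z)
  obtain ⟨W', ⟨n, s', rfl⟩, hzW', hW'U, hW'a⟩ := exists_secLocus_nbhd hA z (i ⁻¹ᵁ U₀) hzU₀
  obtain ⟨k, σ, hk, hσ⟩ := exists_section_lift i L s' hs hL (Nat.succ_pos n) hW'a hg₀ hW'U
  obtain ⟨m, rfl⟩ : ∃ m, k = m + 1 := ⟨k - 1, by omega⟩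
  refine ⟨m, σ, ?_, Thick.isAffineOpen_of_preimage i hs (by rw [hσ]; exact hW'a)⟩
  have hz : z ∈ i ⁻¹ᵁ CohB1.genLocus _ σ := by rw [hσ]; exact hzW'
  exact hz

end Groth.Agent.Lib.Helper26.ThickAmple
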