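import Groth.Agent.Lib.Helper28.Thick.Affine

/-!
# Lifting powers of functions along thickenings; thickenings of quasi-affine schemes

Let `t : X ⟶ X'` be a thickening (surjective closed immersion) with `X'` quasi-compact and
quasi-separated, and `g` a global function on `X` with `X_g` affine. Then some positive power of
`g` lifts to a global function on `X'`.  Consequently a thickening of a quasi-affine scheme is
quasi-affine.
-/

set_option autoImplicit false
universe u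

open CategoryTheory AlgebraicGeometry TopologicalSpace Opposite

namespace Groth.Agent.Lib.Helper26.ThickQA

open Groth.Agent.Lib.Helper28.Thick

section Alg

variable {R R' : Type*} [CommRing R] [CommRing R']

/-- Binomial trick: if `ε` is nilpotent and every element of `K'` becomes, after multiplication
by a power of `res h`, the image of an element of `K`, then a power of `res h ^ N + ε` is the image
of an element congruent to a power of `h` modulo `K`. -/
theorem exists_pow_lift (res : R →+* R') (K : Ideal R) (K' : Ideal R') (h : R)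
    (hK : ∀ s ∈ K', ∃ (m : ℕ) (β : R), β ∈ K ∧ res β = res h ^ m * s)
    (ε : R') (hε : ε ∈ K') (hnil : IsNilpotent ε) (N : ℕ) (hN : 0 < N) :
    ∃ (M : ℕ) (b : R), 0 < M ∧ b - h ^ (N * M) ∈ K ∧ res b = (res h ^ N + ε) ^ M := by
  obtain ⟨d, hd⟩ := hnil
  have hpow : ∀ i : ℕ, ε ^ (i + 1) ∈ K' := fun i =>
    Ideal.pow_mem_of_mem K' hε (i + 1) (Nat.succ_pos i)
  choose m β hβK hβ using fun i => hK _ (hpow i)
  obtain ⟨ms, hms⟩ : ∃ ms : ℕ, ∀ i < d, m i ≤ ms :=
    ⟨(Finset.range d).sup m, fun i hi => Finset.le_sup (f := m) (Finset.mem_range.mpr hi)⟩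
  obtain ⟨M, hM⟩ : ∃ M : ℕ, M = d + ms + 1 := ⟨_, rfl⟩
  have hc : ∀ i : ℕ, ∃ c : R, c ∈ K ∧
      res c = ε ^ (i + 1) * (res h ^ N) ^ (M - (i + 1)) * ((M.choose (i + 1) : ℕ) : R') := by
    intro i
    by_cases hid : d ≤ i + 1
    · refine ⟨0, K.zero_mem, ?_⟩
      have h0 : ε ^ (i + 1) = 0 := by
        rw [← Nat.sub_add_cancel hid, pow_add, hd, mul_zero]
      rw [h0, map_zero, zero_mul, zero_mul]
    · push_neg at hid
      have hmi : m i ≤ ms := hms i (by omega)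
      have hexp : m i ≤ N * (M - (i + 1)) := by
        have h1 : M - (i + 1) ≤ N * (M - (i + 1)) := Nat.le_mul_of_pos_left _ hN
        have h2 : ms ≤ M - (i + 1) := by omega
        omega
      refine ⟨h ^ (N * (M - (i + 1)) - m i) * β i * ((M.choose (i + 1) : ℕ) : R),
        K.mul_mem_right _ (K.mul_mem_left _ (hβK i)), ?_⟩
      have e1 : (res h ^ N) ^ (M - (i + 1)) =
          res h ^ (N * (M - (i + 1)) - m i) * res h ^ m i := by
        rw [← pow_mul, ← pow_add, Nat.sub_add_cancel hexp]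
      rw [map_mul, map_mul, map_pow, hβ i, map_natCast, e1]
      ring
  choose c hcK hc using hc
  refine ⟨M, h ^ (N * M) + ∑ i ∈ Finset.range M, c i, by omega, ?_, ?_⟩
  · rw [add_sub_cancel_left]
    exact K.sum_mem fun i _ => hcK i
  · rw [map_add, map_sum, map_pow, add_comm (res h ^ N) ε, add_pow, Finset.sum_range_succ']
    simp only [hc]
    have e0 : ε ^ 0 * (res h ^ N) ^ (M - 0) * ((M.choose 0 : ℕ) : R') = res h ^ (N * M) := by
      simp [pow_mul]
    rw [e0, add_comm]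

end Alg

section Geom

lemma res_res {Y : Scheme.{u}} {W₁ W₂ W₃ : Y.Opens} (h₁ : W₁ ≤ W₂) (h₂ : W₂ ≤ W₃)
    (s : Γ(Y, W₃)) :
    Y.presheaf.map (homOfLE h₁).op (Y.presheaf.map (homOfLE h₂).op s) =
      Y.presheaf.map (homOfLE (h₁.trans h₂)).op s := by
  change (Y.presheaf.map _ ≫ Y.presheaf.map _) s = _
  rw [← Functor.map_comp]
  rfl

/-- Extension lemma: a section over a quasi-compact open `V` of an affine open `U` containing
`D(h)` extends to `U` after multiplication by a power of `h`. -/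
lemma exists_extend {Y : Scheme.{u}} {U V : Y.Opens} (hU : IsAffineOpen U) (hVU : V ≤ U)
    (hV : IsCompact (V : Set Y)) (h : Γ(Y, U)) (hh : Y.basicOpen h ≤ V) (s : Γ(Y, V)) :
    ∃ (m : ℕ) (β : Γ(Y, U)), Y.presheaf.map (homOfLE hVU).op β =
      (Y.presheaf.map (homOfLE hVU).op h) ^ m * s := by
  have hDU : Y.basicOpen h ≤ U := Y.basicOpen_le h
  letI : Algebra Γ(Y, U) Γ(Y, Y.basicOpen h) := (Y.presheaf.map (homOfLE hDU).op).hom.toAlgebra
  haveI : IsLocalization.Away h Γ(Y, Y.basicOpen h) :=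
    hU.isLocalization_of_eq_basicOpen h (homOfLE hDU) rfl
  obtain ⟨⟨r, ⟨_, n, rfl⟩⟩, hr⟩ := IsLocalization.surj (Submonoid.powers h)
    (Y.presheaf.map (homOfLE hh).op s)
  have hr' : Y.presheaf.map (homOfLE hh).op s * (Y.presheaf.map (homOfLE hDU).op h) ^ n =
      Y.presheaf.map (homOfLE hDU).op r := by
    rw [← map_pow]; exact hr
  have hx0 : Y.presheaf.map (homOfLE hh).op
      (Y.presheaf.map (homOfLE hVU).op r - (Y.presheaf.map (homOfLE hVU).op h) ^ n * s) = 0 := by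
    rw [map_sub, map_mul, map_pow, res_res, res_res, ← hr']
    ring
  have hD : Y.basicOpen (Y.presheaf.map (homOfLE hVU).op h) = Y.basicOpen h := by
    rw [Scheme.basicOpen_res]; exact inf_eq_right.mpr hh
  have hx0' : ∀ (D' : Y.Opens) (_ : D' = Y.basicOpen h) (hle : D' ≤ V),
      Y.presheaf.map (homOfLE hle).op
        (Y.presheaf.map (homOfLE hVU).op r - (Y.presheaf.map (homOfLE hVU).op h) ^ n * s) = 0 := by
    rintro _ rfl hle; exact hx0
  obtain ⟨p, hp⟩ := exists_pow_mul_eq_zero_of_res_basicOpen_eq_zero_of_isCompact Y hV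
    (Y.presheaf.map (homOfLE hVU).op r - (Y.presheaf.map (homOfLE hVU).op h) ^ n * s)
    (Y.presheaf.map (homOfLE hVU).op h) (hx0' _ hD _)
  refine ⟨p + n, h ^ p * r, ?_⟩
  rw [map_mul, map_pow, pow_add, mul_assoc]
  linear_combination hp

variable {X X' : Scheme.{u}} (t : X ⟶ X')

/-- Restriction of a global section of `X` to the preimage of an open of `X'`. -/
noncomputable abbrev rT (W : X'.Opens) (a : Γ(X, ⊤)) : Γ(X, t ⁻¹ᵁ W) :=
  X.presheaf.map (homOfLE (le_top : t ⁻¹ᵁ W ≤ ⊤)).op a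

lemma rT_res {W₁ W₂ : X'.Opens} (h : W₁ ≤ W₂) (a : Γ(X, ⊤)) :
    X.presheaf.map (homOfLE (t.preimage_mono h)).op (rT t W₂ a) = rT t W₁ a := by
  change (X.presheaf.map _ ≫ X.presheaf.map _) a = _
  rw [← Functor.map_comp]
  rfl

lemma app_rT_of_lift {W₁ W₂ : X'.Opens} (h : W₁ ≤ W₂) (a : Γ(X, ⊤)) (x : Γ(X', W₂))
    (hx : t.app W₂ x = rT t W₂ a) :
    t.app W₁ (X'.presheaf.map (homOfLE h).op x) = rT t W₁ a := by
  rw [app_res t h, hx, rT_res t h]

variable [IsClosedImmersion t]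

/-- The same extension lemma inside the kernel of a closed immersion. -/
lemma exists_ker_extend {U V : X'.Opens} (hU : IsAffineOpen U) (hVU : V ≤ U)
    (hV : IsCompact (V : Set X')) (h : Γ(X', U)) (hh : X'.basicOpen h ≤ V) (s : Γ(X', V))
    (hs : t.app V s = 0) :
    ∃ (m : ℕ) (β : Γ(X', U)), t.app U β = 0 ∧ X'.presheaf.map (homOfLE hVU).op β =
      (X'.presheaf.map (homOfLE hVU).op h) ^ m * s := by
  obtain ⟨m₀, β₀, hβ₀⟩ := exists_extend hU hVU hV h hh s
  have hzero : X.presheaf.map (homOfLE (t.preimage_mono hVU)).op (t.app U β₀) = 0 := by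
    rw [← app_res t hVU, hβ₀, map_mul, hs, mul_zero]
  have hle : X.basicOpen (t.app U h) ≤ t ⁻¹ᵁ V := by
    rw [← Scheme.preimage_basicOpen]; exact t.preimage_mono hh
  have hH : X.presheaf.map (homOfLE (X.basicOpen_le (t.app U h))).op (t.app U β₀) = 0 :=
    (res_res hle (t.preimage_mono hVU) (t.app U β₀)).symm.trans (by rw [hzero, map_zero])
  obtain ⟨q, hq⟩ := exists_pow_mul_eq_zero_of_res_basicOpen_eq_zero_of_isAffineOpen X
    (hU.preimage t) (t.app U β₀) (t.app U h) hH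
  refine ⟨q + m₀, h ^ q * β₀, ?_, ?_⟩
  · rw [map_mul, map_pow]; exact hq
  · rw [map_mul, map_pow, hβ₀, pow_add, mul_assoc]

variable (ht : Function.Surjective t)

include ht in
/-- The inductive step: extend a lift of a power of `g` from a quasi-compact open `P ⊇ W` to
`P ⊔ U`, `U` affine, at the cost of raising the power. -/
lemma step [QuasiSeparatedSpace X'] (g : Γ(X, ⊤)) {P U : X'.Opens}
    (hP : IsCompact (P : Set X')) (hU : IsAffineOpen U) (hgP : X.basicOpen g ≤ t ⁻¹ᵁ P)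
    (N : ℕ) (hN : 0 < N) (ρ : Γ(X', P)) (hρ : t.app P ρ = rT t P (g ^ N)) :
    ∃ (M : ℕ) (ρ' : Γ(X', P ⊔ U)), 0 < M ∧ t.app (P ⊔ U) ρ' = rT t (P ⊔ U) (g ^ M) := by
  obtain ⟨h, hh⟩ := t.app_surjective U hU (rT t U g)
  have hVU : P ⊓ U ≤ U := inf_le_right
  have hVP : P ⊓ U ≤ P := inf_le_left
  have hV : IsCompact ((P ⊓ U : X'.Opens) : Set X') :=
    QuasiSeparatedSpace.inter_isCompact _ _ P.2 hP U.2 hU.isCompact
  have hDP : X'.basicOpen h ≤ P := by
    have h1 : t ⁻¹ᵁ X'.basicOpen h ≤ t ⁻¹ᵁ P := by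
      rw [Scheme.preimage_basicOpen, hh, Scheme.basicOpen_res]
      exact inf_le_right.trans hgP
    intro x hx
    obtain ⟨y, rfl⟩ := ht x
    exact h1 hx
  have hDV : X'.basicOpen h ≤ P ⊓ U := le_inf hDP (X'.basicOpen_le h)
  have hε0 : t.app (P ⊓ U) (X'.presheaf.map (homOfLE hVP).op ρ -
      (X'.presheaf.map (homOfLE hVU).op h) ^ N) = 0 := by
    rw [map_sub, map_pow, app_rT_of_lift t hVP (g ^ N) ρ hρ, app_rT_of_lift t hVU g h hh,
      sub_eq_zero]
    exact map_pow _ _ _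
  have hnil := isNilpotent_of_app_eq_zero t ht hV _ hε0
  obtain ⟨M, b, hM, hbK, hb⟩ := exists_pow_lift (X'.presheaf.map (homOfLE hVU).op).hom
    (RingHom.ker (t.app U).hom) (RingHom.ker (t.app (P ⊓ U)).hom) h
    (fun s hs => by
      obtain ⟨m, β, hβ0, hβ⟩ := exists_ker_extend t hU hVU hV h hDV s hs
      exact ⟨m, β, hβ0, hβ⟩)
    _ hε0 hnil N hN
  have hb' : X'.presheaf.map (homOfLE hVU).op b = (X'.presheaf.map (homOfLE hVP).op ρ) ^ M := by
    have e : (X'.presheaf.map (homOfLE hVU).op h) ^ N + (X'.presheaf.map (homOfLE hVP).op ρ -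
        (X'.presheaf.map (homOfLE hVU).op h) ^ N) = X'.presheaf.map (homOfLE hVP).op ρ :=
      add_sub_cancel _ _
    exact hb.trans (congrArg (· ^ M) e)
  have hglue : (X'.presheaf.map (homOfLE (inf_le_left : P ⊓ U ≤ P)).op).hom (ρ ^ M) =
      (X'.presheaf.map (homOfLE (inf_le_right : P ⊓ U ≤ U)).op).hom b := by
    rw [map_pow]; exact hb'.symm
  obtain ⟨s₀, hs₀⟩ : ∃ s₀ : Γ(X', P ⊔ U), s₀ = (X'.sheaf.objSupIsoProdEqLocus P U).inv
      ⟨(ρ ^ M, b), hglue⟩ := ⟨_, rfl⟩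
  have hs₀P : X'.presheaf.map (homOfLE (le_sup_left : P ≤ P ⊔ U)).op s₀ = ρ ^ M := by
    rw [hs₀]; exact X'.sheaf.objSupIsoProdEqLocus_inv_fst P U _
  have hs₀U : X'.presheaf.map (homOfLE (le_sup_right : U ≤ P ⊔ U)).op s₀ = b := by
    rw [hs₀]; exact X'.sheaf.objSupIsoProdEqLocus_inv_snd P U _
  have e1 : t.app P (ρ ^ M) = rT t P (g ^ (N * M)) := by
    rw [map_pow, hρ, pow_mul]; exact (map_pow _ _ _).symm
  have e2 : t.app U b = rT t U (g ^ (N * M)) := by
    have h0 : t.app U (b - h ^ (N * M)) = 0 := hbK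
    rw [map_sub, sub_eq_zero, map_pow, hh] at h0
    rw [h0]; exact (map_pow _ _ _).symm
  refine ⟨N * M, s₀, Nat.mul_pos hN hM, ?_⟩
  refine X.sheaf.eq_of_locally_eq₂ (homOfLE (t.preimage_mono (le_sup_left : P ≤ P ⊔ U)))
    (homOfLE (t.preimage_mono (le_sup_right : U ≤ P ⊔ U))) ?_ _ _ ?_ ?_
  · intro z hz; exact hz
  · change X.presheaf.map (homOfLE (t.preimage_mono (le_sup_left : P ≤ P ⊔ U))).op
      (t.app (P ⊔ U) s₀) = X.presheaf.map (homOfLE (t.preimage_mono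
        (le_sup_left : P ≤ P ⊔ U))).op (rT t (P ⊔ U) (g ^ (N * M)))
    rw [← app_res t (le_sup_left : P ≤ P ⊔ U), hs₀P, e1, rT_res t (le_sup_left : P ≤ P ⊔ U)]
  · change X.presheaf.map (homOfLE (t.preimage_mono (le_sup_right : U ≤ P ⊔ U))).op
      (t.app (P ⊔ U) s₀) = X.presheaf.map (homOfLE (t.preimage_mono
        (le_sup_right : U ≤ P ⊔ U))).op (rT t (P ⊔ U) (g ^ (N * M)))
    rw [← app_res t (le_sup_right : U ≤ P ⊔ U), hs₀U, e2, rT_res t (le_sup_right : U ≤ P ⊔ U)]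

include ht in
/-- **Lifting a power along a thickening.** -/
theorem exists_lift_pow [QuasiSeparatedSpace X'] [CompactSpace X'] (g : Γ(X, ⊤))
    (hg : IsAffineOpen (X.basicOpen g)) :
    ∃ (M : ℕ) (r : Γ(X', ⊤)), 0 < M ∧ t.appTop r = g ^ M := by
  have hhom : IsHomeomorph t := by
    rw [isHomeomorph_iff_isEmbedding_surjective]
    exact ⟨t.isClosedEmbedding.isEmbedding, ht⟩
  obtain ⟨W, hWc⟩ : ∃ W : X'.Opens, (W : Set X') = t '' (X.basicOpen g : Set X) :=
    ⟨⟨_, hhom.isOpenMap _ (X.basicOpen g).isOpen⟩, rfl⟩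
  have hW : t ⁻¹ᵁ W = X.basicOpen g := by
    ext x
    change t x ∈ (W : Set X') ↔ _
    rw [hWc]
    exact ⟨fun ⟨x', hx', hxx'⟩ => by rwa [← t.isClosedEmbedding.injective hxx'],
      fun hx => ⟨x, hx, rfl⟩⟩
  have hWa : IsAffineOpen W := isAffineOpen_of_preimage t ht (by rw [hW]; exact hg)
  have key : ∀ S : X'.Opens, IsCompact (S : Set X') → ∃ (M : ℕ) (ρ : Γ(X', W ⊔ S)), 0 < M ∧
      t.app (W ⊔ S) ρ = rT t (W ⊔ S) (g ^ M) := by
    intro S hS
    refine compact_open_induction_on (P := fun S : X'.Opens => ∃ (M : ℕ) (ρ : Γ(X', W ⊔ S)),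
      0 < M ∧ t.app (W ⊔ S) ρ = rT t (W ⊔ S) (g ^ M)) S hS ?_ ?_
    · obtain ⟨h₀, hh₀⟩ := t.app_surjective W hWa (rT t W g)
      refine ⟨1, X'.presheaf.map (homOfLE (sup_le le_rfl bot_le : W ⊔ ⊥ ≤ W)).op h₀, one_pos, ?_⟩
      rw [pow_one]
      exact app_rT_of_lift t _ g h₀ hh₀
    · rintro S hS U ⟨N, ρ, hN, hρ⟩
      have hPc : IsCompact ((W ⊔ S : X'.Opens) : Set X') := by
        rw [Opens.coe_sup]; exact hWa.isCompact.union hS
      obtain ⟨M, ρ', hM, hρ'⟩ := step t ht g hPc U.2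
        (by rw [← hW]; exact t.preimage_mono le_sup_left) N hN ρ hρ
      refine ⟨M, X'.presheaf.map (homOfLE (sup_assoc W S U.1).ge).op ρ', hM, ?_⟩
      exact app_rT_of_lift t _ (g ^ M) ρ' hρ'
  obtain ⟨M, ρ, hM, hρ⟩ := key ⊤ (by rw [Opens.coe_top]; exact isCompact_univ)
  refine ⟨M, X'.presheaf.map (homOfLE (le_sup_right : (⊤ : X'.Opens) ≤ W ⊔ ⊤)).op ρ, hM, ?_⟩
  have h1 := app_rT_of_lift t (le_sup_right : (⊤ : X'.Opens) ≤ W ⊔ ⊤) (g ^ M) ρ hρ
  refine h1.trans ?_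
  change X.presheaf.map (𝟙 _) (g ^ M) = g ^ M
  rw [X.presheaf.map_id]
  rfl

/-- **A thickening of a quasi-affine scheme is quasi-affine.** -/
theorem isQuasiAffine_of_thickening {Z Y : Scheme.{u}} (i : Z ⟶ Y) [IsClosedImmersion i]
    (hi : IsHomeomorph i.base) [Z.IsQuasiAffine] : Y.IsQuasiAffine := by
  have hs : Function.Surjective i := hi.surjective
  haveI : CompactSpace Y := hi.homeomorph.compactSpace
  haveI : QuasiSeparatedSpace Y :=
    QuasiSeparatedSpace.of_isOpenEmbedding hi.homeomorph.symm.isOpenEmbedding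
  refine Scheme.IsQuasiAffine.of_forall_exists_mem_basicOpen Y fun x => ?_
  obtain ⟨z, rfl⟩ := hs x
  obtain ⟨_, ⟨_, ⟨g, hg, rfl⟩, rfl⟩, hzg, -⟩ :=
    (Scheme.IsQuasiAffine.isBasis_basicOpen Z).exists_subset_of_mem_open (Set.mem_univ z)
      isOpen_univ
  obtain ⟨M, r, hM, hr⟩ := exists_lift_pow i hs g hg
  have hpre : i ⁻¹ᵁ Y.basicOpen r = Z.basicOpen g := by
    rw [Scheme.preimage_basicOpen_top, hr, Scheme.basicOpen_pow _ _ hM]
  refine ⟨r, isAffineOpen_of_preimage i hs (by rw [hpre]; exact hg), ?_⟩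
  have hz : z ∈ i ⁻¹ᵁ Y.basicOpen r := by rw [hpre]; exact hzg
  exact hz

end Geom

end Groth.Agent.Lib.Helper26.ThickQA
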