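import Groth.Agent.Lib.Helper26.ThickAmple
import Groth.Prelude.Def_MoreMor

/-!
# Relative ampleness along thickenings
-/

set_option autoImplicit false
set_option linter.style.haveILetI false
universe u
open CategoryTheory CategoryTheory.Limits AlgebraicGeometry TopologicalSpace Opposite
open Scheme.Modules

namespace Groth.Agent.Lib.Helper26.ThickRelAmple

open Groth.Agent.Lib.Helper3 Groth.Agent.Lib.Helper3.InvGen
  Groth.Agent.Lib.Helper3.InvAmple Groth.Agent.Lib.Helper3.PbBasic
  Groth.Agent.Lib.Helper3.RelAmpleLib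
open Groth.Agent.Lib.Helper28 Groth.Agent.Lib.Helper26

variable {X X' : Scheme.{u}}

theorem isHomeomorph_morphismRestrict (t : X ⟶ X') [IsClosedImmersion t]
    (ht : Function.Surjective t) (W : X'.Opens) : IsHomeomorph (t ∣_ W).base := by
  rw [isHomeomorph_iff_isEmbedding_surjective]
  exact ⟨(t ∣_ W).isClosedEmbedding.isEmbedding, Thick.morphismRestrict_surjective t ht W⟩

/-- ampleness on an open of a thickening vs. on its trace on the thin scheme -/
theorem isAmple_restrict_iff (t : X ⟶ X') [IsClosedImmersion t] (ht : Function.Surjective t)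
    (L' : X'.Modules) (hL' : PicF.IsInvertible L') (W : X'.Opens) :
    CohB1.IsAmple (L'.restrict W.ι) ↔
      CohB1.IsAmple (((Scheme.Modules.pullback t).obj L').restrict (t ⁻¹ᵁ W).ι) := by
  rw [AmpleLimRel.isAmple_restrict_iff_pullback, AmpleLimRel.isAmple_restrict_iff_pullback,
    AmpleLimRel.isAmple_pullback_square_iff (t ⁻¹ᵁ W).ι t (t ∣_ W) W.ι
      (morphismRestrict_ι t W).symm L']
  constructor
  · intro h
    exact AmpleLimRel.isAmple_pullback_of_isAffineHom (t ∣_ W) h
  · intro h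
    exact ThickAmple.isAmple_of_isAmple_pullback (t ∣_ W)
      (isHomeomorph_morphismRestrict t ht W) _ (isInvertible_pullback W.ι hL') h

/-- **Relative ampleness along a morphism of thickenings.** -/
theorem isRelAmple_thickening_iff {X X' S S' : Scheme.{u}} (iX : X ⟶ X') (iS : S ⟶ S')
    (f : X ⟶ S) (f' : X' ⟶ S') (hX : MoreMor.IsThickening iX) (hS : MoreMor.IsThickening iS)
    (w : iX ≫ f' = f ≫ iS) (L' : X'.Modules) (hL' : PicF.IsInvertible L') :
    RelAmple.IsRelAmple f' L' ↔
      RelAmple.IsRelAmple f ((Scheme.Modules.pullback iX).obj L') := by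
  obtain ⟨hXc, hXs⟩ := hX
  obtain ⟨hSc, hSs⟩ := hS
  haveI := hXc
  haveI := hSc
  have hXs' : Function.Surjective iX := hXs.surj
  have hSs' : Function.Surjective iS := hSs.surj
  have hpre : ∀ V' : S'.Opens, f ⁻¹ᵁ (iS ⁻¹ᵁ V') = iX ⁻¹ᵁ (f' ⁻¹ᵁ V') := by
    intro V'
    rw [← Scheme.Hom.comp_preimage, ← Scheme.Hom.comp_preimage, w]
  constructor
  · rintro ⟨hqc, h⟩
    haveI := hqc
    refine ⟨?_, fun V => ?_⟩
    · haveI : QuasiCompact (f ≫ iS) := by rw [← w]; infer_instance
      exact QuasiCompact.of_comp f iS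
    · have hhom : IsHomeomorph iS := by
        rw [isHomeomorph_iff_isEmbedding_surjective]
        exact ⟨iS.isClosedEmbedding.isEmbedding, hSs'⟩
      obtain ⟨V', hV'c⟩ : ∃ V' : S'.Opens, (V' : Set S') = iS '' (V.1 : Set S) :=
        ⟨⟨_, hhom.isOpenMap _ V.1.isOpen⟩, rfl⟩
      have hV' : iS ⁻¹ᵁ V' = V.1 := by
        ext x
        change iS x ∈ (V' : Set S') ↔ _
        rw [hV'c]
        exact ⟨fun ⟨x', hx', hxx'⟩ => by rwa [← iS.isClosedEmbedding.injective hxx'],
          fun hx => ⟨x, hx, rfl⟩⟩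
      have hV'a : IsAffineOpen V' :=
        Thick.isAffineOpen_of_preimage iS hSs' (by rw [hV']; exact V.2)
      have h1 := (isAmple_restrict_iff iX hXs' L' hL' (f' ⁻¹ᵁ V')).mp (h ⟨V', hV'a⟩)
      refine isAmple_restrict_of_opensRange_eq _ _ ?_ _ h1
      rw [Scheme.Opens.opensRange_ι, Scheme.Opens.opensRange_ι, ← hV', hpre]
  · rintro ⟨hqc, h⟩
    haveI := hqc
    refine ⟨?_, fun V' => ?_⟩
    · haveI : QuasiCompact (iX ≫ f') := by rw [w]; infer_instance
      refine ⟨fun U hU hUc => ?_⟩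
      have h1 : IsCompact ((iX ≫ f') ⁻¹' U) :=
        QuasiCompact.isCompact_preimage (f := iX ≫ f') U hU hUc
      have h2 : f' ⁻¹' U = iX '' ((iX ≫ f') ⁻¹' U) := by
        ext y
        constructor
        · intro hy
          obtain ⟨x, rfl⟩ := hXs' y
          exact ⟨x, by simpa using hy, rfl⟩
        · rintro ⟨x, hx, rfl⟩
          simpa using hx
      rw [h2]
      exact h1.image iX.continuous
    · have hVa : IsAffineOpen (iS ⁻¹ᵁ V'.1) := V'.2.preimage iS
      have h1 := h ⟨iS ⁻¹ᵁ V'.1, hVa⟩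
      refine (isAmple_restrict_iff iX hXs' L' hL' (f' ⁻¹ᵁ V'.1)).mpr ?_
      refine isAmple_restrict_of_opensRange_eq _ _ ?_ _ h1
      rw [Scheme.Opens.opensRange_ι, Scheme.Opens.opensRange_ι, hpre]

end Groth.Agent.Lib.Helper26.ThickRelAmple
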