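import Mathlib

/-!
# Formal smoothness / étaleness of truncations `A/Iʳ → B/IʳB` via lifting against
`Iʳ`-torsion algebras (helper26)
-/

set_option autoImplicit false
universe u

namespace Groth.Agent.Lib.Helper26.TruncFormal

variable {A : Type u} [CommRing A] (I : Ideal A) (r : ℕ) {B : Type u} [CommRing B] [Algebra A B]

lemma algHom_map_mem' (K : Ideal A) {B C : Type*} [CommRing B] [CommRing C] [Algebra A B]
    [Algebra A C] (φ : B →ₐ[A] C) {x : B} (hx : x ∈ K.map (algebraMap A B)) :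
    φ x ∈ K.map (algebraMap A C) := by
  have : (K.map (algebraMap A B)).map φ.toRingHom = K.map (algebraMap A C) := by
    rw [Ideal.map_map]
    congr 1
    exact φ.comp_algebraMap
  rw [← this]
  exact Ideal.mem_map_of_mem _ hx

/-- An `A`-algebra killed by `Iʳ` is an `A/Iʳ`-algebra. -/
@[reducible] def algQuot (E : Type u) [CommRing E] [Algebra A E]
    (hE : (I ^ r).map (algebraMap A E) = ⊥) : Algebra (A ⧸ I ^ r) E :=
  (Ideal.Quotient.lift (I ^ r) (algebraMap A E) (fun a ha => by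
      have : algebraMap A E a ∈ (I ^ r).map (algebraMap A E) := Ideal.mem_map_of_mem _ ha
      rwa [hE, Ideal.mem_bot] at this)).toAlgebra

lemma isScalarTower_algQuot (E : Type u) [CommRing E] [Algebra A E]
    (hE : (I ^ r).map (algebraMap A E) = ⊥) :
    letI := algQuot I r E hE
    IsScalarTower A (A ⧸ I ^ r) E :=
  letI := algQuot I r E hE
  IsScalarTower.of_algebraMap_eq (fun _ => rfl)

lemma algHom_eq_zero_of_mem {E : Type u} [CommRing E] [Algebra A E]
    (hE : (I ^ r).map (algebraMap A E) = ⊥) (v : B →ₐ[A] E) :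
    ∀ x ∈ (I ^ r).map (algebraMap A B), v x = 0 := by
  intro x hx
  have := algHom_map_mem' (I ^ r) v hx
  rwa [hE, Ideal.mem_bot] at this

section Forward

variable (E C : Type u) [CommRing E] [CommRing C] [Algebra A E] [Algebra A C]
  (hE : (I ^ r).map (algebraMap A E) = ⊥) (hC : (I ^ r).map (algebraMap A C) = ⊥)
  (p : E →ₐ[A] C) (hp : Function.Surjective p)
  (hnil : IsNilpotent (RingHom.ker (p : E →+* C)))

include hE hC hp hnil in
theorem exists_lift_of_formallySmooth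
    [Algebra.FormallySmooth (A ⧸ I ^ r) (B ⧸ (I ^ r).map (algebraMap A B))] (u : B →ₐ[A] C) :
    ∃ v : B →ₐ[A] E, p.comp v = u := by
  letI := algQuot I r E hE
  letI := algQuot I r C hC
  haveI := isScalarTower_algQuot I r E hE
  haveI := isScalarTower_algQuot I r C hC
  let p' : E →ₐ[A ⧸ I ^ r] C :=
    AlgHom.extendScalarsOfSurjective (R := A) (S := A ⧸ I ^ r) Ideal.Quotient.mk_surjective p
  let ū : (B ⧸ (I ^ r).map (algebraMap A B)) →ₐ[A] C :=
    Ideal.Quotient.liftₐ _ u (algHom_eq_zero_of_mem I r hC u)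
  let ū' : (B ⧸ (I ^ r).map (algebraMap A B)) →ₐ[A ⧸ I ^ r] C :=
    AlgHom.extendScalarsOfSurjective (R := A) (S := A ⧸ I ^ r) Ideal.Quotient.mk_surjective ū
  have hp' : Function.Surjective p' := hp
  have hnil' : IsNilpotent (RingHom.ker (p' : E →+* C)) := hnil
  refine ⟨((Algebra.FormallySmooth.liftOfSurjective ū' p' hp' hnil').restrictScalars A).comp
    (Ideal.Quotient.mkₐ A _), ?_⟩
  ext x
  exact Algebra.FormallySmooth.liftOfSurjective_apply ū' p' hp' hnil' (Ideal.Quotient.mk _ x)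

include hE hp hnil in
theorem lift_unique_of_formallyUnramified
    [Algebra.FormallyUnramified (A ⧸ I ^ r) (B ⧸ (I ^ r).map (algebraMap A B))]
    (hC : (I ^ r).map (algebraMap A C) = ⊥)
    (v₁ v₂ : B →ₐ[A] E) (h : p.comp v₁ = p.comp v₂) : v₁ = v₂ := by
  letI := algQuot I r E hE
  letI := algQuot I r C hC
  haveI := isScalarTower_algQuot I r E hE
  haveI := isScalarTower_algQuot I r C hC
  let p' : E →ₐ[A ⧸ I ^ r] C :=
    AlgHom.extendScalarsOfSurjective (R := A) (S := A ⧸ I ^ r) Ideal.Quotient.mk_surjective p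
  let w₁ : (B ⧸ (I ^ r).map (algebraMap A B)) →ₐ[A ⧸ I ^ r] E :=
    AlgHom.extendScalarsOfSurjective (R := A) (S := A ⧸ I ^ r) Ideal.Quotient.mk_surjective
      (Ideal.Quotient.liftₐ _ v₁ (algHom_eq_zero_of_mem I r hE v₁))
  let w₂ : (B ⧸ (I ^ r).map (algebraMap A B)) →ₐ[A ⧸ I ^ r] E :=
    AlgHom.extendScalarsOfSurjective (R := A) (S := A ⧸ I ^ r) Ideal.Quotient.mk_surjective
      (Ideal.Quotient.liftₐ _ v₂ (algHom_eq_zero_of_mem I r hE v₂))
  have hnil' : IsNilpotent (RingHom.ker (p' : E →+* C)) := hnil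
  have : w₁ = w₂ := Algebra.FormallyUnramified.lift_unique' p' hnil' w₁ w₂ (by
    ext z
    obtain ⟨x, rfl⟩ := Ideal.Quotient.mk_surjective z
    exact DFunLike.congr_fun h x)
  ext x
  exact DFunLike.congr_fun this (Ideal.Quotient.mk _ x)

end Forward

section Backward

/-- The square-zero lifting hypothesis. -/
def LiftsSq (I : Ideal A) (r : ℕ) (B : Type u) [CommRing B] [Algebra A B] : Prop :=
  ∀ (E C : Type u) [CommRing E] [CommRing C] [Algebra A E] [Algebra A C],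
    (I ^ r).map (algebraMap A E) = ⊥ → (I ^ r).map (algebraMap A C) = ⊥ →
    ∀ p : E →ₐ[A] C, Function.Surjective p → (RingHom.ker (p : E →+* C)) ^ 2 = ⊥ →
    ∀ u : B →ₐ[A] C, ∃ v : B →ₐ[A] E, p.comp v = u

/-- The square-zero uniqueness hypothesis. -/
def UniqSq (I : Ideal A) (r : ℕ) (B : Type u) [CommRing B] [Algebra A B] : Prop :=
  ∀ (E C : Type u) [CommRing E] [CommRing C] [Algebra A E] [Algebra A C],
    (I ^ r).map (algebraMap A E) = ⊥ → (I ^ r).map (algebraMap A C) = ⊥ →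
    ∀ p : E →ₐ[A] C, Function.Surjective p → (RingHom.ker (p : E →+* C)) ^ 2 = ⊥ →
    ∀ v₁ v₂ : B →ₐ[A] E, p.comp v₁ = p.comp v₂ → v₁ = v₂

variable {I r}

theorem formallySmooth_of_liftsSq (H : LiftsSq I r B) :
    Algebra.FormallySmooth (A ⧸ I ^ r) (B ⧸ (I ^ r).map (algebraMap A B)) := by
  apply Algebra.FormallySmooth.of_comp_surjective
  intro C' _ _ J hJ ū'
  letI : Algebra A C' := ((algebraMap (A ⧸ I ^ r) C').comp (Ideal.Quotient.mk (I ^ r))).toAlgebra
  haveI : IsScalarTower A (A ⧸ I ^ r) C' := IsScalarTower.of_algebraMap_eq' rfl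
  haveI : IsScalarTower A (A ⧸ I ^ r) (C' ⧸ J) := IsScalarTower.of_algebraMap_eq (fun _ => rfl)
  have hC'0 : (I ^ r).map (algebraMap A C') = ⊥ := by
    rw [eq_bot_iff, Ideal.map_le_iff_le_comap]
    intro a ha
    rw [Ideal.mem_comap, Ideal.mem_bot]
    show algebraMap (A ⧸ I ^ r) C' (Ideal.Quotient.mk _ a) = 0
    rw [Ideal.Quotient.eq_zero_iff_mem.mpr ha, map_zero]
  have hCJ0 : (I ^ r).map (algebraMap A (C' ⧸ J)) = ⊥ := by
    rw [eq_bot_iff, Ideal.map_le_iff_le_comap]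
    intro a ha
    rw [Ideal.mem_comap, Ideal.mem_bot]
    show algebraMap (A ⧸ I ^ r) (C' ⧸ J) (Ideal.Quotient.mk _ a) = 0
    rw [Ideal.Quotient.eq_zero_iff_mem.mpr ha, map_zero]
  let u : B →ₐ[A] C' ⧸ J := (ū'.restrictScalars A).comp (Ideal.Quotient.mkₐ A _)
  have hker : (RingHom.ker ((Ideal.Quotient.mkₐ A J : C' →ₐ[A] C' ⧸ J) : C' →+* C' ⧸ J)) ^ 2 = ⊥ := by
    have : RingHom.ker ((Ideal.Quotient.mkₐ A J : C' →ₐ[A] C' ⧸ J) : C' →+* C' ⧸ J) = J :=
      Ideal.mk_ker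
    rw [this]; exact hJ
  obtain ⟨v, hv⟩ := H C' (C' ⧸ J) hC'0 hCJ0 (Ideal.Quotient.mkₐ A J)
    (Ideal.Quotient.mkₐ_surjective A J) hker u
  refine ⟨AlgHom.extendScalarsOfSurjective (R := A) (S := A ⧸ I ^ r) Ideal.Quotient.mk_surjective
    (Ideal.Quotient.liftₐ _ v (algHom_eq_zero_of_mem I r hC'0 v)), ?_⟩
  ext z
  obtain ⟨x, rfl⟩ := Ideal.Quotient.mk_surjective z
  exact DFunLike.congr_fun hv x

theorem formallyUnramified_of_uniqSq (H : UniqSq I r B) :
    Algebra.FormallyUnramified (A ⧸ I ^ r) (B ⧸ (I ^ r).map (algebraMap A B)) := by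
  rw [Algebra.FormallyUnramified.iff_comp_injective]
  intro C' _ _ J hJ w₁ w₂ hw
  letI : Algebra A C' := ((algebraMap (A ⧸ I ^ r) C').comp (Ideal.Quotient.mk (I ^ r))).toAlgebra
  haveI : IsScalarTower A (A ⧸ I ^ r) C' := IsScalarTower.of_algebraMap_eq' rfl
  haveI : IsScalarTower A (A ⧸ I ^ r) (C' ⧸ J) := IsScalarTower.of_algebraMap_eq (fun _ => rfl)
  have hC'0 : (I ^ r).map (algebraMap A C') = ⊥ := by
    rw [eq_bot_iff, Ideal.map_le_iff_le_comap]
    intro a ha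
    rw [Ideal.mem_comap, Ideal.mem_bot]
    show algebraMap (A ⧸ I ^ r) C' (Ideal.Quotient.mk _ a) = 0
    rw [Ideal.Quotient.eq_zero_iff_mem.mpr ha, map_zero]
  have hCJ0 : (I ^ r).map (algebraMap A (C' ⧸ J)) = ⊥ := by
    rw [eq_bot_iff, Ideal.map_le_iff_le_comap]
    intro a ha
    rw [Ideal.mem_comap, Ideal.mem_bot]
    show algebraMap (A ⧸ I ^ r) (C' ⧸ J) (Ideal.Quotient.mk _ a) = 0
    rw [Ideal.Quotient.eq_zero_iff_mem.mpr ha, map_zero]
  have hker : (RingHom.ker ((Ideal.Quotient.mkₐ A J : C' →ₐ[A] C' ⧸ J) : C' →+* C' ⧸ J)) ^ 2 = ⊥ := by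
    have : RingHom.ker ((Ideal.Quotient.mkₐ A J : C' →ₐ[A] C' ⧸ J) : C' →+* C' ⧸ J) = J :=
      Ideal.mk_ker
    rw [this]; exact hJ
  let v₁ : B →ₐ[A] C' := (w₁.restrictScalars A).comp (Ideal.Quotient.mkₐ A _)
  let v₂ : B →ₐ[A] C' := (w₂.restrictScalars A).comp (Ideal.Quotient.mkₐ A _)
  have h12 : (Ideal.Quotient.mkₐ A J).comp v₁ = (Ideal.Quotient.mkₐ A J).comp v₂ := by
    ext x
    exact DFunLike.congr_fun hw (Ideal.Quotient.mk _ x)
  have := H C' (C' ⧸ J) hC'0 hCJ0 (Ideal.Quotient.mkₐ A J)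
    (Ideal.Quotient.mkₐ_surjective A J) hker v₁ v₂ h12
  ext z
  obtain ⟨x, rfl⟩ := Ideal.Quotient.mk_surjective z
  exact DFunLike.congr_fun this x

end Backward

end Groth.Agent.Lib.Helper26.TruncFormal
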