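import Mathlib.RingTheory.Nilpotent.Basic
import Mathlib.LinearAlgebra.FiniteDimensional.Lemmas
import Mathlib.RingTheory.PrincipalIdealDomain
import Mathlib.Algebra.Polynomial.AlgebraMap
import Mathlib.Algebra.Polynomial.RingDivision
import Mathlib.Algebra.Polynomial.Div
import Mathlib.RingTheory.Polynomial.Basic
import Mathlib.Algebra.Ring.GeomSum
import Mathlib.Algebra.Polynomial.FieldDivision
import Mathlib.RingTheory.Bezout

/-!
# Unipotent endomorphisms in characteristic zero: `ker (g^n - 1) = ker (g - 1)`
-/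

set_option autoImplicit false

universe u v

namespace Groth.Agent.Lib.Helper26.Unipotent

open Polynomial

theorem ker_pow_sub_one (K : Type u) (V : Type v) [Field K] [CharZero K]
    [AddCommGroup V] [Module K V] (g : Module.End K V) (hg : IsNilpotent (g - 1)) (n : ℕ) (hn : 0 < n) :
    LinearMap.ker (g ^ n - 1) = LinearMap.ker (g - 1) := by
  obtain ⟨m, hm⟩ := hg
  set P : K[X] := ∑ i ∈ Finset.range n, X ^ i with hP
  have hP1 : P.eval 1 = (n : K) := by
    simp [hP, Polynomial.eval_finsetSum]
  have hcop : IsCoprime P ((X - C (1 : K)) ^ m) := by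
    apply Irreducible.coprime_pow_of_not_dvd m (Polynomial.irreducible_X_sub_C (1 : K))
    rw [Polynomial.dvd_iff_isRoot, Polynomial.IsRoot, hP1]
    exact_mod_cast hn.ne'
  obtain ⟨A, B, hAB⟩ := hcop
  have h1 := congrArg (Polynomial.aeval g) hAB
  have hPg : Polynomial.aeval g P = ∑ i ∈ Finset.range n, g ^ i := by
    simp [hP, map_sum]
  have hXg : Polynomial.aeval g ((X - C (1 : K)) ^ m) = 0 := by
    rw [map_pow, map_sub, aeval_X, aeval_C, map_one, hm]
  rw [map_add, map_mul, map_mul, hXg, mul_zero, add_zero, map_one, hPg] at h1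
  -- h1 : aeval g A * ∑ g^i = 1
  have hgeom : g ^ n - 1 = (∑ i ∈ Finset.range n, g ^ i) * (g - 1) := (geom_sum_mul g n).symm
  ext v
  simp only [LinearMap.mem_ker]
  constructor
  · intro hv
    rw [hgeom, Module.End.mul_apply] at hv
    have := congrArg (Polynomial.aeval g A) hv
    rw [← Module.End.mul_apply, h1, Module.End.one_apply, map_zero] at this
    exact this
  · intro hv
    rw [hgeom, Module.End.mul_apply, hv, map_zero]

end Groth.Agent.Lib.Helper26.Unipotent
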