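import Mathlib
import Groth.Prelude

/-!
# Two permanence properties of universally submersive morphisms (helper9's requests P1, P2)
-/

set_option autoImplicit false
universe u
open CategoryTheory CategoryTheory.Limits AlgebraicGeometry TopologicalSpace

namespace Groth.Agent.Lib.Helper26.UnivSubm

/-- (P1) if `k ≫ h` is universally submersive, so is `h`. -/
theorem univSubmersive_of_comp {A B C : Scheme.{u}} (k : A ⟶ B) (h : B ⟶ C)
    (hkh : SGA1.UnivSubmersive (k ≫ h)) : SGA1.UnivSubmersive h := by
  intro B' C' i₁ i₂ h' sq
  have sq1 : IsPullback (pullback.snd k i₁) (pullback.fst k i₁) i₁ k :=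
    (IsPullback.of_hasPullback k i₁).flip
  have sq2 := sq1.paste_horiz sq
  have hq : Topology.IsQuotientMap ⇑(pullback.snd k i₁ ≫ h') := hkh _ _ _ sq2
  have hq' : Topology.IsQuotientMap (⇑h' ∘ ⇑(pullback.snd k i₁)) := by
    convert hq using 1
    ext x
    simp
  exact Topology.IsQuotientMap.of_comp (pullback.snd k i₁).continuous h'.continuous hq'

/-- (P2) universally open and surjective implies universally submersive. -/
theorem univSubmersive_of_universallyOpen_of_surjective {X Y : Scheme.{u}} (f : X ⟶ Y)
    [UniversallyOpen f] [Surjective f] : SGA1.UnivSubmersive f := by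
  intro X' Y' i₁ i₂ f' sq
  have h1 : UniversallyOpen f' := MorphismProperty.of_isPullback sq.flip inferInstance
  have h2 : Surjective f' := MorphismProperty.of_isPullback sq.flip inferInstance
  exact IsOpenMap.isQuotientMap f'.isOpenMap f'.continuous f'.surjective

end Groth.Agent.Lib.Helper26.UnivSubm
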