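import Mathlib

/-!
# Finite generation from a localization and a quotient, over a valuation ring
(helper26, sub-lemma V2 for helper27 / S15283)
-/

set_option autoImplicit false
universe u

namespace Groth.Agent.Lib.Helper26.ValFT

/-- (V2) -/
theorem finiteType_of_away_of_quotient {V W : Type u} [CommRing V] [IsDomain V] [ValuationRing V]
    [CommRing W] [IsDomain W] [Algebra V W] (hinj : Function.Injective (algebraMap V W))
    (P : Ideal W) [P.IsPrime] (s : V) (hs : algebraMap V W s ∉ P) (Wp : Type u) [CommRing Wp]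
    [Algebra W Wp] [Algebra V Wp] [IsScalarTower V W Wp]
    [IsLocalization.Away (algebraMap V W s) Wp] [Algebra.FiniteType V Wp]
    (hP : P.map (algebraMap W Wp) = (P.comap (algebraMap V W)).map (algebraMap V Wp))
    [Algebra.FiniteType V (W ⧸ P)] : Algebra.FiniteType V W := by
  classical
  set t : W := algebraMap V W s with ht
  have ht0 : t ≠ 0 := fun h0 => hs (by rw [h0]; exact P.zero_mem)
  have hιinj : Function.Injective (algebraMap W Wp) :=
    IsLocalization.injective Wp (M := Submonoid.powers t)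
      (Submonoid.powers_le.2 (mem_nonZeroDivisors_of_ne_zero ht0))
  -- generators
  obtain ⟨G, hG⟩ := (Algebra.FiniteType.out : (⊤ : Subalgebra V Wp).FG)
  obtain ⟨H', hH'⟩ := (Algebra.FiniteType.out : (⊤ : Subalgebra V (W ⧸ P)).FG)
  choose k a ha using fun z : Wp => IsLocalization.Away.surj t z
  choose l hl using fun q : W ⧸ P => Ideal.Quotient.mk_surjective q
  set W0 : Subalgebra V W := Algebra.adjoin V (a '' (↑G : Set Wp) ∪ l '' (↑H' : Set (W ⧸ P)))
    with hW0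
  have htW0 : t ∈ W0 := Subalgebra.algebraMap_mem _ s
  -- Claim 1
  have c1 : ∀ c : Wp, ∃ (K : ℕ) (b : W), b ∈ W0 ∧ c * algebraMap W Wp t ^ K = algebraMap W Wp b := by
    intro c
    have hc : c ∈ Algebra.adjoin V (↑G : Set Wp) := by rw [hG]; trivial
    induction hc using Algebra.adjoin_induction with
    | mem g hg =>
      exact ⟨k g, a g, Algebra.subset_adjoin (Or.inl ⟨g, hg, rfl⟩), ha g⟩
    | algebraMap v =>
      exact ⟨0, algebraMap V W v, Subalgebra.algebraMap_mem _ v, by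
        rw [pow_zero, mul_one, ← IsScalarTower.algebraMap_apply]⟩
    | add c₁ c₂ _ _ h₁ h₂ =>
      obtain ⟨K₁, b₁, hb₁, e₁⟩ := h₁
      obtain ⟨K₂, b₂, hb₂, e₂⟩ := h₂
      refine ⟨K₁ + K₂, b₁ * t ^ K₂ + b₂ * t ^ K₁,
        add_mem (mul_mem hb₁ (pow_mem htW0 _)) (mul_mem hb₂ (pow_mem htW0 _)), ?_⟩
      rw [map_add, map_mul, map_mul, map_pow, map_pow, ← e₁, ← e₂, pow_add]
      ring
    | mul c₁ c₂ _ _ h₁ h₂ =>
      obtain ⟨K₁, b₁, hb₁, e₁⟩ := h₁
      obtain ⟨K₂, b₂, hb₂, e₂⟩ := h₂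
      refine ⟨K₁ + K₂, b₁ * b₂, mul_mem hb₁ hb₂, ?_⟩
      rw [map_mul, ← e₁, ← e₂, pow_add]
      ring
  -- the prime `p` of `V`
  set p : Ideal V := P.comap (algebraMap V W) with hp
  have hsp : ∀ K : ℕ, s ^ K ∉ p := by
    intro K hK
    have : algebraMap V W (s ^ K) ∈ P := hK
    rw [map_pow] at this
    exact hs (Ideal.IsPrime.mem_of_pow_mem inferInstance K this)
  -- Claim 2a
  have c2a : ∀ (π : V), π ∈ p → ∀ c : Wp, ∃ b ∈ W0, c * algebraMap V Wp π = algebraMap W Wp b := by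
    intro π hπ c
    obtain ⟨K, b, hb, e⟩ := c1 c
    obtain ⟨ρ, hρ⟩ : s ^ K ∣ π := by
      rcases ValuationRing.dvd_total (s ^ K) π with h | h
      · exact h
      · exact absurd (Ideal.mem_of_dvd p h hπ) (hsp K)
    refine ⟨ρ • b, Subalgebra.smul_mem _ hb ρ, ?_⟩
    have h1 : algebraMap V Wp s = algebraMap W Wp t := IsScalarTower.algebraMap_apply V W Wp s
    have h2 : algebraMap W Wp (ρ • b) = algebraMap V Wp ρ * algebraMap W Wp b := by
      rw [Algebra.smul_def, map_mul, ← IsScalarTower.algebraMap_apply]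
    rw [hρ, map_mul, map_pow, h1, h2, ← e]
    ring
  -- Claim 2
  have c2 : ∀ y ∈ Ideal.map (algebraMap V Wp) p, ∀ c : Wp, ∃ b ∈ W0, c * y = algebraMap W Wp b := by
    intro y hy
    refine Submodule.span_induction (p := fun y _ => ∀ c : Wp, ∃ b ∈ W0, c * y = algebraMap W Wp b)
      ?_ ?_ ?_ ?_ hy
    · rintro _ ⟨π, hπ, rfl⟩ c
      exact c2a π hπ c
    · intro c
      exact ⟨0, zero_mem _, by rw [mul_zero, map_zero]⟩
    · intro y₁ y₂ _ _ h₁ h₂ c
      obtain ⟨b₁, hb₁, e₁⟩ := h₁ c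
      obtain ⟨b₂, hb₂, e₂⟩ := h₂ c
      exact ⟨b₁ + b₂, add_mem hb₁ hb₂, by rw [mul_add, e₁, e₂, map_add]⟩
    · intro r y _ h c
      obtain ⟨b, hb, e⟩ := h (c * r)
      exact ⟨b, hb, by rw [smul_eq_mul, ← mul_assoc, e]⟩
  have hPW0 : ∀ z ∈ P, z ∈ W0 := by
    intro z hz
    have : algebraMap W Wp z ∈ Ideal.map (algebraMap V Wp) p := by
      rw [← hP]
      exact Ideal.mem_map_of_mem _ hz
    obtain ⟨b, hb, e⟩ := c2 _ this 1
    rw [one_mul] at e
    rwa [hιinj e]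
  -- Claim 3
  have hsurj : ∀ x : W, ∃ y ∈ W0, Ideal.Quotient.mk P y = Ideal.Quotient.mk P x := by
    intro x
    have hx : Ideal.Quotient.mk P x ∈ Algebra.adjoin V (↑H' : Set (W ⧸ P)) := by rw [hH']; trivial
    generalize Ideal.Quotient.mk P x = q at hx
    induction hx using Algebra.adjoin_induction with
    | mem g hg =>
      exact ⟨l g, Algebra.subset_adjoin (Or.inr ⟨g, hg, rfl⟩), hl g⟩
    | algebraMap v =>
      exact ⟨algebraMap V W v, Subalgebra.algebraMap_mem _ v, rfl⟩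
    | add q₁ q₂ _ _ h₁ h₂ =>
      obtain ⟨y₁, hy₁, e₁⟩ := h₁
      obtain ⟨y₂, hy₂, e₂⟩ := h₂
      exact ⟨y₁ + y₂, add_mem hy₁ hy₂, by rw [map_add, e₁, e₂]⟩
    | mul q₁ q₂ _ _ h₁ h₂ =>
      obtain ⟨y₁, hy₁, e₁⟩ := h₁
      obtain ⟨y₂, hy₂, e₂⟩ := h₂
      exact ⟨y₁ * y₂, mul_mem hy₁ hy₂, by rw [map_mul, e₁, e₂]⟩
  have htop : W0 = ⊤ := by
    rw [eq_top_iff]
    intro x _
    obtain ⟨y, hy, e⟩ := hsurj x
    have hz : x - y ∈ P := by
      rw [← Ideal.Quotient.eq_zero_iff_mem, map_sub, e, sub_self]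
    have := add_mem (hPW0 _ hz) hy
    rwa [sub_add_cancel] at this
  refine ⟨Subalgebra.fg_def.2 ⟨a '' (↑G : Set Wp) ∪ l '' (↑H' : Set (W ⧸ P)), ?_, htop⟩⟩
  exact Set.Finite.union (Set.Finite.image _ G.finite_toSet) (Set.Finite.image _ H'.finite_toSet)

end Groth.Agent.Lib.Helper26.ValFT
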