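import Groth.Agent.Lib.Helper26.HenselFEtLift

/-!
# Lifting idempotents of a fibre to the integral closure (Zariski's main theorem)

* `exists_good_of_isIntegral'`: Zariski's main theorem for a finite-type algebra which is only
  quasi-finite along `V(ker π)`.
* `quasiFiniteAt_of_surjective`: quasi-finiteness at the primes of an open-closed finite piece
  of a fibre.
* `exists_good_lift`, `exists_pow_mul_mem`, `isIdempotentElem_pow_succ`, `bijective_of_good`.
-/

set_option autoImplicit false
universe u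

namespace Groth.Agent.Lib.Helper26.ZMTIdem

open Groth.Agent.Lib.Helper26.HenselEtale Groth.Agent.Lib.Helper26.HenselFEtLift

section

variable {A : Type u} [CommRing A] {A' : Type u} [CommRing A'] [Algebra A A']

lemma Good.pow_succ {r : A'} (hr : Good A r) (c : ℕ) : Good A (r ^ (c + 1)) := by
  refine ⟨hr.1.pow _, fun x => ?_⟩
  obtain ⟨m, hm⟩ := hr.2 x
  refine ⟨m, ?_⟩
  have : (r ^ (c + 1)) ^ m * x = r ^ (c * m) * (r ^ m * x) := by
    rw [← pow_mul, ← mul_assoc, ← pow_add]
    congr 2
    ring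
  rw [this]
  exact (hr.1.pow _).mul hm

/-- Zariski's main theorem: a good element mapping to `1` in an integral quotient, assuming
quasi-finiteness only at the primes containing the kernel. -/
theorem exists_good_of_isIntegral' [Algebra.FiniteType A A']
    {C : Type u} [CommRing C] [Algebra A C] [Algebra.IsIntegral A C] (π : A' →ₐ[A] C)
    (hqf : ∀ (q : Ideal A') [q.IsPrime], RingHom.ker π ≤ q → Algebra.QuasiFiniteAt A q) :
    ∃ r : A', Good A r ∧ π r = 1 := by
  let B₀ := integralClosure A A'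
  let D' : Subalgebra A C := (π.comp B₀.val).range
  let 𝔰 : Ideal D' :=
    { carrier := {d | ∃ r : A', Good A r ∧ π r = d.1}
      add_mem' := by
        rintro _ _ ⟨r, hr, h1⟩ ⟨r', hr', h2⟩
        exact ⟨r + r', hr.add hr', by rw [map_add, h1, h2]; rfl⟩
      zero_mem' := ⟨0, Good.zero, by simp⟩
      smul_mem' := by
        rintro ⟨c, b, rfl⟩ d ⟨r, hr, h1⟩
        refine ⟨b.1 * r, Good.mul_of_isIntegral hr b.2, ?_⟩
        rw [map_mul, h1]; rfl }
  suffices h : 𝔰 = ⊤ by
    have : (1 : D') ∈ 𝔰 := by rw [h]; trivial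
    obtain ⟨r, hr, h1⟩ := this
    exact ⟨r, hr, h1⟩
  by_contra hne
  obtain ⟨n', hn', hle⟩ := Ideal.exists_le_maximal 𝔰 hne
  haveI := hn'
  haveI : Algebra.IsIntegral D' C := Algebra.IsIntegral.tower_top (R := A)
  obtain ⟨n, hn, hcomap⟩ := Ideal.exists_ideal_over_maximal_of_isIntegral (S := C) n' (by
    intro x hx
    rw [RingHom.mem_ker] at hx
    have : x = 0 := Subtype.ext hx
    rw [this]; exact zero_mem _)
  haveI := hn
  let q : Ideal A' := n.comap π.toRingHom
  haveI : q.IsPrime := Ideal.comap_isPrime _ _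
  haveI : Algebra.QuasiFiniteAt A q := hqf q (fun x hx => by
    show π x ∈ n
    rw [(RingHom.mem_ker).mp hx]
    exact zero_mem _)
  obtain ⟨r, hrq, hr1, hr2⟩ :=
    Algebra.zariskisMainProperty_iff.mp (Algebra.ZariskisMainProperty.of_finiteType (R := A) q)
  apply hrq
  show π r ∈ n
  have hmem : (⟨π r, ⟨⟨r, hr1⟩, rfl⟩⟩ : D') ∈ 𝔰 := ⟨r, ⟨hr1, hr2⟩, rfl⟩
  have := hle hmem
  rw [← hcomap] at this
  exact this

end

/-- Quasi-finiteness at the primes of an open and closed finite piece `V(ker π) = D(s) ∩ V(IB)`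
of the fibres over `V(I)`. -/
theorem quasiFiniteAt_of_surjective {A B C : Type u} [CommRing A] [CommRing B] [CommRing C]
    [Algebra A B] [Algebra A C] [Algebra.FiniteType A B] [Module.Finite A C]
    (π : B →ₐ[A] C) (hπ : Function.Surjective π) (I : Ideal A) (s : B)
    (hI : I.map (algebraMap A B) ≤ RingHom.ker π)
    (hs : ∀ q₁ : Ideal B, q₁.IsPrime → I.map (algebraMap A B) ≤ q₁ → s ∉ q₁ →
      RingHom.ker π ≤ q₁)
    (hs1 : π s = 1)
    (q : Ideal B) [hqp : q.IsPrime] (hq : RingHom.ker π ≤ q) : Algebra.QuasiFiniteAt A q := by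
  classical
  have hcomap : ∀ Q : Ideal B, RingHom.ker π ≤ Q → (Q.map π).comap π = Q := by
    intro Q hQ
    rw [Ideal.comap_map_of_surjective π hπ]
    exact sup_eq_left.mpr hQ
  have hunder : ∀ Q : Ideal B, RingHom.ker π ≤ Q →
      (Q.map π).comap (algebraMap A C) = Q.comap (algebraMap A B) := by
    intro Q hQ
    ext a
    rw [Ideal.mem_comap, Ideal.mem_comap, ← π.commutes a]
    constructor
    · intro h
      have h' : algebraMap A B a ∈ (Q.map π).comap π := h
      rwa [hcomap Q hQ] at h'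
    · intro h; exact Ideal.mem_map_of_mem π h
  haveI hqbar : (q.map π).IsPrime := Ideal.map_isPrime_of_surjective hπ hq
  let p : Ideal A := q.comap (algebraMap A B)
  haveI : p.IsPrime := Ideal.comap_isPrime _ _
  haveI : (q.map π).LiesOver p := ⟨(hunder q hq).symm⟩
  obtain ⟨s', hs'q, hs'⟩ :=
    Ideal.exists_not_mem_forall_mem_of_ne_of_liesOver (R := A) p (q.map π)
  obtain ⟨t, rfl⟩ := hπ s'
  have hsq : s ∉ q := by
    intro h
    have h1 : (1 : B) - s ∈ q := hq (by rw [RingHom.mem_ker, map_sub, map_one, hs1, sub_self])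
    exact hqp.ne_top ((Ideal.eq_top_iff_one _).mpr (by simpa using q.add_mem h1 h))
  have htq : t ∉ q := fun h => hs'q (Ideal.mem_map_of_mem π h)
  have hgoal : Algebra.QuasiFiniteAt A (⟨q, hqp⟩ : PrimeSpectrum B).asIdeal := by
    refine Algebra.QuasiFiniteAt.of_isOpen_singleton_fiber (R := A)
      (⟨q, hqp⟩ : PrimeSpectrum B) ?_
    refine isOpen_induced_iff.mpr ⟨(PrimeSpectrum.basicOpen (s * t) : Set (PrimeSpectrum B)),
      (PrimeSpectrum.basicOpen (s * t)).isOpen, ?_⟩
    apply Set.ext
    rintro ⟨q₁, hq₁⟩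
    constructor
    · intro h
      have h' : s * t ∉ q₁.asIdeal := h
      have hq₁' : PrimeSpectrum.comap (algebraMap A B) q₁ =
          PrimeSpectrum.comap (algebraMap A B) ⟨q, hqp⟩ := hq₁
      have hfib : q₁.asIdeal.comap (algebraMap A B) = q.comap (algebraMap A B) :=
        congrArg PrimeSpectrum.asIdeal hq₁'
      have hs₁ : s ∉ q₁.asIdeal := fun hh => h' (Ideal.mul_mem_right _ _ hh)
      have ht₁ : t ∉ q₁.asIdeal := fun hh => h' (Ideal.mul_mem_left _ _ hh)
      have hI₁ : I.map (algebraMap A B) ≤ q₁.asIdeal := by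
        rw [Ideal.map_le_iff_le_comap, hfib]
        exact fun a ha => hq (hI (Ideal.mem_map_of_mem _ ha))
      have hk₁ : RingHom.ker π ≤ q₁.asIdeal := hs q₁.asIdeal q₁.isPrime hI₁ hs₁
      haveI hprime₁ : (q₁.asIdeal.map π).IsPrime :=
        Ideal.map_isPrime_of_surjective (H := q₁.isPrime) hπ hk₁
      have heq : q₁.asIdeal.map π = q.map π := by
        by_contra hne
        have hlo : (q₁.asIdeal.map π).LiesOver p := ⟨by
          show p = (q₁.asIdeal.map π).comap (algebraMap A C)
          rw [hunder _ hk₁, hfib]⟩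
        have hmem := hs' (q₁.asIdeal.map π) hprime₁ hne hlo
        have hmem' : t ∈ (q₁.asIdeal.map π).comap π := hmem
        rw [hcomap _ hk₁] at hmem'
        exact ht₁ hmem'
      have hfinal : q₁.asIdeal = q :=
        calc q₁.asIdeal = (q₁.asIdeal.map π).comap π := (hcomap _ hk₁).symm
          _ = (q.map π).comap π := by rw [heq]
          _ = q := hcomap _ hq
      exact Set.mem_singleton_iff.mpr (Subtype.ext (PrimeSpectrum.ext hfinal))
    · intro h
      have h' := Set.mem_singleton_iff.mp h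
      have h'' : q₁ = ⟨q, hqp⟩ := congrArg Subtype.val h'
      subst h''
      show s * t ∉ q
      exact fun hh => (hqp.mem_or_mem hh).elim hsq htq
  exact hgoal

/-- For a good element `g` of the integral closure `B'`, multiplication by a power of `g` moves
`IB ∩ B'` into `IB'`. -/
theorem exists_pow_mul_mem {A B : Type u} [CommRing A] [CommRing B] [Algebra A B] (I : Ideal A)
    (g : integralClosure A B) (hg : ∀ x : B, ∃ m : ℕ, IsIntegral A ((g : B) ^ m * x))
    (y : integralClosure A B) (hy : (y : B) ∈ I.map (algebraMap A B)) :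
    ∃ c : ℕ, g ^ c * y ∈ I.map (algebraMap A (integralClosure A B)) := by
  have key : ∀ x ∈ I.map (algebraMap A B), ∃ c : ℕ, ∀ k, c ≤ k →
      ∃ z : integralClosure A B, z ∈ I.map (algebraMap A (integralClosure A B)) ∧
        (z : B) = (g : B) ^ k * x := by
    intro x hx
    have hx' : x ∈ I • (⊤ : Submodule A B) := by
      rw [Ideal.smul_top_eq_map]; exact hx
    refine Submodule.smul_induction_on hx' ?_ ?_
    · intro a ha n _
      obtain ⟨m₀, hm₀⟩ := hg n
      refine ⟨m₀, fun k hk => ⟨algebraMap A _ a * (g ^ (k - m₀) * ⟨(g : B) ^ m₀ * n, hm₀⟩),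
        Ideal.mul_mem_right _ _ (Ideal.mem_map_of_mem _ ha), ?_⟩⟩
      have hk' : k = (k - m₀) + m₀ := by omega
      conv_rhs => rw [hk', pow_add]
      simp only [Subalgebra.coe_mul, Subalgebra.coe_pow, Subalgebra.coe_algebraMap]
      rw [Algebra.smul_def]; ring
    · rintro x y ⟨c, hc⟩ ⟨c', hc'⟩
      refine ⟨max c c', fun k hk => ?_⟩
      obtain ⟨z, hz, hzx⟩ := hc k (le_trans (le_max_left _ _) hk)
      obtain ⟨z', hz', hzy⟩ := hc' k (le_trans (le_max_right _ _) hk)
      exact ⟨z + z', Ideal.add_mem _ hz hz', by rw [Subalgebra.coe_add, hzx, hzy, mul_add]⟩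
  obtain ⟨c, hc⟩ := key _ hy
  obtain ⟨z, hz, hzy⟩ := hc c le_rfl
  refine ⟨c, ?_⟩
  have : g ^ c * y = z := Subtype.ext (by rw [hzy]; simp)
  rw [this]; exact hz

theorem isIdempotentElem_pow_succ {R : Type*} [CommRing R] (h : R) (c : ℕ)
    (hh : h ^ c * (h * h - h) = 0) : IsIdempotentElem (h ^ (c + 1)) := by
  have h1 : h ^ (c + 1) * h = h ^ (c + 1) := by
    have : h ^ (c + 1) * h - h ^ (c + 1) = h ^ c * (h * h - h) := by ring
    rw [← sub_eq_zero, this, hh]
  have h2 : ∀ k : ℕ, h ^ (c + 1) * h ^ k = h ^ (c + 1) := by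
    intro k
    induction k with
    | zero => rw [pow_zero, mul_one]
    | succ k ih => rw [pow_succ h k, ← mul_assoc, ih, h1]
  exact h2 (c + 1)

/-- For a good element `g` of the integral closure `B'`, `B'_g → B_g` is bijective. -/
theorem bijective_of_good {A B : Type u} [CommRing A] [CommRing B] [Algebra A B]
    (g : integralClosure A B) (hg : ∀ x : B, ∃ m : ℕ, IsIntegral A ((g : B) ^ m * x)) :
    Function.Bijective (algebraMap (Localization.Away g)
        (Localization (Algebra.algebraMapSubmonoid B (Submonoid.powers g)))) := by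
  constructor
  · exact localizationAlgebra_injective (R := integralClosure A B) (S := B)
      (M := Submonoid.powers g) (Localization.Away g) _ (fun x y h => Subtype.ext h)
  · intro z
    obtain ⟨b, t, hz⟩ := IsLocalization.exists_mk'_eq
      (Algebra.algebraMapSubmonoid B (Submonoid.powers g)) z
    obtain ⟨g', hg', hgt⟩ := t.2
    obtain ⟨k, hk⟩ := hg'
    have hk' : g ^ k = g' := hk
    obtain ⟨m, hm0⟩ := hg b
    have hm : (g : B) ^ m * b ∈ integralClosure A B := hm0
    refine ⟨IsLocalization.mk' (Localization.Away g)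
      (⟨(g : B) ^ m * b, hm⟩ : integralClosure A B)
      (⟨g ^ (m + k), Submonoid.pow_mem _ (Submonoid.mem_powers g) (m + k)⟩ :
        Submonoid.powers g), ?_⟩
    have key : algebraMap (Localization.Away g)
        (Localization (Algebra.algebraMapSubmonoid B (Submonoid.powers g))) =
        IsLocalization.map (Localization (Algebra.algebraMapSubmonoid B (Submonoid.powers g)))
          (algebraMap (integralClosure A B) B)
          (show Submonoid.powers g ≤
            (Algebra.algebraMapSubmonoid B (Submonoid.powers g)).comap _ from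
              (Submonoid.powers g).le_comap_map) := rfl
    rw [← hz, key, IsLocalization.map_mk', IsLocalization.mk'_eq_iff_eq]
    congr 1
    show (t : B) * ((g : B) ^ m * b) =
      algebraMap (integralClosure A B) B (g ^ (m + k)) * b
    rw [← hgt, ← hk', map_pow, map_pow, pow_add]
    show (g : B) ^ k * ((g : B) ^ m * b) = (g : B) ^ m * (g : B) ^ k * b
    ring

/-- The good lift of the idempotent. -/
theorem exists_good_lift (A B : Type u) [CommRing A] [CommRing B]
    [Algebra A B] [Algebra.FiniteType A B] (I : Ideal A) (e : B ⧸ Ideal.map (algebraMap A B) I)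
    (he : IsIdempotentElem e)
    (hfin : Module.Finite (A ⧸ I) ((B ⧸ Ideal.map (algebraMap A B) I) ⧸ Ideal.span {1 - e})) :
    ∃ g₀ : B, Good A g₀ ∧ Ideal.Quotient.mk (Ideal.map (algebraMap A B) I) g₀ = e := by
  classical
  haveI : Module.Finite A ((B ⧸ Ideal.map (algebraMap A B) I) ⧸ Ideal.span {1 - e}) :=
    Module.Finite.trans (A ⧸ I) _
  haveI : Algebra.IsIntegral A ((B ⧸ Ideal.map (algebraMap A B) I) ⧸ Ideal.span {1 - e}) :=
    Algebra.IsIntegral.of_finite A _
  let π : B →ₐ[A] ((B ⧸ Ideal.map (algebraMap A B) I) ⧸ Ideal.span {1 - e}) :=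
    (Ideal.Quotient.mkₐ A (Ideal.span {1 - e})).comp
      (Ideal.Quotient.mkₐ A (Ideal.map (algebraMap A B) I))
  have hπ : Function.Surjective π :=
    (Ideal.Quotient.mkₐ_surjective A _).comp (Ideal.Quotient.mkₐ_surjective A _)
  have hπmk : ∀ b : B, π b = Ideal.Quotient.mk (Ideal.span {1 - e})
      (Ideal.Quotient.mk (Ideal.map (algebraMap A B) I) b) := fun b => rfl
  obtain ⟨e', he'⟩ := Ideal.Quotient.mk_surjective e
  have hmk1 : Ideal.Quotient.mk (Ideal.span {1 - e}) e = 1 := by
    have h0 : Ideal.Quotient.mk (Ideal.span {1 - e}) (1 - e) = 0 :=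
      Ideal.Quotient.eq_zero_iff_mem.mpr (Ideal.mem_span_singleton_self _)
    rw [map_sub, map_one, sub_eq_zero] at h0
    exact h0.symm
  have hπe : π e' = 1 := by rw [hπmk, he', hmk1]
  have hI : I.map (algebraMap A B) ≤ RingHom.ker π := fun x hx => by
    rw [RingHom.mem_ker, hπmk, Ideal.Quotient.eq_zero_iff_mem.mpr hx, map_zero]
  have hs : ∀ q₁ : Ideal B, q₁.IsPrime → I.map (algebraMap A B) ≤ q₁ → e' ∉ q₁ →
      RingHom.ker π ≤ q₁ := by
    intro q₁ hq₁ hJ he'q x hx
    rw [RingHom.mem_ker, hπmk, Ideal.Quotient.eq_zero_iff_mem, Ideal.mem_span_singleton'] at hx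
    obtain ⟨a, ha⟩ := hx
    obtain ⟨c, rfl⟩ := Ideal.Quotient.mk_surjective a
    have h1 : e' * (1 - e') ∈ q₁ := hJ (by
      rw [← Ideal.Quotient.eq_zero_iff_mem, map_mul, map_sub, map_one, he', mul_sub, mul_one,
        he.eq, sub_self])
    have h2 : 1 - e' ∈ q₁ := (hq₁.mem_or_mem h1).resolve_left he'q
    have h3 : x - c * (1 - e') ∈ q₁ := hJ (by
      rw [← Ideal.Quotient.eq_zero_iff_mem, map_sub, map_mul, map_sub, map_one, he', ha,
        sub_self])
    have : x = (x - c * (1 - e')) + c * (1 - e') := by ring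
    rw [this]
    exact q₁.add_mem h3 (q₁.mul_mem_left _ h2)
  obtain ⟨r, hr, hπr⟩ := exists_good_of_isIntegral' π
    (fun q _ hq => quasiFiniteAt_of_surjective π hπ I e' hI hs hπe q hq)
  obtain ⟨m, hm⟩ := hr.2 e'
  refine ⟨(r ^ m * e') * r, Good.mul_of_isIntegral hr hm, ?_⟩
  have hre : Ideal.Quotient.mk (Ideal.map (algebraMap A B) I) r * e = e := by
    have h1 : Ideal.Quotient.mk (Ideal.span {1 - e})
        (Ideal.Quotient.mk (Ideal.map (algebraMap A B) I) r - 1) = 0 := by
      rw [map_sub, map_one, ← hπmk, hπr, sub_self]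
    rw [Ideal.Quotient.eq_zero_iff_mem, Ideal.mem_span_singleton'] at h1
    obtain ⟨a, ha⟩ := h1
    have : (Ideal.Quotient.mk (Ideal.map (algebraMap A B) I) r - 1) * e = 0 := by
      rw [← ha, mul_assoc, sub_mul, one_mul, he.eq, sub_self, mul_zero]
    rw [sub_mul, one_mul, sub_eq_zero] at this
    exact this
  have hpow : ∀ k : ℕ, (Ideal.Quotient.mk (Ideal.map (algebraMap A B) I) r) ^ k * e = e := by
    intro k
    induction k with
    | zero => rw [pow_zero, one_mul]
    | succ k ih => rw [pow_succ, mul_assoc, hre, ih]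
  rw [map_mul, map_mul, map_pow, he', hpow, mul_comm, hre]

end Groth.Agent.Lib.Helper26.ZMTIdem
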