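import Mathlib
import Groth.Prelude.Def_CohB1
import Groth.Agent.Lib.Helper14.Dehomog
import Groth.Agent.Lib.Helper11.ZetaLine
import Groth.Agent.Lib.Helper1.ProjSpaceFT
import Groth.Agent.S13055

set_option autoImplicit false
set_option linter.style.haveILetI false
set_option linter.unusedSectionVars false
universe u
open CategoryTheory AlgebraicGeometry MvPolynomial HomogeneousLocalization

namespace Groth.Agent.Lib.Helper26.ZetaPn

open Groth.Agent.Lib.Helper11.ZetaPts Groth.Agent.Lib.Helper14.Dehomog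

variable (n : ℕ) (k : Type u) [Field k]

theorem hX (i : Fin (n + 1)) :
    (X i : MvPolynomial (Fin (n + 1)) k) ∈ CohB1.polyGrading n k 1 :=
  MvPolynomial.isHomogeneous_X k i

theorem adjoin_X_eq_top : Algebra.adjoin (CohB1.polyGrading n k 0)
    (Set.range (MvPolynomial.X : Fin (n + 1) → MvPolynomial (Fin (n + 1)) k)) = ⊤ := by
  rw [eq_top_iff]
  rintro p -
  induction p using MvPolynomial.induction_on with
  | C c =>
    have hk : (MvPolynomial.C c : MvPolynomial (Fin (n + 1)) k) ∈ CohB1.polyGrading n k 0 :=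
      MvPolynomial.isHomogeneous_C _ c
    exact Subalgebra.algebraMap_mem _ (⟨_, hk⟩ : CohB1.polyGrading n k 0)
  | add p q hp hq => exact Subalgebra.add_mem _ hp hq
  | mul_X p i hp => exact Subalgebra.mul_mem _ hp (Algebra.subset_adjoin ⟨i, rfl⟩)

theorem exists_chart (x : Proj (CohB1.polyGrading n k)) :
    ∃ j : Fin (n + 1), x ∈ Proj.basicOpen (CohB1.polyGrading n k) (X j) := by
  have h := Proj.iSup_basicOpen_eq_top' (CohB1.polyGrading n k)
    (MvPolynomial.X : Fin (n + 1) → MvPolynomial (Fin (n + 1)) k)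
    (fun j => ⟨1, hX n k j⟩) (adjoin_X_eq_top n k)
  have h1 : x ∈ ⨆ j : Fin (n + 1), Proj.basicOpen (CohB1.polyGrading n k) (X j) := by
    rw [h]; trivial
  exact TopologicalSpace.Opens.mem_iSup.mp h1

/-- The chart inclusion `D₊(X_j) → P^n`. -/
noncomputable def chartι (j : Fin (n + 1)) :
    Spec (.of (Away (CohB1.polyGrading n k) (X j))) ⟶ CohB1.ProjSpace n k :=
  Proj.awayι (CohB1.polyGrading n k) (X j) (hX n k j) one_pos

instance (j : Fin (n + 1)) : IsOpenImmersion (chartι n k j) :=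
  inferInstanceAs (IsOpenImmersion (Proj.awayι (CohB1.polyGrading n k) (X j) (hX n k j) one_pos))

/-- The structure map `k → (A_{X_j})_0`. -/
noncomputable abbrev cj (j : Fin (n + 1)) : k →+* Away (CohB1.polyGrading n k) (X j) :=
  (fromZeroRingHom (CohB1.polyGrading n k) (Submonoid.powers (X j))).comp
    (algebraMap k (CohB1.polyGrading n k 0))

theorem chartι_toSpec (j : Fin (n + 1)) :
    chartι n k j ≫ CohB1.ProjSpace.toSpec n k = Spec.map (CommRingCat.ofHom (cj n k j)) := by
  have h : Proj.awayι (CohB1.polyGrading n k) (X j) (hX n k j) one_pos ≫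
      (Proj.toSpecZero (CohB1.polyGrading n k) ≫
      Spec.map (CommRingCat.ofHom (algebraMap k (CohB1.polyGrading n k 0)))) =
      Spec.map (CommRingCat.ofHom (cj n k j)) := by
    rw [Proj.awayι_toSpecZero_assoc, ← Spec.map_comp]
    rfl
  exact h

theorem Φ_C (j : Fin (n + 1)) (r : k) : Φ n k j (C r) = cj n k j r := by
  rw [Φ, coe_eval₂Hom, eval₂_C]

variable {n} (k' : Type u) [Field k'] [Algebra k k']

/-- `Φ` as a ring equivalence. -/
noncomputable def ΦE (j : Fin (n + 1)) :
    MvPolynomial {i : Fin (n + 1) // i ≠ j} k ≃+* Away (CohB1.polyGrading n k) (X j) :=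
  RingEquiv.ofBijective (Φ n k j) (Φ_bijective n k j)

/-- The ring map `(A_{X_j})_0 → k'` with prescribed values of the coordinates. -/
noncomputable def φv (j : Fin (n + 1)) (v : {i : Fin (n + 1) // i ≠ j} → k') :
    Away (CohB1.polyGrading n k) (X j) →+* k' :=
  (eval₂Hom (algebraMap k k') v).comp (ΦE k j).symm.toRingHom

theorem φv_Φ (j : Fin (n + 1)) (v : {i : Fin (n + 1) // i ≠ j} → k')
    (p : MvPolynomial {i : Fin (n + 1) // i ≠ j} k) :
    φv k k' j v (Φ n k j p) = eval₂Hom (algebraMap k k') v p := by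
  have h : (ΦE k j).symm (Φ n k j p) = p := (ΦE k j).symm_apply_apply p
  simp only [φv, RingHom.comp_apply, RingEquiv.toRingHom_eq_coe, RingEquiv.coe_toRingHom, h]

theorem φv_comp_cj (j : Fin (n + 1)) (v : {i : Fin (n + 1) // i ≠ j} → k') :
    (φv k k' j v).comp (cj n k j) = algebraMap k k' := by
  ext r
  rw [RingHom.comp_apply, ← Φ_C, φv_Φ, coe_eval₂Hom, eval₂_C]

/-- The `k'`-point of `P^n` in the chart `j` with coordinates `v`. -/
noncomputable def ptj (j : Fin (n + 1)) (v : {i : Fin (n + 1) // i ≠ j} → k') :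
    Pts (CohB1.ProjSpace.toSpec n k) k' :=
  ⟨Spec.map (CommRingCat.ofHom (φv k k' j v)) ≫ chartι n k j, by
    rw [Category.assoc, chartι_toSpec, ← Spec.map_comp, ← CommRingCat.ofHom_comp, φv_comp_cj]⟩

theorem ptj_injective (j : Fin (n + 1)) : Function.Injective (ptj k k' j) := by
  intro v w h
  have h1 : Spec.map (CommRingCat.ofHom (φv k k' j v)) ≫ chartι n k j =
      Spec.map (CommRingCat.ofHom (φv k k' j w)) ≫ chartι n k j := congrArg Subtype.val h
  rw [cancel_mono] at h1
  have h2 := Spec.map_injective h1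
  have h3 : φv k k' j v = φv k k' j w := by
    have := congrArg CommRingCat.Hom.hom h2
    simpa using this
  funext i
  have h4 := congrArg (fun f => f (Φ n k j (X i))) h3
  simp only [φv_Φ, coe_eval₂Hom, eval₂_X] at h4
  exact h4

theorem isLocalizationElem_eq (j : Fin (n + 1)) (i : {i : Fin (n + 1) // i ≠ j}) :
    Away.isLocalizationElem (hX n k j) (hX n k i.1) = Φ n k j (X i) := by
  apply HomogeneousLocalization.val_injective
  rw [Away.val_mk, Φ, coe_eval₂Hom, eval₂_X, HomogeneousLocalization.val_mk]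
  simp only [pow_one]

theorem ptj_apply (j : Fin (n + 1)) (v : {i : Fin (n + 1) // i ≠ j} → k')
    (y : Spec (CommRingCat.of k')) :
    (ptj k k' j v).1 y = (Proj.awayι (CohB1.polyGrading n k) (X j) (hX n k j) one_pos)
      ((Spec.map (CommRingCat.ofHom (φv k k' j v))) y) := rfl

theorem ptj_mem_self (j : Fin (n + 1)) (v : {i : Fin (n + 1) // i ≠ j} → k')
    (y : Spec (CommRingCat.of k')) :
    (ptj k k' j v).1 y ∈ Proj.basicOpen (CohB1.polyGrading n k) (X j) := by
  rw [ptj_apply, ← Proj.opensRange_awayι (CohB1.polyGrading n k) (X j) (hX n k j) one_pos]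
  exact ⟨_, rfl⟩

theorem ptj_mem_iff (j : Fin (n + 1)) (v : {i : Fin (n + 1) // i ≠ j} → k')
    (i : {i : Fin (n + 1) // i ≠ j}) (y : Spec (CommRingCat.of k')) :
    (ptj k k' j v).1 y ∈ Proj.basicOpen (CohB1.polyGrading n k) (X i.1) ↔ v i ≠ 0 := by
  rw [ptj_apply]
  have h1 := Proj.awayι_preimage_basicOpen (CohB1.polyGrading n k) (hX n k j) one_pos
    (hX n k i.1) one_pos
  have h2 : (Proj.awayι (CohB1.polyGrading n k) (X j) (hX n k j) one_pos)
      ((Spec.map (CommRingCat.ofHom (φv k k' j v))) y) ∈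
        Proj.basicOpen (CohB1.polyGrading n k) (X i.1) ↔
      (Spec.map (CommRingCat.ofHom (φv k k' j v))) y ∈
        (Proj.awayι (CohB1.polyGrading n k) (X j) (hX n k j) one_pos) ⁻¹ᵁ
          Proj.basicOpen (CohB1.polyGrading n k) (X i.1) := Iff.rfl
  refine h2.trans ?_
  rw [h1, isLocalizationElem_eq]
  have hy : y.asIdeal = ⊥ := by
    rcases Ideal.eq_bot_or_top y.asIdeal with h | h
    · exact h
    · exact absurd h y.isPrime.ne_top
  have h3 : (Spec.map (CommRingCat.ofHom (φv k k' j v))) y ∈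
      PrimeSpectrum.basicOpen (Φ n k j (X i)) ↔
      φv k k' j v (Φ n k j (X i)) ∉ y.asIdeal := Iff.rfl
  refine h3.trans ?_
  rw [hy, φv_Φ, coe_eval₂Hom, eval₂_X]
  simp

theorem exists_ptj_eq (j : Fin (n + 1)) (g : Pts (CohB1.ProjSpace.toSpec n k) k')
    (hg : ∀ y, g.1 y ∈ Proj.basicOpen (CohB1.polyGrading n k) (X j)) :
    ∃ v, ptj k k' j v = g := by
  have hr : Set.range g.1 ⊆ Set.range (chartι n k j) := by
    rintro _ ⟨y, rfl⟩
    have := hg y
    rw [← Proj.opensRange_awayι (CohB1.polyGrading n k) (X j) (hX n k j) one_pos] at this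
    exact this
  let l := IsOpenImmersion.lift (chartι n k j) g.1 hr
  have hl : l ≫ chartι n k j = g.1 := IsOpenImmersion.lift_fac _ _ _
  let φ : Away (CohB1.polyGrading n k) (X j) →+* k' := (Spec.preimage l).hom
  have hφ : Spec.map (CommRingCat.ofHom φ) = l := Spec.map_preimage l
  have hφc : φ.comp (cj n k j) = algebraMap k k' := by
    have h1 : Spec.map (CommRingCat.ofHom (φ.comp (cj n k j))) =
        Spec.map (CommRingCat.ofHom (algebraMap k k')) := by
      rw [CommRingCat.ofHom_comp, Spec.map_comp, hφ, ← chartι_toSpec, ← Category.assoc, hl]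
      exact g.2
    have h2 := Spec.map_injective h1
    have h3 := congrArg CommRingCat.Hom.hom h2
    simp only [CommRingCat.hom_ofHom] at h3
    exact h3
  refine ⟨fun i => φ (Φ n k j (X i)), ?_⟩
  apply Subtype.ext
  show Spec.map (CommRingCat.ofHom (φv k k' j _)) ≫ chartι n k j = g.1
  rw [← hl, ← hφ]
  congr 3
  have hΦ : (φv k k' j (fun i => φ (Φ n k j (X i)))).comp (Φ n k j) = φ.comp (Φ n k j) := by
    apply MvPolynomial.ringHom_ext
    · intro r
      rw [RingHom.comp_apply, RingHom.comp_apply, φv_Φ, coe_eval₂Hom, eval₂_C, Φ_C,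
        ← RingHom.comp_apply φ, hφc]
    · intro i
      rw [RingHom.comp_apply, RingHom.comp_apply, φv_Φ, coe_eval₂Hom, eval₂_X]
  ext a
  obtain ⟨p, rfl⟩ := Φ_surjective n k j a
  exact congrArg (fun f => f p) hΦ

theorem asIdeal_eq_bot (y : Spec (CommRingCat.of k')) : y.asIdeal = ⊥ := by
  rcases Ideal.eq_bot_or_top y.asIdeal with h | h
  · exact h
  · exact absurd h y.isPrime.ne_top

theorem pt_eq (y y' : Spec (CommRingCat.of k')) : y = y' :=
  PrimeSpectrum.ext ((asIdeal_eq_bot k' y).trans (asIdeal_eq_bot k' y').symm)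

/-- The point of `Spec k'`. -/
noncomputable def pt0 : Spec (CommRingCat.of k') := ⟨⊥, Ideal.isPrime_bot⟩

/-- The parameter space for `k'`-points of `P^n`. -/
abbrev T (n : ℕ) (k' : Type u) : Type u := Σ j : Fin (n + 1), ({i : Fin (n + 1) // j < i} → k')

/-- Extension by zero of the coordinates beyond `j`. -/
noncomputable def ext0 (j : Fin (n + 1)) (w : {i : Fin (n + 1) // j < i} → k') :
    {i : Fin (n + 1) // i ≠ j} → k' :=
  fun i => if h : j < i.1 then w ⟨i.1, h⟩ else 0

/-- The parametrisation of `k'`-points. -/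
noncomputable def Ψ (t : T n k') : Pts (CohB1.ProjSpace.toSpec n k) k' :=
  ptj k k' t.1 (ext0 k' t.1 t.2)

theorem Ψ_mem_self (t : T n k') (y : Spec (CommRingCat.of k')) :
    (Ψ k k' t).1 y ∈ Proj.basicOpen (CohB1.polyGrading n k) (X t.1) :=
  ptj_mem_self k k' t.1 _ y

theorem Ψ_notMem_of_lt (t : T n k') (y : Spec (CommRingCat.of k')) (i : Fin (n + 1))
    (hi : i < t.1) :
    (Ψ k k' t).1 y ∉ Proj.basicOpen (CohB1.polyGrading n k) (X i) := by
  have h := ptj_mem_iff k k' t.1 (ext0 k' t.1 t.2) ⟨i, ne_of_lt hi⟩ y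
  intro hmem
  apply h.mp hmem
  simp only [ext0]
  rw [dif_neg (not_lt.mpr hi.le)]

theorem Ψ_injective : Function.Injective (Ψ (n := n) k k') := by
  rintro ⟨j, w⟩ ⟨j', w'⟩ h
  have hjj : j = j' := by
    rcases lt_trichotomy j j' with hlt | heq | hgt
    · exfalso
      have h1 := Ψ_mem_self k k' ⟨j, w⟩ (pt0 k')
      rw [h] at h1
      exact Ψ_notMem_of_lt k k' ⟨j', w'⟩ (pt0 k') j hlt h1
    · exact heq
    · exfalso
      have h1 := Ψ_mem_self k k' ⟨j', w'⟩ (pt0 k')
      rw [← h] at h1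
      exact Ψ_notMem_of_lt k k' ⟨j, w⟩ (pt0 k') j' hgt h1
  subst hjj
  have h2 := ptj_injective k k' j h
  congr 1
  funext i
  have h3 := congrFun h2 ⟨i.1, ne_of_gt i.2⟩
  simp only [ext0] at h3
  rw [dif_pos i.2, dif_pos i.2] at h3
  exact h3

theorem Ψ_surjective : Function.Surjective (Ψ (n := n) k k') := by
  classical
  intro g
  let S : Set (Fin (n + 1)) := {j | g.1 (pt0 k') ∈ Proj.basicOpen (CohB1.polyGrading n k) (X j)}
  have hS : S.Nonempty := exists_chart n k (g.1 (pt0 k'))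
  obtain ⟨j, hj, hmin⟩ := (wellFounded_lt (α := Fin (n + 1))).has_min S hS
  have hg : ∀ y, g.1 y ∈ Proj.basicOpen (CohB1.polyGrading n k) (X j) := by
    intro y
    rw [pt_eq k' y (pt0 k')]
    exact hj
  obtain ⟨v, hv⟩ := exists_ptj_eq k k' j g hg
  refine ⟨⟨j, fun i => v ⟨i.1, ne_of_gt i.2⟩⟩, ?_⟩
  rw [← hv]
  show ptj k k' j (ext0 k' j _) = ptj k k' j v
  congr 1
  funext i
  simp only [ext0]
  by_cases h : j < i.1
  · rw [dif_pos h]
  · rw [dif_neg h]
    have hlt : i.1 < j := lt_of_le_of_ne (not_lt.mp h) i.2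
    have h1 : g.1 (pt0 k') ∉ Proj.basicOpen (CohB1.polyGrading n k) (X i.1) :=
      fun hm => hmin i.1 hm hlt
    rw [← hv] at h1
    by_contra hne
    exact h1 ((ptj_mem_iff k k' j v i (pt0 k')).mpr (Ne.symm hne))

theorem card_gt (j : Fin (n + 1)) : Nat.card {i : Fin (n + 1) // j < i} = n - j := by
  classical
  rw [Nat.card_eq_fintype_card, Fintype.card_subtype]
  have h : (Finset.univ.filter fun i : Fin (n + 1) => j < i) = Finset.Ioi j := by
    ext i; simp
  rw [h, Fin.card_Ioi]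
  omega

theorem card_pts [Finite k'] :
    Nat.card (Pts (CohB1.ProjSpace.toSpec n k) k') =
      ∑ i ∈ Finset.range (n + 1), Nat.card k' ^ i := by
  classical
  rw [← Nat.card_congr (Equiv.ofBijective (Ψ k k') ⟨Ψ_injective k k', Ψ_surjective k k'⟩)]
  rw [Nat.card_sigma]
  simp only [Nat.card_fun, card_gt]
  rw [Fin.sum_univ_eq_sum_range (fun j => Nat.card k' ^ (n - j)) (n + 1)]
  have h := Finset.sum_range_reflect (fun i => Nat.card k' ^ i) (n + 1)
  simpa using h

section Final

open Groth.Agent.Lib.Helper11.ZetaLine (exists_ext)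
open Groth.Agent.Lib.Helper1.ProjSpaceFT

variable (n) [Finite k]

theorem nPts_projSpace (m : ℕ) (hm : 0 < m) :
    Zeta.nPts (CohB1.ProjSpace.toSpec n k) m =
      ∑ i ∈ Finset.range (n + 1), (Nat.card k ^ m) ^ i := by
  obtain ⟨k', _, _, _, hk'⟩ := exists_ext (k := k) m hm
  have h1 := pointCount_eq_nPts (CohB1.ProjSpace.toSpec n k) k'
  rw [hk'] at h1
  rw [← h1, pointCount_eq, card_pts, Module.natCard_eq_pow_finrank (K := k) (V := k'), hk']

theorem zetaFun_projSpace :
    Zeta.zetaFun (CohB1.ProjSpace.toSpec n k) *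
        ∏ i ∈ Finset.range (n + 1),
          (1 - PowerSeries.C ((Nat.card k : ℚ) ^ i) * PowerSeries.X) = 1 := by
  classical
  let P : Polynomial ℤ := ∑ i ∈ Finset.range (n + 1), Polynomial.X ^ i
  have hcoeff : ∀ i, P.coeff i = if i < n + 1 then 1 else 0 := by
    intro i
    simp only [P, Polynomial.finsetSum_coeff, Polynomial.coeff_X_pow]
    simp [Finset.sum_ite_eq]
  have hdeg : P.natDegree = n := by
    apply le_antisymm
    · apply Polynomial.natDegree_sum_le_of_forall_le
      intro i hi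
      rw [Polynomial.natDegree_X_pow]
      exact Nat.lt_succ_iff.mp (Finset.mem_range.mp hi)
    · apply Polynomial.le_natDegree_of_ne_zero
      rw [hcoeff, if_pos (Nat.lt_succ_self n)]
      exact one_ne_zero
  have hP : ∀ m : ℕ, 1 ≤ m → (Zeta.nPts (CohB1.ProjSpace.toSpec n k) m : ℤ) =
      P.eval ((Nat.card k : ℤ) ^ m) := by
    intro m hm
    rw [nPts_projSpace n k m hm]
    simp [P, Polynomial.eval_finsetSum]
  have h := Groth.Agent.S13055.result (CohB1.ProjSpace.toSpec n k) P hP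
  rw [hdeg] at h
  have e1 : ∀ i ∈ Finset.range (n + 1), (P.coeff i).toNat = 1 := by
    intro i hi
    rw [hcoeff, if_pos (Finset.mem_range.mp hi)]
    rfl
  have e2 : ∀ i ∈ Finset.range (n + 1), (-P.coeff i).toNat = 0 := by
    intro i hi
    rw [hcoeff, if_pos (Finset.mem_range.mp hi)]
    rfl
  have p1 : ∏ i ∈ Finset.range (n + 1),
      (1 - PowerSeries.C ((Nat.card k : ℚ) ^ i) * PowerSeries.X) ^ (P.coeff i).toNat =
      ∏ i ∈ Finset.range (n + 1), (1 - PowerSeries.C ((Nat.card k : ℚ) ^ i) * PowerSeries.X) :=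
    Finset.prod_congr rfl (fun i hi => by rw [e1 i hi, pow_one])
  have p2 : ∏ i ∈ Finset.range (n + 1),
      (1 - PowerSeries.C ((Nat.card k : ℚ) ^ i) * PowerSeries.X) ^ (-P.coeff i).toNat = 1 :=
    Finset.prod_eq_one (fun i hi => by rw [e2 i hi, pow_zero])
  rw [p1, p2] at h
  exact h

end Final

end Groth.Agent.Lib.Helper26.ZetaPn
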